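import Mathlib
import Cfsg.Prelude.Def_OddOrderLocal
import Cfsg.Agent.Lib.Helper31.FittingHall
import Cfsg.Agent.Lib.Helper76.Fitting

/-!
# K-152-L2a (keystone 135605, pack K-152 / S1356, architect helper12): `F(M) ≤ C_M(M_F) M_F`

Pure group theory: elements of coprime orders of a nilpotent group commute; `M_F` is a normal Hall subgroup of `M` inside the
nilpotent `F(M)`; Bezout splits an element of `F(M)` into a part in `M_F` and a part centralizing `M_F`.
-/

set_option autoImplicit false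

namespace Cfsg.Agent.Lib.Helper62.BG152

open Cfsg

/-- elements of coprime orders of a nilpotent group commute -/
theorem commute_of_coprime_of_isNilpotent (G : Type*) [Group G] [Group.IsNilpotent G] :
    ∀ x y : G, (orderOf x).Coprime (orderOf y) → Commute x y := by
  refine Group.nilpotent_center_quotient_ind
    (P := fun G _ _ => ∀ x y : G, (orderOf x).Coprime (orderOf y) → Commute x y) G ?_ ?_
  · intro G _ _ x y _
    rw [Subsingleton.elim x y]
  · intro G _ _ ih x y hxy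
    have hx' : orderOf (QuotientGroup.mk' (Subgroup.center G) x) ∣ orderOf x := orderOf_map_dvd _ x
    have hy' : orderOf (QuotientGroup.mk' (Subgroup.center G) y) ∣ orderOf y := orderOf_map_dvd _ y
    have hc := ih (QuotientGroup.mk' (Subgroup.center G) x) (QuotientGroup.mk' (Subgroup.center G) y)
      ((hxy.coprime_dvd_left hx').coprime_dvd_right hy')
    have hz : x * y * x⁻¹ * y⁻¹ ∈ Subgroup.center G := by
      rw [← QuotientGroup.eq_one_iff, ← QuotientGroup.mk'_apply, map_mul, map_mul, map_mul, map_inv, map_inv,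
        hc.eq, mul_inv_cancel_right, mul_inv_cancel]
    obtain ⟨z, hzdef⟩ : ∃ z, z = x * y * x⁻¹ * y⁻¹ := ⟨_, rfl⟩
    rw [← hzdef] at hz
    have hzc : ∀ g : G, Commute z g := fun g => (Subgroup.mem_center_iff.mp hz g).symm
    -- `z ^ orderOf y = 1`
    have h1 : x * y * x⁻¹ = z * y := by rw [hzdef]; group
    have h2 : z ^ orderOf y = 1 := by
      have h3 : (x * y * x⁻¹) ^ orderOf y = 1 := by rw [conj_pow, pow_orderOf_eq_one, mul_one, mul_inv_cancel]
      rw [h1, (hzc y).mul_pow, pow_orderOf_eq_one, mul_one] at h3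
      exact h3
    -- `z ^ orderOf x = 1`
    have h4 : y * x⁻¹ * y⁻¹ = x⁻¹ * z := by rw [hzdef]; group
    have h5 : z ^ orderOf x = 1 := by
      have h6 : (y * x⁻¹ * y⁻¹) ^ orderOf x = 1 := by
        rw [conj_pow, inv_pow, pow_orderOf_eq_one, inv_one, mul_one, mul_inv_cancel]
      rw [h4, ((hzc x⁻¹).symm).mul_pow, inv_pow, pow_orderOf_eq_one, inv_one, one_mul] at h6
      exact h6
    have h7 : orderOf z ∣ Nat.gcd (orderOf x) (orderOf y) :=
      Nat.dvd_gcd (orderOf_dvd_of_pow_eq_one h5) (orderOf_dvd_of_pow_eq_one h2)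
    rw [Nat.Coprime.gcd_eq_one hxy, Nat.dvd_one, orderOf_eq_one_iff] at h7
    rw [h7] at hzdef
    -- `1 = x y x⁻¹ y⁻¹`
    show x * y = y * x
    have : x * y * x⁻¹ * y⁻¹ * (y * x) = y * x := by rw [← hzdef, one_mul]
    rw [← this]; group

/-- K-152-L2a (pure) -/
theorem fittingOf_le_sup {G : Type*} [Group G] [Finite G] (M : Subgroup G) :
    fittingOf M ≤ (M ⊓ Subgroup.centralizer (fittingHallOf M : Set G)) ⊔ fittingHallOf M := by
  have hnil : Group.IsNilpotent ↥(fittingSubgroup ↥M) :=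
    Cfsg.Agent.Lib.Helper76.fittingSubgroup_isNilpotent
  have hHF : fittingHall ↥M ≤ fittingSubgroup ↥M := by
    unfold fittingHall fittingSubgroup
    exact sSup_le_sSup (fun N hN => ⟨hN.1, hN.2.1⟩)
  have hcop := Cfsg.Agent.Lib.Helper31.fittingHall_coprime ↥M
  rintro g ⟨f, hfF, rfl⟩
  obtain ⟨a, ha⟩ : ∃ a, a = Nat.card (fittingHall ↥M) := ⟨_, rfl⟩
  obtain ⟨b, hb⟩ : ∃ b, b = (fittingHall ↥M).index := ⟨_, rfl⟩
  rw [← ha, ← hb] at hcop
  have hab : a * b = Nat.card ↥M := by rw [ha, hb]; exact Subgroup.card_mul_index _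
  -- the part in `M_F`
  have hfb : f ^ b ∈ fittingHall ↥M := by rw [hb]; exact Subgroup.pow_index_mem _ f
  -- the part centralizing `M_F`
  have hfa : ∀ h ∈ fittingHall ↥M, Commute (f ^ a) h := by
    intro h hh
    have h1 : orderOf (f ^ a) ∣ b := by
      apply orderOf_dvd_of_pow_eq_one
      rw [← pow_mul, hab]
      exact pow_card_eq_one'
    have h2 : orderOf h ∣ a := by
      rw [ha]
      have := orderOf_dvd_natCard (⟨h, hh⟩ : fittingHall ↥M)
      rwa [Subgroup.orderOf_mk] at this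
    have h3 : (orderOf (f ^ a)).Coprime (orderOf h) :=
      (hcop.symm.coprime_dvd_left h1).coprime_dvd_right h2
    have e1 : orderOf (⟨f ^ a, Subgroup.pow_mem _ hfF a⟩ : ↥(fittingSubgroup ↥M)) = orderOf (f ^ a) :=
      Subgroup.orderOf_mk _ _
    have e2 : orderOf (⟨h, hHF hh⟩ : ↥(fittingSubgroup ↥M)) = orderOf h := Subgroup.orderOf_mk _ _
    have h4 := commute_of_coprime_of_isNilpotent ↥(fittingSubgroup ↥M)
      ⟨f ^ a, Subgroup.pow_mem _ hfF a⟩ ⟨h, hHF hh⟩
      (by rw [e1, e2]; exact h3)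
    have h5 := congrArg Subtype.val h4.eq
    exact h5
  -- Bezout
  have hbez := Nat.gcd_eq_gcd_ab a b
  rw [Nat.Coprime.gcd_eq_one hcop] at hbez
  have hsplit : f = (f ^ a) ^ (Nat.gcdA a b) * (f ^ b) ^ (Nat.gcdB a b) := by
    rw [← zpow_natCast f a, ← zpow_natCast f b, ← zpow_mul, ← zpow_mul, ← zpow_add, ← hbez]
    simp
  have hcm : ((f ^ a) ^ (Nat.gcdA a b) : ↥M) ∈
      (Subgroup.centralizer (fittingHall ↥M : Set ↥M)) := by
    apply Subgroup.zpow_mem
    rw [Subgroup.mem_centralizer_iff]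
    intro h hh
    exact (hfa h hh).eq.symm
  have hhm : ((f ^ b) ^ (Nat.gcdB a b) : ↥M) ∈ fittingHall ↥M := Subgroup.zpow_mem _ hfb _
  rw [hsplit, map_mul]
  apply Subgroup.mul_mem_sup
  · refine Subgroup.mem_inf.mpr ⟨SetLike.coe_mem ((f ^ a) ^ (Nat.gcdA a b) : ↥M), ?_⟩
    rw [Subgroup.mem_centralizer_iff]
    rintro _ ⟨h, hh, rfl⟩
    have := Subgroup.mem_centralizer_iff.mp hcm h hh
    exact congrArg Subtype.val this
  · exact ⟨_, hhm, rfl⟩

end Cfsg.Agent.Lib.Helper62.BG152
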