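import Mathlib
import Cfsg.Prelude.Def_Solvable
import Cfsg.Agent.Lib.Helper72.G42Defs
import Cfsg.Agent.S0678
import Cfsg.Agent.S0677
import Cfsg.Agent.Lib.Helper11.Sharp

set_option autoImplicit false

namespace Cfsg.Agent.Lib.Helper62.G42

open MulAction Cfsg.Agent.Lib.Helper11

/-- an even involution on 7 points has two distinct fixed points -/
theorem exists_two_fixed {α : Type*} [Fintype α] [DecidableEq α] (hα : Fintype.card α = 7)
    (t : Equiv.Perm α) (ht : orderOf t = 2) (hs : Equiv.Perm.sign t = 1) :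
    ∃ a b : α, a ≠ b ∧ t a = a ∧ t b = b := by
  have hp : (orderOf t).Prime := by rw [ht]; norm_num
  obtain ⟨n, hn⟩ := Equiv.Perm.cycleType_prime_order hp
  rw [ht] at hn
  have hsum : t.support.card = (n + 1) * 2 := by
    rw [← Equiv.Perm.sum_cycleType, hn, Multiset.sum_replicate, smul_eq_mul]
  have hsign := Equiv.Perm.sign_of_cycleType t
  rw [hn, Multiset.sum_replicate, Multiset.card_replicate, smul_eq_mul, hs] at hsign
  have hle : t.support.card ≤ 7 := by rw [← hα]; exact Finset.card_le_univ _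
  have heven : Even ((n + 1) * 2 + (n + 1)) := by
    by_contra hodd
    rw [Nat.not_even_iff_odd] at hodd
    rw [hodd.neg_one_pow] at hsign
    exact absurd hsign (by decide)
  have hn1 : n = 1 := by
    rcases heven with ⟨k, hk⟩; omega
  subst hn1
  have hcompl : (t.supportᶜ).card = 3 := by
    rw [Finset.card_compl, hα, hsum]
  have h1 : 1 < (t.supportᶜ).card := by omega
  obtain ⟨a, ha, b, hb, hab⟩ := Finset.one_lt_card.1 h1
  refine ⟨a, b, hab, ?_, ?_⟩
  · rwa [Finset.mem_compl, Equiv.Perm.notMem_support] at ha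
  · rwa [Finset.mem_compl, Equiv.Perm.notMem_support] at hb

/-- a solvable transitive group of even permutations of 7 points has order 7 or 21 -/
theorem card_of_solvable_deg7 {α : Type*} [Fintype α] [DecidableEq α] (hα : Fintype.card α = 7)
    (H : Subgroup (Equiv.Perm α)) [MulAction.IsPretransitive H α] (hsol : Group.IsSolvable H)
    (hA : H ≤ alternatingGroup α) : Nat.card H = 7 ∨ Nat.card H = 21 := by
  classical
  have : Fact (Nat.Prime 7) := ⟨by norm_num⟩
  have hcα : Nat.card α = 7 := by rw [Nat.card_eq_fintype_card, hα]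
  have : Nonempty α := by rw [← Fintype.card_pos_iff, hα]; norm_num
  have hprim : IsPreprimitive H α := IsPreprimitive.of_prime_card (by rw [hcα]; norm_num)
  have h7H : 7 ∣ Nat.card H := by
    have := card_dvd_of_pretransitive H α
    rwa [hcα] at this
  have : Nontrivial H := by
    rw [← Finite.one_lt_card_iff_nontrivial]
    have := Nat.le_of_dvd Nat.card_pos h7H; omega
  -- the last nontrivial term of the derived series
  obtain ⟨D, hDn, hDne, hDab⟩ : ∃ D : Subgroup H, D.Normal ∧ D ≠ ⊥ ∧
      D ≤ Subgroup.centralizer (D : Set H) := by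
    have hex : ∃ n, derivedSeries H n = ⊥ := (Group.isSolvable_def H).1 hsol
    have hm : derivedSeries H (Nat.find hex) = ⊥ := Nat.find_spec hex
    have hm0 : Nat.find hex ≠ 0 := by
      intro h0
      rw [h0, derivedSeries_zero] at hm
      exact top_ne_bot hm
    obtain ⟨k, hk⟩ := Nat.exists_eq_succ_of_ne_zero hm0
    refine ⟨derivedSeries H k, inferInstance, ?_, ?_⟩
    · exact Nat.find_min hex (by omega)
    · rw [← Subgroup.commutator_eq_bot_iff_le_centralizer, ← derivedSeries_succ]
      rw [hk] at hm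
      exact hm
  have := hDn
  have hDt : IsPretransitive D α := pretransitive_of_normal_ne_bot H D hDne
  have hD7 : Nat.card D = 7 := by
    have h1 : 7 ∣ Nat.card D := by
      have := card_dvd_of_pretransitive D α
      rwa [hcα] at this
    have h2 : Nat.card D ≤ 7 := by
      calc Nat.card D ≤ Nat.card (Subgroup.centralizer (D : Set H)) := Subgroup.card_le_of_le hDab
        _ ≤ Nat.card α := card_centralizer_le H D
        _ = 7 := hcα
    have := Nat.le_of_dvd Nat.card_pos h1
    omega
  -- regularity of D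
  have hDreg : ∀ d ∈ D, ∀ a : α, d • a = a → d = 1 := fun d hd a ha =>
    eq_one_of_centralizer_of_fix H D d (hDab hd) a ha
  -- D is the Sylow 7-subgroup
  have hDp : IsPGroup 7 D := IsPGroup.of_card (n := 1) (by rw [hD7]; norm_num)
  obtain ⟨P, hDP⟩ := hDp.exists_le_sylow
  have hP7 : Nat.card P = 7 := by
    obtain ⟨k, hk⟩ := IsPGroup.iff_card.1 P.2
    have hnsq := Cfsg.Agent.S0677.not_sq_dvd_card (by norm_num : Nat.Prime 7) hα H
    have hPdvd : Nat.card P ∣ Nat.card H := Subgroup.card_subgroup_dvd_card _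
    have hle : 7 ≤ Nat.card P :=
      calc 7 = Nat.card D := hD7.symm
        _ ≤ Nat.card P := Subgroup.card_le_of_le hDP
    rcases k with _ | _ | k
    · rw [pow_zero] at hk; omega
    · rw [hk]; norm_num
    · exfalso; apply hnsq; refine dvd_trans ?_ hPdvd; rw [hk]; exact pow_dvd_pow 7 (by omega)
  have hPD : D = (P : Subgroup H) := Subgroup.eq_of_le_of_card_ge hDP (by rw [hP7, hD7])
  obtain ⟨r, hr6, hNr⟩ := card_normalizer_sylow_prime_degree H 7 hcα P hP7
  have hNtop : Subgroup.normalizer ((P : Subgroup H) : Set H) = ⊤ := by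
    rw [← hPD]; exact Subgroup.normalizer_eq_top D
  rw [hNtop, Subgroup.card_top] at hNr
  -- the order is odd
  have hodd : ¬ 2 ∣ Nat.card H := by
    intro h2
    have : Fact (Nat.Prime 2) := ⟨Nat.prime_two⟩
    obtain ⟨t, ht⟩ := exists_prime_orderOf_dvd_card' 2 h2
    have ht' : orderOf (t : Equiv.Perm α) = 2 := by rw [Subgroup.orderOf_coe]; exact ht
    have hsign : Equiv.Perm.sign (t : Equiv.Perm α) = 1 :=
      Equiv.Perm.mem_alternatingGroup.1 (hA t.2)
    obtain ⟨a, b, hab, hta, htb⟩ := exists_two_fixed hα t.1 ht' hsign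
    have hta' : t • a = a := hta
    have htb' : t • b = b := htb
    obtain ⟨x, hx⟩ := exists_smul_eq D a b
    have hx' : (x : H) • a = b := hx
    have hc : (x : H)⁻¹ * (t * x * t⁻¹) ∈ D :=
      D.mul_mem (D.inv_mem x.2) (hDn.conj_mem x x.2 t)
    have htia : t⁻¹ • a = a := by rw [inv_smul_eq_iff, hta']
    have hxib : (x : H)⁻¹ • b = a := by rw [inv_smul_eq_iff, hx']
    have hfix : ((x : H)⁻¹ * (t * x * t⁻¹)) • a = a := by
      rw [mul_smul, mul_smul, mul_smul, htia, hx', htb', hxib]
    have hc1 := hDreg _ hc a hfix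
    have hcomm : Commute (x : H) t := by
      have h3 : t * (x : H) * t⁻¹ = x := by
        have := congrArg (fun z => (x : H) * z) hc1
        simpa [mul_assoc] using this
      have h4 : t * (x : H) = x * t := by
        calc t * (x : H) = (t * x * t⁻¹) * t := by group
          _ = x * t := by rw [h3]
      exact h4.symm
    have hx1 : x ≠ 1 := by
      intro h
      apply hab
      rw [← hx, h, one_smul]
    have htc : t ∈ Subgroup.centralizer (D : Set H) := by
      rw [Subgroup.mem_centralizer_iff]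
      intro d hd
      have hmem : (⟨d, hd⟩ : D) ∈ Subgroup.zpowers x := mem_zpowers_of_prime_card hD7 hx1
      obtain ⟨k, hk⟩ := Subgroup.mem_zpowers_iff.1 hmem
      have hd' : d = (x : H) ^ k := by
        have := congrArg (fun z : D => (z : H)) hk
        simpa using this.symm
      rw [hd']
      exact (hcomm.zpow_left k).eq
    have ht1 : t = 1 := eq_one_of_centralizer_of_fix H D t htc a hta'
    rw [ht1, orderOf_one] at ht
    omega
  have hr : r = 1 ∨ r = 2 ∨ r = 3 ∨ r = 6 := by
    have hr' : r ∣ 6 := hr6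
    have hle : r ≤ 6 := Nat.le_of_dvd (by norm_num) hr'
    interval_cases r <;> simp_all
  rcases hr with rfl | rfl | rfl | rfl
  · left; omega
  · exfalso; apply hodd; rw [hNr]; norm_num
  · right; omega
  · exfalso; apply hodd; rw [hNr]; norm_num

theorem order8 (G : Subgroup (Equiv.Perm (Fin 8))) (hGA : G ≤ alternatingGroup (Fin 8))
    (htr : MulAction.IsPretransitive ↥G (Fin 8)) (h7 : 7 ∣ Nat.card ↥G) (h5 : ¬ 5 ∣ Nat.card ↥G) :
    Nat.card ↥G = 56 ∨ Nat.card ↥G = 168 ∨
      (Nat.card ↥G = 1344 ∧ IsSimpleGroup ↥(MulAction.stabilizer ↥G (0 : Fin 8))) := by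
  classical
  have h7' : Fact (Nat.Prime 7) := ⟨by norm_num⟩
  have hGS : Nat.card G = 8 * Nat.card (MulAction.stabilizer G (0 : Fin 8)) := by
    have h1 : (MulAction.stabilizer G (0 : Fin 8)).index = Nat.card (Fin 8) :=
      MulAction.index_stabilizer_of_transitive G (0 : Fin 8)
    rw [← Subgroup.index_mul_card (MulAction.stabilizer G (0 : Fin 8)), h1]
    simp
  have hα : Fintype.card {x : Fin 8 // x ≠ 0} = 7 := by decide
  have hcα : Nat.card {x : Fin 8 // x ≠ 0} = 7 := by rw [Nat.card_eq_fintype_card, hα]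
  have hφ : Function.Injective
      (Equiv.Perm.ofSubtype : Equiv.Perm {x : Fin 8 // x ≠ 0} →* Equiv.Perm (Fin 8)) :=
    Equiv.Perm.ofSubtype_injective
  have hS'mem : ∀ g : Equiv.Perm (Fin 8),
      g ∈ (MulAction.stabilizer G (0 : Fin 8)).map G.subtype ↔ g ∈ G ∧ g 0 = 0 := by
    intro g
    constructor
    · rintro ⟨s, hs, rfl⟩
      exact ⟨s.2, MulAction.mem_stabilizer_iff.1 hs⟩
    · rintro ⟨hg, hg0⟩
      exact ⟨⟨g, hg⟩, MulAction.mem_stabilizer_iff.2 hg0, rfl⟩
  have hrange : (MulAction.stabilizer G (0 : Fin 8)).map G.subtype ≤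
      (Equiv.Perm.ofSubtype : Equiv.Perm {x : Fin 8 // x ≠ 0} →* Equiv.Perm (Fin 8)).range := by
    intro g hg
    obtain ⟨hgG, hg0⟩ := (hS'mem g).1 hg
    have h1 : ∀ x : Fin 8, g x ≠ 0 ↔ x ≠ 0 := by
      intro x
      constructor
      · intro h hx; apply h; rw [hx, hg0]
      · intro h hx; apply h; apply g.injective; rw [hx, hg0]
    have h2 : ∀ x : Fin 8, g x ≠ x → x ≠ 0 := by
      intro x hx h0
      apply hx; rw [h0, hg0]
    exact ⟨Equiv.Perm.subtypePerm g h1, Equiv.Perm.ofSubtype_subtypePerm h1 h2⟩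
  obtain ⟨H, hHdef⟩ : ∃ H : Subgroup (Equiv.Perm {x : Fin 8 // x ≠ 0}),
      H = ((MulAction.stabilizer G (0 : Fin 8)).map G.subtype).comap Equiv.Perm.ofSubtype :=
    ⟨_, rfl⟩
  have hmap : H.map Equiv.Perm.ofSubtype = (MulAction.stabilizer G (0 : Fin 8)).map G.subtype := by
    rw [hHdef]; exact Subgroup.map_comap_eq_self hrange
  have hcardH : Nat.card H = Nat.card (MulAction.stabilizer G (0 : Fin 8)) := by
    calc Nat.card H = Nat.card (H.map Equiv.Perm.ofSubtype) :=
          (Subgroup.card_map_of_injective hφ).symm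
      _ = Nat.card ((MulAction.stabilizer G (0 : Fin 8)).map G.subtype) := by rw [hmap]
      _ = Nat.card (MulAction.stabilizer G (0 : Fin 8)) :=
          Subgroup.card_map_of_injective G.subtype_injective
  have hHA : H ≤ alternatingGroup {x : Fin 8 // x ≠ 0} := by
    intro h hh
    rw [Equiv.Perm.mem_alternatingGroup]
    have h1 : Equiv.Perm.ofSubtype h ∈ (MulAction.stabilizer G (0 : Fin 8)).map G.subtype := by
      rw [hHdef] at hh; exact hh
    have h2 : Equiv.Perm.ofSubtype h ∈ G := ((hS'mem _).1 h1).1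
    have h3 := Equiv.Perm.mem_alternatingGroup.1 (hGA h2)
    rwa [Equiv.Perm.sign_ofSubtype] at h3
  have hGH : Nat.card G = 8 * Nat.card H := by rw [hcardH]; exact hGS
  have h7H : 7 ∣ Nat.card H := by omega
  -- transitivity of H
  have hHt : MulAction.IsPretransitive H {x : Fin 8 // x ≠ 0} := by
    obtain ⟨x, hx⟩ := exists_prime_orderOf_dvd_card' 7 h7H
    have hQ : Nat.card (Subgroup.zpowers x) = 7 := by rw [Nat.card_zpowers, hx]
    have hQt := pretransitive_of_card_prime H (Subgroup.zpowers x) 7 (by norm_num) hQ hcα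
    constructor
    intro a b
    obtain ⟨q, hq⟩ := hQt.exists_smul_eq a b
    exact ⟨q.1, hq⟩
  have e : (MulAction.stabilizer G (0 : Fin 8)) ≃* H :=
    ((MulAction.stabilizer G (0 : Fin 8)).equivMapOfInjective G.subtype G.subtype_injective).trans
      ((MulEquiv.subgroupCongr hmap).symm.trans (H.equivMapOfInjective _ hφ).symm)
  by_cases hsol : Group.IsSolvable H
  · rcases card_of_solvable_deg7 hα H hsol hHA with h | h
    · left; omega
    · right; left; omega
  · right; right
    have hA' : ¬ alternatingGroup {x : Fin 8 // x ≠ 0} ≤ H := by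
      intro hle
      have h1 := Subgroup.card_dvd_of_le hle
      have hnt : Nontrivial {x : Fin 8 // x ≠ 0} :=
        Fintype.one_lt_card_iff_nontrivial.1 (by rw [hα]; norm_num)
      have h2 : 2 * Nat.card (alternatingGroup {x : Fin 8 // x ≠ 0}) = 5040 := by
        rw [two_mul_nat_card_alternatingGroup, Nat.card_perm, hcα]; rfl
      apply h5
      rw [hGH]
      have h3 : (5 : ℕ) ∣ Nat.card (alternatingGroup {x : Fin 8 // x ≠ 0}) := by omega
      exact Dvd.dvd.mul_left (h3.trans h1) 8
    obtain ⟨h168, hsimp⟩ := Cfsg.Agent.S0678.result hα H hsol hA'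
    refine ⟨by omega, ?_⟩
    exact e.isSimpleGroup

end Cfsg.Agent.Lib.Helper62.G42
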