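import Mathlib
import Cfsg.Prelude.Def_HallClasses
import Cfsg.Agent.Lib.Helper06.HallSym.Defs

/-!
K-S2536-G6a (keystone 253609): block step for Hall subgroups of symmetric groups.
-/

set_option autoImplicit false
open Cfsg
open scoped Pointwise

namespace Cfsg.Agent.Lib.Helper62.HallSym
open Cfsg.Agent.Lib.Helper06.HallSym

/-- `C(ab, a) = b * C(ab - 1, a - 1)` for `a ≥ 1`. -/
theorem choose_mul_eq (a b : ℕ) (ha : 1 ≤ a) :
    Nat.choose (a * b) a = b * Nat.choose (a * b - 1) (a - 1) := by
  obtain ⟨a', rfl⟩ : ∃ a', a = a' + 1 := ⟨a - 1, by omega⟩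
  rcases Nat.eq_zero_or_pos b with rfl | hb
  · simp
  obtain ⟨m, hm⟩ : ∃ m, (a' + 1) * b = m + 1 := ⟨(a' + 1) * b - 1, by
    have : 1 ≤ (a' + 1) * b := Nat.mul_pos (by omega) hb
    omega⟩
  have h := Nat.add_one_mul_choose_eq m a'
  -- (m+1) * C(m, a') = C(m+1, a'+1) * (a'+1)
  rw [hm]
  have h1 : (m + 1 - 1) = m := by omega
  have h2 : (a' + 1 - 1) = a' := by omega
  rw [h1, h2]
  have h3 : (a' + 1) * Nat.choose (m + 1) (a' + 1) = (a' + 1) * (b * Nat.choose m a') := by
    calc (a' + 1) * Nat.choose (m + 1) (a' + 1) = Nat.choose (m + 1) (a' + 1) * (a' + 1) := by ring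
      _ = (m + 1) * Nat.choose m a' := h.symm
      _ = (a' + 1) * b * Nat.choose m a' := by rw [hm]
      _ = (a' + 1) * (b * Nat.choose m a') := by ring
  exact Nat.eq_of_mul_eq_mul_left (by omega) h3

/-- **K-G6a.** Block step. -/
theorem block_step
    (hG1 : ∀ {α : Type} [Finite α] (Δ : Set α), Nat.card (MulAction.stabilizer (Equiv.Perm α) Δ) =
      (Δ.ncard).factorial * (Nat.card α - Δ.ncard).factorial)
    (hG2 : ∀ (π : Set ℕ) {α : Type} [Finite α] (K : Subgroup (Equiv.Perm α)) (Δ : Set α),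
      K ≤ MulAction.stabilizer (Equiv.Perm α) Δ → (∀ p : ℕ, p.Prime → p ∣ Nat.card K → p ∈ π) →
      (∀ p : ℕ, p.Prime → p ∈ π →
        padicValNat p ((Δ.ncard).factorial * (Nat.card α - Δ.ncard).factorial) ≤ padicValNat p (Nat.card K)) →
      IsEPiGroup π (Equiv.Perm ↥Δ) ∧ IsEPiGroup π (Equiv.Perm ↥(Δᶜ : Set α)))
    (π : Set ℕ) {α : Type} [Finite α] (H : Subgroup (Equiv.Perm α))
    (hH : IsPiHall π H) (htr : MulAction.IsPretransitive ↥H α) (B : Set α)
    (hB : MulAction.IsBlock ↥H B) (h1 : 1 < B.ncard) (h2 : B.ncard < Nat.card α) :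
    ∃ b : ℕ, 2 ≤ b ∧ B.ncard * b = Nat.card α ∧
      IsEPiGroup π (Equiv.Perm ↥(Bᶜ : Set α)) ∧
      (∀ p : ℕ, p.Prime → p ∣ Nat.card α → p ∈ π) ∧
      (∀ p : ℕ, p.Prime → p ∈ π → ¬ p ∣ Nat.choose (Nat.card α - 1) (B.ncard - 1)) := by
  classical
  have hBne : B.Nonempty := by
    rw [← Set.ncard_pos]; omega
  set a := B.ncard with ha
  set n := Nat.card α with hn
  set b := (MulAction.orbit ↥H B).ncard with hb
  have hab : a * b = n := hB.ncard_block_mul_ncard_orbit_eq hBne
  have hb2 : 2 ≤ b := by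
    by_contra hlt
    push Not at hlt
    interval_cases b
    · omega
    · omega
  have hn0 : 0 < n := by omega
  -- the block stabilizer
  set S : Subgroup ↥H := MulAction.stabilizer ↥H B with hS
  have hSidx : S.index = b := MulAction.index_stabilizer ↥H B
  have hScard : Nat.card S * b = Nat.card H := by
    rw [← hSidx]; exact S.card_mul_index
  set K : Subgroup (Equiv.Perm α) := S.map H.subtype with hK
  have hKcard : Nat.card K = Nat.card S :=
    Subgroup.card_map_of_injective H.subtype_injective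
  have hKH : K ≤ H := Subgroup.map_subtype_le S
  have hKB : K ≤ MulAction.stabilizer (Equiv.Perm α) B := by
    rintro _ ⟨h, hh, rfl⟩
    have : h • B = B := hh
    rw [MulAction.mem_stabilizer_iff]
    exact this
  -- n ∣ |H|
  have hndvd : n ∣ Nat.card H := by
    obtain ⟨x, _⟩ := hBne
    have h3 : (MulAction.stabilizer ↥H x).index = n := MulAction.index_stabilizer_of_transitive ↥H x
    rw [← h3]
    exact (MulAction.stabilizer ↥H x).index_dvd_card
  -- orders
  have hperm : Nat.card (Equiv.Perm α) = n.factorial := Nat.card_perm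
  have hHidx : Nat.card H * H.index = n.factorial := by
    rw [← hperm]; exact H.card_mul_index
  have hstab : Nat.card (MulAction.stabilizer (Equiv.Perm α) B) = a.factorial * (n - a).factorial :=
    hG1 B
  obtain ⟨j, hj⟩ : Nat.card K ∣ a.factorial * (n - a).factorial := by
    rw [← hstab]; exact Subgroup.card_dvd_of_le hKB
  have hKpos : 0 < Nat.card K := Nat.card_pos
  -- n! = C(n,a) a! (n-a)!
  have hale : a ≤ n := by omega
  have hfact : n.choose a * a.factorial * (n - a).factorial = n.factorial :=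
    Nat.choose_mul_factorial_mul_factorial hale
  have hch : n.choose a = b * Nat.choose (n - 1) (a - 1) := by
    rw [← hab]; exact choose_mul_eq a b (by omega)
  set C' := Nat.choose (n - 1) (a - 1) with hC'
  -- key identity: index = C' * j
  have hkey : H.index = C' * j := by
    have e1 : Nat.card K * b * H.index = n.factorial := by
      rw [hKcard, hScard]; exact hHidx
    have e2 : n.factorial = Nat.card K * b * (C' * j) := by
      rw [← hfact, hch, mul_assoc, hj]; ring
    have e3 : Nat.card K * b * H.index = Nat.card K * b * (C' * j) := by rw [e1, e2]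
    exact Nat.eq_of_mul_eq_mul_left (Nat.mul_pos hKpos (by omega)) e3
  refine ⟨b, hb2, hab, ?_, ?_, ?_⟩
  · -- Hall subgroup of Perm Bᶜ
    refine (hG2 π K B hKB ?_ ?_).2
    · intro p hp hpK
      exact hH.1 p hp (hpK.trans (Subgroup.card_dvd_of_le hKH))
    · intro p hp hpπ
      have hpi : ¬ p ∣ H.index := hH.2 p hp hpπ
      have hpj : ¬ p ∣ j := fun h => hpi (hkey ▸ Dvd.dvd.mul_left h C')
      have : Fact p.Prime := ⟨hp⟩
      have hj0 : j ≠ 0 := fun h => hpj (h ▸ dvd_zero p)
      change padicValNat p (a.factorial * (n - a).factorial) ≤ padicValNat p (Nat.card K)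
      rw [hj, padicValNat.mul hKpos.ne' hj0, padicValNat.eq_zero_of_not_dvd hpj]
      omega
  · intro p hp hpn
    exact hH.1 p hp (hpn.trans hndvd)
  · intro p hp hpπ hpC
    have hpi : ¬ p ∣ H.index := hH.2 p hp hpπ
    exact hpi (hkey ▸ Dvd.dvd.mul_right hpC j)

end Cfsg.Agent.Lib.Helper62.HallSym
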