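import Mathlib
import Cfsg.Prelude.Def_JordanBlocks
import Cfsg.Agent.Lib.Helper73.UCDefs
import Cfsg.Agent.Lib.Helper73.SPCDefs
import Cfsg.Agent.Lib.Helper22.UCA1

/-!
# K-SPC-C6 (keystone 267615, pack S2676, architect helper73): `τ_i` is multiplicative on the commutant of `nilM d F`
-/

set_option autoImplicit false
set_option linter.unusedVariables false

namespace Cfsg.Agent.Lib.Helper62.SPC

open Matrix Cfsg.Agent.Lib.Helper73.UC Cfsg.Agent.Lib.Helper73.SPC Cfsg.Agent.Lib.Helper22.UC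

variable {F : Type*} [Field F]

theorem c6_nilM_mul_apply {t : ℕ} (d : Fin t → ℕ) (x : Matrix (JI d) (JI d) F) (l : Fin t)
    (b : Fin (d l)) (y : JI d) :
    (nilM d F * x) ⟨l, b⟩ y =
      if h : 1 ≤ (b : ℕ) then x ⟨l, ⟨(b : ℕ) - 1, by have := b.2; omega⟩⟩ y else 0 := by
  rw [Matrix.mul_apply]
  split_ifs with h
  · rw [Finset.sum_eq_single (⟨l, ⟨(b : ℕ) - 1, by have := b.2; omega⟩⟩ : JI d)]
    · rw [uca1_nilM_apply, if_pos ⟨rfl, by simp only; omega⟩, one_mul]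
    · intro z _ hz
      rw [uca1_nilM_apply, if_neg, zero_mul]
      rintro ⟨h1, h2⟩
      apply hz
      rcases z with ⟨k', a'⟩
      simp only at h1 h2
      subst h1
      congr 1
      exact Fin.ext (by simp only; omega)
    · intro h'
      exact absurd (Finset.mem_univ _) h'
  · apply Finset.sum_eq_zero
    intro z _
    rw [uca1_nilM_apply, if_neg, zero_mul]
    rintro ⟨h1, h2⟩
    simp only at h2
    omega

/-- the diagonal shift relation in the commutant -/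
theorem c6_rel {t : ℕ} (d : Fin t → ℕ) (x : Matrix (JI d) (JI d) F)
    (hx : x * nilM d F = nilM d F * x) (l k : Fin t) (b a : ℕ) (hb : b + 1 < d l) (ha : a + 1 < d k) :
    x ⟨l, ⟨b + 1, hb⟩⟩ ⟨k, ⟨a + 1, ha⟩⟩ = x ⟨l, ⟨b, by omega⟩⟩ ⟨k, ⟨a, by omega⟩⟩ := by
  have h := congrFun (congrFun hx ⟨l, ⟨b + 1, hb⟩⟩) ⟨k, ⟨a, by omega⟩⟩
  rw [uca1_mul_nilM_apply, c6_nilM_mul_apply, dif_pos (by simpa using ha), dif_pos (by simp)] at h
  exact h

/-- the first row of a block vanishes off the first column -/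
theorem c6_row0 {t : ℕ} (d : Fin t → ℕ) (x : Matrix (JI d) (JI d) F)
    (hx : x * nilM d F = nilM d F * x) (l k : Fin t) (a : ℕ) (hl : 0 < d l) (ha : a + 1 < d k) :
    x ⟨l, ⟨0, hl⟩⟩ ⟨k, ⟨a + 1, ha⟩⟩ = 0 := by
  have h := congrFun (congrFun hx ⟨l, ⟨0, hl⟩⟩) ⟨k, ⟨a, by omega⟩⟩
  rw [uca1_mul_nilM_apply, c6_nilM_mul_apply, dif_pos (by simpa using ha), dif_neg (by simp)] at h
  exact h

/-- the last column of a block vanishes above the last row -/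
theorem c6_last {t : ℕ} (d : Fin t → ℕ) (x : Matrix (JI d) (JI d) F)
    (hx : x * nilM d F = nilM d F * x) (l k : Fin t) (b : ℕ) (hb : b + 1 < d l) (hk : 0 < d k) :
    x ⟨l, ⟨b, by omega⟩⟩ ⟨k, ⟨d k - 1, by omega⟩⟩ = 0 := by
  have h := congrFun (congrFun hx ⟨l, ⟨b + 1, hb⟩⟩) ⟨k, ⟨d k - 1, by omega⟩⟩
  rw [uca1_mul_nilM_apply, c6_nilM_mul_apply, dif_neg (by simp only; omega), dif_pos (by simp)] at h
  exact h.symm

theorem c6_diag {t : ℕ} (d : Fin t → ℕ) (x : Matrix (JI d) (JI d) F)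
    (hx : x * nilM d F = nilM d F * x) (l k : Fin t) :
    ∀ (s : ℕ) (hsl : s < d l) (hsk : s < d k),
      x ⟨l, ⟨0, by omega⟩⟩ ⟨k, ⟨0, by omega⟩⟩ = x ⟨l, ⟨s, hsl⟩⟩ ⟨k, ⟨s, hsk⟩⟩ := by
  intro s
  induction s with
  | zero => intro _ _; rfl
  | succ s ih =>
    intro hsl hsk
    rw [ih (by omega) (by omega)]
    exact (c6_rel d x hx l k s s hsl hsk).symm

/-- `x ((l,0),(k,0)) = 0` when `d k < d l` -/
theorem c6_corner {t : ℕ} (d : Fin t → ℕ) (hd : ∀ k, 1 ≤ d k) (x : Matrix (JI d) (JI d) F)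
    (hx : x * nilM d F = nilM d F * x) (l k : Fin t) (hlt : d k < d l) :
    x ⟨l, ⟨0, hd l⟩⟩ ⟨k, ⟨0, hd k⟩⟩ = 0 := by
  have hk := hd k
  have h1 := c6_diag d x hx l k (d k - 1) (by omega) (by omega)
  have h2 := c6_last d x hx l k (d k - 1) (by omega) (by omega)
  exact h1.trans h2

/-- LEAF C6 (`τ_i` is multiplicative). -/
theorem tau_mul {t : ℕ} (d : Fin t → ℕ) (hd : ∀ k, 1 ≤ d k)
    (x y : Matrix (JI d) (JI d) F) (hx : x * nilM d F = nilM d F * x)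
    (hy : y * nilM d F = nilM d F * y) (i : ℕ) :
    (Matrix.of fun l k : {k : Fin t // d k = i} =>
        (x * y) ⟨l.1, ⟨0, hd l.1⟩⟩ ⟨k.1, ⟨0, hd k.1⟩⟩) =
      (Matrix.of fun l k : {k : Fin t // d k = i} => x ⟨l.1, ⟨0, hd l.1⟩⟩ ⟨k.1, ⟨0, hd k.1⟩⟩) *
      (Matrix.of fun l k : {k : Fin t // d k = i} => y ⟨l.1, ⟨0, hd l.1⟩⟩ ⟨k.1, ⟨0, hd k.1⟩⟩) := by
  ext l k
  rw [Matrix.of_apply, Matrix.mul_apply, Matrix.mul_apply]
  simp only [Matrix.of_apply]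
  rw [Fintype.sum_sigma]
  -- inner sums: only the first column index contributes
  have hinner : ∀ j : Fin t, (∑ a : Fin (d j), x ⟨l.1, ⟨0, hd l.1⟩⟩ ⟨j, a⟩ * y ⟨j, a⟩ ⟨k.1, ⟨0, hd k.1⟩⟩) =
      x ⟨l.1, ⟨0, hd l.1⟩⟩ ⟨j, ⟨0, hd j⟩⟩ * y ⟨j, ⟨0, hd j⟩⟩ ⟨k.1, ⟨0, hd k.1⟩⟩ := by
    intro j
    rw [Finset.sum_eq_single (⟨0, hd j⟩ : Fin (d j))]
    · intro a _ ha
      have ha0 : (a : ℕ) ≠ 0 := fun h => ha (Fin.ext h)
      obtain ⟨a', ha'⟩ : ∃ a' : ℕ, (a : ℕ) = a' + 1 := ⟨(a : ℕ) - 1, by omega⟩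
      have hlt : a' + 1 < d j := by rw [← ha']; exact a.2
      have h0 := c6_row0 d x hx l.1 j a' (hd l.1) hlt
      have haeq : a = ⟨a' + 1, hlt⟩ := Fin.ext ha'
      rw [haeq, h0, zero_mul]
    · intro h'
      exact absurd (Finset.mem_univ _) h'
  rw [Finset.sum_congr rfl (fun j _ => hinner j)]
  have hsub := Finset.sum_subtype (Finset.univ.filter (fun j : Fin t => d j = i))
    (p := fun j => d j = i) (F := inferInstance) (by intro j; simp)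
    (fun j : Fin t => x ⟨l.1, ⟨0, hd l.1⟩⟩ ⟨j, ⟨0, hd j⟩⟩ * y ⟨j, ⟨0, hd j⟩⟩ ⟨k.1, ⟨0, hd k.1⟩⟩)
  refine Eq.trans ?_ hsub
  symm
  apply Finset.sum_filter_of_ne
  intro j _ hne
  by_contra hji
  apply hne
  rcases lt_or_gt_of_ne hji with h | h
  · -- `d j < i = d l`
    have : d j < d l.1 := by rw [l.2]; exact h
    rw [c6_corner d hd x hx l.1 j this, zero_mul]
  · have : d k.1 < d j := by rw [k.2]; exact h
    rw [c6_corner d hd y hy j k.1 this, mul_zero]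

end Cfsg.Agent.Lib.Helper62.SPC
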