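import Cfsg.Agent.Lib.Helper06.Hall4.Defs

/-!
# K-H4-D2b (keystone 422116, pack S4221, architect helper6)

Orbit-stabilizer for `D = G ⊓ centralizer {x, y}` acting on `α`: the orbit of a regular point `i` is `Preg x y`,
its stabilizer is `FS G {i, x i, y i, x (y i)} ⊓ centralizer {x, y}`.
-/

set_option autoImplicit false
set_option linter.unusedVariables false
open Equiv Cfsg.Agent.Lib.Helper06.Hall4

namespace Cfsg.Agent.Lib.Helper62.Hall4

variable {α : Type*} [Fintype α] [DecidableEq α]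

theorem card_D_eq_reg_mul (G : Subgroup (Perm α)) {x y : Perm α}
    (x2 : x * x = 1) (y2 : y * y = 1) (comm : x * y = y * x) {i : α} (hi : i ∈ Preg x y)
    (htr : ∀ j ∈ Preg x y, ∃ g ∈ (G ⊓ Subgroup.centralizer {x, y} : Subgroup (Perm α)), g i = j) :
    Nat.card (G ⊓ Subgroup.centralizer {x, y} : Subgroup (Perm α)) =
      (Preg x y).ncard *
        Nat.card (FS G {i, x i, y i, x (y i)} ⊓ Subgroup.centralizer {x, y} : Subgroup (Perm α)) := by
  have hcomm : ∀ g ∈ (G ⊓ Subgroup.centralizer {x, y} : Subgroup (Perm α)),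
      (∀ p, g (x p) = x (g p)) ∧ (∀ p, g (y p) = y (g p)) := by
    intro g hg
    obtain ⟨-, hg2⟩ := Subgroup.mem_inf.mp hg
    obtain ⟨h1, h2⟩ := mem_centralizer_pair.mp hg2
    constructor
    · intro p
      have := congrArg (fun f : Perm α => f p) h1
      simpa [Perm.mul_apply] using this.symm
    · intro p
      have := congrArg (fun f : Perm α => f p) h2
      simpa [Perm.mul_apply] using this.symm
  have horb : MulAction.orbit ↥(G ⊓ Subgroup.centralizer {x, y} : Subgroup (Perm α)) i = Preg x y := by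
    ext j
    constructor
    · rintro ⟨g, rfl⟩
      obtain ⟨hx, hy⟩ := hcomm g.1 g.2
      obtain ⟨h1, h2, h3⟩ := hi
      show (g : Perm α) i ∈ Preg x y
      refine ⟨?_, ?_, ?_⟩
      · rw [← hx]; exact fun h => h1 ((g : Perm α).injective h)
      · rw [← hy]; exact fun h => h2 ((g : Perm α).injective h)
      · rw [← hy, ← hx]; exact fun h => h3 ((g : Perm α).injective h)
    · intro hj
      obtain ⟨g, hg, hgi⟩ := htr j hj
      exact ⟨⟨g, hg⟩, hgi⟩
  have hiff : ∀ g : Perm α, (g ∈ (G ⊓ Subgroup.centralizer {x, y} : Subgroup (Perm α)) ∧ g i = i) ↔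
      g ∈ (FS G {i, x i, y i, x (y i)} ⊓ Subgroup.centralizer {x, y} : Subgroup (Perm α)) := by
    intro g
    constructor
    · rintro ⟨hg, hgi⟩
      obtain ⟨hx, hy⟩ := hcomm g hg
      obtain ⟨hgG, hgC⟩ := Subgroup.mem_inf.mp hg
      refine Subgroup.mem_inf.mpr ⟨mem_FS.mpr ⟨hgG, ?_⟩, hgC⟩
      intro s hs
      rcases hs with rfl | rfl | rfl | hs
      · exact hgi
      · rw [hx, hgi]
      · rw [hy, hgi]
      · rw [Set.mem_singleton_iff] at hs
        rw [hs, hx, hy, hgi]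
    · intro hg
      obtain ⟨hgF, hgC⟩ := Subgroup.mem_inf.mp hg
      obtain ⟨hgG, hfix⟩ := mem_FS.mp hgF
      exact ⟨Subgroup.mem_inf.mpr ⟨hgG, hgC⟩, hfix i (by simp)⟩
  have hstab : Nat.card (MulAction.stabilizer ↥(G ⊓ Subgroup.centralizer {x, y} : Subgroup (Perm α)) i) =
      Nat.card (FS G {i, x i, y i, x (y i)} ⊓ Subgroup.centralizer {x, y} : Subgroup (Perm α)) := by
    apply Nat.card_congr
    refine ⟨fun g => ⟨g.1.1, (hiff _).mp ⟨g.1.2, ?_⟩⟩,
      fun g => ⟨⟨g.1, ((hiff _).mpr g.2).1⟩, ?_⟩, ?_, ?_⟩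
    · exact MulAction.mem_stabilizer_iff.mp g.2
    · exact MulAction.mem_stabilizer_iff.mpr ((hiff _).mpr g.2).2
    · intro g; rfl
    · intro g; rfl
  rw [← Subgroup.index_mul_card (MulAction.stabilizer ↥(G ⊓ Subgroup.centralizer {x, y} : Subgroup (Perm α)) i),
    MulAction.index_stabilizer, horb, hstab]

end Cfsg.Agent.Lib.Helper62.Hall4
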