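import Mathlib
import Cfsg.Agent.S0493
import Cfsg.Agent.Lib.Helper07.Order60

/-!
# Helper62: non-solvable groups of order 120 (tools for S3378)

* `solvable_of_card_lt_sixty`: groups of order `< 60` are solvable (from S0493).
* `isSimpleGroup_of_card_sixty`: a non-solvable group of order 60 is simple.
* `no_simple_120`: there is no simple group of order 120.
* `exists_maximal_normal`: a nontrivial finite group has a normal subgroup with simple quotient.
* `false_of_A5_index_two`: a group with a subgroup of index 2 isomorphic to `A₅` has no quaternion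
  subgroup of order 8.
-/

set_option autoImplicit false

universe u

namespace Cfsg.Agent.Lib.Helper62.Small120

open Subgroup

theorem isSolvable_of_normal {G : Type u} [Group G] (N : Subgroup G) [N.Normal]
    (h1 : Group.IsSolvable N) (h2 : Group.IsSolvable (G ⧸ N)) : Group.IsSolvable G := by
  refine Group.isSolvable_of_ker_le_range N.subtype (QuotientGroup.mk' N) ?_
  rw [QuotientGroup.ker_mk', Subgroup.range_subtype]

theorem exists_normal_of_not_simple {G : Type u} [Group G] [Nontrivial G] (h : ¬ IsSimpleGroup G) :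
    ∃ N : Subgroup G, N.Normal ∧ N ≠ ⊥ ∧ N ≠ ⊤ := by
  by_contra hcon
  push Not at hcon
  apply h
  refine ⟨fun N hN => ?_⟩
  by_cases hb : N = ⊥
  · exact Or.inl hb
  · exact Or.inr (hcon N hN hb)

theorem card_lt_of_ne {G : Type u} [Group G] [Finite G] (N : Subgroup G) [N.Normal]
    (hb : N ≠ ⊥) (ht : N ≠ ⊤) : Nat.card N < Nat.card G ∧ Nat.card (G ⧸ N) < Nat.card G := by
  have h1 : 1 < Nat.card N := N.one_lt_card_iff_ne_bot.mpr hb
  have h2 : N.index ≠ 1 := fun h => ht (Subgroup.index_eq_one.mp h)
  have h3 : N.index ≠ 0 := Subgroup.index_ne_zero_of_finite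
  have h4 := N.card_mul_index
  have h5 : Nat.card (G ⧸ N) = N.index := rfl
  rw [h5]
  constructor
  · rw [← h4]
    have : 2 ≤ N.index := by omega
    nlinarith
  · rw [← h4]
    calc N.index = 1 * N.index := (one_mul _).symm
      _ < Nat.card N * N.index := Nat.mul_lt_mul_of_pos_right h1 (by omega)

theorem solvable_of_card_lt_sixty : ∀ n : ℕ, n < 60 → ∀ (G : Type u) [Group G] [Finite G],
    Nat.card G = n → Group.IsSolvable G := by
  intro n
  induction n using Nat.strong_induction_on with
  | _ n ih =>
    intro hn G _ _ hG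
    rcases subsingleton_or_nontrivial G with hs | hnt
    · infer_instance
    · by_cases hsim : IsSimpleGroup G
      · by_cases hc : IsCyclic G
        · exact Group.isSolvable_of_comm (fun a b => (IsCyclic.commGroup (α := G)).mul_comm a b)
        · have := Cfsg.Agent.S0493.result hc (by omega)
          omega
      · obtain ⟨N, hN, hb, ht⟩ := exists_normal_of_not_simple hsim
        obtain ⟨c1, c2⟩ := card_lt_of_ne N hb ht
        rw [hG] at c1 c2
        exact isSolvable_of_normal N (ih _ c1 (by omega) N rfl) (ih _ c2 (by omega) (G ⧸ N) rfl)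

theorem isSimpleGroup_of_card_sixty {G : Type u} [Group G] [Finite G] (hG : Nat.card G = 60)
    (hns : ¬ Group.IsSolvable G) : IsSimpleGroup G := by
  have : Nontrivial G := by
    rw [← Finite.one_lt_card_iff_nontrivial, hG]; norm_num
  by_contra hsim
  obtain ⟨N, hN, hb, ht⟩ := exists_normal_of_not_simple hsim
  obtain ⟨c1, c2⟩ := card_lt_of_ne N hb ht
  rw [hG] at c1 c2
  exact hns (isSolvable_of_normal N (solvable_of_card_lt_sixty _ c1 N rfl)
    (solvable_of_card_lt_sixty _ c2 (G ⧸ N) rfl))

theorem exists_maximal_normal {G : Type u} [Group G] [Finite G] [Nontrivial G] :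
    ∃ (N : Subgroup G) (_ : N.Normal), N ≠ ⊤ ∧ IsSimpleGroup (G ⧸ N) := by
  have hfin : {N : Subgroup G | N.Normal ∧ N ≠ ⊤}.Finite := Set.toFinite _
  have hne : {N : Subgroup G | N.Normal ∧ N ≠ ⊤}.Nonempty :=
    ⟨⊥, ⟨inferInstance, bot_ne_top⟩⟩
  obtain ⟨N, ⟨hNn, hNt⟩, hmax⟩ := hfin.exists_maximal hne
  refine ⟨N, hNn, hNt, ?_⟩
  have hnt : Nontrivial (G ⧸ N) := QuotientGroup.nontrivial_iff.mpr hNt
  refine ⟨fun H hH => ?_⟩
  have hsurj : Function.Surjective (QuotientGroup.mk' N) := QuotientGroup.mk'_surjective N
  set K := H.comap (QuotientGroup.mk' N) with hK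
  have hKn : K.Normal := hH.comap _
  have hNK : N ≤ K := by
    intro x hx
    rw [hK, Subgroup.mem_comap]
    have : (QuotientGroup.mk' N) x = 1 := (QuotientGroup.eq_one_iff x).mpr hx
    rw [this]; exact H.one_mem
  have hHK : H = K.map (QuotientGroup.mk' N) := by
    rw [hK, Subgroup.map_comap_eq_self_of_surjective hsurj]
  by_cases hKt : K = ⊤
  · right
    rw [hHK, hKt, ← MonoidHom.range_eq_map, MonoidHom.range_eq_top.mpr hsurj]
  · left
    have hKN : K ≤ N := hmax ⟨hKn, hKt⟩ hNK
    have : K = N := le_antisymm hKN hNK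
    rw [hHK, this, QuotientGroup.map_mk'_self]

theorem card_A6 : Nat.card (alternatingGroup (Fin 6)) = 360 := by
  have h := two_mul_card_alternatingGroup (α := Fin 6)
  rw [Fintype.card_perm, Fintype.card_fin] at h
  rw [Nat.card_eq_fintype_card]
  have : (6 : ℕ).factorial = 720 := by decide
  omega

theorem no_simple_120 {G : Type u} [Group G] [Finite G] [IsSimpleGroup G] (hG : Nat.card G = 120) :
    False := by
  classical
  have : Fact (Nat.Prime 5) := ⟨by norm_num⟩
  obtain ⟨P⟩ : Nonempty (Sylow 5 G) := inferInstance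
  have hP : Nat.card (P : Subgroup G) = 5 := by
    rw [Sylow.card_eq_multiplicity, hG]
    have : (120 : ℕ).factorization 5 = 1 := by decide +kernel
    rw [this]; norm_num
  have hPidx : (P : Subgroup G).index = 24 := by
    have := (P : Subgroup G).card_mul_index
    rw [hP, hG] at this; omega
  have hdvd : Nat.card (Sylow 5 G) ∣ 24 := hPidx ▸ Sylow.card_dvd_index P
  have hmod : Nat.card (Sylow 5 G) ≡ 1 [MOD 5] := card_sylow_modEq_one 5 G
  have hle : Nat.card (Sylow 5 G) ≤ 24 := Nat.le_of_dvd (by norm_num) hdvd
  have hn5 : Nat.card (Sylow 5 G) = 1 ∨ Nat.card (Sylow 5 G) = 6 := by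
    generalize Nat.card (Sylow 5 G) = k at *
    unfold Nat.ModEq at hmod
    interval_cases k <;> simp_all
  rcases hn5 with h1 | h6
  · have hsub : Subsingleton (Sylow 5 G) := (Finite.card_le_one_iff_subsingleton).mp (by omega)
    have hPn : (P : Subgroup G).Normal := Sylow.normal_of_subsingleton P
    rcases hPn.eq_bot_or_eq_top with hb | ht
    · rw [hb, Subgroup.card_bot] at hP; omega
    · rw [ht, Subgroup.card_top, hG] at hP; omega
  · set H := normalizer ((P : Subgroup G) : Set G) with hH
    have hHidx : H.index = 6 := by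
      have := Sylow.card_eq_index_normalizer P
      rw [h6] at this
      exact this.symm
    have hHt : H ≠ ⊤ := by
      intro h; rw [h, Subgroup.index_top] at hHidx; omega
    have hinj := Cfsg.Agent.Lib.Helper07.toPermHom_quotient_injective H hHt
    have e : G ⧸ H ≃ Fin 6 := Finite.equivFinOfCardEq (by rw [← hHidx]; rfl)
    let ψ : G →* Equiv.Perm (Fin 6) :=
      (e.permCongrHom.toMonoidHom).comp (MulAction.toPermHom G (G ⧸ H))
    have hψinj : Function.Injective ψ := e.permCongrHom.injective.comp hinj
    -- the sign is trivial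
    have hsign : ∀ g, Equiv.Perm.sign (ψ g) = 1 := by
      let s : G →* ℤˣ := Equiv.Perm.sign.comp ψ
      have hk : s.ker = ⊤ := by
        rcases (s.normal_ker).eq_bot_or_eq_top with hb | ht
        · exfalso
          have hsinj : Function.Injective s := (MonoidHom.ker_eq_bot_iff s).mp hb
          have := Nat.card_le_card_of_injective s hsinj
          rw [hG] at this
          have h2 : Nat.card ℤˣ = 2 := by
            rw [Nat.card_eq_fintype_card]; rfl
          omega
        · exact ht
      intro g
      have : g ∈ s.ker := by rw [hk]; trivial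
      exact this
    let ψ' : G →* alternatingGroup (Fin 6) :=
      ψ.codRestrict _ (fun g => Equiv.Perm.mem_alternatingGroup.mpr (hsign g))
    have hψ'inj : Function.Injective ψ' := fun a b h => hψinj (congrArg Subtype.val h)
    set I := ψ'.range with hI
    have hIcard : Nat.card I = 120 := by
      rw [hI, ← hG]
      exact Nat.card_congr (MonoidHom.ofInjective hψ'inj).symm.toEquiv
    have hIidx : I.index = 3 := by
      have := I.card_mul_index
      rw [hIcard, card_A6] at this; omega
    have hIt : I ≠ ⊤ := by
      intro h; rw [h, Subgroup.index_top] at hIidx; omega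
    have hA6 : IsSimpleGroup (alternatingGroup (Fin 6)) := alternatingGroup.isSimpleGroup (by simp)
    have := Cfsg.Agent.Lib.Helper07.card_dvd_factorial_index I hIt
    rw [card_A6, hIidx] at this
    revert this; decide

theorem A5_sq_of_pow_eight (g : alternatingGroup (Fin 5)) (h : g ^ 8 = 1) : g ^ 2 = 1 := by
  have key : ∀ g : Equiv.Perm (Fin 5), g ^ 8 = 1 → Equiv.Perm.sign g = 1 → g ^ 2 = 1 := by
    decide +kernel
  apply Subtype.ext
  have h1 : (g : Equiv.Perm (Fin 5)) ^ 8 = 1 := by
    have := congrArg Subtype.val h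
    simpa using this
  have := key g.1 h1 (Equiv.Perm.mem_alternatingGroup.mp g.2)
  simpa using this

theorem quat_sq_card : (Finset.univ.filter (fun q : QuaternionGroup 2 => q ^ 2 = 1)).card = 2 := by
  decide

theorem false_of_A5_index_two {G : Type u} [Group G] [Finite G] (K : Subgroup G) (hK : K.index = 2)
    (e : K ≃* alternatingGroup (Fin 5)) (S : Subgroup G) (f : S ≃* QuaternionGroup 2) : False := by
  classical
  have hKn : K.Normal := Subgroup.normal_of_index_eq_two hK
  have hScard : Nat.card S = 8 := by
    rw [Nat.card_congr f.toEquiv, Nat.card_eq_fintype_card, QuaternionGroup.card]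
  set T := K.subgroupOf S with hT
  have hTidx : T.index ∣ 2 := by
    have := Subgroup.relIndex_dvd_index_of_normal K S
    rw [hK] at this
    exact this
  have hTcard : 4 ≤ Nat.card T := by
    have h1 := T.card_mul_index
    rw [hScard] at h1
    have h2 : T.index ≤ 2 := Nat.le_of_dvd (by norm_num) hTidx
    have h3 : T.index ≠ 0 := Subgroup.index_ne_zero_of_finite
    by_contra hlt
    push Not at hlt
    have : Nat.card T * T.index ≤ 3 * 2 := Nat.mul_le_mul (by omega) h2
    omega
  -- every element of T squares to 1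
  have hsq : ∀ t : T, (f t.1) ^ 2 = 1 := by
    intro t
    have htK : (t.1 : G) ∈ K := Subgroup.mem_subgroupOf.mp t.2
    have h8 : (t.1 : S) ^ 8 = 1 := by
      have := pow_card_eq_one' (G := S) (x := t.1)
      rwa [hScard] at this
    have h8G : ((t.1 : S) : G) ^ 8 = 1 := by
      have := congrArg Subtype.val h8
      simpa using this
    have h8K : (⟨(t.1 : G), htK⟩ : K) ^ 8 = 1 := Subtype.ext (by simpa using h8G)
    have h2A : (e ⟨(t.1 : G), htK⟩) ^ 2 = 1 := by
      apply A5_sq_of_pow_eight
      rw [← map_pow, h8K, map_one]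
    have h2K : (⟨(t.1 : G), htK⟩ : K) ^ 2 = 1 := by
      apply e.injective
      rw [map_pow, h2A, map_one]
    have h2G : ((t.1 : S) : G) ^ 2 = 1 := by
      have := congrArg Subtype.val h2K
      simpa using this
    have h2S : (t.1 : S) ^ 2 = 1 := Subtype.ext (by simpa using h2G)
    rw [← map_pow, h2S, map_one]
  -- inject T into the 2-element set
  let F : T → {q : QuaternionGroup 2 // q ^ 2 = 1} := fun t => ⟨f t.1, hsq t⟩
  have hFinj : Function.Injective F := by
    intro a b hab
    have : f a.1 = f b.1 := congrArg Subtype.val hab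
    exact Subtype.ext (f.injective this)
  have hle := Nat.card_le_card_of_injective F hFinj
  have h2 : Nat.card {q : QuaternionGroup 2 // q ^ 2 = 1} = 2 := by
    rw [Nat.card_eq_fintype_card, Fintype.card_subtype]
    exact quat_sq_card
  omega

end Cfsg.Agent.Lib.Helper62.Small120
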