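import Mathlib
import Cfsg.Agent.Lib.Helper16.BG1363Defs
import Cfsg.Agent.Lib.Helper55.Basic
import Cfsg.Agent.Lib.Helper55.Uniq2
import Cfsg.Agent.Lib.Helper13.BG12A
import Cfsg.Agent.Lib.Helper20.UniqueInvolution

/-!
# K-1435-P3 (keystone 143505, pack S1435, architect helper31): `NU.mem_tau2_of_not_sigma`

`r ∉ σ(H)` for a maximal subgroup `H ⊇ N_G(R)`, `R` a nontrivial `r`-subgroup of `H`: `r ∈ τ₂(H)` (if the Sylow `r`-subgroups of
`H` were cyclic, `N_G(P) ≤ N_G(R) ≤ H` for a Sylow `r`-subgroup `P ⊇ R` of `H`).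
-/

set_option autoImplicit false
set_option linter.unusedVariables false

namespace Cfsg.Agent.Lib.Helper62.BG1435

open Cfsg Subgroup Cfsg.Agent.Lib.Helper55 Cfsg.Agent.Lib.Helper11.BG14D Cfsg.Agent.Lib.Helper16.BG1363

variable {G : Type*} [Group G] [Finite G]

/-- in a cyclic subgroup `C`, subgroups of the same order coincide -/
theorem p3_eq_of_le_cyclic {C A B : Subgroup G} (hC : IsCyclic C) (hA : A ≤ C) (hB : B ≤ C)
    (h : Nat.card A = Nat.card B) : A = B := by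
  have e1 : Nat.card ↥(A.subgroupOf C) = Nat.card A :=
    Nat.card_congr (Subgroup.subgroupOfEquivOfLe hA).toEquiv
  have e2 : Nat.card ↥(B.subgroupOf C) = Nat.card B :=
    Nat.card_congr (Subgroup.subgroupOfEquivOfLe hB).toEquiv
  have h3 := Cfsg.Agent.Lib.Helper20.subgroup_eq_of_card_eq_of_isCyclic (A.subgroupOf C)
    (B.subgroupOf C) (by rw [e1, e2, h])
  rw [← Subgroup.map_subgroupOf_eq_of_le hA, ← Subgroup.map_subgroupOf_eq_of_le hB, h3]

/-- KEYSTONE 143505  K-1435-P3 -/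
theorem NU.mem_tau2_of_not_sigma (hG : IsMinSimpleOddOrder G) {M K U R H : Subgroup G} {r : ℕ}
    (c : NU M K U R H r) (hUKH : U ⊔ K ≤ H) (hrH : r ∉ sigma H) : r ∈ tau2 H := by
  have hr := c.hr
  haveI : Fact r.Prime := ⟨hr⟩
  have hRH : R ≤ H := c.hRU.trans (le_sup_left.trans hUKH)
  have h2 : PRankLE r 2 ↥H := by
    by_contra h
    exact hrH (Cfsg.Agent.Lib.Helper13.BG12.mem_sigma_of_not_pRankLE_two hG c.hH hr h)
  refine ⟨hr, hrH, h2, ?_⟩
  intro h1
  apply hrH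
  -- `r ∣ |H|`
  have hrR : r ∣ Nat.card R := by
    obtain ⟨k, hk⟩ := IsPGroup.exists_card_eq c.hRp
    rcases Nat.eq_zero_or_pos k with h0 | hpos
    · exfalso
      rw [h0, pow_zero] at hk
      exact c.hR1 (Subgroup.card_eq_one.mp hk)
    · rw [hk]
      exact dvd_pow_self r hpos.ne'
  have hrdvd : r ∣ Nat.card H := dvd_trans hrR (Subgroup.card_dvd_of_le hRH)
  have hr2 : r ≠ 2 := by
    rintro rfl
    exact (Nat.not_even_iff_odd.mpr (ms_odd hG H)) (even_iff_two_dvd.mpr hrdvd)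
  -- a Sylow `r`-subgroup of `H` over `R`
  have hR' : IsPGroup r (R.subgroupOf H) := c.hRp.comap_of_injective H.subtype H.subtype_injective
  obtain ⟨P, hP⟩ := hR'.exists_le_sylow
  refine ⟨hr, hrdvd, P, ?_⟩
  have hPgH : (P : Subgroup ↥H).map H.subtype ≤ H := Subgroup.map_subtype_le _
  have hRPg : R ≤ (P : Subgroup ↥H).map H.subtype := by
    intro x hx
    exact ⟨⟨x, hRH hx⟩, hP (Subgroup.mem_subgroupOf.mpr hx), rfl⟩
  have hcyc : IsCyclic ↥((P : Subgroup ↥H).map H.subtype) :=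
    Cfsg.Agent.Lib.Helper13.BG12.isCyclic_of_pRankLE_one hr2 h1 hPgH (P.2.map _)
  intro g hg
  apply c.hNH
  rw [← cj_eq_self_iff]
  have h3 : cj g ((P : Subgroup ↥H).map H.subtype) = (P : Subgroup ↥H).map H.subtype :=
    cj_eq_self_iff.mpr hg
  have h4 : cj g R ≤ (P : Subgroup ↥H).map H.subtype := by
    rw [← h3]
    exact cj_mono hRPg
  exact p3_eq_of_le_cyclic hcyc h4 hRPg (card_cj g R)

end Cfsg.Agent.Lib.Helper62.BG1435
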