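import Mathlib
import Cfsg.Agent.Lib.Helper11.Syl22Defs

/-!
K-S4346-A3 (keystone 434604): a Sylow 3-subgroup `S` not containing `D = P ⊓ R` (`Adj P R`) is adjacent to
at most one Sylow 3-subgroup containing `D`.
-/

set_option autoImplicit false

namespace Cfsg.Agent.Lib.Helper62.Syl22

open Cfsg.Agent.Lib.Helper11.Syl22

variable {G : Type*} [Group G] [Finite G]

theorem sylow3_card_eq (A B : Sylow 3 G) :
    Nat.card ↥(A : Subgroup G) = Nat.card ↥(B : Subgroup G) := by
  have : Fact (Nat.Prime 3) := ⟨Nat.prime_three⟩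
  rw [Sylow.card_eq_multiplicity A, Sylow.card_eq_multiplicity B]

theorem sylow3_eq_of_le {A B : Sylow 3 G} (h : (A : Subgroup G) ≤ (B : Subgroup G)) : A = B := by
  apply Sylow.ext
  exact Subgroup.eq_of_le_of_card_ge h (sylow3_card_eq A B).ge

/-- a subgroup between `A` and `C`, `|C : A| = 3`, is `A` or `C`. -/
theorem eq_or_eq_of_index_three {A B C : Subgroup G} (hAB : A ≤ B) (hBC : B ≤ C)
    (h3 : 3 * Nat.card A = Nat.card C) : B = A ∨ B = C := by
  obtain ⟨m, hm⟩ := Subgroup.card_dvd_of_le hAB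
  have hd2 := Subgroup.card_dvd_of_le hBC
  have hApos : 0 < Nat.card A := Nat.card_pos
  rw [hm, ← h3, mul_comm 3] at hd2
  have hm3 : m ∣ 3 := (Nat.mul_dvd_mul_iff_left hApos).mp hd2
  rcases (Nat.dvd_prime Nat.prime_three).mp hm3 with rfl | rfl
  · left
    exact (Subgroup.eq_of_le_of_card_ge hAB (by rw [hm, mul_one])).symm
  · right
    exact Subgroup.eq_of_le_of_card_ge hBC (by rw [hm, ← h3, mul_comm])

/-- two different subgroups of index 3 generate. -/
theorem sup_eq_of_index_three {S E E' : Subgroup G} (hE : E ≤ S) (hE' : E' ≤ S)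
    (h3 : 3 * Nat.card E = Nat.card S) (h3' : 3 * Nat.card E' = Nat.card S) (hne : E ≠ E') :
    E ⊔ E' = S := by
  rcases eq_or_eq_of_index_three (le_sup_left : E ≤ E ⊔ E') (sup_le hE hE') h3 with h | h
  · exfalso
    apply hne
    have h2 : E' ≤ E := le_sup_right.trans h.le
    exact (Subgroup.eq_of_le_of_card_ge h2 (by omega)).symm
  · exact h

/-- K-A2, first half (reproved here). -/
theorem inf_eq_of_le_aux {P R T T' : Sylow 3 G} (h : Adj P R)
    (hT : (P : Subgroup G) ⊓ (R : Subgroup G) ≤ (T : Subgroup G))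
    (hT' : (P : Subgroup G) ⊓ (R : Subgroup G) ≤ (T' : Subgroup G)) (hne : T ≠ T') :
    (T : Subgroup G) ⊓ (T' : Subgroup G) = (P : Subgroup G) ⊓ (R : Subgroup G) := by
  have h3 : 3 * Nat.card ↥((P : Subgroup G) ⊓ (R : Subgroup G)) = Nat.card ↥(T : Subgroup G) := by
    rw [← sylow3_card_eq P T]; exact h
  rcases eq_or_eq_of_index_three (le_inf hT hT') (inf_le_left) h3 with h1 | h1
  · exact h1
  · exfalso
    apply hne
    apply sylow3_eq_of_le
    exact inf_eq_left.mp h1

/-- a subgroup of index 3 of a Sylow 3-subgroup is normalized by it. -/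
theorem le_normalizer_of_index_three {U : Sylow 3 G} {E : Subgroup G} (hEU : E ≤ (U : Subgroup G))
    (h3 : 3 * Nat.card E = Nat.card ↥(U : Subgroup G)) :
    (U : Subgroup G) ≤ Subgroup.normalizer (E : Set G) := by
  have : Fact (Nat.Prime 3) := ⟨Nat.prime_three⟩
  rw [← Subgroup.normal_subgroupOf_iff_le_normalizer hEU]
  apply Subgroup.normal_of_index_eq_minFac_card
  have hcard : Nat.card ↥(E.subgroupOf (U : Subgroup G)) = Nat.card E :=
    Nat.card_congr (Subgroup.subgroupOfEquivOfLe hEU).toEquiv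
  have hmul := Subgroup.card_mul_index (E.subgroupOf (U : Subgroup G))
  rw [hcard, ← h3] at hmul
  have hEpos : 0 < Nat.card E := Nat.card_pos
  have hidx : (E.subgroupOf (U : Subgroup G)).index = 3 := by
    have : Nat.card E * (E.subgroupOf (U : Subgroup G)).index = Nat.card E * 3 := by
      rw [hmul, mul_comm]
    exact Nat.eq_of_mul_eq_mul_left hEpos this
  rw [hidx]
  obtain ⟨k, hk⟩ := (U.isPGroup').exists_card_eq
  have hk0 : k ≠ 0 := by
    rintro rfl
    rw [pow_zero] at hk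
    omega
  rw [hk, Nat.Prime.pow_minFac Nat.prime_three hk0]

/-- KEYSTONE 434604  K-S4346-A3. -/
theorem adj_unique_of_not_le {P R S T T' : Sylow 3 G}
    (h : Adj P R)
    (hS : ¬ ((P : Subgroup G) ⊓ (R : Subgroup G) ≤ (S : Subgroup G)))
    (hT : (P : Subgroup G) ⊓ (R : Subgroup G) ≤ (T : Subgroup G))
    (hT' : (P : Subgroup G) ⊓ (R : Subgroup G) ≤ (T' : Subgroup G))
    (hST : Adj S T) (hST' : Adj S T') : T = T' := by
  by_contra hne
  have : Fact (Nat.Prime 3) := ⟨Nat.prime_three⟩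
  have hA2 := inf_eq_of_le_aux h hT hT' hne
  obtain ⟨d, hdD, hdS⟩ := SetLike.not_le_iff_exists.mp hS
  have hDp : IsPGroup 3 ↥((P : Subgroup G) ⊓ (R : Subgroup G)) := P.isPGroup'.to_le inf_le_left
  have hdN : d ∉ Subgroup.normalizer ((S : Subgroup G) : Set G) := by
    intro hdN
    have hmem : d ∈ ((P : Subgroup G) ⊓ (R : Subgroup G)) ⊓
        Subgroup.normalizer (S : Set G) := ⟨hdD, hdN⟩
    rw [hDp.inf_normalizer_sylow S] at hmem
    exact hdS hmem.2
  have hS' : d • S ≠ S := fun h' => hdN (Sylow.smul_eq_iff_mem_normalizer.mp h')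
  -- `S ⊓ U ≤ d • S` for `U ∈ {T, T'}`
  have key : ∀ U : Sylow 3 G, (P : Subgroup G) ⊓ (R : Subgroup G) ≤ (U : Subgroup G) → Adj S U →
      (S : Subgroup G) ⊓ (U : Subgroup G) ≤ ((d • S : Sylow 3 G) : Subgroup G) := by
    intro U hDU hSU
    have h3 : 3 * Nat.card ↥((S : Subgroup G) ⊓ (U : Subgroup G)) = Nat.card ↥(U : Subgroup G) := by
      rw [← sylow3_card_eq S U]; exact hSU
    have hUN := le_normalizer_of_index_three (U := U) inf_le_right h3
    have hd : d ∈ Subgroup.normalizer (((S : Subgroup G) ⊓ (U : Subgroup G) : Subgroup G) : Set G) :=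
      hUN (hDU hdD)
    intro e he
    rw [Sylow.coe_subgroup_smul, Subgroup.mem_pointwise_smul_iff_inv_smul_mem]
    have h1 := (Subgroup.mem_normalizer_iff''.mp hd e).mp he
    have h2 : (MulAut.conj d)⁻¹ • e = d⁻¹ * e * d := by
      simp [MulAut.smul_def]
    rw [h2]
    exact h1.1
  have hE := key T hT hST
  have hE' := key T' hT' hST'
  have h3E : 3 * Nat.card ↥((S : Subgroup G) ⊓ (T : Subgroup G)) = Nat.card ↥(S : Subgroup G) := hST
  have h3E' : 3 * Nat.card ↥((S : Subgroup G) ⊓ (T' : Subgroup G)) = Nat.card ↥(S : Subgroup G) :=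
    hST'
  -- `E = E'`
  have hEE : (S : Subgroup G) ⊓ (T : Subgroup G) = (S : Subgroup G) ⊓ (T' : Subgroup G) := by
    by_contra hEne
    have hsup := sup_eq_of_index_three (S := (S : Subgroup G)) inf_le_left inf_le_left h3E h3E' hEne
    apply hS'
    symm
    apply sylow3_eq_of_le
    rw [← hsup]
    exact sup_le hE hE'
  -- `E ≤ T ⊓ T' = D`
  have hED : (S : Subgroup G) ⊓ (T : Subgroup G) ≤ (P : Subgroup G) ⊓ (R : Subgroup G) := by
    rw [← hA2]
    refine le_inf inf_le_right ?_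
    rw [hEE]
    exact inf_le_right
  have hcardED : Nat.card ↥((P : Subgroup G) ⊓ (R : Subgroup G)) ≤
      Nat.card ↥((S : Subgroup G) ⊓ (T : Subgroup G)) := by
    have h1 : 3 * Nat.card ↥((P : Subgroup G) ⊓ (R : Subgroup G)) = Nat.card ↥(P : Subgroup G) := h
    have h2 := sylow3_card_eq P S
    omega
  have hEq := Subgroup.eq_of_le_of_card_ge hED hcardED
  apply hS
  rw [← hEq]
  exact inf_le_left

end Cfsg.Agent.Lib.Helper62.Syl22
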