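import Mathlib

/-!
String rewriting certificates for finite presentations (helper62).

Words are lists of natural numbers (generator indices); `ev g w` is the product of the
generators `g i` along `w`.  A rule `(l, r)` is valid when `ev g l = ev g r`.
`runCerts` replays a Knuth-Bendix completion from critical-peak certificates, and
`checkAll` verifies in addition that a list of normal forms is closed under left
multiplication by the generators.  `card_le_of_checkAll` then bounds the order of any group
generated by elements satisfying the initial rules.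
-/

set_option autoImplicit false

namespace Cfsg.Agent.Lib.Helper62

abbrev Word := List ℕ
abbrev Rules := List (Word × Word)

section Monoid

variable {Γ : Type*} [Monoid Γ]

def ev (g : ℕ → Γ) (w : Word) : Γ := (w.map g).prod

@[simp] theorem ev_nil (g : ℕ → Γ) : ev g [] = 1 := rfl

@[simp] theorem ev_cons (g : ℕ → Γ) (a : ℕ) (w : Word) : ev g (a :: w) = g a * ev g w := by
  simp [ev]

@[simp] theorem ev_append (g : ℕ → Γ) (u v : Word) : ev g (u ++ v) = ev g u * ev g v := by
  simp [ev]

def Valid (g : ℕ → Γ) (R : Rules) : Prop := ∀ p ∈ R, ev g p.1 = ev g p.2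

theorem Valid.append {g : ℕ → Γ} {R : Rules} (h : Valid g R) {u v : Word} (huv : ev g u = ev g v) :
    Valid g (R ++ [(u, v)]) := by
  intro p hp
  rcases List.mem_append.mp hp with hp | hp
  · exact h p hp
  · simp only [List.mem_singleton] at hp
    subst hp
    exact huv

def rewriteHead : Rules → Word → Option Word
  | [], _ => none
  | (l, r) :: R, w => if l.isPrefixOf w then some (r ++ w.drop l.length) else rewriteHead R w

theorem rewriteHead_sound (g : ℕ → Γ) : ∀ (R : Rules), Valid g R → ∀ (w w' : Word),
    rewriteHead R w = some w' → ev g w' = ev g w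
  | [], _, w, w', h => by simp [rewriteHead] at h
  | (l, r) :: R, hR, w, w', h => by
    simp only [rewriteHead] at h
    split_ifs at h with hp
    · have hpre : l <+: w := List.isPrefixOf_iff_prefix.mp hp
      have hw : w = l ++ w.drop l.length := by
        obtain ⟨t, ht⟩ := hpre
        subst ht
        simp
      have hlr : ev g l = ev g r := hR (l, r) (by simp)
      have h' : w' = r ++ w.drop l.length := by
        simpa using h.symm
      rw [h']
      conv_rhs => rw [hw]
      rw [ev_append, ev_append, hlr]
    · exact rewriteHead_sound g R (fun p hp => hR p (List.mem_cons_of_mem _ hp)) w w' h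

def rewriteOnce (R : Rules) : Word → Option Word
  | [] => rewriteHead R []
  | a :: w =>
    match rewriteHead R (a :: w) with
    | some w' => some w'
    | none => (rewriteOnce R w).map (a :: ·)

theorem rewriteOnce_sound (g : ℕ → Γ) (R : Rules) (hR : Valid g R) : ∀ (w w' : Word),
    rewriteOnce R w = some w' → ev g w' = ev g w
  | [], w', h => rewriteHead_sound g R hR [] w' (by simpa [rewriteOnce] using h)
  | a :: w, w', h => by
    simp only [rewriteOnce] at h
    cases hh : rewriteHead R (a :: w) with
    | some w'' =>
      rw [hh] at h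
      simp only [Option.some.injEq] at h
      subst h
      exact rewriteHead_sound g R hR _ _ hh
    | none =>
      rw [hh] at h
      simp only [Option.map_eq_some_iff] at h
      obtain ⟨w₁, hw₁, rfl⟩ := h
      rw [ev_cons, ev_cons, rewriteOnce_sound g R hR w w₁ hw₁]

def normalize (R : Rules) : ℕ → Word → Word
  | 0, w => w
  | fuel + 1, w =>
    match rewriteOnce R w with
    | none => w
    | some w' => normalize R fuel w'

theorem normalize_sound (g : ℕ → Γ) (R : Rules) (hR : Valid g R) : ∀ (fuel : ℕ) (w : Word),
    ev g (normalize R fuel w) = ev g w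
  | 0, w => rfl
  | fuel + 1, w => by
    simp only [normalize]
    cases hh : rewriteOnce R w with
    | none => rfl
    | some w' =>
      simp only
      rw [normalize_sound g R hR fuel w', rewriteOnce_sound g R hR w w' hh]

/-- A critical peak certificate: `p1 ++ l_i ++ s1 = p2 ++ l_j ++ s2`; the new rule is the pair of
normal forms of the two one-step reducts (swapped when `flip`). -/
structure Cert where
  p1 : Word
  s1 : Word
  i : ℕ
  p2 : Word
  s2 : Word
  j : ℕ
  flip : Bool

def checkCert (fuel : ℕ) (R : Rules) (c : Cert) : Option (Word × Word) :=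
  match R[c.i]?, R[c.j]? with
  | some (li, ri), some (lj, rj) =>
    if c.p1 ++ li ++ c.s1 = c.p2 ++ lj ++ c.s2 then
      some (if c.flip then
          (normalize R fuel (c.p2 ++ rj ++ c.s2), normalize R fuel (c.p1 ++ ri ++ c.s1))
        else
          (normalize R fuel (c.p1 ++ ri ++ c.s1), normalize R fuel (c.p2 ++ rj ++ c.s2)))
    else none
  | _, _ => none

theorem checkCert_sound (g : ℕ → Γ) (fuel : ℕ) (R : Rules) (hR : Valid g R) (c : Cert)
    (u v : Word) (h : checkCert fuel R c = some (u, v)) : ev g u = ev g v := by
  unfold checkCert at h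
  cases hi : R[c.i]? with
  | none => simp [hi] at h
  | some pi =>
    cases hj : R[c.j]? with
    | none => simp [hi, hj] at h
    | some pj =>
      obtain ⟨li, ri⟩ := pi
      obtain ⟨lj, rj⟩ := pj
      simp only [hi, hj] at h
      split_ifs at h with hW hflip
      · have hmi : (li, ri) ∈ R := List.mem_of_getElem? hi
        have hmj : (lj, rj) ∈ R := List.mem_of_getElem? hj
        have h1 : ev g li = ev g ri := hR _ hmi
        have h2 : ev g lj = ev g rj := hR _ hmj
        have hkey : ev g (c.p1 ++ ri ++ c.s1) = ev g (c.p2 ++ rj ++ c.s2) := by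
          have := congrArg (ev g) hW
          simp only [ev_append] at this ⊢
          rw [← h1, ← h2]; exact this
        simp only [Option.some.injEq, Prod.mk.injEq] at h
        obtain ⟨rfl, rfl⟩ := h
        rw [normalize_sound g R hR, normalize_sound g R hR, hkey]
      · have hmi : (li, ri) ∈ R := List.mem_of_getElem? hi
        have hmj : (lj, rj) ∈ R := List.mem_of_getElem? hj
        have h1 : ev g li = ev g ri := hR _ hmi
        have h2 : ev g lj = ev g rj := hR _ hmj
        have hkey : ev g (c.p1 ++ ri ++ c.s1) = ev g (c.p2 ++ rj ++ c.s2) := by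
          have := congrArg (ev g) hW
          simp only [ev_append] at this ⊢
          rw [← h1, ← h2]; exact this
        simp only [Option.some.injEq, Prod.mk.injEq] at h
        obtain ⟨rfl, rfl⟩ := h
        rw [normalize_sound g R hR, normalize_sound g R hR, hkey]

def runCerts (fuel : ℕ) : Rules → List Cert → Option Rules
  | R, [] => some R
  | R, c :: cs =>
    match checkCert fuel R c with
    | some rule => runCerts fuel (R ++ [rule]) cs
    | none => none

theorem runCerts_sound (g : ℕ → Γ) (fuel : ℕ) : ∀ (cs : List Cert) (R R' : Rules), Valid g R →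
    runCerts fuel R cs = some R' → Valid g R'
  | [], R, R', hR, h => by
    simp only [runCerts, Option.some.injEq] at h
    subst h; exact hR
  | c :: cs, R, R', hR, h => by
    simp only [runCerts] at h
    cases hc : checkCert fuel R c with
    | none => simp [hc] at h
    | some rule =>
      obtain ⟨u, v⟩ := rule
      simp only [hc] at h
      exact runCerts_sound g fuel cs _ R' (hR.append (checkCert_sound g fuel R hR c u v hc)) h

/-- Closure of the list `NF` of normal forms under left multiplication by the first `n` generators. -/
def closedUnder (fuel n : ℕ) (R : Rules) (NF : List Word) : Bool :=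
  NF.contains [] &&
    NF.all (fun w => (List.range n).all (fun i => NF.contains (normalize R fuel (i :: w))))

def checkAll (fuel n : ℕ) (R₀ : Rules) (cs : List Cert) (NF : List Word) : Bool :=
  match runCerts fuel R₀ cs with
  | none => false
  | some R => closedUnder fuel n R NF

theorem closedUnder_sound (g : ℕ → Γ) (fuel n : ℕ) (R : Rules) (NF : List Word) (hR : Valid g R)
    (h : closedUnder fuel n R NF = true) :
    [] ∈ NF ∧ ∀ w ∈ NF, ∀ i < n, ∃ w' ∈ NF, g i * ev g w = ev g w' := by
  unfold closedUnder at h
  rw [Bool.and_eq_true] at h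
  obtain ⟨h1, h2⟩ := h
  refine ⟨by simpa using h1, ?_⟩
  intro w hw i hi
  rw [List.all_eq_true] at h2
  have h3 := h2 w hw
  rw [List.all_eq_true] at h3
  have h4 := h3 i (List.mem_range.mpr hi)
  refine ⟨normalize R fuel (i :: w), by simpa using h4, ?_⟩
  rw [normalize_sound g R hR, ev_cons]

theorem checkAll_sound (g : ℕ → Γ) (fuel n : ℕ) (R₀ : Rules) (cs : List Cert) (NF : List Word)
    (hR₀ : Valid g R₀) (h : checkAll fuel n R₀ cs NF = true) :
    [] ∈ NF ∧ ∀ w ∈ NF, ∀ i < n, ∃ w' ∈ NF, g i * ev g w = ev g w' := by
  unfold checkAll at h
  cases hr : runCerts fuel R₀ cs with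
  | none => simp [hr] at h
  | some R =>
    simp only [hr] at h
    exact closedUnder_sound g fuel n R NF (runCerts_sound g fuel cs R₀ R hR₀ hr) h

end Monoid

section Group

variable {Γ : Type*} [Group Γ]

open scoped Pointwise in
/-- If the first `n` generators generate `Γ`, satisfy the initial rules, and the certificate
checks, then `Γ` is finite of order at most the number of normal forms. -/
theorem card_le_of_checkAll (g : ℕ → Γ) (fuel n : ℕ) (R₀ : Rules) (cs : List Cert) (NF : List Word)
    (hR₀ : Valid g R₀) (h : checkAll fuel n R₀ cs NF = true)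
    (hgen : Subgroup.closure (g '' {i | i < n}) = ⊤) :
    Finite Γ ∧ Nat.card Γ ≤ NF.length := by
  classical
  obtain ⟨hnil, hclosed⟩ := checkAll_sound g fuel n R₀ cs NF hR₀ h
  let T : Finset Γ := (NF.map (ev g)).toFinset
  have hT1 : (1 : Γ) ∈ T := by
    simp only [T, List.mem_toFinset, List.mem_map]
    exact ⟨[], hnil, rfl⟩
  have hstab : ∀ i < n, g i ∈ MulAction.stabilizer Γ T := by
    intro i hi
    rw [MulAction.mem_stabilizer_finset']
    intro b hb
    simp only [T, List.mem_toFinset, List.mem_map] at hb ⊢
    obtain ⟨w, hw, rfl⟩ := hb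
    obtain ⟨w', hw', he⟩ := hclosed w hw i hi
    exact ⟨w', hw', by rw [smul_eq_mul, he]⟩
  have htop : MulAction.stabilizer Γ T = ⊤ := by
    rw [eq_top_iff, ← hgen, Subgroup.closure_le]
    rintro _ ⟨i, hi, rfl⟩
    exact hstab i hi
  have hall : ∀ γ : Γ, γ ∈ T := by
    intro γ
    have hγ : γ ∈ MulAction.stabilizer Γ T := by rw [htop]; exact Subgroup.mem_top γ
    rw [MulAction.mem_stabilizer_finset'] at hγ
    have := hγ hT1
    simpa using this
  have hfin : Finite Γ := Finite.of_injective (fun γ => (⟨γ, hall γ⟩ : T))
    (fun a b hab => by simpa using congrArg Subtype.val hab)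
  refine ⟨hfin, ?_⟩
  have h1 : Nat.card Γ ≤ Nat.card T := Nat.card_le_card_of_injective (fun γ => (⟨γ, hall γ⟩ : T))
    (fun a b hab => by simpa using congrArg Subtype.val hab)
  have h2 : Nat.card T = T.card := by simp
  have h3 : T.card ≤ (NF.map (ev g)).length := List.toFinset_card_le _
  rw [List.length_map] at h3
  omega

end Group

end Cfsg.Agent.Lib.Helper62
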