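import Mathlib
import Cfsg.Agent.Lib.Helper62.Rewrite
import Cfsg.Agent.Lib.Helper07.SL2Sylow

/-!
# Helper62: the presentation `⟨x, y, z | x³ = y⁵ = z² = 1, z central, (xy)² = z⟩` of `SL(2,5)`

* `P` : the presented group (relators exactly as in statement S3378), `P_card : Nat.card P ≤ 120`
  by a verified Knuth–Bendix certificate.
* `liftHom` : homomorphism from `P` to any group with elements satisfying the relations.
* `equivSL` : `P ≃* SL(2, ZMod 5)`.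
-/

set_option autoImplicit false

namespace Cfsg.Agent.Lib.Helper62.SL25Pres

open Cfsg.Agent.Lib.Helper62

def R0 : Rules := [([0, 0, 0], []), ([1, 1, 1, 1, 1], []), ([2, 2], []), ([2, 0], [0, 2]), ([2, 1], [1, 2]), ([0, 1, 0, 1], [2])]
def certs : List Cert := [
  ⟨[], [1, 0, 1], 0, [0, 0], [], 5, false⟩,
  ⟨[], [1, 1, 1, 1], 5, [0, 1, 0], [], 1, false⟩,
  ⟨[], [0, 1], 1, [1, 1, 1, 1], [], 6, true⟩,
  ⟨[], [1, 1, 1, 2], 5, [0, 1, 0], [], 7, true⟩,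
  ⟨[], [1, 1, 1, 2], 6, [1, 0], [], 7, true⟩,
  ⟨[], [2], 7, [1, 1, 1, 1], [], 2, true⟩,
  ⟨[], [1, 1, 1, 0, 0, 2], 1, [1, 1, 1, 1], [], 8, false⟩,
  ⟨[], [0, 0], 9, [0, 1, 0, 0, 1], [], 0, false⟩,
  ⟨[], [1, 0], 13, [1, 1], [], 10, true⟩,
  ⟨[], [0, 1], 14, [1, 1, 0, 0, 1, 1], [], 6, true⟩,
  ⟨[], [2], 15, [1, 1, 0, 0, 1, 1, 0, 0], [], 2, false⟩,
  ⟨[], [1], 15, [1, 1, 0, 0, 1, 1, 0, 0], [], 4, true⟩,
  ⟨[], [1, 0, 0, 1, 1, 0, 0, 1, 2], 0, [0, 0], [], 16, true⟩,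
  ⟨[], [1, 0, 0, 1, 1, 0, 0, 1, 2], 4, [2], [], 17, false⟩,
  ⟨[], [0], 17, [1, 1, 0, 0, 1, 1, 0, 0, 1], [], 3, false⟩,
  ⟨[], [1], 17, [1, 1, 0, 0, 1, 1, 0, 0, 1], [], 4, true⟩,
  ⟨[], [1, 0, 0, 1, 1, 0, 0, 1, 1, 0], 0, [0, 0], [], 20, true⟩,
  ⟨[], [0, 0, 1, 1, 0, 0, 1, 1, 0], 5, [0, 1], [], 20, true⟩,
  ⟨[], [0, 0, 1, 1, 0, 0, 1, 1, 0], 6, [1], [], 20, true⟩,
  ⟨[], [1, 0], 18, [0, 0, 1, 1, 0, 0, 1], [], 10, false⟩
]
def NF : List Word := [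
  [],
  [0],
  [1],
  [2],
  [0, 0],
  [1, 0],
  [0, 1],
  [1, 1],
  [0, 2],
  [1, 2],
  [1, 0, 0],
  [0, 1, 0],
  [1, 1, 0],
  [0, 0, 1],
  [0, 1, 1],
  [1, 1, 1],
  [0, 0, 2],
  [1, 0, 2],
  [0, 1, 2],
  [1, 1, 2],
  [0, 1, 0, 0],
  [1, 1, 0, 0],
  [0, 0, 1, 0],
  [0, 1, 1, 0],
  [1, 1, 1, 0],
  [1, 0, 0, 1],
  [0, 0, 1, 1],
  [0, 1, 1, 1],
  [1, 0, 0, 2],
  [0, 1, 0, 2],
  [1, 1, 0, 2],
  [0, 0, 1, 2],
  [0, 1, 1, 2],
  [1, 1, 1, 2],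
  [0, 0, 1, 0, 0],
  [0, 1, 1, 0, 0],
  [0, 0, 1, 1, 0],
  [0, 1, 1, 1, 0],
  [0, 1, 0, 0, 1],
  [1, 1, 0, 0, 1],
  [1, 0, 0, 1, 1],
  [0, 0, 1, 1, 1],
  [0, 1, 0, 0, 2],
  [1, 1, 0, 0, 2],
  [0, 0, 1, 0, 2],
  [0, 1, 1, 0, 2],
  [1, 1, 1, 0, 2],
  [1, 0, 0, 1, 2],
  [0, 0, 1, 1, 2],
  [0, 1, 1, 1, 2],
  [0, 0, 1, 1, 0, 0],
  [1, 0, 0, 1, 1, 0],
  [0, 0, 1, 1, 1, 0],
  [0, 0, 1, 0, 0, 1],
  [0, 1, 1, 0, 0, 1],
  [0, 1, 0, 0, 1, 1],
  [1, 1, 0, 0, 1, 1],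
  [1, 0, 0, 1, 1, 1],
  [0, 0, 1, 0, 0, 2],
  [0, 1, 1, 0, 0, 2],
  [0, 0, 1, 1, 0, 2],
  [0, 1, 1, 1, 0, 2],
  [0, 1, 0, 0, 1, 2],
  [1, 1, 0, 0, 1, 2],
  [1, 0, 0, 1, 1, 2],
  [0, 0, 1, 1, 1, 2],
  [1, 0, 0, 1, 1, 0, 0],
  [0, 1, 0, 0, 1, 1, 0],
  [1, 1, 0, 0, 1, 1, 0],
  [1, 0, 0, 1, 1, 1, 0],
  [0, 0, 1, 1, 0, 0, 1],
  [0, 0, 1, 0, 0, 1, 1],
  [0, 1, 1, 0, 0, 1, 1],
  [0, 1, 0, 0, 1, 1, 1],
  [0, 0, 1, 1, 0, 0, 2],
  [1, 0, 0, 1, 1, 0, 2],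
  [0, 0, 1, 1, 1, 0, 2],
  [0, 0, 1, 0, 0, 1, 2],
  [0, 1, 1, 0, 0, 1, 2],
  [0, 1, 0, 0, 1, 1, 2],
  [1, 1, 0, 0, 1, 1, 2],
  [1, 0, 0, 1, 1, 1, 2],
  [0, 1, 0, 0, 1, 1, 0, 0],
  [1, 1, 0, 0, 1, 1, 0, 0],
  [0, 0, 1, 0, 0, 1, 1, 0],
  [0, 1, 1, 0, 0, 1, 1, 0],
  [0, 1, 0, 0, 1, 1, 1, 0],
  [1, 0, 0, 1, 1, 0, 0, 1],
  [0, 0, 1, 1, 0, 0, 1, 1],
  [0, 0, 1, 0, 0, 1, 1, 1],
  [1, 0, 0, 1, 1, 0, 0, 2],
  [0, 1, 0, 0, 1, 1, 0, 2],
  [1, 1, 0, 0, 1, 1, 0, 2],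
  [1, 0, 0, 1, 1, 1, 0, 2],
  [0, 0, 1, 1, 0, 0, 1, 2],
  [0, 0, 1, 0, 0, 1, 1, 2],
  [0, 1, 1, 0, 0, 1, 1, 2],
  [0, 1, 0, 0, 1, 1, 1, 2],
  [0, 0, 1, 0, 0, 1, 1, 0, 0],
  [0, 1, 1, 0, 0, 1, 1, 0, 0],
  [0, 0, 1, 1, 0, 0, 1, 1, 0],
  [0, 0, 1, 0, 0, 1, 1, 1, 0],
  [0, 1, 0, 0, 1, 1, 0, 0, 1],
  [1, 1, 0, 0, 1, 1, 0, 0, 1],
  [1, 0, 0, 1, 1, 0, 0, 1, 1],
  [0, 1, 0, 0, 1, 1, 0, 0, 2],
  [0, 0, 1, 0, 0, 1, 1, 0, 2],
  [0, 1, 1, 0, 0, 1, 1, 0, 2],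
  [0, 1, 0, 0, 1, 1, 1, 0, 2],
  [1, 0, 0, 1, 1, 0, 0, 1, 2],
  [0, 0, 1, 1, 0, 0, 1, 1, 2],
  [0, 0, 1, 0, 0, 1, 1, 1, 2],
  [1, 0, 0, 1, 1, 0, 0, 1, 1, 0],
  [0, 0, 1, 0, 0, 1, 1, 0, 0, 1],
  [0, 1, 1, 0, 0, 1, 1, 0, 0, 1],
  [0, 1, 0, 0, 1, 1, 0, 0, 1, 1],
  [0, 0, 1, 0, 0, 1, 1, 0, 0, 2],
  [0, 0, 1, 1, 0, 0, 1, 1, 0, 2],
  [0, 0, 1, 0, 0, 1, 1, 1, 0, 2],
  [1, 0, 0, 1, 1, 0, 0, 1, 1, 2]
]

theorem check : checkAll 64 3 R0 certs NF = true := by decide +kernel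

theorem NF_length : NF.length = 120 := by decide

abbrev rels : Set (FreeGroup (Fin 3)) :=
  {FreeGroup.of (0 : Fin 3) ^ 3, FreeGroup.of (1 : Fin 3) ^ 5, FreeGroup.of (2 : Fin 3) ^ 2,
    (FreeGroup.of (2 : Fin 3))⁻¹ * FreeGroup.of 0 * FreeGroup.of 2 * (FreeGroup.of (0 : Fin 3))⁻¹,
    (FreeGroup.of (2 : Fin 3))⁻¹ * FreeGroup.of 1 * FreeGroup.of 2 * (FreeGroup.of (1 : Fin 3))⁻¹,
    (FreeGroup.of (0 : Fin 3) * FreeGroup.of 1) ^ 2 * (FreeGroup.of (2 : Fin 3))⁻¹}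

abbrev P := PresentedGroup rels

def gen : ℕ → P := fun i =>
  if i = 0 then PresentedGroup.of 0 else if i = 1 then PresentedGroup.of 1
  else if i = 2 then PresentedGroup.of 2 else 1

theorem rel0 : (PresentedGroup.of 0 : P) ^ 3 = 1 := by
  have h : (FreeGroup.of (0 : Fin 3) ^ 3) ∈ rels := by simp [rels]
  have := PresentedGroup.one_of_mem h
  simpa [PresentedGroup.of] using this

theorem rel1 : (PresentedGroup.of 1 : P) ^ 5 = 1 := by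
  have h : (FreeGroup.of (1 : Fin 3) ^ 5) ∈ rels := by simp [rels]
  have := PresentedGroup.one_of_mem h
  simpa [PresentedGroup.of] using this

theorem rel2 : (PresentedGroup.of 2 : P) ^ 2 = 1 := by
  have h : (FreeGroup.of (2 : Fin 3) ^ 2) ∈ rels := by simp [rels]
  have := PresentedGroup.one_of_mem h
  simpa [PresentedGroup.of] using this

theorem rel3 : (PresentedGroup.of 2 : P) * PresentedGroup.of 0 = PresentedGroup.of 0 * PresentedGroup.of 2 := by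
  have h : ((FreeGroup.of (2 : Fin 3))⁻¹ * FreeGroup.of 0 * FreeGroup.of 2 *
      (FreeGroup.of (0 : Fin 3))⁻¹) ∈ rels := by simp [rels]
  have := PresentedGroup.one_of_mem h
  have h2 : (PresentedGroup.of 2 : P)⁻¹ * PresentedGroup.of 0 * PresentedGroup.of 2 *
      (PresentedGroup.of 0)⁻¹ = 1 := by simpa [PresentedGroup.of] using this
  have h3 : (PresentedGroup.of 0 : P) * PresentedGroup.of 2 =
      PresentedGroup.of 2 * ((PresentedGroup.of 2 : P)⁻¹ * PresentedGroup.of 0 * PresentedGroup.of 2 *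
      (PresentedGroup.of 0)⁻¹) * PresentedGroup.of 0 := by group
  rw [h3, h2, mul_one]

theorem rel4 : (PresentedGroup.of 2 : P) * PresentedGroup.of 1 = PresentedGroup.of 1 * PresentedGroup.of 2 := by
  have h : ((FreeGroup.of (2 : Fin 3))⁻¹ * FreeGroup.of 1 * FreeGroup.of 2 *
      (FreeGroup.of (1 : Fin 3))⁻¹) ∈ rels := by simp [rels]
  have := PresentedGroup.one_of_mem h
  have h2 : (PresentedGroup.of 2 : P)⁻¹ * PresentedGroup.of 1 * PresentedGroup.of 2 *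
      (PresentedGroup.of 1)⁻¹ = 1 := by simpa [PresentedGroup.of] using this
  have h3 : (PresentedGroup.of 1 : P) * PresentedGroup.of 2 =
      PresentedGroup.of 2 * ((PresentedGroup.of 2 : P)⁻¹ * PresentedGroup.of 1 * PresentedGroup.of 2 *
      (PresentedGroup.of 1)⁻¹) * PresentedGroup.of 1 := by group
  rw [h3, h2, mul_one]

theorem rel5 : ((PresentedGroup.of 0 : P) * PresentedGroup.of 1) ^ 2 = PresentedGroup.of 2 := by
  have h : ((FreeGroup.of (0 : Fin 3) * FreeGroup.of 1) ^ 2 * (FreeGroup.of (2 : Fin 3))⁻¹) ∈ rels := by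
    simp [rels]
  have := PresentedGroup.one_of_mem h
  have h2 : ((PresentedGroup.of 0 : P) * PresentedGroup.of 1) ^ 2 * (PresentedGroup.of 2)⁻¹ = 1 := by
    simpa [PresentedGroup.of] using this
  exact mul_inv_eq_one.mp h2

theorem valid_R0 : Valid gen R0 := by
  intro p hp
  simp only [R0, List.mem_cons, List.not_mem_nil, or_false] at hp
  rcases hp with rfl | rfl | rfl | rfl | rfl | rfl
  · simp only [ev_cons, ev_nil, gen, if_true, mul_one]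
    rw [← rel0]; simp [pow_succ, mul_assoc]
  · simp only [ev_cons, ev_nil, gen, if_true, mul_one]
    rw [← rel1]; simp [pow_succ, mul_assoc]
  · simp only [ev_cons, ev_nil, gen]
    simp only [show ((2 : ℕ) = 0) = False by simp, show ((2 : ℕ) = 1) = False by simp, if_false, if_true, mul_one]
    rw [← rel2]; simp [pow_succ]
  · simp only [ev_cons, ev_nil, gen]
    simp only [show ((2 : ℕ) = 0) = False by simp, show ((2 : ℕ) = 1) = False by simp, if_false, if_true, mul_one]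
    exact rel3
  · simp only [ev_cons, ev_nil, gen]
    simp only [show ((2 : ℕ) = 0) = False by simp, show ((2 : ℕ) = 1) = False by simp,
      show ((1 : ℕ) = 0) = False by simp, if_false, if_true, mul_one]
    exact rel4
  · simp only [ev_cons, ev_nil, gen]
    simp only [show ((2 : ℕ) = 0) = False by simp, show ((2 : ℕ) = 1) = False by simp,
      show ((1 : ℕ) = 0) = False by simp, if_false, if_true, mul_one]
    rw [← rel5]; simp [pow_succ, mul_assoc]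

theorem gen_closure : Subgroup.closure (gen '' {i | i < 3}) = ⊤ := by
  rw [eq_top_iff, ← PresentedGroup.closure_range_of rels]
  apply Subgroup.closure_mono
  rintro _ ⟨i, rfl⟩
  fin_cases i
  · exact ⟨0, by simp, by simp [gen]⟩
  · exact ⟨1, by simp, by simp [gen]⟩
  · exact ⟨2, by simp, by simp [gen]⟩

theorem P_card : Finite P ∧ Nat.card P ≤ 120 := by
  have := card_le_of_checkAll gen 64 3 R0 certs NF valid_R0 check gen_closure
  rwa [NF_length] at this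

section Lift
variable {H : Type*} [Group H] (a b c : H)

theorem lift_rels (ha : a ^ 3 = 1) (hb : b ^ 5 = 1) (hc : c ^ 2 = 1) (hca : c * a = a * c)
    (hcb : c * b = b * c) (hab : (a * b) ^ 2 = c) :
    ∀ r ∈ rels, FreeGroup.lift ![a, b, c] r = 1 := by
  intro r hr
  simp only [rels, Set.mem_insert_iff, Set.mem_singleton_iff] at hr
  rcases hr with rfl | rfl | rfl | rfl | rfl | rfl
  · simpa using ha
  · simpa using hb
  · simpa using hc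
  · simp only [map_mul, map_inv, FreeGroup.lift_apply_of, Matrix.cons_val_zero, Matrix.cons_val]
    rw [mul_assoc c⁻¹, ← hca]; group
  · simp only [map_mul, map_inv, FreeGroup.lift_apply_of, Matrix.cons_val]
    rw [mul_assoc c⁻¹, ← hcb]; group
  · simp only [map_mul, map_inv, map_pow, FreeGroup.lift_apply_of, Matrix.cons_val_zero, Matrix.cons_val]
    rw [hab]; group

/-- the homomorphism from the presented group determined by `x ↦ a, y ↦ b, z ↦ c` -/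
def liftHom (ha : a ^ 3 = 1) (hb : b ^ 5 = 1) (hc : c ^ 2 = 1) (hca : c * a = a * c)
    (hcb : c * b = b * c) (hab : (a * b) ^ 2 = c) : P →* H :=
  PresentedGroup.toGroup (lift_rels a b c ha hb hc hca hcb hab)

variable (ha : a ^ 3 = 1) (hb : b ^ 5 = 1) (hc : c ^ 2 = 1) (hca : c * a = a * c)
    (hcb : c * b = b * c) (hab : (a * b) ^ 2 = c)

theorem liftHom_of0 : liftHom a b c ha hb hc hca hcb hab (PresentedGroup.of 0) = a := by
  simp [liftHom]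
theorem liftHom_of1 : liftHom a b c ha hb hc hca hcb hab (PresentedGroup.of 1) = b := by
  simp [liftHom]
theorem liftHom_of2 : liftHom a b c ha hb hc hca hcb hab (PresentedGroup.of 2) = c := by
  simp [liftHom]

/-- if the images generate, the lift is surjective, hence (by the order bound) an isomorphism as soon
as `H` has at least 120 elements -/
theorem liftHom_bijective [Finite H] (hH : 120 ≤ Nat.card H)
    (hgen : Subgroup.closure ({a, b, c} : Set H) = ⊤) :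
    Function.Bijective (liftHom a b c ha hb hc hca hcb hab) := by
  obtain ⟨hfin, hcard⟩ := P_card
  have hsurj : Function.Surjective (liftHom a b c ha hb hc hca hcb hab) := by
    rw [← MonoidHom.range_eq_top, eq_top_iff, ← hgen, Subgroup.closure_le]
    intro x hx
    simp only [Set.mem_insert_iff, Set.mem_singleton_iff] at hx
    rcases hx with h | h | h
    · rw [h]; exact ⟨_, liftHom_of0 a b c ha hb hc hca hcb hab⟩
    · rw [h]; exact ⟨_, liftHom_of1 a b c ha hb hc hca hcb hab⟩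
    · rw [h]; exact ⟨_, liftHom_of2 a b c ha hb hc hca hcb hab⟩
  exact Function.Surjective.bijective_of_nat_card_le hsurj (le_trans hcard hH)

end Lift

section SL
open Matrix Cfsg.Agent.Lib.Helper07

local instance fact_prime_five : Fact (Nat.Prime 5) := ⟨by norm_num⟩

def Xm : Matrix (Fin 2) (Fin 2) (ZMod 5) := !![0, -1; 1, -1]
def Zm : Matrix (Fin 2) (Fin 2) (ZMod 5) := !![-1, 0; 0, -1]
def X5 : SpecialLinearGroup (Fin 2) (ZMod 5) := ⟨Xm, by decide⟩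
def Z5 : SpecialLinearGroup (Fin 2) (ZMod 5) := ⟨Zm, by decide⟩
def Y5 : SpecialLinearGroup (Fin 2) (ZMod 5) := upSL 1

theorem X5_pow : X5 ^ 3 = 1 := by apply Subtype.ext; decide
theorem Y5_pow : Y5 ^ 5 = 1 := by apply Subtype.ext; decide
theorem Z5_pow : Z5 ^ 2 = 1 := by apply Subtype.ext; decide
theorem Z5_X5 : Z5 * X5 = X5 * Z5 := by apply Subtype.ext; decide
theorem Z5_Y5 : Z5 * Y5 = Y5 * Z5 := by apply Subtype.ext; decide
theorem X5_Y5 : (X5 * Y5) ^ 2 = Z5 := by apply Subtype.ext; decide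
theorem Y5_ne : Y5 ≠ 1 := by
  intro h; have := congrArg Subtype.val h; revert this; decide

theorem card_SL25 : Nat.card (SpecialLinearGroup (Fin 2) (ZMod 5)) = 120 := by
  rw [card_SL_two', ZMod.card]; norm_num

theorem gen_SL25 : Subgroup.closure ({X5, Y5, Z5} : Set (SpecialLinearGroup (Fin 2) (ZMod 5))) = ⊤ := by
  set R := Subgroup.closure ({X5, Y5, Z5} : Set (SpecialLinearGroup (Fin 2) (ZMod 5))) with hR
  have hX : X5 ∈ R := Subgroup.subset_closure (by simp)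
  have hY : Y5 ∈ R := Subgroup.subset_closure (by simp)
  have hU : (USL : Subgroup (SpecialLinearGroup (Fin 2) (ZMod 5))) ≤ R := by
    have h1 : Subgroup.zpowers Y5 ≤ USL := by
      rw [Subgroup.zpowers_le]; exact upSL_mem 1
    have h2 : Nat.card (Subgroup.zpowers Y5) = 5 := by
      rw [Nat.card_zpowers, orderOf_eq_prime Y5_pow Y5_ne]
    have h3 : Subgroup.zpowers Y5 = USL := by
      apply Subgroup.eq_of_le_of_card_ge h1
      rw [h2, card_USL, ZMod.card]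
    rw [← h3, Subgroup.zpowers_le]; exact hY
  have hW : X5 * Y5 ∉ (borelSL : Subgroup (SpecialLinearGroup (Fin 2) (ZMod 5))) := by
    rw [mem_borelSL]; decide
  have htop := USL_sup_conj_eq_top hW
  rw [eq_top_iff, ← htop]
  apply sup_le hU
  intro x hx
  rw [Subgroup.mem_pointwise_smul_iff_inv_smul_mem] at hx
  rw [MulAut.smul_def, MulAut.conj_inv_apply] at hx
  have hx' : (X5 * Y5)⁻¹ * x * (X5 * Y5) ∈ (USL : Subgroup (SpecialLinearGroup (Fin 2) (ZMod 5))) := hx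
  have hWR : X5 * Y5 ∈ R := R.mul_mem hX hY
  have : x = (X5 * Y5) * ((X5 * Y5)⁻¹ * x * (X5 * Y5)) * (X5 * Y5)⁻¹ := by group
  rw [this]
  exact R.mul_mem (R.mul_mem hWR (hU hx')) (R.inv_mem hWR)

/-- the presented group is `SL(2,5)` -/
noncomputable def equivSL : P ≃* SpecialLinearGroup (Fin 2) (ZMod 5) :=
  MulEquiv.ofBijective _ (liftHom_bijective X5 Y5 Z5 X5_pow Y5_pow Z5_pow Z5_X5 Z5_Y5 X5_Y5
    (by rw [card_SL25]) gen_SL25)

end SL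

end Cfsg.Agent.Lib.Helper62.SL25Pres
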