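import Mathlib
import Cfsg.Prelude.Def_OddOrderLocal
import Cfsg.Prelude.Def_Solvable
import Cfsg.Agent.Lib.Helper01.CoprimeSylow

/-!
K-S4118-9 (keystone 411809): local-to-global for coprime action on a solvable group.
-/

set_option autoImplicit false

namespace Cfsg.Agent.Lib.Helper62.TIHall

open scoped commutatorElement

/-- K9. Local-to-global for coprime action on a solvable group: if `[T,T]` centralizes every
`T`-invariant `p`-subgroup of `H` (all `p`), then `[T,T]` centralizes `H`. -/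
theorem commutator_le_centralizer_of_coprime {G : Type*} [Group G] [Finite G] (H T : Subgroup G)
    (hTH : T ≤ Subgroup.normalizer (H : Set G)) (hcop : (Nat.card T).Coprime (Nat.card H))
    (hsolv : Group.IsSolvable H)
    (hloc : ∀ (p : ℕ) [Fact p.Prime] (P : Subgroup G), P ≤ H → IsPGroup p P →
      T ≤ Subgroup.normalizer (P : Set G) → ⁅T, T⁆ ≤ Subgroup.centralizer (P : Set G)) :
    ⁅T, T⁆ ≤ Subgroup.centralizer (H : Set G) := by
  rw [Subgroup.le_centralizer_iff]
  -- `H' = H ⊓ C_G([T,T])`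
  set C : Subgroup G := Subgroup.centralizer ((⁅T, T⁆ : Subgroup G) : Set G) with hC
  have hrel : (H ⊓ C).relIndex H = 1 := by
    by_contra hne
    obtain ⟨p, hp, hpd⟩ := Nat.exists_prime_and_dvd hne
    have : Fact p.Prime := ⟨hp⟩
    obtain ⟨P, hP, hTP⟩ := Cfsg.Agent.Lib.Helper01.exists_invariant_isSylowIn (A := T) (K := H) p hTH hcop
      (Or.inr hsolv)
    obtain ⟨hPH, hPp, hPidx⟩ := hP
    have h1 : ⁅T, T⁆ ≤ Subgroup.centralizer (P : Set G) := hloc p P hPH hPp hTP
    have h2 : P ≤ C := by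
      rw [hC, Subgroup.le_centralizer_iff]
      exact h1
    have h3 : P ≤ H ⊓ C := le_inf hPH h2
    have h4 : P.relIndex (H ⊓ C) * (H ⊓ C).relIndex H = P.relIndex H :=
      Subgroup.relIndex_mul_relIndex P (H ⊓ C) H h3 inf_le_left
    apply hPidx
    rw [← h4]
    exact Dvd.dvd.mul_left hpd _
  have h5 : H ≤ H ⊓ C := Subgroup.relIndex_eq_one.mp hrel
  exact h5.trans inf_le_right

end Cfsg.Agent.Lib.Helper62.TIHall
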