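import Mathlib
import Cfsg.Agent.Lib.Helper17.PG7920Defs

/-!
K-PG-GEN (keystone 249001): a normal subgroup `N` with `t ∤ |N|`, `s^a ∥ |N|`, `t^j ∣ |G|`,
`t^j ∤ s^a - 1` forces an element of order `t * s` (Frattini + Burnside counting on a Sylow `s`-subgroup).
-/

set_option autoImplicit false

namespace Cfsg.Agent.Lib.Helper62.PG7920

open MulAction

/-- Burnside count for an action on a finite group-like set with a distinguished fixed point: if every
non-identity element of the finite group `S` fixes exactly one point of `X`, then `|S| ∣ |X| - 1`. -/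
theorem card_dvd_card_sub_one_of_unique_fixed {S X : Type*} [Group S] [Finite S] [MulAction S X] [Finite X]
    (h : ∀ x : S, x ≠ 1 → Nat.card (fixedBy X x) = 1) : Nat.card S ∣ Nat.card X - 1 := by
  classical
  have : Fintype S := Fintype.ofFinite S
  have : Fintype X := Fintype.ofFinite X
  have : ∀ g : S, Fintype (fixedBy X g) := fun g => Fintype.ofFinite _
  have : Fintype (Quotient (orbitRel S X)) := Fintype.ofFinite _
  have hB := sum_card_fixedBy_eq_card_orbits_mul_card_group S X
  have h1 : Fintype.card (fixedBy X (1 : S)) = Fintype.card X := by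
    apply Fintype.card_congr
    exact Equiv.subtypeUnivEquiv (fun z => by simp)
  have h2 : ∑ g ∈ (Finset.univ : Finset S).erase 1, Fintype.card (fixedBy X g) = Fintype.card S - 1 := by
    rw [Finset.sum_congr rfl (g := fun _ => 1)]
    · simp [Finset.card_erase_of_mem]
    · intro g hg
      have hg1 : g ≠ 1 := Finset.ne_of_mem_erase hg
      rw [Fintype.card_eq_nat_card]
      exact h g hg1
  rw [← Finset.add_sum_erase Finset.univ _ (Finset.mem_univ (1 : S)), h1, h2] at hB
  rw [Nat.card_eq_fintype_card, Nat.card_eq_fintype_card]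
  have hSpos : 0 < Fintype.card S := Fintype.card_pos
  set k := Fintype.card (Quotient (orbitRel S X)) with hk
  have hd1 : Fintype.card S ∣ k * Fintype.card S := Dvd.intro_left _ rfl
  have hd2 : Fintype.card S ∣ k * Fintype.card S - Fintype.card S := Nat.dvd_sub hd1 (dvd_refl _)
  have hX : Fintype.card X - 1 = k * Fintype.card S - Fintype.card S := by omega
  rw [hX]
  exact hd2

/-- 249001 K-PG-GEN. -/
theorem exists_orderOf_eq_mul_of_normal {G : Type*} [Group G] [Finite G]
    (N : Subgroup G) [N.Normal] (t s j a : ℕ) (ht : t.Prime) (hs : s.Prime)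
    (htN : ¬ t ∣ Nat.card N) (htG : t ^ j ∣ Nat.card G)
    (ha : 0 < a) (hsa : s ^ a ∣ Nat.card N) (hsa' : ¬ s ^ (a + 1) ∣ Nat.card N)
    (hnd : ¬ t ^ j ∣ s ^ a - 1) : ∃ g : G, orderOf g = t * s := by
  classical
  have : Fact t.Prime := ⟨ht⟩
  have : Fact s.Prime := ⟨hs⟩
  have hsN : s ∣ Nat.card N := (dvd_pow_self s ha.ne').trans hsa
  have hts : t ≠ s := fun h => htN (h ▸ hsN)
  have hcop : Nat.Coprime t s := (Nat.coprime_primes ht hs).mpr hts
  -- a Sylow `s`-subgroup of `N`, viewed in `G`
  let Q₀ : Sylow s ↥N := default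
  set Q : Subgroup G := (Q₀ : Subgroup N).map N.subtype with hQ
  have hN0 : Nat.card N ≠ 0 := Nat.card_pos.ne'
  have hfac : (Nat.card N).factorization s = a := by
    have h1 : a ≤ (Nat.card N).factorization s := (hs.pow_dvd_iff_le_factorization hN0).mp hsa
    have h2 : ¬ a + 1 ≤ (Nat.card N).factorization s := fun h =>
      hsa' ((hs.pow_dvd_iff_le_factorization hN0).mpr h)
    omega
  have hQcard : Nat.card Q = s ^ a := by
    rw [hQ, Subgroup.card_map_of_injective N.subtype_injective, Sylow.card_eq_multiplicity, hfac]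
  have hQp : IsPGroup s Q := Q₀.isPGroup'.map N.subtype
  -- Frattini: `t^j ∣ |N_G(Q)|`
  have hfrat : Subgroup.normalizer (Q : Set G) ⊔ N = ⊤ := Sylow.normalizer_sup_eq_top Q₀
  set A : Subgroup G := Subgroup.normalizer (Q : Set G) with hA
  have hidx : N.index = N.relIndex A := by
    rw [← Subgroup.relIndex_sup_right (K := N) (H := A), hfrat, Subgroup.relIndex_top_right]
  have htA : t ^ j ∣ Nat.card A := by
    have h1 : t ^ j ∣ Nat.card N * N.index := by rw [N.card_mul_index]; exact htG
    have h2 : Nat.Coprime (t ^ j) (Nat.card N) :=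
      Nat.Coprime.pow_left j ((Nat.Prime.coprime_iff_not_dvd ht).mpr htN)
    have h3 : t ^ j ∣ N.index := h2.dvd_of_dvd_mul_left h1
    rw [hidx] at h3
    exact h3.trans (Subgroup.relIndex_dvd_card N A)
  obtain ⟨S, hScard⟩ := Sylow.exists_subgroup_card_pow_prime t htA
  have hSp : IsPGroup t S := IsPGroup.of_card hScard
  -- a commuting pair
  have hpair : ∃ x : S, x ≠ 1 ∧ ∃ z : Q, z ≠ 1 ∧ ((x : A) : G) * (z : G) * ((x : A) : G)⁻¹ = (z : G) := by
    by_contra hno
    push Not at hno
    apply hnd
    have hfix : ∀ x : S, x ≠ 1 → Nat.card (fixedBy Q x) = 1 := by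
      intro x hx
      rw [Nat.card_eq_one_iff_unique]
      refine ⟨⟨?_⟩, ⟨⟨1, ?_⟩⟩⟩
      · rintro ⟨z, hz⟩ ⟨z', hz'⟩
        have e1 : z = 1 := by
          by_contra hz1
          apply hno x hx z hz1
          have := congrArg (fun q : Q => (q : G)) hz
          exact this
        have e2 : z' = 1 := by
          by_contra hz1
          apply hno x hx z' hz1
          have := congrArg (fun q : Q => (q : G)) hz'
          exact this
        exact Subtype.ext (e1.trans e2.symm)
      · rw [mem_fixedBy]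
        exact smul_one x
    have := card_dvd_card_sub_one_of_unique_fixed (S := S) (X := Q) hfix
    rwa [hScard, hQcard] at this
  obtain ⟨x, hx1, z, hz1, hxz⟩ := hpair
  -- orders
  obtain ⟨k, hk⟩ := (IsPGroup.iff_orderOf.mp hSp) x
  obtain ⟨l, hl⟩ := (IsPGroup.iff_orderOf.mp hQp) z
  have hk0 : k ≠ 0 := by
    rintro rfl
    rw [pow_zero, orderOf_eq_one_iff] at hk
    exact hx1 hk
  have hl0 : l ≠ 0 := by
    rintro rfl
    rw [pow_zero, orderOf_eq_one_iff] at hl
    exact hz1 hl
  set xg : G := ((x : A) : G) with hxg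
  set zg : G := (z : G) with hzg
  have hox : orderOf xg = t ^ k := by
    rw [hxg, Subgroup.orderOf_coe, Subgroup.orderOf_coe, hk]
  have hoz : orderOf zg = s ^ l := by
    rw [hzg, Subgroup.orderOf_coe, hl]
  have hcomm : Commute xg zg := by
    have : xg * zg * xg⁻¹ = zg := hxz
    rw [Commute, SemiconjBy]
    calc xg * zg = xg * zg * xg⁻¹ * xg := by group
      _ = zg * xg := by rw [this]
  have hox' : orderOf (xg ^ (orderOf xg / t)) = t :=
    orderOf_pow_orderOf_div (by rw [hox]; exact pow_ne_zero _ ht.ne_zero)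
      (by rw [hox]; exact dvd_pow_self t hk0)
  have hoz' : orderOf (zg ^ (orderOf zg / s)) = s :=
    orderOf_pow_orderOf_div (by rw [hoz]; exact pow_ne_zero _ hs.ne_zero)
      (by rw [hoz]; exact dvd_pow_self s hl0)
  have hcomm' : Commute (xg ^ (orderOf xg / t)) (zg ^ (orderOf zg / s)) := hcomm.pow_pow _ _
  refine ⟨xg ^ (orderOf xg / t) * zg ^ (orderOf zg / s), ?_⟩
  rw [hcomm'.orderOf_mul_eq_mul_orderOf_of_coprime (by rw [hox', hoz']; exact hcop), hox', hoz']

end Cfsg.Agent.Lib.Helper62.PG7920
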