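import Mathlib

/-!
# Keystone 271901 (K-S2719-P): pure group theory.
`D ≤ N` normal in `X`, `|N : D| = 2`, `X/N` generated by the class of `ψ` of order `f`, `ψ^f ∈ N ∖ D`:
every `γ` with `γ² ∈ D` lies in `N`.
-/

set_option autoImplicit false

namespace Cfsg.Agent.Lib.Helper62.S2719K

set_option linter.unusedVariables false in
theorem mem_of_sq_mem {X : Type*} [Group X] (N D : Subgroup X) [N.Normal] [D.Normal] (hDN : D ≤ N)
    (h2 : D.relIndex N = 2) (ψ : X) {f : ℕ} (hf : 0 < f)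
    (hgen : ∀ x : X, ∃ k : ℕ, ∃ n ∈ N, x = ψ ^ k * n)
    (hord : ∀ k : ℕ, ψ ^ k ∈ N → f ∣ k)
    (hψf : ψ ^ f ∈ N) (hψD : ψ ^ f ∉ D)
    (γ : X) (hγ : γ * γ ∈ D) : γ ∈ N := by
  have hNn : N.Normal := inferInstance
  have hDn : D.Normal := inferInstance
  -- the index two lemma, inside `N`
  have K : ∀ a ∈ N, ∀ b ∈ N, (a * b ∈ D ↔ (a ∈ D ↔ b ∈ D)) := by
    intro a ha b hb
    have h := Subgroup.mul_mem_iff_of_index_two (H := D.subgroupOf N) h2
      (a := (⟨a, ha⟩ : ↥N)) (b := (⟨b, hb⟩ : ↥N))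
    simpa [Subgroup.mem_subgroupOf] using h
  obtain ⟨k, n, hn, rfl⟩ := hgen γ
  set x := ψ ^ k with hx
  have hn' : x⁻¹ * n * x ∈ N := by
    have h := hNn.conj_mem n hn x⁻¹
    simpa using h
  have hdecomp : x * n * (x * n) = (x * x) * ((x⁻¹ * n * x) * n) := by group
  have hnn : (x⁻¹ * n * x) * n ∈ D := by
    rw [K _ hn' _ hn]
    constructor
    · intro h
      have h' := hDn.conj_mem _ h x
      simpa [mul_assoc] using h'
    · intro h
      have h' := hDn.conj_mem _ h x⁻¹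
      simpa using h'
  have hxx : x * x ∈ D := by
    rw [hdecomp] at hγ
    exact (Subgroup.mul_mem_cancel_right D hnn).mp hγ
  have hxx2 : ψ ^ (2 * k) ∈ N := by
    rw [two_mul, pow_add]; exact hDN hxx
  obtain ⟨j, hj⟩ := hord _ hxx2
  rcases Nat.even_or_odd j with ⟨i, hi⟩ | ⟨i, hi⟩
  · have hk : k = f * i := by
      have h1 : f * (i + i) = 2 * (f * i) := by ring
      rw [hi, h1] at hj
      omega
    have hxi : x = (ψ ^ f) ^ i := by rw [hx, hk, pow_mul]
    rw [hxi]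
    exact N.mul_mem (N.pow_mem hψf i) hn
  · exfalso
    have hxx' : x * x = ((ψ ^ f) * (ψ ^ f)) ^ i * ψ ^ f := by
      rw [hx, ← pow_add, ← two_mul, hj, hi, pow_mul, pow_succ, pow_mul, pow_two]
    have ha2 : ψ ^ f * ψ ^ f ∈ D := (K _ hψf _ hψf).mpr Iff.rfl
    rw [hxx'] at hxx
    exact hψD ((Subgroup.mul_mem_cancel_left D (D.pow_mem ha2 i)).mp hxx)

end Cfsg.Agent.Lib.Helper62.S2719K
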