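import Mathlib

/-!
# Recognition of `PSL(2,p)` among simple groups of order `p (p^2-1) / 2` (helper62)

`X = Option (ZMod p)` is the projective line (`none` is the point at infinity).  A *candidate*
is a subgroup of `Perm X` of order `(p+1) p h` (`p = 2h+1`) that is transitive and contains the
translation `c0 : x ↦ x + 1`.  We show that the stabiliser of `none` in a candidate is the group
of maps `x ↦ u x + b` with `u ^ h = 1`, and (using a kernel-checked table over `ZMod p`) that a
simple candidate contains `x ↦ -1/x`; hence any two simple candidates are equal, and any two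
simple groups of that order are isomorphic.
-/

namespace Cfsg.Agent.Lib.Helper62.PSL2Recog

open Equiv

variable (p : ℕ)

/-- translation by one on the projective line -/
def c0 : Perm (Option (ZMod p)) := Equiv.optionCongr (Equiv.addRight (1 : ZMod p))

@[simp] theorem c0_none : c0 p none = none := rfl
@[simp] theorem c0_some (x : ZMod p) : c0 p (some x) = some (x + 1) := rfl

theorem c0_pow_none (k : ℕ) : (c0 p ^ k) none = none := by
  induction k with
  | zero => rfl
  | succ k ih => rw [pow_succ, Perm.mul_apply, c0_none, ih]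

theorem c0_pow_some (k : ℕ) (x : ZMod p) : (c0 p ^ k) (some x) = some (x + k) := by
  induction k generalizing x with
  | zero => simp
  | succ k ih => rw [pow_succ, Perm.mul_apply, c0_some, ih]; push_cast; ring_nf

/-- multiplication by a unit on the projective line -/
def mulPerm : (ZMod p)ˣ →* Perm (Option (ZMod p)) where
  toFun u := Equiv.optionCongr (MulAction.toPerm u)
  map_one' := by ext x; cases x <;> simp
  map_mul' u v := by ext x; cases x <;> simp [mul_smul]

@[simp] theorem mulPerm_none (u : (ZMod p)ˣ) : mulPerm p u none = none := rfl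
@[simp] theorem mulPerm_some (u : (ZMod p)ˣ) (x : ZMod p) :
    mulPerm p u (some x) = some ((u : ZMod p) * x) := rfl

/-- the affine map `x ↦ u x + b` -/
def aff [NeZero p] (u : (ZMod p)ˣ) (b : ZMod p) : Perm (Option (ZMod p)) :=
  c0 p ^ b.val * mulPerm p u

theorem aff_none [NeZero p] (u : (ZMod p)ˣ) (b : ZMod p) : aff p u b none = none := by
  simp [aff, c0_pow_none]

theorem aff_some [NeZero p] (u : (ZMod p)ˣ) (b x : ZMod p) :
    aff p u b (some x) = some ((u : ZMod p) * x + b) := by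
  simp [aff, c0_pow_some]

/-- the inversion `x ↦ -1/x` -/
def t0 [Fact p.Prime] : Perm (Option (ZMod p)) :=
  Function.Involutive.toPerm
    (fun x => match x with
      | none => some 0
      | some x => if x = 0 then none else some (-x⁻¹)) (by
    intro x
    cases x with
    | none => simp
    | some x =>
      by_cases hx : x = 0
      · simp [hx]
      · have : -x⁻¹ ≠ 0 := neg_ne_zero.mpr (inv_ne_zero hx)
        simp [hx, inv_neg])

theorem t0_none [Fact p.Prime] : t0 p none = some 0 := rfl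
theorem t0_zero [Fact p.Prime] : t0 p (some 0) = none := by
  simp [t0, Function.Involutive.toPerm]
theorem t0_some [Fact p.Prime] (x : ZMod p) (hx : x ≠ 0) : t0 p (some x) = some (-x⁻¹) := by
  simp [t0, Function.Involutive.toPerm, hx]

open MulAction

/-- In a group of order `p h` with `0 < h < p`, every element of order `p` is a power of a given
one. -/
theorem mem_zpowers_of_orderOf_eq {B : Type*} [Group B] [Finite B] (p h : ℕ) [Fact p.Prime]
    (hh : h < p) (hh0 : 0 < h) (hB : Nat.card B = p * h) (c d : B) (hc : orderOf c = p)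
    (hd : orderOf d = p) : d ∈ Subgroup.zpowers c := by
  have hp : p.Prime := Fact.out
  have hpg : ∀ x : B, orderOf x = p → IsPGroup p (Subgroup.zpowers x) := by
    intro x hx
    apply IsPGroup.of_card (n := 1)
    rw [Nat.card_zpowers, hx, pow_one]
  obtain ⟨P, hP⟩ := (hpg c hc).exists_le_sylow
  obtain ⟨Q, hQ⟩ := (hpg d hd).exists_le_sylow
  have hcardP : Nat.card P = p := by
    rw [Sylow.card_eq_multiplicity, hB, Nat.factorization_mul hp.ne_zero hh0.ne']
    rw [Finsupp.add_apply, hp.factorization_self,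
      Nat.factorization_eq_zero_of_not_dvd (fun hdvd => absurd (Nat.le_of_dvd hh0 hdvd) (by omega))]
    simp
  have hidx : (P : Subgroup B).index = h := by
    have := (P : Subgroup B).card_mul_index
    rw [hcardP, hB] at this
    exact Nat.eq_of_mul_eq_mul_left hp.pos this
  have h1 : Nat.card (Sylow p B) = 1 := by
    have hdvd : Nat.card (Sylow p B) ∣ h := hidx ▸ Sylow.card_dvd_index P
    have hmod := card_sylow_modEq_one p B
    have hle := Nat.le_of_dvd hh0 hdvd
    have : Nat.card (Sylow p B) % p = 1 % p := hmod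
    rw [Nat.mod_eq_of_lt (by omega), Nat.mod_eq_of_lt hp.one_lt] at this
    exact this
  have hPQ : Q = P := by
    have : Subsingleton (Sylow p B) := (Nat.card_eq_one_iff_unique.mp h1).1
    exact Subsingleton.elim _ _
  have hPc : (P : Subgroup B) = Subgroup.zpowers c := by
    symm
    apply Subgroup.eq_of_le_of_card_ge hP
    rw [hcardP, Nat.card_zpowers, hc]
  rw [← hPc, ← hPQ]
  exact hQ (Subgroup.mem_zpowers d)



section Cand

variable (p h : ℕ) [Fact p.Prime]

theorem orderOf_c0 : orderOf (c0 p) = p := by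
  apply orderOf_eq_prime
  · ext x
    cases x with
    | none => simp [c0_pow_none]
    | some x => simp [c0_pow_some]
  · intro h1
    have := congrArg (fun f : Perm (Option (ZMod p)) => f (some 0)) h1
    simp at this

/-- candidates: transitive subgroups of order `(p+1) p h` containing `c0` -/
structure IsCand (Γ : Subgroup (Perm (Option (ZMod p)))) : Prop where
  card : Nat.card Γ = (p + 1) * (p * h)
  c0_mem : c0 p ∈ Γ
  trans : ∀ x : Option (ZMod p), ∃ γ ∈ Γ, γ none = x

variable {p h} {Γ : Subgroup (Perm (Option (ZMod p)))}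

omit [Fact p.Prime] in
theorem IsCand.pretransitive (hΓ : IsCand p h Γ) : IsPretransitive Γ (Option (ZMod p)) := by
  constructor
  intro x y
  obtain ⟨γ, hγ, hx⟩ := hΓ.trans x
  obtain ⟨δ, hδ, hy⟩ := hΓ.trans y
  refine ⟨⟨δ * γ⁻¹, Γ.mul_mem hδ (Γ.inv_mem hγ)⟩, ?_⟩
  change (δ * γ⁻¹) x = y
  rw [← hx, ← hy]
  simp

theorem IsCand.card_stab (hΓ : IsCand p h Γ) :
    Nat.card (stabilizer Γ (none : Option (ZMod p))) = p * h := by
  have := hΓ.pretransitive
  have h1 := index_stabilizer_of_transitive Γ (none : Option (ZMod p))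
  have h2 := (stabilizer Γ (none : Option (ZMod p))).card_mul_index
  rw [h1, hΓ.card, Finite.card_option, Nat.card_zmod] at h2
  have hp : 0 < p + 1 := Nat.succ_pos _
  rw [mul_comm] at h2
  exact Nat.eq_of_mul_eq_mul_left hp h2



theorem IsCand.stab_affine (hΓ : IsCand p h Γ) (hh : h < p) (hh0 : 0 < h)
    (σ : Perm (Option (ZMod p))) (hσ : σ ∈ Γ) (hfix : σ none = none) :
    ∃ (u : (ZMod p)ˣ) (b : ZMod p), σ = aff p u b := by
  have hp : p.Prime := Fact.out
  -- the conjugate of `c0` by `σ` is a power of `c0`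
  obtain ⟨k, hk⟩ : ∃ k : ℕ, c0 p ^ k = σ * c0 p * σ⁻¹ := by
    let c' : stabilizer Γ (none : Option (ZMod p)) := ⟨⟨c0 p, hΓ.c0_mem⟩, by
      rw [mem_stabilizer_iff]; exact c0_none p⟩
    let σ' : stabilizer Γ (none : Option (ZMod p)) := ⟨⟨σ, hσ⟩, by
      rw [mem_stabilizer_iff]; exact hfix⟩
    have hc' : orderOf c' = p := by
      rw [← Subgroup.orderOf_coe, ← Subgroup.orderOf_coe]
      exact orderOf_c0 p
    have hd : orderOf (σ' * c' * σ'⁻¹) = p := by
      apply orderOf_eq_prime
      · have hcp : c' ^ p = 1 := orderOf_dvd_iff_pow_eq_one.mp (by rw [hc'])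
        rw [conj_pow, hcp]; simp
      · intro h1
        have : c' = 1 := by
          have := congrArg (fun z => σ'⁻¹ * z * σ') h1
          simpa [mul_assoc] using this
        rw [this, orderOf_one] at hc'
        exact hp.one_lt.ne hc'
    have hmem := mem_zpowers_of_orderOf_eq p h hh hh0 hΓ.card_stab c' _ hc' hd
    rw [← mem_powers_iff_mem_zpowers] at hmem
    obtain ⟨k, hk⟩ := hmem
    refine ⟨k, ?_⟩
    have := congrArg (fun z : stabilizer Γ (none : Option (ZMod p)) =>
      ((z : Γ) : Perm (Option (ZMod p)))) hk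
    simpa using this
  have hcomm : ∀ y, (c0 p ^ k) (σ y) = σ (c0 p y) := by
    intro y
    have := congrArg (fun f : Perm (Option (ZMod p)) => f (σ y)) hk
    simpa using this
  have hsome : ∀ x : ZMod p, ∃ y, σ (some x) = some y := by
    intro x
    rw [← Option.ne_none_iff_exists']
    intro hx
    have := σ.injective (hx.trans hfix.symm)
    simp at this
  choose f hf using hsome
  have hstep : ∀ x : ZMod p, f (x + 1) = f x + k := by
    intro x
    have := hcomm (some x)
    rw [hf, c0_pow_some, c0_some, hf] at this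
    exact (Option.some_injective _ this).symm
  have hnat : ∀ n : ℕ, f (n : ZMod p) = f 0 + k * n := by
    intro n
    induction n with
    | zero => simp
    | succ n ih => push_cast; rw [hstep, ih]; ring
  have hall : ∀ x : ZMod p, f x = f 0 + k * x := by
    intro x
    have := hnat x.val
    rwa [ZMod.natCast_zmod_val] at this
  have hk0 : (k : ZMod p) ≠ 0 := by
    intro hk0
    have h1 := hall 1
    rw [hk0, zero_mul, add_zero] at h1
    have : σ (some 1) = σ (some 0) := by rw [hf, hf, h1]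
    have := σ.injective this
    simp at this
  refine ⟨Units.mk0 (k : ZMod p) hk0, f 0, ?_⟩
  ext1 x
  cases x with
  | none => rw [hfix, aff_none]
  | some x => rw [hf, aff_some, hall, Units.val_mk0, add_comm]



theorem aff_mem_iff (hΓ : IsCand p h Γ) (u : (ZMod p)ˣ) (b : ZMod p) :
    aff p u b ∈ Γ ↔ mulPerm p u ∈ Γ := by
  unfold aff
  constructor
  · intro hm
    have := Γ.mul_mem (Γ.inv_mem (Γ.pow_mem hΓ.c0_mem b.val)) hm
    simpa using this
  · intro hm
    exact Γ.mul_mem (Γ.pow_mem hΓ.c0_mem _) hm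

theorem aff_injective {u u' : (ZMod p)ˣ} {b b' : ZMod p} (hab : aff p u b = aff p u' b') :
    u = u' ∧ b = b' := by
  have h0 := congrArg (fun f : Perm (Option (ZMod p)) => f (some 0)) hab
  have h1 := congrArg (fun f : Perm (Option (ZMod p)) => f (some 1)) hab
  simp only [aff_some, mul_zero, zero_add, mul_one, Option.some.injEq] at h0 h1
  subst h0
  exact ⟨Units.ext (add_right_cancel h1), rfl⟩

theorem IsCand.card_units (hΓ : IsCand p h Γ) (hh : h < p) (hh0 : 0 < h) :
    Nat.card (Γ.comap (mulPerm p)) = h := by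
  have hp : p.Prime := Fact.out
  let φ : (Γ.comap (mulPerm p)) × ZMod p → stabilizer Γ (none : Option (ZMod p)) :=
    fun ub => ⟨⟨aff p ub.1 ub.2, (aff_mem_iff hΓ _ _).mpr ub.1.2⟩, by
      rw [mem_stabilizer_iff]; exact aff_none p _ _⟩
  have hφ : Function.Bijective φ := by
    constructor
    · rintro ⟨u, b⟩ ⟨u', b'⟩ hub
      have := congrArg (fun z : stabilizer Γ (none : Option (ZMod p)) =>
        ((z : Γ) : Perm (Option (ZMod p)))) hub
      obtain ⟨h1, h2⟩ := aff_injective this
      exact Prod.ext (Subtype.ext h1) h2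
    · rintro ⟨⟨σ, hσ⟩, hfix⟩
      rw [mem_stabilizer_iff] at hfix
      obtain ⟨u, b, hub⟩ := hΓ.stab_affine hh hh0 σ hσ hfix
      refine ⟨(⟨u, ?_⟩, b), ?_⟩
      · rw [Subgroup.mem_comap, ← aff_mem_iff hΓ u b, ← hub]; exact hσ
      · apply Subtype.ext; apply Subtype.ext; exact hub.symm
  have hc := Nat.card_congr (Equiv.ofBijective φ hφ)
  rw [Nat.card_prod, Nat.card_zmod, hΓ.card_stab, mul_comm] at hc
  exact Nat.eq_of_mul_eq_mul_left hp.pos hc

theorem IsCand.mem_iff_pow (hΓ : IsCand p h Γ) (hh : h < p) (hh0 : 0 < h) (u : (ZMod p)ˣ) :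
    mulPerm p u ∈ Γ ↔ u ^ h = 1 := by
  classical
  have hcard := hΓ.card_units hh hh0
  have hsub : ((Γ.comap (mulPerm p) : Subgroup (ZMod p)ˣ) : Set (ZMod p)ˣ) ⊆
      ((Finset.univ.filter (fun a : (ZMod p)ˣ => a ^ h = 1) : Finset (ZMod p)ˣ) : Set (ZMod p)ˣ) := by
    intro a ha
    have := pow_card_eq_one' (G := Γ.comap (mulPerm p)) (x := ⟨a, ha⟩)
    rw [hcard] at this
    have := congrArg (fun z : Γ.comap (mulPerm p) => (z : (ZMod p)ˣ)) this
    simpa using this
  have hle : ((Finset.univ.filter (fun a : (ZMod p)ˣ => a ^ h = 1) : Finset (ZMod p)ˣ) :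
      Set (ZMod p)ˣ).ncard ≤
      ((Γ.comap (mulPerm p) : Subgroup (ZMod p)ˣ) : Set (ZMod p)ˣ).ncard := by
    rw [Set.ncard_coe_finset]
    have : ((Γ.comap (mulPerm p) : Subgroup (ZMod p)ˣ) : Set (ZMod p)ˣ).ncard = h := by
      rw [← hcard]; exact (Nat.card_coe_set_eq _).symm
    rw [this]
    exact IsCyclic.card_pow_eq_one_le hh0
  have heq := Set.eq_of_subset_of_ncard_le hsub hle (Set.toFinite _)
  have : u ∈ ((Γ.comap (mulPerm p) : Subgroup (ZMod p)ˣ) : Set (ZMod p)ˣ) ↔ u ^ h = 1 := by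
    rw [heq]; simp
  simpa using this



theorem c0_pow_val_some (z x : ZMod p) : (c0 p ^ z.val) (some x) = some (x + z) := by
  rw [c0_pow_some, ZMod.natCast_zmod_val]

theorem IsCand.exists_invol (hΓ : IsCand p h Γ) (hp2 : p = 2 * h + 1) :
    ∃ t ∈ Γ, t none = some 0 ∧ t (some 0) = none ∧ t * t = 1 := by
  have hdvd : 2 ∣ Nat.card Γ := by
    rw [hΓ.card]
    exact Dvd.dvd.mul_right ⟨h + 1, by omega⟩ _
  obtain ⟨s, hs⟩ := exists_prime_orderOf_dvd_card' (G := Γ) 2 hdvd
  have hs1 : s ≠ 1 := by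
    intro h1
    rw [h1, orderOf_one] at hs
    omega
  have hss : (s : Perm (Option (ZMod p))) * s = 1 := by
    have : s ^ 2 = 1 := hs ▸ pow_orderOf_eq_one s
    have := congrArg (fun z : Γ => (z : Perm (Option (ZMod p)))) this
    simpa [pow_two] using this
  obtain ⟨x, hx⟩ : ∃ x, (s : Perm (Option (ZMod p))) x ≠ x := by
    by_contra hcon
    push Not at hcon
    apply hs1
    apply Subtype.ext
    ext1 x
    exact hcon x
  obtain ⟨γ₁, hγ₁, hγx⟩ := hΓ.trans x
  have hinv : γ₁⁻¹ x = none := by rw [← hγx]; simp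
  obtain ⟨z, hz⟩ : ∃ z, γ₁⁻¹ ((s : Perm (Option (ZMod p))) x) = some z := by
    rw [← Option.ne_none_iff_exists']
    intro hcon
    exact hx (γ₁⁻¹.injective (hcon.trans hinv.symm))
  set γ := c0 p ^ (-z).val * γ₁⁻¹ with hγdef
  have hγ : γ ∈ Γ := Γ.mul_mem (Γ.pow_mem hΓ.c0_mem _) (Γ.inv_mem hγ₁)
  have hγx' : γ x = none := by
    rw [hγdef, Perm.mul_apply, hinv, c0_pow_none]
  have hγy : γ ((s : Perm (Option (ZMod p))) x) = some 0 := by
    rw [hγdef, Perm.mul_apply, hz, c0_pow_val_some, add_neg_cancel]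
  have hγinv : γ⁻¹ none = x := by rw [← hγx']; simp
  have hγinv0 : γ⁻¹ (some 0) = (s : Perm (Option (ZMod p))) x := by rw [← hγy]; simp
  refine ⟨γ * s * γ⁻¹, Γ.mul_mem (Γ.mul_mem hγ s.2) (Γ.inv_mem hγ), ?_, ?_, ?_⟩
  · rw [Perm.mul_apply, Perm.mul_apply, hγinv, hγy]
  · rw [Perm.mul_apply, Perm.mul_apply, hγinv0]
    have : (s : Perm (Option (ZMod p))) ((s : Perm (Option (ZMod p))) x) = x := by
      have := congrArg (fun f : Perm (Option (ZMod p)) => f x) hss
      simpa using this
    rw [this, hγx']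
  · calc γ * s * γ⁻¹ * (γ * s * γ⁻¹) = γ * ((s : Perm (Option (ZMod p))) * s) * γ⁻¹ := by group
      _ = 1 := by rw [hss]; group

theorem IsCand.conj_mul (hΓ : IsCand p h Γ) (hh : h < p) (hh0 : 0 < h)
    (t : Perm (Option (ZMod p))) (ht : t ∈ Γ) (h1 : t none = some 0) (h2 : t (some 0) = none)
    (g : (ZMod p)ˣ) (hg : g ^ h = 1) :
    ∃ r : (ZMod p)ˣ, r ^ h = 1 ∧ ∀ x, t (mulPerm p g x) = mulPerm p r (t x) := by
  have hgm : mulPerm p g ∈ Γ := (hΓ.mem_iff_pow hh hh0 g).mpr hg
  have hi1 : t⁻¹ none = some 0 := by rw [← h2]; simp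
  have hi2 : t⁻¹ (some 0) = none := by rw [← h1]; simp
  have hσ : t * mulPerm p g * t⁻¹ ∈ Γ := Γ.mul_mem (Γ.mul_mem ht hgm) (Γ.inv_mem ht)
  have hfix : (t * mulPerm p g * t⁻¹) none = none := by
    rw [Perm.mul_apply, Perm.mul_apply, hi1, mulPerm_some, mul_zero, h2]
  obtain ⟨r, b, hrb⟩ := hΓ.stab_affine hh hh0 _ hσ hfix
  have hb : b = 0 := by
    have := congrArg (fun f : Perm (Option (ZMod p)) => f (some 0)) hrb
    simp only [Perm.mul_apply, hi2, mulPerm_none, h1, aff_some, mul_zero, zero_add,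
      Option.some.injEq] at this
    exact this.symm
  subst hb
  have hr : mulPerm p r ∈ Γ := by rw [← aff_mem_iff hΓ r 0, ← hrb]; exact hσ
  refine ⟨r, (hΓ.mem_iff_pow hh hh0 r).mp hr, ?_⟩
  intro x
  have := congrArg (fun f : Perm (Option (ZMod p)) => f (t x)) hrb
  simp only [Perm.mul_apply, Perm.coe_inv, Equiv.symm_apply_apply] at this
  rw [this]
  simp [aff]



end Cand

section Table

variable (p : ℕ)

/-- the value at `x ≠ 0` of the map determined by `g2^k ↦ r^k a`, `nu g2^k ↦ r^k b` -/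
def rho (g2 nu : ZMod p) (h : ℕ) (r a b x : ZMod p) : ZMod p :=
  match (List.range h).find? (fun k => g2 ^ k = x) with
  | some k => r ^ k * a
  | none =>
    match (List.range h).find? (fun k => nu * g2 ^ k = x) with
    | some k => r ^ k * b
    | none => 0

/-- candidate involution interchanging `0` and `∞` -/
def tau (g2 nu : ZMod p) (h : ℕ) (r a b : ZMod p) : Option (ZMod p) → Option (ZMod p)
  | none => some 0
  | some x => if x = 0 then none else some (rho p g2 nu h r a b x)

/-- translation by `k` -/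
def shift (k : ZMod p) : Option (ZMod p) → Option (ZMod p)
  | none => none
  | some x => some (x + k)

/-- multiplication by `u` -/
def scale (u : ZMod p) : Option (ZMod p) → Option (ZMod p)
  | none => none
  | some x => some (u * x)

/-- a word in `tau` and translations that fixes `∞` -/
def W (g2 nu : ZMod p) (h : ℕ) (r a b : ZMod p) (x : Option (ZMod p)) : Option (ZMod p) :=
  tau p g2 nu h r a b (shift p (-a) (tau p g2 nu h r a b (shift p 1 (tau p g2 nu h r a b x))))

/-- conjugates of `tau` by translations -/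
def conjTau (g2 nu : ZMod p) (h : ℕ) (r a b i : ZMod p) (x : Option (ZMod p)) : Option (ZMod p) :=
  shift p i (tau p g2 nu h r a b (shift p (-i) x))

/-- `tau` is `x ↦ a / x` with `-a` in the index-two subgroup -/
def Good (g2 nu : ZMod p) (h : ℕ) (r a b : ZMod p) : Prop :=
  (-a) ^ h = 1 ∧ ∀ x : ZMod p, x ≠ 0 → rho p g2 nu h r a b x * x = a

/-- the word `W` is not one of the affine maps `x ↦ u x + b`, `u ^ h = 1` -/
def BadW (g2 nu : ZMod p) (h : ℕ) (r a b : ZMod p) : Prop :=
  ¬ (((W p g2 nu h r a b (some 1)).getD 0 - (W p g2 nu h r a b (some 0)).getD 0) ^ h = 1 ∧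
    ∀ x : ZMod p, W p g2 nu h r a b (some x) =
      some (((W p g2 nu h r a b (some 1)).getD 0 - (W p g2 nu h r a b (some 0)).getD 0) * x +
        (W p g2 nu h r a b (some 0)).getD 0))

/-- the translates of `tau` commute and are permuted by the multiplications -/
def Weird (g2 nu : ZMod p) (h : ℕ) (r a b : ZMod p) : Prop :=
  (∀ i j : ZMod p, ∀ x : Option (ZMod p),
    conjTau p g2 nu h r a b i (conjTau p g2 nu h r a b j x) =
      conjTau p g2 nu h r a b j (conjTau p g2 nu h r a b i x)) ∧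
  (∀ u : ZMod p, u ^ h = 1 → ∀ i : ZMod p, ∃ j : ZMod p, ∀ x : Option (ZMod p),
    scale p u (conjTau p g2 nu h r a b i x) = conjTau p g2 nu h r a b j (scale p u x))

instance (g2 nu : ZMod p) (h : ℕ) (r a b : ZMod p) [NeZero p] :
    Decidable (Good p g2 nu h r a b) := by
  unfold Good; infer_instance

instance (g2 nu : ZMod p) (h : ℕ) (r a b : ZMod p) [NeZero p] :
    Decidable (BadW p g2 nu h r a b) := by
  unfold BadW; infer_instance

instance (g2 nu : ZMod p) (h : ℕ) (r a b : ZMod p) [NeZero p] :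
    Decidable (Weird p g2 nu h r a b) := by
  unfold Weird; infer_instance

/-- the table: every involutive candidate is good, bad or weird -/
def Table (g2 nu : ZMod p) (h : ℕ) : Prop :=
  ∀ r a b : ZMod p, r ^ h = 1 → a ≠ 0 → b ≠ 0 →
    (∀ x : Option (ZMod p), tau p g2 nu h r a b (tau p g2 nu h r a b x) = x) →
    Good p g2 nu h r a b ∨ BadW p g2 nu h r a b ∨ Weird p g2 nu h r a b

set_option synthInstance.maxSize 2000 in
set_option synthInstance.maxHeartbeats 200000 in
instance (g2 nu : ZMod p) (h : ℕ) [NeZero p] : Decidable (Table p g2 nu h) := by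
  unfold Table; infer_instance

/-- every nonzero element is `g2^k` or `nu g2^k` with `k < h` -/
def Covers (g2 nu : ZMod p) (h : ℕ) : Prop :=
  ∀ x : ZMod p, x ≠ 0 → ∃ k < h, x = g2 ^ k ∨ x = nu * g2 ^ k

instance (g2 nu : ZMod p) (h : ℕ) [NeZero p] : Decidable (Covers p g2 nu h) := by
  unfold Covers; infer_instance

theorem rho_eq {g2 nu : ZMod p} {h : ℕ} {r a b : ZMod p} (F : ZMod p → ZMod p)
    (hFa : ∀ k, F (g2 ^ k) = r ^ k * a) (hFb : ∀ k, F (nu * g2 ^ k) = r ^ k * b) (x : ZMod p)
    (hx : ∃ k < h, x = g2 ^ k ∨ x = nu * g2 ^ k) : rho p g2 nu h r a b x = F x := by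
  unfold rho
  split
  · rename_i k hk
    have := List.find?_some hk
    simp only [decide_eq_true_eq] at this
    rw [← this, hFa]
  · rename_i hnone
    split
    · rename_i k hk
      have := List.find?_some hk
      simp only [decide_eq_true_eq] at this
      rw [← this, hFb]
    · rename_i hnone2
      exfalso
      obtain ⟨k, hk, hx | hx⟩ := hx
      · rw [List.find?_eq_none] at hnone
        exact hnone k (List.mem_range.mpr hk) (by simp [hx])
      · rw [List.find?_eq_none] at hnone2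
        exact hnone2 k (List.mem_range.mpr hk) (by simp [hx])

end Table

section Main

variable {p h : ℕ} [Fact p.Prime] {Γ Γ' : Subgroup (Perm (Option (ZMod p)))}

theorem c0_pow_apply (k : ℕ) (y : Option (ZMod p)) : (c0 p ^ k) y = shift p (k : ZMod p) y := by
  cases y with
  | none => rw [c0_pow_none]; rfl
  | some y => rw [c0_pow_some]; rfl

theorem c0_pow_inv_apply (k : ℕ) (y : Option (ZMod p)) :
    (c0 p ^ k)⁻¹ y = shift p (-(k : ZMod p)) y := by
  rw [Perm.inv_eq_iff_eq, c0_pow_apply]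
  cases y with
  | none => rfl
  | some y => simp [shift]

theorem mulPerm_apply (u : (ZMod p)ˣ) (y : Option (ZMod p)) :
    mulPerm p u y = scale p (u : ZMod p) y := by
  cases y <;> rfl

/-- conjugation invariance of a closure, from the generators -/
theorem conj_mem_closure_of_gens {G : Type*} [Group G] (S : Set G) (γ : G)
    (hγ : ∀ s ∈ S, γ * s * γ⁻¹ ∈ Subgroup.closure S) :
    ∀ s ∈ Subgroup.closure S, γ * s * γ⁻¹ ∈ Subgroup.closure S := by
  intro s hs
  induction hs using Subgroup.closure_induction with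
  | mem x hx => exact hγ x hx
  | one => simp
  | mul x y _ _ hx hy =>
    have : γ * (x * y) * γ⁻¹ = (γ * x * γ⁻¹) * (γ * y * γ⁻¹) := by group
    rw [this]; exact Subgroup.mul_mem _ hx hy
  | inv x _ hx =>
    have : γ * x⁻¹ * γ⁻¹ = (γ * x * γ⁻¹)⁻¹ := by group
    rw [this]; exact Subgroup.inv_mem _ hx

theorem IsCand.weird_false (hΓ : IsCand p h Γ) [IsSimpleGroup Γ] (hh : h < p) (hh0 : 0 < h)
    (g2 nu : ZMod p) (r a b : ZMod p) (t : Perm (Option (ZMod p))) (ht : t ∈ Γ)
    (h1 : t none = some 0) (h2 : t (some 0) = none) (htt : t * t = 1)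
    (hpt : ∀ x, t x = tau p g2 nu h r a b x) (hW : Weird p g2 nu h r a b) : False := by
  obtain ⟨hW1, hW2⟩ := hW
  let tc : ℕ → Perm (Option (ZMod p)) := fun k => c0 p ^ k * t * (c0 p ^ k)⁻¹
  have htc : ∀ k x, tc k x = conjTau p g2 nu h r a b (k : ZMod p) x := by
    intro k x
    simp only [tc, Perm.mul_apply, c0_pow_apply, c0_pow_inv_apply, hpt, conjTau]
  have htc0 : tc 0 = t := by simp [tc]
  have hcomm : ∀ i j, tc i * tc j = tc j * tc i := by
    intro i j
    ext1 x
    simp only [Perm.mul_apply, htc]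
    exact hW1 _ _ _
  set S' := Subgroup.closure (Set.range tc) with hS'
  have hgen : ∀ k, tc k ∈ S' := fun k => Subgroup.subset_closure ⟨k, rfl⟩
  have hS'Γ : S' ≤ Γ := by
    rw [hS', Subgroup.closure_le]
    rintro _ ⟨k, rfl⟩
    exact Γ.mul_mem (Γ.mul_mem (Γ.pow_mem hΓ.c0_mem _) ht) (Γ.inv_mem (Γ.pow_mem hΓ.c0_mem _))
  have hS'cent : S' ≤ Subgroup.centralizer {t} := by
    rw [hS', Subgroup.closure_le]
    rintro _ ⟨k, rfl⟩
    rw [SetLike.mem_coe, Subgroup.mem_centralizer_iff]
    intro y hy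
    rw [Set.mem_singleton_iff] at hy
    subst hy
    have := hcomm 0 k
    rwa [htc0] at this
  -- the elements normalising `S'`
  have hP_of : ∀ γ : Perm (Option (ZMod p)), (∀ k, ∃ j, γ * tc k * γ⁻¹ = tc j) →
      ∀ s ∈ S', γ * s * γ⁻¹ ∈ S' := by
    intro γ hγ
    apply conj_mem_closure_of_gens
    rintro _ ⟨k, rfl⟩
    obtain ⟨j, hj⟩ := hγ k
    rw [hj]; exact hgen j
  have hP_mul : ∀ γ δ : Perm (Option (ZMod p)), (∀ s ∈ S', γ * s * γ⁻¹ ∈ S') →
      (∀ s ∈ S', δ * s * δ⁻¹ ∈ S') → ∀ s ∈ S', (γ * δ) * s * (γ * δ)⁻¹ ∈ S' := by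
    intro γ δ hγ hδ s hs
    have : (γ * δ) * s * (γ * δ)⁻¹ = γ * (δ * s * δ⁻¹) * γ⁻¹ := by group
    rw [this]
    exact hγ _ (hδ _ hs)
  have hP_c0 : ∀ m : ℕ, ∀ s ∈ S', c0 p ^ m * s * (c0 p ^ m)⁻¹ ∈ S' := by
    intro m
    apply hP_of
    intro k
    refine ⟨m + k, ?_⟩
    simp only [tc, pow_add]
    group
  have hP_t : ∀ s ∈ S', t * s * t⁻¹ ∈ S' := by
    apply hP_of
    intro k
    refine ⟨k, ?_⟩
    have := hcomm 0 k
    rw [htc0] at this
    rw [this]; group
  have hP_mulPerm : ∀ u : (ZMod p)ˣ, u ^ h = 1 → ∀ s ∈ S', mulPerm p u * s * (mulPerm p u)⁻¹ ∈ S' := by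
    intro u hu
    apply hP_of
    intro k
    have hu' : (u : ZMod p) ^ h = 1 := by
      rw [← Units.val_pow_eq_pow_val, hu, Units.val_one]
    obtain ⟨j, hj⟩ := hW2 (u : ZMod p) hu' (k : ZMod p)
    refine ⟨j.val, ?_⟩
    rw [mul_inv_eq_iff_eq_mul]
    ext1 x
    simp only [Perm.mul_apply, htc, mulPerm_apply, ZMod.natCast_zmod_val]
    exact hj x
  have hP_all : ∀ γ ∈ Γ, ∀ s ∈ S', γ * s * γ⁻¹ ∈ S' := by
    have hfixcase : ∀ δ ∈ Γ, δ none = none → ∀ s ∈ S', δ * s * δ⁻¹ ∈ S' := by
      intro δ hδ hfix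
      obtain ⟨u, b', hub⟩ := hΓ.stab_affine hh hh0 δ hδ hfix
      have hu : u ^ h = 1 := by
        rw [← hΓ.mem_iff_pow hh hh0, ← aff_mem_iff hΓ u b', ← hub]; exact hδ
      rw [hub]
      exact hP_mul _ _ (hP_c0 _) (hP_mulPerm u hu)
    intro γ hγ
    cases hγn : γ none with
    | none => exact hfixcase γ hγ hγn
    | some x =>
      have hδΓ : t * (c0 p ^ x.val)⁻¹ * γ ∈ Γ :=
        Γ.mul_mem (Γ.mul_mem ht (Γ.inv_mem (Γ.pow_mem hΓ.c0_mem _))) hγ
      have hδfix : (t * (c0 p ^ x.val)⁻¹ * γ) none = none := by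
        rw [Perm.mul_apply, Perm.mul_apply, hγn, c0_pow_inv_apply, ZMod.natCast_zmod_val]
        simp [shift, h2]
      have hγeq : γ = c0 p ^ x.val * t * (t * (c0 p ^ x.val)⁻¹ * γ) := by
        have : c0 p ^ x.val * t * (t * (c0 p ^ x.val)⁻¹ * γ) =
            c0 p ^ x.val * (t * t) * (c0 p ^ x.val)⁻¹ * γ := by group
        rw [this, htt]; group
      rw [hγeq]
      exact hP_mul _ _ (hP_mul _ _ (hP_c0 _) hP_t) (hfixcase _ hδΓ hδfix)
  have hnormal : (S'.subgroupOf Γ).Normal := by
    constructor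
    intro n hn g
    rw [Subgroup.mem_subgroupOf] at hn ⊢
    exact hP_all g g.2 n hn
  rcases hnormal.eq_bot_or_eq_top with hbot | htop
  · have : (⟨t, ht⟩ : Γ) ∈ S'.subgroupOf Γ := by
      rw [Subgroup.mem_subgroupOf]
      have h0 := hgen 0
      rwa [htc0] at h0
    rw [hbot, Subgroup.mem_bot] at this
    have := congrArg (fun z : Γ => (z : Perm (Option (ZMod p))) none) this
    simp [h1] at this
  · have : (⟨c0 p, hΓ.c0_mem⟩ : Γ) ∈ S'.subgroupOf Γ := by rw [htop]; trivial
    rw [Subgroup.mem_subgroupOf] at this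
    have := hS'cent this
    rw [Subgroup.mem_centralizer_iff] at this
    have := this t rfl
    have := congrArg (fun f : Perm (Option (ZMod p)) => f none) this
    simp [h1] at this

theorem IsCand.t0_mem (hΓ : IsCand p h Γ) [IsSimpleGroup Γ] (hp2 : p = 2 * h + 1) (hh0 : 0 < h)
    (g2 nu : ZMod p) (hg2 : g2 ^ h = 1) (hnu : nu ≠ 0) (hF1 : Covers p g2 nu h)
    (hT : Table p g2 nu h) : t0 p ∈ Γ := by
  have hh : h < p := by omega
  obtain ⟨t, ht, h1, h2, htt⟩ := hΓ.exists_invol hp2
  -- the unit `g`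
  let g : (ZMod p)ˣ := Units.ofPowEqOne g2 h hg2 hh0.ne'
  have hgv : (g : ZMod p) = g2 := rfl
  have hg : g ^ h = 1 := by
    apply Units.ext
    rw [Units.val_pow_eq_pow_val, hgv, hg2, Units.val_one]
  obtain ⟨r, hr, hrt⟩ := hΓ.conj_mul hh hh0 t ht h1 h2 g hg
  have hr' : (r : ZMod p) ^ h = 1 := by
    rw [← Units.val_pow_eq_pow_val, hr, Units.val_one]
  -- values of `t` at nonzero points are nonzero
  have hval : ∀ x : ZMod p, x ≠ 0 → ∃ y : ZMod p, y ≠ 0 ∧ t (some x) = some y := by
    intro x hx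
    cases hy : t (some x) with
    | none =>
      exfalso
      have := t.injective (hy.trans h2.symm)
      exact hx (Option.some_injective _ this)
    | some y =>
      refine ⟨y, ?_, rfl⟩
      rintro rfl
      have := t.injective (hy.trans h1.symm)
      simp at this
  obtain ⟨a, ha, hta⟩ := hval 1 one_ne_zero
  obtain ⟨b, hb, htb⟩ := hval nu hnu
  have hpow : ∀ (k : ℕ) (y y' : ZMod p), t (some y) = some y' →
      t (some (g2 ^ k * y)) = some ((r : ZMod p) ^ k * y') := by
    intro k y y' hy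
    induction k with
    | zero => simpa using hy
    | succ k ih =>
      have := hrt (some (g2 ^ k * y))
      rw [mulPerm_some, ih, mulPerm_some, hgv] at this
      rw [pow_succ', pow_succ', mul_assoc, mul_assoc]
      exact this
  -- `t` is the map `tau`
  have hpt : ∀ x, t x = tau p g2 nu h (r : ZMod p) a b x := by
    intro x
    cases x with
    | none => exact h1
    | some x =>
      by_cases hx : x = 0
      · subst hx; simp [tau, h2]
      · obtain ⟨y, -, hy⟩ := hval x hx
        simp only [tau, hx, if_false]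
        have := rho_eq p (g2 := g2) (nu := nu) (h := h) (r := (r : ZMod p)) (a := a) (b := b)
          (fun z => (t (some z)).getD 0)
          (fun k => by
            have := hpow k 1 a hta
            rw [mul_one] at this
            simp [this])
          (fun k => by
            have := hpow k nu b htb
            rw [mul_comm] at this
            simp [this]) x (hF1 x hx)
        rw [this, hy]
        simp
  have hinv : ∀ x, tau p g2 nu h (r : ZMod p) a b (tau p g2 nu h (r : ZMod p) a b x) = x := by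
    intro x
    rw [← hpt, ← hpt]
    have := congrArg (fun f : Perm (Option (ZMod p)) => f x) htt
    simpa using this
  rcases hT (r : ZMod p) a b hr' ha hb hinv with hGood | hBad | hWeird
  · -- good case
    obtain ⟨hna, hrho⟩ := hGood
    let v : (ZMod p)ˣ := (Units.ofPowEqOne (-a) h hna hh0.ne')⁻¹
    have hvv : (v : ZMod p) = (-a)⁻¹ := by
      simp [v, Units.val_inv_eq_inv_val]
    have hv : v ^ h = 1 := by
      have : (Units.ofPowEqOne (-a) h hna hh0.ne') ^ h = 1 := by
        apply Units.ext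
        rw [Units.val_pow_eq_pow_val, Units.val_ofPowEqOne, hna, Units.val_one]
      simp only [v, inv_pow, this, inv_one]
    have hvm : mulPerm p v ∈ Γ := (hΓ.mem_iff_pow hh hh0 v).mpr hv
    have : t0 p = mulPerm p v * t := by
      ext1 x
      cases x with
      | none => rw [Perm.mul_apply, h1, mulPerm_some, mul_zero]; rfl
      | some x =>
        by_cases hx : x = 0
        · subst hx; rw [Perm.mul_apply, h2, mulPerm_none, t0_zero]
        · rw [Perm.mul_apply, hpt, t0_some p x hx]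
          simp only [tau, hx, if_false, mulPerm_some, hvv]
          congr 1
          have h3 := hrho x hx
          have : rho p g2 nu h (r : ZMod p) a b x = a * x⁻¹ :=
            (eq_mul_inv_iff_mul_eq₀ hx).mpr h3
          rw [this]
          field_simp
    rw [this]
    exact Γ.mul_mem hvm ht
  · -- bad case
    exfalso
    apply hBad
    have hWΓ : t * c0 p ^ (-a).val * t * c0 p * t ∈ Γ :=
      Γ.mul_mem (Γ.mul_mem (Γ.mul_mem (Γ.mul_mem ht (Γ.pow_mem hΓ.c0_mem _)) ht) hΓ.c0_mem) ht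
    have hWfix : (t * c0 p ^ (-a).val * t * c0 p * t) none = none := by
      simp only [Perm.mul_apply, h1, c0_some, zero_add, hta, c0_pow_val_some, add_neg_cancel, h2]
    obtain ⟨u, b', hub⟩ := hΓ.stab_affine hh hh0 _ hWΓ hWfix
    have hu : u ^ h = 1 := by
      rw [← hΓ.mem_iff_pow hh hh0, ← aff_mem_iff hΓ u b', ← hub]; exact hWΓ
    have hu' : (u : ZMod p) ^ h = 1 := by
      rw [← Units.val_pow_eq_pow_val, hu, Units.val_one]
    have hWx : ∀ x : ZMod p, W p g2 nu h (r : ZMod p) a b (some x) = some ((u : ZMod p) * x + b') := by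
      intro x
      have := congrArg (fun f : Perm (Option (ZMod p)) => f (some x)) hub
      simp only [Perm.mul_apply, aff_some] at this
      rw [← this]
      simp only [W, ← hpt]
      congr 1
      rw [c0_pow_apply, ZMod.natCast_zmod_val]
      congr 2
      cases t (some x) <;> rfl
    have e0 : (W p g2 nu h (r : ZMod p) a b (some 0)).getD 0 = b' := by
      rw [hWx]; simp
    have e1 : (W p g2 nu h (r : ZMod p) a b (some 1)).getD 0 = (u : ZMod p) + b' := by
      rw [hWx]; simp
    rw [e0, e1, add_sub_cancel_right]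
    exact ⟨hu', hWx⟩
  · exact (hΓ.weird_false hh hh0 g2 nu (r : ZMod p) a b t ht h1 h2 htt hpt hWeird).elim

theorem IsCand.le_of (hΓ : IsCand p h Γ) (hΓ' : IsCand p h Γ') (hh : h < p) (hh0 : 0 < h)
    (ht : t0 p ∈ Γ) (ht' : t0 p ∈ Γ') : Γ ≤ Γ' := by
  have hfixcase : ∀ δ ∈ Γ, δ none = none → δ ∈ Γ' := by
    intro δ hδ hfix
    obtain ⟨u, b', hub⟩ := hΓ.stab_affine hh hh0 δ hδ hfix
    have hu : u ^ h = 1 := by
      rw [← hΓ.mem_iff_pow hh hh0, ← aff_mem_iff hΓ u b', ← hub]; exact hδ
    rw [hub, aff_mem_iff hΓ', hΓ'.mem_iff_pow hh hh0]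
    exact hu
  intro γ hγ
  cases hγn : γ none with
  | none => exact hfixcase γ hγ hγn
  | some x =>
    have hδΓ : t0 p * (c0 p ^ x.val)⁻¹ * γ ∈ Γ :=
      Γ.mul_mem (Γ.mul_mem ht (Γ.inv_mem (Γ.pow_mem hΓ.c0_mem _))) hγ
    have hδfix : (t0 p * (c0 p ^ x.val)⁻¹ * γ) none = none := by
      rw [Perm.mul_apply, Perm.mul_apply, hγn, c0_pow_inv_apply, ZMod.natCast_zmod_val]
      simp [shift, t0_zero]
    have hγeq : γ = c0 p ^ x.val * (t0 p)⁻¹ * (t0 p * (c0 p ^ x.val)⁻¹ * γ) := by group
    rw [hγeq]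
    exact Γ'.mul_mem (Γ'.mul_mem (Γ'.pow_mem hΓ'.c0_mem _) (Γ'.inv_mem ht'))
      (hfixcase _ hδΓ hδfix)

/-- Any two simple candidates are equal. -/
theorem IsCand.unique (hΓ : IsCand p h Γ) (hΓ' : IsCand p h Γ') [IsSimpleGroup Γ]
    [IsSimpleGroup Γ'] (hp2 : p = 2 * h + 1) (hh0 : 0 < h)
    (g2 nu : ZMod p) (hg2 : g2 ^ h = 1) (hnu : nu ≠ 0) (hF1 : Covers p g2 nu h)
    (hT : Table p g2 nu h) : Γ = Γ' := by
  have hh : h < p := by omega
  have ht := hΓ.t0_mem hp2 hh0 g2 nu hg2 hnu hF1 hT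
  have ht' := hΓ'.t0_mem hp2 hh0 g2 nu hg2 hnu hF1 hT
  exact le_antisymm (hΓ.le_of hΓ' hh hh0 ht ht') (hΓ'.le_of hΓ hh hh0 ht' ht)

theorem cycleType_of_orderOf_eq {α : Type*} [Fintype α] [DecidableEq α] (σ : Perm α)
    (p : ℕ) (hp : p.Prime) (hσ : orderOf σ = p) (hcard : Fintype.card α < 2 * p) :
    σ.cycleType = {p} := by
  obtain ⟨n, hn⟩ := Perm.cycleType_prime_order (σ := σ) (hσ ▸ hp)
  have hsum := σ.sum_cycleType_le
  rw [hn, Multiset.sum_replicate, smul_eq_mul, hσ] at hsum
  have hn0 : n = 0 := by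
    by_contra hne
    have : 2 * p ≤ (n + 1) * p := Nat.mul_le_mul_right p (by omega)
    omega
  rw [hn, hn0, hσ]
  rfl

end Main

section Abstract

/-- A simple group of order `(p+1) p h` is isomorphic to a candidate. -/
theorem exists_cand {K : Type*} [Group K] [Finite K] [IsSimpleGroup K] (p h : ℕ) [Fact p.Prime]
    (hp2 : p = 2 * h + 1) (hh0 : 0 < h) (hK : Nat.card K = (p + 1) * (p * h))
    (harith : ∀ d, d ∣ (p + 1) * h → d % p = 1 → d = 1 ∨ d = p + 1) :
    ∃ Γ : Subgroup (Perm (Option (ZMod p))), IsCand p h Γ ∧ Nonempty (K ≃* Γ) := by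
  classical
  have hp : p.Prime := Fact.out
  have hK' : Nat.card K = p * ((p + 1) * h) := by rw [hK]; ring
  have hndvd : ¬ p ∣ (p + 1) * h := by
    rw [hp.dvd_mul]
    rintro (h1 | h1)
    · have : p ∣ 1 := (Nat.dvd_add_right (dvd_refl p)).mp h1
      exact hp.one_lt.ne' (Nat.dvd_one.mp this)
    · have := Nat.le_of_dvd hh0 h1
      omega
  have hpos : 0 < (p + 1) * h := Nat.mul_pos (Nat.succ_pos _) hh0
  -- Sylow counting
  obtain ⟨P⟩ : Nonempty (Sylow p K) := inferInstance
  have hcardP : Nat.card P = p := by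
    rw [Sylow.card_eq_multiplicity, hK', Nat.factorization_mul hp.ne_zero hpos.ne',
      Finsupp.add_apply, hp.factorization_self, Nat.factorization_eq_zero_of_not_dvd hndvd]
    simp
  have hidx : (P : Subgroup K).index = (p + 1) * h := by
    have := (P : Subgroup K).card_mul_index
    rw [hcardP, hK'] at this
    exact Nat.eq_of_mul_eq_mul_left hp.pos this
  have hnp : Nat.card (Sylow p K) = p + 1 := by
    have hdvd : Nat.card (Sylow p K) ∣ (p + 1) * h := hidx ▸ Sylow.card_dvd_index P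
    have hmod : Nat.card (Sylow p K) % p = 1 := by
      have : Nat.card (Sylow p K) % p = 1 % p := card_sylow_modEq_one p K
      rwa [Nat.mod_eq_of_lt hp.one_lt] at this
    rcases harith _ hdvd hmod with h1 | h1
    · exfalso
      have : Subsingleton (Sylow p K) := (Nat.card_eq_one_iff_unique.mp h1).1
      have hnormal : (P : Subgroup K).Normal := Sylow.normal_of_subsingleton P
      rcases hnormal.eq_bot_or_eq_top with hb | ht
      · rw [hb, Subgroup.card_bot] at hcardP
        exact hp.one_lt.ne hcardP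
      · rw [ht, Subgroup.card_top, hK'] at hcardP
        have : p * ((p + 1) * h) ≠ p := by
          intro heq
          have : (p + 1) * h = 1 := Nat.eq_of_mul_eq_mul_left hp.pos (by rw [heq, mul_one])
          have : p + 1 = 1 := Nat.eq_one_of_mul_eq_one_right this
          omega
        exact this hcardP
    · exact h1
  -- the action on Sylow subgroups is faithful
  let φ : K →* Perm (Sylow p K) := MulAction.toPermHom K (Sylow p K)
  have hφ : Function.Injective φ := by
    rw [← MonoidHom.ker_eq_bot_iff]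
    rcases (MonoidHom.normal_ker φ).eq_bot_or_eq_top with hb | ht
    · exact hb
    · exfalso
      have htriv : ∀ (k : K) (Q : Sylow p K), k • Q = Q := by
        intro k Q
        have : k ∈ φ.ker := by rw [ht]; trivial
        rw [MonoidHom.mem_ker] at this
        have := congrArg (fun f : Perm (Sylow p K) => f Q) this
        simpa [φ] using this
      have : Subsingleton (Sylow p K) := by
        constructor
        intro Q Q'
        obtain ⟨k, hk⟩ := MulAction.exists_smul_eq K Q Q'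
        rw [← hk, htriv]
      have := Finite.card_le_one_iff_subsingleton.mpr this
      omega
  -- transport to `Option (ZMod p)`
  obtain ⟨e⟩ : Nonempty (Sylow p K ≃ Option (ZMod p)) := by
    rw [← Finite.card_eq, hnp, Finite.card_option, Nat.card_zmod]
  let ψ : K →* Perm (Option (ZMod p)) := e.permCongrHom.toMonoidHom.comp φ
  have hψ : Function.Injective ψ := e.permCongrHom.injective.comp hφ
  have hψapp : ∀ (k : K) (x : Option (ZMod p)), ψ k x = e (k • e.symm x) := by
    intro k x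
    rfl
  have hψtrans : ∀ x y : Option (ZMod p), ∃ k : K, ψ k x = y := by
    intro x y
    obtain ⟨k, hk⟩ := MulAction.exists_smul_eq K (e.symm x) (e.symm y)
    refine ⟨k, ?_⟩
    rw [hψapp, hk, Equiv.apply_symm_apply]
  -- an element of order p
  obtain ⟨k₀, hk₀⟩ := exists_prime_orderOf_dvd_card' (G := K) p (by rw [hK']; exact dvd_mul_right _ _)
  have hσ : orderOf (ψ k₀) = p := by rw [orderOf_injective ψ hψ, hk₀]
  have hcardX : Fintype.card (Option (ZMod p)) < 2 * p := by
    rw [Fintype.card_option, ZMod.card]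
    have := hp.two_le
    omega
  have hconj : IsConj (ψ k₀) (c0 p) := by
    rw [Perm.isConj_iff_cycleType_eq, cycleType_of_orderOf_eq _ p hp hσ hcardX,
      cycleType_of_orderOf_eq _ p hp (orderOf_c0 p) hcardX]
  obtain ⟨π, hπ⟩ := isConj_iff.mp hconj
  let ψ' : K →* Perm (Option (ZMod p)) := (MulAut.conj π).toMonoidHom.comp ψ
  have hψ' : Function.Injective ψ' := (MulAut.conj π).injective.comp hψ
  have hψ'app : ∀ k, ψ' k = π * ψ k * π⁻¹ := fun k => rfl
  refine ⟨ψ'.range, ⟨?_, ?_, ?_⟩, ⟨MonoidHom.ofInjective hψ'⟩⟩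
  · rw [← hK]
    exact (Nat.card_congr (MonoidHom.ofInjective hψ').toEquiv).symm
  · exact ⟨k₀, by rw [hψ'app, hπ]⟩
  · intro x
    obtain ⟨k, hk⟩ := hψtrans (π⁻¹ none) (π⁻¹ x)
    refine ⟨ψ' k, ⟨k, rfl⟩, ?_⟩
    rw [hψ'app, Perm.mul_apply, Perm.mul_apply, hk]
    simp

/-- Two simple groups of order `(p+1) p h` are isomorphic, given the table for `p`. -/
theorem iso_of_card {K₁ : Type*} {K₂ : Type*} [Group K₁] [Finite K₁] [IsSimpleGroup K₁]
    [Group K₂] [Finite K₂] [IsSimpleGroup K₂] (p h : ℕ) [Fact p.Prime]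
    (hp2 : p = 2 * h + 1) (hh0 : 0 < h) (h₁ : Nat.card K₁ = (p + 1) * (p * h))
    (h₂ : Nat.card K₂ = (p + 1) * (p * h))
    (harith : ∀ d, d ∣ (p + 1) * h → d % p = 1 → d = 1 ∨ d = p + 1)
    (g2 nu : ZMod p) (hg2 : g2 ^ h = 1) (hnu : nu ≠ 0) (hF1 : Covers p g2 nu h)
    (hT : Table p g2 nu h) : Nonempty (K₁ ≃* K₂) := by
  obtain ⟨Γ₁, hΓ₁, ⟨e₁⟩⟩ := exists_cand (K := K₁) p h hp2 hh0 h₁ harith
  obtain ⟨Γ₂, hΓ₂, ⟨e₂⟩⟩ := exists_cand (K := K₂) p h hp2 hh0 h₂ harith
  have : Nontrivial Γ₁ := e₁.symm.toEquiv.nontrivial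
  have : Nontrivial Γ₂ := e₂.symm.toEquiv.nontrivial
  have : IsSimpleGroup Γ₁ := IsSimpleGroup.isSimpleGroup_of_surjective e₁.toMonoidHom e₁.surjective
  have : IsSimpleGroup Γ₂ := IsSimpleGroup.isSimpleGroup_of_surjective e₂.toMonoidHom e₂.surjective
  have heq : Γ₁ = Γ₂ := hΓ₁.unique hΓ₂ hp2 hh0 g2 nu hg2 hnu hF1 hT
  subst heq
  exact ⟨e₁.trans e₂.symm⟩

end Abstract

end Cfsg.Agent.Lib.Helper62.PSL2Recog
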