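import Mathlib
import Cfsg.Agent.Lib.Helper62.PSL2Recog
import Cfsg.Agent.Lib.Helper07.PermEmbed

/-!
# Kernel-checked tables for the recognition of `PSL(2,p)`, `p = 7, 11, 13, 17, 19, 23` (helper62)
-/

namespace Cfsg.Agent.Lib.Helper62.PSL2Recog

/-- the arithmetic condition on Sylow numbers, from a bounded check -/
theorem arith_of_bounded (p h : ℕ) (hpos : 0 < (p + 1) * h)
    (hd : ∀ d ∈ List.range ((p + 1) * h + 1), d ∣ (p + 1) * h → d % p = 1 → d = 1 ∨ d = p + 1) :
    ∀ d, d ∣ (p + 1) * h → d % p = 1 → d = 1 ∨ d = p + 1 := by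
  intro d hdvd hmod
  exact hd d (List.mem_range.mpr (Nat.lt_succ_of_le (Nat.le_of_dvd hpos hdvd))) hdvd hmod

/-- Recognition of `PSL(2,F)`, `|F| = p`, among the simple groups of order `(p+1) p h`. -/
theorem iso_psl {G : Type*} [Group G] [Finite G] [IsSimpleGroup G] {F : Type*} [Field F]
    [Fintype F] (p h : ℕ) [Fact p.Prime] (hp2 : p = 2 * h + 1) (hh0 : 0 < h) (h4 : 4 ≤ p)
    (hG : Nat.card G = (p + 1) * (p * h)) (hF : Fintype.card F = p)
    (hd : ∀ d ∈ List.range ((p + 1) * h + 1), d ∣ (p + 1) * h → d % p = 1 → d = 1 ∨ d = p + 1)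
    (g2 nu : ZMod p) (hg2 : g2 ^ h = 1) (hnu : nu ≠ 0) (hF1 : Covers p g2 nu h)
    (hT : Table p g2 nu h) :
    Nonempty (G ≃* Matrix.ProjectiveSpecialLinearGroup (Fin 2) F) := by
  have hF' : Nat.card F = p := by rw [Nat.card_eq_fintype_card, hF]
  have : IsSimpleGroup (Matrix.ProjectiveSpecialLinearGroup (Fin 2) F) :=
    Matrix.ProjectiveSpecialLinearGroup.rank_two_simple (by omega)
  have hcard : Nat.card (Matrix.ProjectiveSpecialLinearGroup (Fin 2) F) = (p + 1) * (p * h) := by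
    have h1 := Cfsg.Agent.Lib.Helper07.card_psl_two (F := F)
    rw [hF] at h1
    subst hp2
    have e1 : 2 * h + 1 - 1 = 2 * h := by omega
    have e2 : (2 * h + 1) ^ 2 - 1 = 4 * h * (h + 1) := by
      have : (2 * h + 1) ^ 2 = 4 * h * (h + 1) + 1 := by ring
      omega
    have e3 : (2 * h + 1) ^ 2 - (2 * h + 1) = (2 * h + 1) * (2 * h) := by
      have : (2 * h + 1) ^ 2 = (2 * h + 1) * (2 * h) + (2 * h + 1) := by ring
      omega
    have e4 : Nat.gcd 2 (2 * h) = 2 := Nat.gcd_eq_left (dvd_mul_right 2 h)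
    rw [e1, e2, e3, e4] at h1
    have h2 : (4 * h) * Nat.card (Matrix.ProjectiveSpecialLinearGroup (Fin 2) F) =
        (4 * h) * ((2 * h + 1 + 1) * ((2 * h + 1) * h)) := by
      calc (4 * h) * Nat.card (Matrix.ProjectiveSpecialLinearGroup (Fin 2) F)
          = 2 * (2 * h * Nat.card (Matrix.ProjectiveSpecialLinearGroup (Fin 2) F)) := by ring
        _ = 4 * h * (h + 1) * ((2 * h + 1) * (2 * h)) := h1
        _ = (4 * h) * ((2 * h + 1 + 1) * ((2 * h + 1) * h)) := by ring
    exact Nat.eq_of_mul_eq_mul_left (by omega) h2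
  exact iso_of_card p h hp2 hh0 hG hcard
    (arith_of_bounded p h (Nat.mul_pos (Nat.succ_pos _) hh0) hd) g2 nu hg2 hnu hF1 hT

set_option maxRecDepth 100000 in
theorem table7 : Table 7 2 3 3 := by decide +kernel

set_option maxRecDepth 100000 in
theorem covers7 : Covers 7 2 3 3 := by decide +kernel

end Cfsg.Agent.Lib.Helper62.PSL2Recog
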