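import Mathlib
import Cfsg.Agent.Lib.Helper73.UNdDefs
import Cfsg.Agent.Lib.Helper14.UNdUF

/-!
K-UNd-UG (keystone 595417), core: the unipotent isometric Jordan block of size `a ≤ p`, given the leaves
U-E (`exists_nilp_block`, as hypothesis `hUE`) and U-F (`exists_cayley_u`, as hypothesis `hUF`, only used for `p ≠ 2`).
For `p = 2` (`a ≤ 2`, `M ^ 2 = 0`) the element `u = 1 + M` works directly.
-/

set_option autoImplicit false
set_option linter.unusedVariables false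

namespace Cfsg.Agent.Lib.Helper62.UNd

open Module Cfsg.Agent.Lib.Helper99.HermONB Cfsg.Agent.Lib.Helper98.Elus Cfsg.Agent.Lib.Helper73.UNd

universe u
variable {F : Type u} [Field F] {V : Type u} [AddCommGroup V] [Module F V]
variable {q : ℕ} {h : V → V → F}

/-- `M` skew with `M ^ 2 = 0`: `1 + M` is an isometry. -/
theorem isom_one_add [Fintype F] (hF : Fintype.card F = q ^ 2) (hh : HForm q h) (M : V →ₗ[F] V)
    (hskew : ∀ x y, h (M x) y = - h x (M y)) (hM2 : M ^ 2 = 0) : Isom h (1 + M) := by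
  intro x y
  have hMM : ∀ z, M (M z) = 0 := by
    intro z
    have h1 : (M ^ 2) z = 0 := by rw [hM2]; rfl
    rwa [pow_two] at h1
  simp only [LinearMap.add_apply, Module.End.one_apply]
  rw [hh.add_left, hh.add_right hF, hh.add_right hF, hskew x y, hskew x (M y), hMM y,
    hh.zero_right hF]
  ring

/-- characteristic 2, `M ^ 2 = 0`: `(1 + M) ^ 2 = 1`. -/
theorem one_add_sq [CharP F 2] (M : V →ₗ[F] V) (hM2 : M ^ 2 = 0) : (1 + M) ^ 2 = 1 := by
  have h2 : (2 : F) = 0 := by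
    have := CharP.cast_eq_zero F 2
    exact_mod_cast this
  have hMM : M + M = 0 := by
    ext x
    simp only [LinearMap.add_apply, LinearMap.zero_apply]
    rw [← two_smul F (M x), h2, zero_smul]
  have h1 : (1 + M) ^ 2 = 1 + (M + M) + M ^ 2 := by noncomm_ring
  rw [h1, hMM, hM2, add_zero, add_zero]

/-- KEYSTONE 595417 K-UNd-UG, modulo U-E and U-F. -/
theorem exists_unip_block_of [Fintype F] (hF : Fintype.card F = q ^ 2) {p : ℕ} [Fact p.Prime]
    [CharP F p] (a : ℕ) (ha : 0 < a) (hap : a ≤ p)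
    (hUE : ∃ (β : (Fin a → F) → (Fin a → F) → F) (M : (Fin a → F) →ₗ[F] (Fin a → F)),
      HForm q β ∧ (∀ x y, β (M x) y = - β x (M y)) ∧ M ^ a = 0 ∧
      ∀ k : ℕ, finrank F (LinearMap.ker (M ^ k)) = min a k)
    (hUF : p ≠ 2 → ∀ (β : (Fin a → F) → (Fin a → F) → F), HForm q β →
      ∀ M : (Fin a → F) →ₗ[F] (Fin a → F), (∀ x y, β (M x) y = - β x (M y)) → M ^ p = 0 →
      ∃ u : (Fin a → F) →ₗ[F] (Fin a → F), Isom β u ∧ u ^ p = 1 ∧
        ∀ k : ℕ, LinearMap.ker ((u - 1) ^ k) = LinearMap.ker (M ^ k)) :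
    ∃ (β : (Fin a → F) → (Fin a → F) → F) (u : (Fin a → F) →ₗ[F] (Fin a → F)),
      HForm q β ∧ Isom β u ∧ u ^ p = 1 ∧
      ∀ k : ℕ, finrank F (LinearMap.ker ((u - 1) ^ k)) = min a k := by
  obtain ⟨β, M, hβ, hskew, hMa, hker⟩ := hUE
  have hMp : M ^ p = 0 := pow_eq_zero_of_le hap hMa
  by_cases hp2 : p = 2
  · subst hp2
    refine ⟨β, 1 + M, hβ, isom_one_add hF hβ M hskew hMp, one_add_sq M hMp, ?_⟩
    intro k
    rw [add_sub_cancel_left]
    exact hker k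
  · obtain ⟨u, hu1, hu2, hu3⟩ := hUF hp2 β hβ M hskew hMp
    refine ⟨β, u, hβ, hu1, hu2, ?_⟩
    intro k
    rw [hu3 k]
    exact hker k

/-- KEYSTONE 595417 K-UNd-UG, modulo U-E only (U-F = `Helper14.UNd.exists_cayley_u` plugged in). -/
theorem exists_unip_block_of_UE [Fintype F] (hF : Fintype.card F = q ^ 2) {p : ℕ} [Fact p.Prime]
    [CharP F p] (a : ℕ) (ha : 0 < a) (hap : a ≤ p)
    (hUE : ∃ (β : (Fin a → F) → (Fin a → F) → F) (M : (Fin a → F) →ₗ[F] (Fin a → F)),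
      HForm q β ∧ (∀ x y, β (M x) y = - β x (M y)) ∧ M ^ a = 0 ∧
      ∀ k : ℕ, finrank F (LinearMap.ker (M ^ k)) = min a k) :
    ∃ (β : (Fin a → F) → (Fin a → F) → F) (u : (Fin a → F) →ₗ[F] (Fin a → F)),
      HForm q β ∧ Isom β u ∧ u ^ p = 1 ∧
      ∀ k : ℕ, finrank F (LinearMap.ker ((u - 1) ^ k)) = min a k :=
  exists_unip_block_of hF a ha hap hUE
    (fun hp2 β hβ M hskew hMp => Cfsg.Agent.Lib.Helper14.UNd.exists_cayley_u hF hp2 hβ M hskew hMp)

end Cfsg.Agent.Lib.Helper62.UNd
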