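import Mathlib
import Cfsg.Agent.Lib.Helper62.UNdUGcore
import Cfsg.Agent.Lib.Helper90.UNdUE

/-!
K-UNd-UG (keystone 595417): the unipotent isometric Jordan block of size `a ≤ p` (final form).
-/

set_option autoImplicit false

namespace Cfsg.Agent.Lib.Helper62.UNd

open Module Cfsg.Agent.Lib.Helper99.HermONB Cfsg.Agent.Lib.Helper98.Elus Cfsg.Agent.Lib.Helper73.UNd

universe u
variable {F : Type u} [Field F]
variable {q : ℕ}

/-- KEYSTONE 595417  K-UNd-UG. -/
theorem exists_unip_block [Fintype F] (hF : Fintype.card F = q ^ 2) {p : ℕ} [Fact p.Prime]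
    [CharP F p] (a : ℕ) (ha : 0 < a) (hap : a ≤ p) :
    ∃ (β : (Fin a → F) → (Fin a → F) → F) (u : (Fin a → F) →ₗ[F] (Fin a → F)),
      HForm q β ∧ Isom β u ∧ u ^ p = 1 ∧
      ∀ k : ℕ, finrank F (LinearMap.ker ((u - 1) ^ k)) = min a k :=
  exists_unip_block_of_UE hF a ha hap (Cfsg.Agent.Lib.Helper90.UNd.exists_nilp_block hF a ha)

end Cfsg.Agent.Lib.Helper62.UNd
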