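import Mathlib
import Cfsg.Prelude.Def_OddOrderLocal
import Cfsg.Agent.Lib.Helper55.Basic
import Cfsg.Agent.Lib.Helper76.Fitting

/-!
# K-153-I1 (keystone 143808, pack K-153 / S1438, architect helper32): `le_normalizer_of_dvd` (pure)

`q ∣ |H|` for a Hall subgroup `H` of `N`, `Q` the normal Sylow `q`-subgroup of `N`: `Q ≤ H`, and `M` normalizes `H` by the
uniqueness of Hall subgroups over `Q`.
-/

set_option autoImplicit false
set_option linter.unusedVariables false

namespace Cfsg.Agent.Lib.Helper62.BG153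

open Cfsg Cfsg.Agent.Lib.Helper55

variable {G : Type*} [Group G] [Finite G]

/-- 143808 K-153-I1 (PURE) -/
theorem le_normalizer_of_dvd {M N H Q : Subgroup G} {q : ℕ} (hq : q.Prime)
    (hNM : N ≤ M) (hMN : M ≤ Subgroup.normalizer (N : Set G)) (hHN : H ≤ N)
    (hHall : (Nat.card H).Coprime (H.relIndex N))
    (hQN : Q ≤ N) (hMQ : M ≤ Subgroup.normalizer (Q : Set G)) (hQp : IsPGroup q Q)
    (hQS : (Nat.card Q).Coprime (Q.relIndex N))
    (huniq : ∀ T T' : Subgroup G, Q ≤ T → T ≤ N → Q ≤ T' → T' ≤ N →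
      (Nat.card T).Coprime (T.relIndex N) → Nat.card T' = Nat.card T → T' = T)
    (hqH : q ∣ Nat.card H) : M ≤ Subgroup.normalizer (H : Set G) := by
  haveI : Fact q.Prime := ⟨hq⟩
  -- `Q ≤ H`
  have hQH : Q ≤ H := by
    haveI hQn : (Q.subgroupOf N).Normal :=
      (Subgroup.normal_subgroupOf_iff_le_normalizer hQN).mpr (hNM.trans hMQ)
    have h1 : (H.subgroupOf N).relIndex (Q.subgroupOf N) ∣ (H.subgroupOf N).index :=
      Cfsg.Agent.Lib.Helper76.relIndex_dvd_index_of_normal_right (H.subgroupOf N) (Q.subgroupOf N)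
    rw [Subgroup.relIndex_subgroupOf hQN] at h1
    have h1' : H.relIndex Q ∣ H.relIndex N := h1
    have h2 : H.relIndex Q ∣ Nat.card Q := Subgroup.relIndex_dvd_card H Q
    obtain ⟨k, hk⟩ := IsPGroup.exists_card_eq hQp
    rw [hk] at h2
    obtain ⟨j, -, hj⟩ := (Nat.dvd_prime_pow hq).mp h2
    rw [← Subgroup.relIndex_eq_one, hj]
    rcases Nat.eq_zero_or_pos j with h0 | hpos
    · rw [h0, pow_zero]
    · exfalso
      have h3 : q ∣ H.relIndex Q := by rw [hj]; exact dvd_pow_self q hpos.ne'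
      exact Nat.not_coprime_of_dvd_of_dvd hq.one_lt hqH (dvd_trans h3 h1') hHall
  intro m hm
  rw [← cj_eq_self_iff]
  apply huniq H (cj m H) hQH hHN
  · have h1 : cj m Q = Q := cj_eq_self_iff.mpr (hMQ hm)
    rw [← h1]
    exact cj_mono hQH
  · have h1 : cj m N = N := cj_eq_self_iff.mpr (hMN hm)
    rw [← h1]
    exact cj_mono hHN
  · exact hHall
  · exact card_cj m H

end Cfsg.Agent.Lib.Helper62.BG153
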