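import Cfsg.Agent.Lib.Helper69.OPbDefs
import Cfsg.Agent.Lib.Helper50.SpinorCrit
import Cfsg.Agent.Lib.Helper50.SpinorIndex
import Cfsg.Agent.Lib.Helper13.OPb15

/-!
# K-OMb-4 (keystone 599104, pack S5991, architect helper32)

`g ∈ Ω(Q)` with `g² = -1` on a nondegenerate quadratic space of dimension `2d`, `d` odd: `2` is a square.
Reflection route: `g` is the product over `d` orthogonal invariant planes `⟨u, g u⟩` of `refl (u + g u) ∘ refl u`,
`Q (u + g u) = 2 Q u`, and the spinor criterion `Helper50.spinor_criterion`.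
-/

set_option autoImplicit false
set_option linter.unusedSimpArgs false
set_option linter.unusedVariables false
set_option linter.unusedSectionVars false

namespace Cfsg.Agent.Lib.Helper62.OMb

open Module Matrix Cfsg.Agent.Lib.Helper98.Elus Cfsg.Agent.Lib.Helper98.Sy
  Cfsg.Agent.Lib.Helper50 Cfsg.Agent.Lib.Helper19

universe u
variable {F : Type u} [Field F] {ι : Type} [Fintype ι] [DecidableEq ι]

/-- product of reflection matrices -/
noncomputable def RM (Q : QuadraticForm F (ι → F)) (l : List (ι → F)) : Matrix ι ι F :=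
  (l.map (fun v => Cfsg.reflectionMatrix (⇑Q) v)).prod

theorem RM_cons (Q : QuadraticForm F (ι → F)) (a : ι → F) (t : List (ι → F)) :
    RM Q (a :: t) = Cfsg.reflectionMatrix (⇑Q) a * RM Q t := by
  simp [RM]

theorem refl_fix (Q : QuadraticForm F (ι → F)) (w v : ι → F)
    (h : QuadraticMap.polar (⇑Q) w v = 0) : Cfsg.reflectionMatrix (⇑Q) w *ᵥ v = v := by
  rw [reflectionMatrix_mulVec, h, mul_zero, zero_smul, sub_zero]

theorem RM_fix (Q : QuadraticForm F (ι → F)) (l : List (ι → F)) (v : ι → F)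
    (h : ∀ w ∈ l, QuadraticMap.polar (⇑Q) w v = 0) : RM Q l *ᵥ v = v := by
  induction l with
  | nil => simp [RM]
  | cons a t ih =>
    rw [RM_cons, ← Matrix.mulVec_mulVec, ih (fun w hw => h w (List.mem_cons_of_mem _ hw)),
      refl_fix Q a v (h a List.mem_cons_self)]

theorem plane_step (h2 : (2 : F) ≠ 0) (Q : QuadraticForm F (ι → F)) (u a : ι → F)
    (hu : Q u ≠ 0) (ha : Q a = Q u) (hua : QuadraticMap.polar (⇑Q) u a = 0) :
    (Cfsg.reflectionMatrix (⇑Q) (u + a) * Cfsg.reflectionMatrix (⇑Q) u) *ᵥ u = a ∧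
    (Cfsg.reflectionMatrix (⇑Q) (u + a) * Cfsg.reflectionMatrix (⇑Q) u) *ᵥ a = -u ∧
    Q (u + a) = 2 * Q u := by
  have hQua : Q (u + a) = 2 * Q u := by
    have h1 := QuadraticMap.map_add (⇑Q) u a
    rw [h1, ha, hua]; ring
  have hau : QuadraticMap.polar (⇑Q) a u = 0 := by rw [QuadraticMap.polar_comm]; exact hua
  have huu : QuadraticMap.polar (⇑Q) u u = 2 * Q u := by
    rw [QuadraticMap.polar_self]; simp
  have haa : QuadraticMap.polar (⇑Q) a a = 2 * Q u := by
    rw [QuadraticMap.polar_self, ha]; simp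
  have h1 : Cfsg.reflectionMatrix (⇑Q) u *ᵥ u = -u := by
    rw [reflectionMatrix_mulVec, huu]
    have : (Q u)⁻¹ * (2 * Q u) = 2 := by field_simp
    rw [this]
    module
  have h2' : Cfsg.reflectionMatrix (⇑Q) u *ᵥ a = a := refl_fix Q u a hua
  have h3 : QuadraticMap.polar (⇑Q) (u + a) u = 2 * Q u := by
    rw [QuadraticMap.polar_add_left, huu, hau, add_zero]
  have h4 : QuadraticMap.polar (⇑Q) (u + a) a = 2 * Q u := by
    rw [QuadraticMap.polar_add_left, hua, haa, zero_add]
  have h2Q : (2 * Q u) ≠ 0 := mul_ne_zero h2 hu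
  have h5 : Cfsg.reflectionMatrix (⇑Q) (u + a) *ᵥ u = -a := by
    rw [reflectionMatrix_mulVec, h3, hQua, inv_mul_cancel₀ h2Q]
    module
  have h6 : Cfsg.reflectionMatrix (⇑Q) (u + a) *ᵥ a = -u := by
    rw [reflectionMatrix_mulVec, h4, hQua, inv_mul_cancel₀ h2Q]
    module
  refine ⟨?_, ?_, hQua⟩
  · rw [← Matrix.mulVec_mulVec, h1, Matrix.mulVec_neg, h5, neg_neg]
  · rw [← Matrix.mulVec_mulVec, h2', h6]

theorem polar_A (Q : QuadraticForm F (ι → F)) (A : Matrix ι ι F) (hAQ : ∀ v, Q (A *ᵥ v) = Q v)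
    (v w : ι → F) :
    QuadraticMap.polar (⇑Q) (A *ᵥ v) (A *ᵥ w) = QuadraticMap.polar (⇑Q) v w := by
  unfold QuadraticMap.polar
  rw [← Matrix.mulVec_add, hAQ, hAQ, hAQ]

/-- the inductive statement: on an invariant nondegenerate subspace of dimension `2e`, `A` is a product of `2e`
reflections in vectors of that subspace with product of norms `2^e s²` -/
theorem exists_refl_list (h2 : (2 : F) ≠ 0) (Q : QuadraticForm F (ι → F)) (A : Matrix ι ι F)
    (hA2 : ∀ v, A *ᵥ (A *ᵥ v) = -v) (hAQ : ∀ v, Q (A *ᵥ v) = Q v) :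
    ∀ (e : ℕ) (U : Submodule F (ι → F)), (∀ v ∈ U, A *ᵥ v ∈ U) →
      NonDeg (QuadraticMap.polarBilin Q) U → finrank F U = 2 * e →
      ∃ l : List (ι → F), (∀ w ∈ l, w ∈ U ∧ Q w ≠ 0) ∧ l.length = 2 * e ∧
        (∀ v ∈ U, RM Q l *ᵥ v = A *ᵥ v) ∧
        ∃ s : F, s ≠ 0 ∧ (l.map (fun v => Q v)).prod = 2 ^ e * s ^ 2 := by
  have hBp : ∀ x y, QuadraticMap.polarBilin Q x y = QuadraticMap.polar (⇑Q) x y :=
    fun x y => QuadraticMap.polarBilin_apply_apply ..
  have hS : ∀ a b, QuadraticMap.polarBilin Q a b = QuadraticMap.polarBilin Q b a :=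
    Cfsg.Agent.Lib.Helper13.OPb.polarBilin_symm Q
  have hR := Cfsg.Agent.Lib.Helper98.Os.isRefl_of_symm hS
  have hpA := polar_A Q A hAQ
  intro e
  induction e with
  | zero =>
    intro U _ _ hdim
    have hU : U = ⊥ := by
      rw [← Submodule.finrank_eq_zero]
      simpa using hdim
    refine ⟨[], by simp, by simp, ?_, 1, one_ne_zero, by simp⟩
    intro v hv
    rw [hU, Submodule.mem_bot] at hv
    subst hv
    simp
  | succ e ih =>
    intro U hUinv hUnd hdim
    -- a non-singular vector of `U`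
    obtain ⟨u, huU, hu⟩ : ∃ u ∈ U, Q u ≠ 0 := by
      by_contra hcon
      push Not at hcon
      have hpos : 0 < finrank F U := by omega
      obtain ⟨w, hw⟩ := Module.finrank_pos_iff_exists_ne_zero.mp hpos
      apply hw
      apply Subtype.ext
      apply hUnd w.1 w.2
      intro v hv
      rw [hBp]
      unfold QuadraticMap.polar
      rw [hcon _ (U.add_mem w.2 hv), hcon _ w.2, hcon _ hv]
      simp
    obtain ⟨a, ha⟩ : ∃ a, a = A *ᵥ u := ⟨_, rfl⟩
    have haU : a ∈ U := by rw [ha]; exact hUinv u huU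
    have hQa : Q a = Q u := by rw [ha]; exact hAQ u
    have hAa : A *ᵥ a = -u := by rw [ha]; exact hA2 u
    have hua : QuadraticMap.polar (⇑Q) u a = 0 := by
      have h1 := hpA u a
      rw [hAa, ← ha, QuadraticMap.polar_neg_right, QuadraticMap.polar_comm] at h1
      have h3 : (2 : F) * QuadraticMap.polar (⇑Q) u a = 0 := by linear_combination (-1 : F) * h1
      rcases mul_eq_zero.mp h3 with h4 | h4
      · exact absurd h4 h2
      · exact h4
    have hau : QuadraticMap.polar (⇑Q) a u = 0 := by rw [QuadraticMap.polar_comm]; exact hua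
    have huu : QuadraticMap.polar (⇑Q) u u = 2 * Q u := by
      rw [QuadraticMap.polar_self]; simp
    have haa : QuadraticMap.polar (⇑Q) a a = 2 * Q u := by
      rw [QuadraticMap.polar_self, hQa]; simp
    have h2Q : (2 * Q u) ≠ 0 := mul_ne_zero h2 hu
    obtain ⟨hMu, hMa, hQua⟩ := plane_step h2 Q u a hu hQa hua
    have hPmem : ∀ v, v ∈ Submodule.span F {u, a} ↔ ∃ s t : F, s • u + t • a = v :=
      fun v => Submodule.mem_span_pair
    have hcoef : ∀ s t : F, QuadraticMap.polar (⇑Q) (s • u + t • a) u = 0 →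
        QuadraticMap.polar (⇑Q) (s • u + t • a) a = 0 → s = 0 ∧ t = 0 := by
      intro s t h1 h3
      rw [QuadraticMap.polar_add_left, QuadraticMap.polar_smul_left, QuadraticMap.polar_smul_left,
        huu, hau, smul_eq_mul, smul_eq_mul, mul_zero, add_zero] at h1
      rw [QuadraticMap.polar_add_left, QuadraticMap.polar_smul_left, QuadraticMap.polar_smul_left,
        hua, haa, smul_eq_mul, smul_eq_mul, mul_zero, zero_add] at h3
      exact ⟨(mul_eq_zero.mp h1).resolve_right h2Q, (mul_eq_zero.mp h3).resolve_right h2Q⟩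
    have huP : u ∈ Submodule.span F {u, a} := Submodule.subset_span (by simp)
    have haP : a ∈ Submodule.span F {u, a} := Submodule.subset_span (by simp)
    have hPnd : NonDeg (QuadraticMap.polarBilin Q) (Submodule.span F {u, a}) := by
      intro v hv hv'
      obtain ⟨s, t, rfl⟩ := (hPmem v).mp hv
      have h1 := hv' u huP
      have h3 := hv' a haP
      rw [hBp] at h1 h3
      obtain ⟨hs, ht⟩ := hcoef s t h1 h3
      rw [hs, ht, zero_smul, zero_smul, add_zero]
    have hli : LinearIndependent F ![u, a] := by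
      rw [LinearIndependent.pair_iff]
      intro s t hst
      apply hcoef s t
      · rw [hst]; simp
      · rw [hst]; simp
    have hPdim : finrank F (Submodule.span F {u, a}) = 2 := by
      have h1 := finrank_span_eq_card hli
      rw [Fintype.card_fin, Matrix.range_cons_cons_empty] at h1
      exact h1
    have hPU : Submodule.span F {u, a} ≤ U := by
      rw [Submodule.span_le]
      intro v hv
      rcases hv with rfl | hv
      · exact huU
      · rw [Set.mem_singleton_iff] at hv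
        rw [hv]
        exact haU
    obtain ⟨hsup, hinf, hU'nd, hU'dim⟩ :=
      Cfsg.Agent.Lib.Helper98.Os.compl_props hR (Submodule.span F {u, a}) U hPnd hPU hUnd
    have hmemU' : ∀ v, v ∈ LinearMap.BilinForm.orthogonal (QuadraticMap.polarBilin Q) (Submodule.span F {u, a}) ⊓ U ↔
        (QuadraticMap.polar (⇑Q) u v = 0 ∧ QuadraticMap.polar (⇑Q) a v = 0) ∧ v ∈ U := by
      intro v
      rw [Submodule.mem_inf, LinearMap.BilinForm.mem_orthogonal_iff]
      constructor
      · rintro ⟨h1, h3⟩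
        refine ⟨⟨?_, ?_⟩, h3⟩
        · have h4 : QuadraticMap.polarBilin Q u v = 0 := h1 u huP
          rwa [hBp] at h4
        · have h4 : QuadraticMap.polarBilin Q a v = 0 := h1 a haP
          rwa [hBp] at h4
      · rintro ⟨⟨h1, h3⟩, h4⟩
        refine ⟨?_, h4⟩
        intro p hp
        obtain ⟨s, t, rfl⟩ := (hPmem p).mp hp
        show QuadraticMap.polarBilin Q (s • u + t • a) v = 0
        rw [hBp, QuadraticMap.polar_add_left, QuadraticMap.polar_smul_left,
          QuadraticMap.polar_smul_left, h1, h3]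
        simp
    have hU'inv : ∀ v ∈ LinearMap.BilinForm.orthogonal (QuadraticMap.polarBilin Q) (Submodule.span F {u, a}) ⊓ U,
        A *ᵥ v ∈ LinearMap.BilinForm.orthogonal (QuadraticMap.polarBilin Q) (Submodule.span F {u, a}) ⊓ U := by
      intro v hv
      obtain ⟨⟨h1, h3⟩, h4⟩ := (hmemU' v).mp hv
      refine (hmemU' _).mpr ⟨⟨?_, ?_⟩, hUinv v h4⟩
      · have h5 := hpA a v
        rw [hAa, QuadraticMap.polar_neg_left, h3] at h5
        exact neg_eq_zero.mp h5
      · have h5 := hpA u v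
        rw [← ha, h1] at h5
        exact h5
    have hU'dim2 : finrank F ↥(LinearMap.BilinForm.orthogonal (QuadraticMap.polarBilin Q) (Submodule.span F {u, a}) ⊓ U)
        = 2 * e := by omega
    obtain ⟨l', hl'mem, hl'len, hl'act, s, hs, hprod⟩ := ih _ hU'inv hU'nd hU'dim2
    refine ⟨(u + a) :: u :: l', ?_, ?_, ?_, Q u * s, mul_ne_zero hu hs, ?_⟩
    · intro w hw
      rcases List.mem_cons.mp hw with rfl | hw
      · exact ⟨U.add_mem huU haU, by rw [hQua]; exact h2Q⟩
      rcases List.mem_cons.mp hw with rfl | hw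
      · exact ⟨huU, hu⟩
      · exact ⟨((hmemU' w).mp (hl'mem w hw).1).2, (hl'mem w hw).2⟩
    · simp only [List.length_cons, hl'len]
      ring
    · intro v hv
      rw [← hsup] at hv
      obtain ⟨p, hp, v', hv', rfl⟩ := Submodule.mem_sup.mp hv
      obtain ⟨s', t', rfl⟩ := (hPmem p).mp hp
      have hfixp : RM Q l' *ᵥ (s' • u + t' • a) = s' • u + t' • a := by
        apply RM_fix
        intro w hw
        obtain ⟨⟨h1, h3⟩, -⟩ := (hmemU' w).mp (hl'mem w hw).1
        rw [QuadraticMap.polar_comm, QuadraticMap.polar_add_left, QuadraticMap.polar_smul_left,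
          QuadraticMap.polar_smul_left, h1, h3]
        simp
      obtain ⟨⟨h1, h3⟩, -⟩ := (hmemU' _).mp (hU'inv v' hv')
      have hfixv : (Cfsg.reflectionMatrix (⇑Q) (u + a) * Cfsg.reflectionMatrix (⇑Q) u) *ᵥ (A *ᵥ v')
          = A *ᵥ v' := by
        rw [← Matrix.mulVec_mulVec, refl_fix Q u _ h1, refl_fix Q (u + a) _
          (by rw [QuadraticMap.polar_add_left, h1, h3, add_zero])]
      rw [RM_cons, RM_cons, ← Matrix.mul_assoc, ← Matrix.mulVec_mulVec, Matrix.mulVec_add (RM Q l'),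
        hfixp, hl'act v' hv', Matrix.mulVec_add, hfixv, Matrix.mulVec_add, Matrix.mulVec_smul,
        Matrix.mulVec_smul, hMu, hMa, Matrix.mulVec_add, Matrix.mulVec_add, Matrix.mulVec_smul,
        Matrix.mulVec_smul, ← ha, hAa]
    · simp only [List.map_cons, List.prod_cons, hprod, hQua]
      ring

/-- LEAF 4. -/
theorem isSquare_two_of_sq_neg_one [Fintype F] (h2 : (2 : F) ≠ 0) {ι : Type} [Fintype ι] [DecidableEq ι]
    (Q : QuadraticForm F (ι → F)) (hQ : (QuadraticMap.polarBilin Q).Nondegenerate) (d : ℕ) (hd : Odd d)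
    (hcard : Fintype.card ι = 2 * d)
    (g : ↥(Cfsg.isometryGroup F (⇑Q))) (hg : g ∈ commutator ↥(Cfsg.isometryGroup F (⇑Q)))
    (hsq : ((g : GL ι F) : Matrix ι ι F) * ((g : GL ι F) : Matrix ι ι F) = -1) : IsSquare (2 : F) := by
  have hA2 : ∀ v : ι → F, ((g : GL ι F) : Matrix ι ι F) *ᵥ (((g : GL ι F) : Matrix ι ι F) *ᵥ v) = -v := by
    intro v
    rw [Matrix.mulVec_mulVec, hsq, Matrix.neg_mulVec, Matrix.one_mulVec]
  have hAQ : ∀ v : ι → F, Q (((g : GL ι F) : Matrix ι ι F) *ᵥ v) = Q v := fun v => g.2 v v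
  have hdim : finrank F (⊤ : Submodule F (ι → F)) = 2 * d := by
    rw [finrank_top, Module.finrank_fintype_fun_eq_card, hcard]
  obtain ⟨l, hlmem, hllen, hlact, s, hs, hprod⟩ :=
    exists_refl_list h2 Q ((g : GL ι F) : Matrix ι ι F) hA2 hAQ d ⊤ (fun _ _ => Submodule.mem_top)
      (Cfsg.Agent.Lib.Helper13.OPb.nonDeg_top_of_nondegenerate Q hQ) hdim
  have hgl : ((g : GL ι F) : Matrix ι ι F) = (l.map (fun v => Cfsg.reflectionMatrix (⇑Q) v)).prod := by
    have h1 : ∀ v : ι → F, (l.map (fun v => Cfsg.reflectionMatrix (⇑Q) v)).prod *ᵥ v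
        = ((g : GL ι F) : Matrix ι ι F) *ᵥ v := fun v => hlact v Submodule.mem_top
    apply Matrix.toLin'.injective
    apply LinearMap.ext
    intro v
    rw [Matrix.toLin'_apply, Matrix.toLin'_apply, h1]
  obtain ⟨-, r, hr⟩ := (spinor_criterion h2 Q g l (fun v hv => (hlmem v hv).2) hgl).mp hg
  rw [hprod] at hr
  obtain ⟨k, rfl⟩ := hd
  have hs2 : s ^ 2 ≠ 0 := pow_ne_zero 2 hs
  have h2k : (2 : F) ^ k ≠ 0 := pow_ne_zero k h2
  refine ⟨r / (2 ^ k * s), ?_⟩
  have hden : (2 : F) ^ k * s ≠ 0 := mul_ne_zero h2k hs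
  rw [div_mul_div_comm, ← hr, eq_div_iff (mul_ne_zero hden hden)]
  ring

end Cfsg.Agent.Lib.Helper62.OMb
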