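import Cfsg.Agent.Lib.Helper64.StBDefs

/-!
K-S2311-C0 / K-C1a (keystone 2311009): a finite set of representatives of `N / T`, and invariance of
`RedJK` under `Eqv`.
-/

set_option autoImplicit false

namespace Cfsg.Agent.Lib.Helper62.StB

open Cfsg Cfsg.Agent.Lib.Helper08 Cfsg.Agent.Lib.Helper64.StB

variable {G : Type*} [Group G] (P : Cfsg.BNPair G)

/-- the setoid `n T = m T` on `N` -/
def eqvSetoid : Setoid P.N where
  r n m := Eqv P (n : G) (m : G)
  iseqv := ⟨fun n => Eqv_refl P n, fun h => Eqv_symm P h, fun h1 h2 => Eqv_trans P h1 h2⟩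

/-- K-C0. -/
theorem exists_isTrans [Finite G] : ∃ R : Finset G, IsTrans P R := by
  classical
  have : Fintype (Quotient (eqvSetoid P)) := Fintype.ofFinite _
  refine ⟨Finset.univ.image (fun q : Quotient (eqvSetoid P) => ((Quotient.out q : P.N) : G)), ?_, ?_, ?_⟩
  · intro r hr
    obtain ⟨q, -, rfl⟩ := Finset.mem_image.1 hr
    exact (Quotient.out q).2
  · intro n hn
    refine ⟨_, Finset.mem_image.2 ⟨Quotient.mk (eqvSetoid P) ⟨n, hn⟩, Finset.mem_univ _, rfl⟩, ?_⟩
    have h : (eqvSetoid P).r (Quotient.out (Quotient.mk (eqvSetoid P) ⟨n, hn⟩)) ⟨n, hn⟩ :=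
      Quotient.exact (Quotient.out_eq _)
    exact h
  · intro r hr r' hr' h
    obtain ⟨q, -, rfl⟩ := Finset.mem_image.1 hr
    obtain ⟨q', -, rfl⟩ := Finset.mem_image.1 hr'
    have hq : q = q' := by
      rw [← Quotient.out_eq q, ← Quotient.out_eq q']
      exact Quotient.sound h
    rw [hq]

/-- K-C1a. -/
theorem redJK_congr {J K : Set G} (hJ : J ⊆ P.S) (hK : K ⊆ P.S) {n m : G} (hm : m ∈ P.N)
    (h : Eqv P n m) (hn : RedJK P J K n) : RedJK P J K m := by
  obtain ⟨hnN, hL, hR⟩ := hn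
  have h0 : len P n = len P m := len_congr P h
  refine ⟨hm, ?_, ?_⟩
  · intro s hs
    have h1 : len P (s * n) = len P (s * m) := len_congr P (Eqv_mul_left P s h)
    rw [← h0, ← h1]
    exact hL s hs
  · intro t ht
    have h1 : len P (n * t) = len P (m * t) :=
      len_congr P (Eqv_mul_right P hnN hm (S_mem_N P (hK ht)) h)
    rw [← h0, ← h1]
    exact hR t ht

end Cfsg.Agent.Lib.Helper62.StB
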