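/-
K-OPb-4 (keystone 598904, S5989/S5991): elements `x` of `Ω⁺_{2d}(q)` with `x * x = -1`
(`d` even, or `q ≡ 1 (mod 8)`), via `Helper50.diagPlusO`.
-/
import Mathlib
import Cfsg.Agent.Lib.Helper50.DiagPlus
import Cfsg.Agent.Lib.Helper50.GeoBridge

set_option autoImplicit false

namespace Cfsg.Agent.Lib.Helper62.OPb

open Matrix Cfsg.Agent.Lib.Helper50

variable {F : Type*} [Field F]

/-- `diag(A, A⁻ᵀ)` squares to `-1` when `A` does. -/
theorem diagPlusO_mul_self {d : ℕ} (A : GL (Fin d) F)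
    (hA : (A : Matrix (Fin d) (Fin d) F) * (A : Matrix (Fin d) (Fin d) F) = -1) :
    (((diagPlusO A : ↥(Cfsg.isometryGroup F (⇑(QPlus d F)))) : GL (Fin d ⊕ Fin d) F) :
      Matrix (Fin d ⊕ Fin d) (Fin d ⊕ Fin d) F) *
    (((diagPlusO A : ↥(Cfsg.isometryGroup F (⇑(QPlus d F)))) : GL (Fin d ⊕ Fin d) F) :
      Matrix (Fin d ⊕ Fin d) (Fin d ⊕ Fin d) F) = -1 := by
  have h1 : (A : Matrix (Fin d) (Fin d) F) * ((A⁻¹ : GL (Fin d) F) : Matrix (Fin d) (Fin d) F) = 1 := by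
    rw [← Units.val_mul, mul_inv_cancel, Units.val_one]
  have h2 : ((A⁻¹ : GL (Fin d) F) : Matrix (Fin d) (Fin d) F) * (A : Matrix (Fin d) (Fin d) F) = 1 := by
    rw [← Units.val_mul, inv_mul_cancel, Units.val_one]
  have h3 : ((A⁻¹ : GL (Fin d) F) : Matrix (Fin d) (Fin d) F) = -(A : Matrix (Fin d) (Fin d) F) := by
    calc ((A⁻¹ : GL (Fin d) F) : Matrix (Fin d) (Fin d) F)
        = ((A⁻¹ : GL (Fin d) F) : Matrix (Fin d) (Fin d) F) *
          ((A : Matrix (Fin d) (Fin d) F) * (-(A : Matrix (Fin d) (Fin d) F))) := by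
          rw [Matrix.mul_neg, hA, neg_neg, Matrix.mul_one]
      _ = -(A : Matrix (Fin d) (Fin d) F) := by
          rw [← Matrix.mul_assoc, h2, Matrix.one_mul]
  have h4 : ((A⁻¹ : GL (Fin d) F) : Matrix (Fin d) (Fin d) F)ᵀ *
      ((A⁻¹ : GL (Fin d) F) : Matrix (Fin d) (Fin d) F)ᵀ = -1 := by
    rw [← Matrix.transpose_mul, h3, Matrix.neg_mul, Matrix.mul_neg, neg_neg, hA, Matrix.transpose_neg,
      Matrix.transpose_one]
  rw [diagPlusO_val, Matrix.fromBlocks_multiply, hA, h4]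
  simp only [Matrix.mul_zero, Matrix.zero_mul, add_zero, zero_add]
  rw [← Matrix.fromBlocks_one, Matrix.fromBlocks_neg, neg_zero]

/-- the general recipe: `A * A = -1`, `det A` a square. -/
theorem exists_of_sq_neg_one [Fintype F] (h2 : (2 : F) ≠ 0) {d : ℕ} (A : GL (Fin d) F)
    (hA : (A : Matrix (Fin d) (Fin d) F) * (A : Matrix (Fin d) (Fin d) F) = -1)
    (hdet : IsSquare (A : Matrix (Fin d) (Fin d) F).det) :
    ∃ x : GL (Fin d ⊕ Fin d) F, x ∈ Cfsg.Geo.omegaGL (Cfsg.quadFormPlus d F) ∧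
      (x : Matrix (Fin d ⊕ Fin d) (Fin d ⊕ Fin d) F) * (x : Matrix (Fin d ⊕ Fin d) (Fin d ⊕ Fin d) F) = -1 := by
  refine ⟨((diagPlusO A : ↥(Cfsg.isometryGroup F (⇑(QPlus d F)))) : GL (Fin d ⊕ Fin d) F), ?_,
    diagPlusO_mul_self A hA⟩
  rw [← QPlus_coe]
  exact coe_mem_omegaGL _ _ ((diagPlusO_mem_Omega_iff h2 A).mpr hdet)

/-- the `2 × 2` block. -/
def J2 (F : Type*) [Field F] : Matrix (Fin 2) (Fin 2) F := !![0, -1; 1, 0]

theorem J2_mul_self : J2 F * J2 F = -1 := by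
  ext i j
  fin_cases i <;> fin_cases j <;> simp [J2, Matrix.mul_apply, Fin.sum_univ_two]

theorem J2_det : (J2 F).det = 1 := by
  simp [J2, Matrix.det_fin_two]

/-- LEAF 4a. -/
theorem exists_sq_neg_one_of_even [Fintype F] (h2 : (2 : F) ≠ 0) (d : ℕ) (hd : Even d) :
    ∃ x : GL (Fin d ⊕ Fin d) F, x ∈ Cfsg.Geo.omegaGL (Cfsg.quadFormPlus d F) ∧
      (x : Matrix (Fin d ⊕ Fin d) (Fin d ⊕ Fin d) F) * (x : Matrix (Fin d ⊕ Fin d) (Fin d ⊕ Fin d) F) = -1 := by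
  obtain ⟨k, hk⟩ := hd
  have hk2 : 2 * k = d := by omega
  let e : Fin 2 × Fin k ≃ Fin d := finProdFinEquiv.trans (finCongr hk2)
  let A' : Matrix (Fin 2 × Fin k) (Fin 2 × Fin k) F := Matrix.blockDiagonal (fun _ : Fin k => J2 F)
  have hA'2 : A' * A' = -1 := by
    show Matrix.blockDiagonal (fun _ : Fin k => J2 F) * Matrix.blockDiagonal (fun _ : Fin k => J2 F) = -1
    rw [← Matrix.blockDiagonal_mul]
    have : (fun k_1 : Fin k => J2 F * J2 F) = -(1 : Fin k → Matrix (Fin 2) (Fin 2) F) := by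
      funext i
      rw [J2_mul_self]
      rfl
    rw [this, Matrix.blockDiagonal_neg, Matrix.blockDiagonal_one]
  have hA'det : A'.det = 1 := by
    show (Matrix.blockDiagonal (fun _ : Fin k => J2 F)).det = 1
    rw [Matrix.det_blockDiagonal]
    simp [J2_det]
  let A₀ : Matrix (Fin d) (Fin d) F := A'.submatrix e.symm e.symm
  have hA₀2 : A₀ * A₀ = -1 := by
    show A'.submatrix e.symm e.symm * A'.submatrix e.symm e.symm = -1
    rw [Matrix.submatrix_mul_equiv, hA'2]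
    ext i j
    simp [Matrix.one_apply]
  have hA₀det : A₀.det = 1 := by
    show (A'.submatrix e.symm e.symm).det = 1
    rw [Matrix.det_submatrix_equiv_self, hA'det]
  have hne : A₀.det ≠ 0 := by rw [hA₀det]; exact one_ne_zero
  refine exists_of_sq_neg_one h2 (Matrix.GeneralLinearGroup.mkOfDetNeZero A₀ hne) hA₀2 ?_
  show IsSquare A₀.det
  rw [hA₀det]
  exact IsSquare.one

/-- LEAF 4b. -/
theorem exists_sq_neg_one_of_mod_eight [Fintype F] (hq : Fintype.card F % 8 = 1) (d : ℕ) :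
    ∃ x : GL (Fin d ⊕ Fin d) F, x ∈ Cfsg.Geo.omegaGL (Cfsg.quadFormPlus d F) ∧
      (x : Matrix (Fin d ⊕ Fin d) (Fin d ⊕ Fin d) F) * (x : Matrix (Fin d ⊕ Fin d) (Fin d ⊕ Fin d) F) = -1 := by
  have hodd : Fintype.card F % 2 = 1 := by omega
  have hchar : ringChar F ≠ 2 := by
    intro h
    have := FiniteField.even_card_of_char_two h
    omega
  have h2 : (2 : F) ≠ 0 := Ring.two_ne_zero hchar
  -- `-1` is a square
  have hm1 : IsSquare (-1 : F) := by
    rw [FiniteField.isSquare_neg_one_iff]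
    omega
  obtain ⟨ι, hι⟩ := hm1
  have hι0 : ι ≠ 0 := by
    rintro rfl
    rw [mul_zero] at hι
    exact one_ne_zero (neg_eq_zero.mp hι)
  -- `ι` is a square
  have hιsq : IsSquare ι := by
    rw [FiniteField.isSquare_iff hchar hι0]
    have h4 : ι ^ 4 = 1 := by
      have : ι ^ 4 = (ι * ι) * (ι * ι) := by ring
      rw [this, ← hι]; ring
    obtain ⟨t, ht⟩ : ∃ t, Fintype.card F / 2 = 4 * t := ⟨Fintype.card F / 8, by omega⟩
    rw [ht, pow_mul, h4, one_pow]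
  -- the scalar matrix
  let A₀ : Matrix (Fin d) (Fin d) F := ι • (1 : Matrix (Fin d) (Fin d) F)
  have hA₀det : A₀.det = ι ^ d := by
    show (ι • (1 : Matrix (Fin d) (Fin d) F)).det = ι ^ d
    rw [Matrix.det_smul, Matrix.det_one, mul_one, Fintype.card_fin]
  have hne : A₀.det ≠ 0 := by rw [hA₀det]; exact pow_ne_zero d hι0
  have hA₀2 : A₀ * A₀ = -1 := by
    show (ι • (1 : Matrix (Fin d) (Fin d) F)) * (ι • (1 : Matrix (Fin d) (Fin d) F)) = -1
    rw [Matrix.smul_mul, Matrix.mul_smul, Matrix.one_mul, smul_smul, ← hι, neg_smul, one_smul]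
  refine exists_of_sq_neg_one h2 (Matrix.GeneralLinearGroup.mkOfDetNeZero A₀ hne) hA₀2 ?_
  show IsSquare A₀.det
  rw [hA₀det]
  exact hιsq.pow d

end Cfsg.Agent.Lib.Helper62.OPb
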