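import Mathlib
import Cfsg.Prelude.Def_GeometricClasses
import Cfsg.Agent.Lib.Helper61.AschDefs
import Cfsg.Agent.Lib.Helper43.SpAschDefs
import Cfsg.Agent.Lib.Helper43.SpAschDefs2

/-!
K-SpAsch-T8 (keystone 566238): transport of the `quad` constructor of `SGeom` along a bijection of index types.
-/

set_option autoImplicit false

namespace Cfsg.Agent.Lib.Helper62.SpAsch

open Cfsg Cfsg.Geo Cfsg.Agent.Lib.Helper61.Asch Cfsg.Agent.Lib.Helper43.SpAsch
open scoped Matrix Kronecker MatrixGroups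

variable {ι κ : Type} [Fintype ι] [DecidableEq ι] [Fintype κ] [DecidableEq κ] {F : Type*} [Field F] [Fintype F]

theorem comp_symm_comp (e : ι ≃ κ) (w : ι → F) : (w ∘ e.symm) ∘ e = w := by
  funext i; simp

theorem comp_comp_symm (e : ι ≃ κ) (x : κ → F) : (x ∘ e) ∘ e.symm = x := by
  funext i; simp

theorem polar_comp_symm (e : ι ≃ κ) (Q : (κ → F) → F) (u v : ι → F) :
    QuadraticMap.polar (fun w : ι → F => Q (w ∘ e.symm)) u v =
      QuadraticMap.polar Q (u ∘ e.symm) (v ∘ e.symm) := by
  unfold QuadraticMap.polar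
  rfl

/-- **K-SpAsch-T8** -/
theorem sgeom_transport_quad (e : ι ≃ κ) (f : (ι → F) → (ι → F) → F) (K : Subgroup (GL ι F))
    (hq : ¬ Odd (Fintype.card F)) (Q : (κ → F) → F) (hQ : IsNondegenerateQuadraticForm Q)
    (hpol : ∀ u v, QuadraticMap.polar Q u v = formMap e f u v)
    (hK : K.map (glMap e).toMonoidHom ≤ quadSimilarityGroup Q) : SGeom f K := by
  refine SGeom.quad hq (fun w : ι → F => Q (w ∘ e.symm)) ?_ ?_ ?_
  · refine ⟨?_, ?_, ?_⟩
    · intro c v
      have : (c • v) ∘ e.symm = c • (v ∘ e.symm) := rfl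
      change Q ((c • v) ∘ e.symm) = c ^ 2 * Q (v ∘ e.symm)
      rw [this, hQ.smul]
    · refine ⟨?_, ?_, ?_, ?_⟩
      · intro x y v
        rw [polar_comp_symm, polar_comp_symm, polar_comp_symm]
        exact hQ.polar_bilinear.add_left _ _ _
      · intro c x v
        rw [polar_comp_symm, polar_comp_symm]
        exact hQ.polar_bilinear.smul_left _ _ _
      · intro v x y
        rw [polar_comp_symm, polar_comp_symm, polar_comp_symm]
        exact hQ.polar_bilinear.add_right _ _ _
      · intro c v x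
        rw [polar_comp_symm, polar_comp_symm]
        exact hQ.polar_bilinear.smul_right _ _ _
    · intro v hv
      have hv' : v ∘ e.symm ≠ 0 := by
        intro h
        apply hv
        have := congrArg (fun w : κ → F => w ∘ e) h
        simpa [comp_symm_comp] using this
      obtain ⟨⟨x, hx⟩, ⟨y, hy⟩⟩ := hQ.nondegenerate _ hv'
      refine ⟨⟨x ∘ e, ?_⟩, ⟨y ∘ e, ?_⟩⟩
      · rw [polar_comp_symm, comp_comp_symm]; exact hx
      · rw [polar_comp_symm, comp_comp_symm]; exact hy
  · intro u v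
    rw [polar_comp_symm, hpol]
    unfold formMap
    rw [comp_symm_comp, comp_symm_comp]
  · intro g hg
    have hmem : (glMap e).toMonoidHom g ∈ quadSimilarityGroup Q :=
      hK (Subgroup.mem_map_of_mem _ hg)
    obtain ⟨c, hc⟩ := hmem
    refine ⟨c, fun w => ?_⟩
    have h1 := hc (w ∘ e.symm)
    have h2 : (((glMap e).toMonoidHom g : GL κ F) : Matrix κ κ F) *ᵥ (w ∘ e.symm) =
        ((g : Matrix ι ι F) *ᵥ w) ∘ e.symm := by
      change ((glMap e g : GL κ F) : Matrix κ κ F) *ᵥ (w ∘ e.symm) = _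
      rw [glMap_mulVec, comp_symm_comp]
    rw [h2] at h1
    exact h1

end Cfsg.Agent.Lib.Helper62.SpAsch
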