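import Cfsg.Agent.Lib.Helper48.StODefs
import Cfsg.Agent.Lib.Helper86.StOR0a

/-!
# K-StO-C3a (keystone 254715, pack S2547, architect helper48): squares of the simple reflections are `1`
-/

set_option autoImplicit false
set_option linter.unusedSectionVars false

namespace Cfsg.Agent.Lib.Helper62.StO

open Cfsg Cfsg.Agent.Lib.Helper48.StO Matrix

variable {m : ℕ} {F : Type*} [Field F]

theorem c3a_swapE_sq (i j : Fin m) : swapE m i j * swapE m i j = 1 := by
  ext a
  rcases a with a | a | a <;> simp [swapE]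

theorem c3a_flipE_sq (k : Fin m) : flipE m k * flipE m k = 1 := by
  unfold flipE
  exact Equiv.swap_mul_self _ _

theorem c3a_sPerm_sq (i j : Fin m) : sPerm m F i j * sPerm m F i j = 1 := by
  apply mat_injective
  rw [mat_mul, Cfsg.Agent.Lib.Helper86.StO.mat_sPerm, mat_one]
  unfold sPermMat
  rw [← Matrix.permMatrix_mul, c3a_swapE_sq, Matrix.permMatrix_one]

theorem c3a_sFlip_sq (k : Fin m) : sFlip m F k * sFlip m F k = 1 := by
  apply mat_injective
  rw [mat_mul, Cfsg.Agent.Lib.Helper86.StO.mat_sFlip, mat_one]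
  unfold sFlipMat
  rw [← Matrix.permMatrix_mul, c3a_flipE_sq, Matrix.permMatrix_one]

/-- LEAF C3a -/
theorem sq_mem_B (s : OG m F) (hs : s ∈ Sset m F) : s * s ∈ Bsub m F := by
  rcases hs with ⟨i, hi, rfl⟩ | ⟨hm, rfl⟩
  · rw [c3a_sPerm_sq]
    exact (Bsub m F).one_mem
  · rw [c3a_sFlip_sq]
    exact (Bsub m F).one_mem

end Cfsg.Agent.Lib.Helper62.StO
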