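import Mathlib
import Cfsg.Agent.Lib.Helper49.RSU3Defs

/-!
# K-RSU3 pack (S2283), leaf L01 (228301, helper62): an element of order `q + 1` in a field of order `q²`
-/

set_option autoImplicit false
set_option linter.unusedSectionVars false
set_option linter.unusedVariables false

namespace Cfsg.Agent.Lib.Helper62.RSU3

variable {F : Type*} [Field F] [Fintype F] {q : ℕ}

/-- L01 -/
theorem exists_mu (hq : 3 ≤ q) (hF : Fintype.card F = q ^ 2) : ∃ μ : F, orderOf μ = q + 1 := by
  classical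
  obtain ⟨g, hg⟩ := IsCyclic.exists_generator (α := Fˣ)
  have hcard : Fintype.card Fˣ = q ^ 2 - 1 := by rw [Fintype.card_units, hF]
  have hord : orderOf g = q ^ 2 - 1 := by
    rw [orderOf_eq_card_of_forall_mem_zpowers hg, Nat.card_eq_fintype_card, hcard]
  have h1 : q ^ 2 - 1 = (q - 1) * (q + 1) := by
    obtain ⟨k, rfl⟩ : ∃ k, q = k + 1 := ⟨q - 1, by omega⟩
    have : (k + 1) ^ 2 = k * (k + 1 + 1) + 1 := by ring
    rw [this]
    simp
  refine ⟨((g ^ (q - 1) : Fˣ) : F), ?_⟩
  rw [orderOf_units, orderOf_pow, hord, h1, Nat.gcd_eq_right (Dvd.intro _ rfl),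
    Nat.mul_div_cancel_left _ (by omega)]

end Cfsg.Agent.Lib.Helper62.RSU3
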