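/-
K-SUB-5 (keystone 596505, S5965): `i = ord_r(q) > 1`, `i < ord_r(q₀)`: an element of order `r` of `SL_n(q)`
with a single irreducible block has no `GL`-conjugate in the subfield subgroup `F^× GL_n(q₀)`.
-/
import Mathlib
import Cfsg.Prelude.Def_Classical
import Cfsg.Prelude.Def_GeometricClasses
import Cfsg.Agent.Lib.Helper49.SUBDefs
import Cfsg.Agent.Lib.Helper49.SimDerange
import Cfsg.Agent.Lib.Helper49.PrimeOrderGL
import Cfsg.Agent.S2568

set_option autoImplicit false
set_option linter.style.haveILetI false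
set_option linter.unusedVariables false

namespace Cfsg.Agent.Lib.Helper62.SUB

open Polynomial Module Matrix Cfsg.Agent.Lib.Helper49 Cfsg.Agent.Lib.Helper49.SUB

section general

variable {K : Type*} [Field K]

/-- `rank (y - 1) + dim ker (y - 1) = n`. -/
theorem rank_sub_one_add_kdim {n : ℕ} (y : Matrix (Fin n) (Fin n) K) :
    (y - 1).rank + kdim (Matrix.toLin' y) (X - 1) = n := by
  have h1 := LinearMap.finrank_range_add_finrank_ker (Matrix.toLin' (y - 1))
  rw [Module.finrank_fin_fun] at h1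
  have e : aeval (Matrix.toLin' y) (X - 1 : K[X]) = Matrix.toLin' (y - 1) := by
    simp only [map_sub, aeval_X, map_one, Matrix.toLin'_one]
    rfl
  unfold kdim
  rw [e]
  exact h1

/-- a non-identity element of order `r` of `GL_n(K)`: `rank (B - 1) ≥ i₀`. -/
theorem le_rank_sub_one [Finite K] {r i₀ : ℕ} {PP : Finset K[X]} (D : FactorData K r i₀ PP) {n : ℕ}
    (B : GL (Fin n) K) (hBr : B ^ r = 1) (hB1 : B ≠ 1) :
    i₀ ≤ ((B : Matrix (Fin n) (Fin n) K) - 1).rank := by
  have hφ := aeval_toLin'_pow_sub_one B r hBr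
  have h1 := D.finrank_eq (Matrix.toLin' (B : Matrix (Fin n) (Fin n) K)) hφ
  rw [Module.finrank_fin_fun] at h1
  have h2 := rank_sub_one_add_kdim (B : Matrix (Fin n) (Fin n) K)
  have h3 : ¬ ∀ P ∈ PP, kdim (Matrix.toLin' (B : Matrix (Fin n) (Fin n) K)) P = 0 := by
    intro h
    have h4 := (D.eq_one_iff (Matrix.toLin' (B : Matrix (Fin n) (Fin n) K)) hφ).mpr h
    apply hB1
    apply Units.ext
    apply Matrix.toLin'.injective
    rw [h4, Units.val_one, Matrix.toLin'_one]
    rfl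
  push Not at h3
  obtain ⟨P, hP, hP0⟩ := h3
  obtain ⟨c, hc⟩ := D.dvd_kdim (Matrix.toLin' (B : Matrix (Fin n) (Fin n) K)) hP
  have hc0 : c ≠ 0 := by
    rintro rfl
    exact hP0 (by rw [hc, mul_zero])
  have h4 : i₀ ≤ kdim (Matrix.toLin' (B : Matrix (Fin n) (Fin n) K)) P := by
    rw [hc]
    exact Nat.le_mul_of_pos_right _ (Nat.pos_of_ne_zero hc0)
  have h5 : kdim (Matrix.toLin' (B : Matrix (Fin n) (Fin n) K)) P ≤
      ∑ P ∈ PP, kdim (Matrix.toLin' (B : Matrix (Fin n) (Fin n) K)) P :=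
    Finset.single_le_sum (f := fun P => kdim (Matrix.toLin' (B : Matrix (Fin n) (Fin n) K)) P)
      (fun _ _ => Nat.zero_le _) hP
  omega

end general

variable {F : Type*} [Field F] [Fintype F]

/-- an element fixed by the `|F₁|`-th power map lies in the subfield `F₁` (as in Helper18.AschOCf). -/
theorem mem_subfield_of_pow_card' (F₁ : Subfield F) (x : F) (h : x ^ Nat.card F₁ = x) : x ∈ F₁ := by
  classical
  letI : Fintype F₁ := Fintype.ofFinite F₁
  have hc : Nat.card F₁ = Fintype.card F₁ := Nat.card_eq_fintype_card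
  rw [hc] at h
  have hc1 : 1 < Fintype.card F₁ := Fintype.one_lt_card
  let S : Finset F := Finset.univ.filter (fun y : F => y ^ Fintype.card F₁ = y)
  let T : Finset F := Finset.univ.image (Subtype.val : F₁ → F)
  have hTS : T ⊆ S := by
    intro y hy
    obtain ⟨z, _, rfl⟩ := Finset.mem_image.mp hy
    rw [Finset.mem_filter]
    refine ⟨Finset.mem_univ _, ?_⟩
    have := FiniteField.pow_card z
    have h2 := congrArg (Subtype.val : F₁ → F) this
    push_cast at h2
    exact h2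
  have hTcard : T.card = Fintype.card F₁ := by
    rw [Finset.card_image_of_injective _ Subtype.val_injective, Finset.card_univ]
  have hScard : S.card ≤ Fintype.card F₁ := by
    have hsub : S ⊆ (Polynomial.X ^ Fintype.card F₁ - Polynomial.X : Polynomial F).roots.toFinset := by
      intro y hy
      rw [Finset.mem_filter] at hy
      rw [Multiset.mem_toFinset, Polynomial.mem_roots (FiniteField.X_pow_card_sub_X_ne_zero F hc1)]
      simp [hy.2]
    calc S.card ≤ _ := Finset.card_le_card hsub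
      _ ≤ Multiset.card (Polynomial.X ^ Fintype.card F₁ - Polynomial.X : Polynomial F).roots :=
          Multiset.toFinset_card_le _
      _ ≤ (Polynomial.X ^ Fintype.card F₁ - Polynomial.X : Polynomial F).natDegree :=
          Polynomial.card_roots' _
      _ = Fintype.card F₁ := FiniteField.X_pow_card_sub_X_natDegree_eq F hc1
  have hST : T = S := Finset.eq_of_subset_of_card_le hTS (by rw [hTcard]; exact hScard)
  have hxS : x ∈ S := by
    rw [Finset.mem_filter]
    exact ⟨Finset.mem_univ _, h⟩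
  rw [← hST] at hxS
  obtain ⟨z, _, rfl⟩ := Finset.mem_image.mp hxS
  exact z.2

/-- `c ^ r ∈ F₀`, `r` prime to `|F| - 1`: `c ∈ F₀`. -/
theorem mem_of_pow_mem (F₀ : Subfield F) {q₀ : ℕ} (hF₀ : Nat.card ↥F₀ = q₀) {r : ℕ} (hr : r.Prime)
    (hrq : ¬ r ∣ Fintype.card F - 1) (c : F) (hc0 : c ≠ 0) (hcr : c ^ r ∈ F₀) : c ∈ F₀ := by
  have h1 : (c ^ r) ^ (q₀ - 1) = 1 :=
    subfield_pow_card_sub_one F₀ hF₀ hcr (pow_ne_zero r hc0)
  have h2 : (c ^ (q₀ - 1)) ^ r = 1 := by
    rw [← pow_mul, mul_comm, pow_mul]; exact h1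
  have h3 : c ^ (q₀ - 1) = 1 := root_eq_one_of_not_dvd hr hrq _ h2
  have hq₀ : 1 ≤ q₀ := by rw [← hF₀]; exact Nat.card_pos
  apply mem_subfield_of_pow_card' F₀
  rw [hF₀]
  calc c ^ q₀ = c ^ (q₀ - 1 + 1) := by rw [Nat.sub_add_cancel hq₀]
    _ = c := by rw [pow_succ, h3, one_mul]

/-- an element of order `r` of the subfield subgroup has its entries in `F₀` (`r` prime to `|F| - 1`). -/
theorem mem_GL₀_of_mem_HS (F₀ : Subfield F) {q₀ : ℕ} (hF₀ : Nat.card ↥F₀ = q₀) {n : ℕ} (hn : 1 ≤ n)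
    {r : ℕ} (hr : r.Prime) (hrq : ¬ r ∣ Fintype.card F - 1) (y : GL (Fin n) F) (hy : y ∈ HS F₀ n)
    (hyr : y ^ r = 1) : y ∈ GL₀ F₀ n := by
  obtain ⟨A, hA, c, hc⟩ := (mem_HS_iff F₀ y).mp hy
  have hAr : A ^ r ∈ GL₀ F₀ n := Subgroup.pow_mem _ hA r
  have hentry := entries_of_mem_range_map F₀ (A ^ r) hAr ⟨0, hn⟩ ⟨0, hn⟩
  have hyr' : (y : Matrix (Fin n) (Fin n) F) ^ r = 1 := by
    rw [← Units.val_pow_eq_pow_val, hyr, Units.val_one]
  rw [hc, _root_.smul_pow] at hyr'
  have h00 := congrFun (congrFun hyr' ⟨0, hn⟩) ⟨0, hn⟩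
  simp only [Matrix.smul_apply, smul_eq_mul, Matrix.one_apply_eq] at h00
  have hAr' : ((A ^ r : GL (Fin n) F) : Matrix (Fin n) (Fin n) F) =
      (A : Matrix (Fin n) (Fin n) F) ^ r := Units.val_pow_eq_pow_val A r
  rw [hAr'] at hentry
  have hcr : (c : F) ^ r ∈ F₀ := by
    have h5 : (c : F) ^ r = (((A : Matrix (Fin n) (Fin n) F) ^ r) ⟨0, hn⟩ ⟨0, hn⟩)⁻¹ :=
      eq_inv_of_mul_eq_one_left h00
    rw [h5]
    exact F₀.inv_mem hentry
  have hcF₀ : (c : F) ∈ F₀ := mem_of_pow_mem F₀ hF₀ hr hrq (c : F) c.ne_zero hcr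
  apply mem_range_map_of_entries
  intro i j
  rw [hc, Matrix.smul_apply, smul_eq_mul]
  exact F₀.mul_mem hcF₀ (entries_of_mem_range_map F₀ A hA i j)

/-- KEYSTONE 596505  K-SUB-5. -/
theorem derange_block_sub {p : ℕ} [Fact p.Prime] [CharP F p] (F₀ : Subfield F) {q₀ k : ℕ}
    (hF₀ : Nat.card ↥F₀ = q₀) (hcard : Fintype.card F = q₀ ^ k) (n : ℕ) (hn : 1 ≤ n)
    (hbc : ∀ N : Matrix (Fin n) (Fin n) ↥F₀, (N.map F₀.subtype).rank = N.rank)
    (r : ℕ) [Fact r.Prime] (hr2 : r ≠ 2) (hrp : r ≠ p) (i : ℕ)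
    (hi : i = orderOf ((q₀ ^ k : ℕ) : ZMod r)) (hi1 : 1 < i) (hin : i ≤ n)
    (hlt : i < orderOf ((q₀ : ℕ) : ZMod r)) :
    ∃ x : GL (Fin n) F, x ∈ Cfsg.Geo.specialLinear (Fin n) F ∧ x ^ r = 1 ∧
      (∀ z : F, (x : Matrix (Fin n) (Fin n) F) ≠ z • (1 : Matrix (Fin n) (Fin n) F)) ∧
      ∀ g : GL (Fin n) F, g⁻¹ * x * g ∉ HS F₀ n := by
  classical
  have hr : r.Prime := Fact.out
  have hp : p.Prime := Fact.out
  obtain ⟨f', _, hqf⟩ := FiniteField.card F p
  have hK : Fintype.card F = p ^ (f' : ℕ) := hqf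
  have hi' : i = orderOf ((p ^ (f' : ℕ) : ℕ) : ZMod r) := by rw [hi, ← hcard, hqf]
  have D := Cfsg.Agent.S2568.factorData hK r i hrp hi'
  have hne : (UniqueFactorizationMonoid.normalizedFactors
      (Polynomial.cyclotomic r F)).toFinset.Nonempty := by
    rw [Finset.nonempty_iff_ne_empty]
    intro hempty
    have h1 := D.prod
    rw [hempty, Finset.prod_empty, mul_one] at h1
    have h2 := congrArg Polynomial.natDegree h1
    have e1 : (Polynomial.X - 1 : Polynomial F).natDegree = 1 := by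
      rw [← Polynomial.C_1]; exact Polynomial.natDegree_X_sub_C 1
    have e2 : (Polynomial.X ^ r - 1 : Polynomial F).natDegree = r := by
      rw [← Polynomial.C_1]; exact Polynomial.natDegree_X_pow_sub_C
    rw [e1, e2] at h2
    have := hr.two_le
    omega
  have hq1 : 1 ≤ q₀ ^ k := by rw [← hcard]; exact Fintype.card_pos
  have hrq : ¬ r ∣ Fintype.card F - 1 := by
    intro h
    have h1 : i = 1 := by
      rw [hi, orderOf_eq_one_iff]
      rw [hcard, ← ZMod.natCast_eq_zero_iff, Nat.cast_sub hq1, Nat.cast_one, sub_eq_zero] at h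
      exact h
    omega
  set PP := (UniqueFactorizationMonoid.normalizedFactors (Polynomial.cyclotomic r F)).toFinset
    with hPP
  obtain ⟨P₀, hP₀⟩ := hne
  let a : PP → ℕ := fun P => if P = ⟨P₀, hP₀⟩ then 1 else 0
  have hsum : ∑ P, a P = 1 := by
    rw [Finset.sum_ite_eq' Finset.univ (⟨P₀, hP₀⟩ : PP) (fun _ => 1)]
    simp
  obtain ⟨x, hxr, hκ⟩ := D.exists_realize hr.pos n a (by rw [hsum, mul_one]; exact hin)
  have hκ₀ : kdim (Matrix.toLin' (x : Matrix (Fin n) (Fin n) F)) P₀ = i := by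
    have := hκ ⟨P₀, hP₀⟩
    simp only [a, if_true, mul_one] at this
    exact this
  have hgr : (x : Matrix (Fin n) (Fin n) F) ^ r = 1 := by
    rw [← Units.val_pow_eq_pow_val, hxr, Units.val_one]
  have hdet : (x : Matrix (Fin n) (Fin n) F).det = 1 := by
    apply root_eq_one_of_not_dvd hr hrq
    rw [← Matrix.det_pow, hgr, Matrix.det_one]
  -- the fixed space of `x` has dimension `n - i`
  have hfix : kdim (Matrix.toLin' (x : Matrix (Fin n) (Fin n) F)) (X - 1) + i = n := by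
    have h1 := D.finrank_eq (Matrix.toLin' (x : Matrix (Fin n) (Fin n) F))
      (aeval_toLin'_pow_sub_one x r hxr)
    rw [Module.finrank_fin_fun] at h1
    have h2 : ∑ P ∈ PP, kdim (Matrix.toLin' (x : Matrix (Fin n) (Fin n) F)) P = i := by
      rw [← Finset.sum_coe_sort PP
        (fun P => kdim (Matrix.toLin' (x : Matrix (Fin n) (Fin n) F)) P)]
      rw [Finset.sum_congr rfl (fun P _ => hκ P), ← Finset.mul_sum, hsum, mul_one]
    omega
  have hxns : ∀ z : F, (x : Matrix (Fin n) (Fin n) F) ≠ z • (1 : Matrix (Fin n) (Fin n) F) := by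
    intro z hz
    have h1 : (z ^ r) • (1 : Matrix (Fin n) (Fin n) F) = 1 := by
      have h0 := hgr
      rw [hz, _root_.smul_pow, one_pow] at h0
      exact h0
    have h2 : z ^ r = 1 := by
      have := congrFun (congrFun h1 ⟨0, by omega⟩) ⟨0, by omega⟩
      simpa using this
    have h3 := root_eq_one_of_not_dvd hr hrq z h2
    rw [h3, one_smul] at hz
    rw [hz, kdim_toLin'_one P₀ (D.X_sub_one_not_dvd hP₀)] at hκ₀
    omega
  -- the subfield side
  letI : Fintype ↥F₀ := Fintype.ofFinite _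
  have hcard₀ : Fintype.card ↥F₀ = q₀ := by rw [← Nat.card_eq_fintype_card, hF₀]
  have hk0 : k ≠ 0 := by
    rintro rfl
    rw [pow_zero] at hcard
    have := Fintype.one_lt_card (α := F)
    omega
  have hq₀dvd : q₀ ∣ p ^ (f' : ℕ) := by
    rw [← hqf, hcard]; exact dvd_pow_self q₀ hk0
  obtain ⟨j, -, hj⟩ := (Nat.dvd_prime_pow hp).mp hq₀dvd
  have hK₀ : Fintype.card ↥F₀ = p ^ j := by rw [hcard₀, hj]
  have D₀ := Cfsg.Agent.S2568.factorData hK₀ r (orderOf ((q₀ : ℕ) : ZMod r)) hrp (by rw [hj])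
  refine ⟨x, ?_, hxr, hxns, ?_⟩
  · unfold Cfsg.Geo.specialLinear
    rw [MonoidHom.mem_ker]
    apply Units.ext
    rw [Matrix.GeneralLinearGroup.val_det_apply, hdet]
    rfl
  · intro g hy
    set y : GL (Fin n) F := g⁻¹ * x * g with hydef
    have hyr : y ^ r = 1 := by
      have h0 : y = g⁻¹ * x * (g⁻¹)⁻¹ := by rw [hydef, inv_inv]
      rw [h0, conj_pow, hxr, mul_one, mul_inv_cancel]
    have hy1 : y ≠ 1 := by
      intro h1
      have hx1 : x = 1 := by
        have : x = g * y * g⁻¹ := by rw [hydef]; group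
        rw [this, h1]; group
      apply hxns 1
      rw [hx1, one_smul]; rfl
    have hconj : IsConj x y := by
      rw [isConj_iff]
      exact ⟨g⁻¹, by rw [hydef, inv_inv]⟩
    have hkd : kdim (Matrix.toLin' (y : Matrix (Fin n) (Fin n) F)) (X - 1) =
        kdim (Matrix.toLin' (x : Matrix (Fin n) (Fin n) F)) (X - 1) :=
      (kdim_eq_of_isConj x y hconj (X - 1)).symm
    have hrank : ((y : Matrix (Fin n) (Fin n) F) - 1).rank = i := by
      have h1 := rank_sub_one_add_kdim (y : Matrix (Fin n) (Fin n) F)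
      rw [hkd] at h1
      omega
    obtain ⟨B₀, hB₀⟩ := mem_GL₀_of_mem_HS F₀ hF₀ hn hr hrq y hy hyr
    have hinj : Function.Injective
        (Matrix.GeneralLinearGroup.map (n := Fin n) (F₀.subtype : F₀ →+* F)) := by
      intro u v huv
      apply Units.ext
      have h1 := congrArg (fun w : GL (Fin n) F => (w : Matrix (Fin n) (Fin n) F)) huv
      exact Matrix.map_injective Subtype.val_injective h1
    have hB₀r : B₀ ^ r = 1 := by
      apply hinj
      rw [map_pow, hB₀, hyr, map_one]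
    have hB₀1 : B₀ ≠ 1 := by
      rintro rfl
      apply hy1
      rw [← hB₀, map_one]
    have hmap : ((B₀ : Matrix (Fin n) (Fin n) ↥F₀) - 1).map F₀.subtype =
        (y : Matrix (Fin n) (Fin n) F) - 1 := by
      rw [← hB₀]
      ext a b
      simp [Matrix.sub_apply, Matrix.one_apply]
      split_ifs <;> simp
    have h1 := hbc ((B₀ : Matrix (Fin n) (Fin n) ↥F₀) - 1)
    rw [hmap, hrank] at h1
    have h2 := le_rank_sub_one D₀ B₀ hB₀r hB₀1
    omega

end Cfsg.Agent.Lib.Helper62.SUB
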