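import Mathlib
import Cfsg.Agent.Lib.Helper08.BNPairParabolic
import Cfsg.Agent.Lib.Helper56.StSpA1

/-!
# K-StSU-A6 (keystone 254624, pack S2546, architect helper49): the centre of a group with a (B,N)-pair lies in `B ⊓ N`
-/

set_option autoImplicit false
set_option linter.unusedVariables false

namespace Cfsg.Agent.Lib.Helper62.StSU

open Cfsg

theorem center_le_B_inf_N {G : Type*} [Group G] [Finite G] (P : Cfsg.BNPair G) (w₀ : G)
    (hw₀ : w₀ ∈ P.N) (hT : ∀ b ∈ P.B, w₀⁻¹ * b * w₀ ∈ P.B → b ∈ P.N) :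
    Subgroup.center G ≤ P.B ⊓ P.N := by
  intro z hz
  have hzc : ∀ g : G, g * z = z * g := fun g => Subgroup.mem_center_iff.mp hz g
  have hzB : z ∈ P.B := by
    apply Cfsg.Agent.Lib.Helper56.StSp.a1_mem_B_of_conj P
    intro x hx
    rw [mul_assoc, hzc x, ← mul_assoc, inv_mul_cancel, one_mul]
    exact hx
  refine Subgroup.mem_inf.mpr ⟨hzB, hT z hzB ?_⟩
  rw [mul_assoc, ← hzc w₀, ← mul_assoc, inv_mul_cancel, one_mul]
  exact hzB

end Cfsg.Agent.Lib.Helper62.StSU
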