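import Mathlib

/-!
Small facts on group actions (helper62): a free action of a finite group on a finite set has
`|G|` dividing `|X|`; fixed points of Sylow subgroups; elements swapping two points have even order.
-/

set_option autoImplicit false

namespace Cfsg.Agent.Lib.Helper62

open MulAction

/-- If every non-identity element of `G` acts without fixed points on the finite set `X`,
then `|G|` divides `|X|`. -/
theorem card_dvd_of_free {G X : Type*} [Group G] [MulAction G X] [Finite X]
    (hfree : ∀ (g : G) (x : X), g • x = x → g = 1) : Nat.card G ∣ Nat.card X := by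
  classical
  have e := selfEquivSigmaOrbitsQuotientStabilizer G X
  have hstab : ∀ x : X, stabilizer G x = ⊥ := by
    intro x
    rw [eq_bot_iff]
    intro g hg
    exact Subgroup.mem_bot.mpr (hfree g x hg)
  have e2 : X ≃ (Quotient (orbitRel G X)) × G := by
    refine e.trans ?_
    refine (Equiv.sigmaCongrRight fun ω => ?_).trans (Equiv.sigmaEquivProd _ _)
    rw [hstab]
    exact (QuotientGroup.quotientBot (G := G)).toEquiv
  rw [Nat.card_congr e2, Nat.card_prod]
  exact dvd_mul_left _ _

/-- An element interchanging two distinct points has even order. -/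
theorem two_dvd_orderOf_of_swap {G X : Type*} [Group G] [MulAction G X] [Finite G] (x : G) (a b : X)
    (hab : a ≠ b) (h1 : x • a = b) (h2 : x • b = a) : 2 ∣ orderOf x := by
  by_contra hodd
  have hodd' : Odd (orderOf x) := Nat.odd_iff.mpr (Nat.two_dvd_ne_zero.mp hodd)
  obtain ⟨m, hm⟩ := hodd'
  have hsq : ∀ j : ℕ, (x ^ (2 * j)) • a = a := by
    intro j
    induction j with
    | zero => simp
    | succ j ih =>
      have : x ^ (2 * (j + 1)) = x ^ (2 * j) * (x * x) := by
        rw [mul_add, pow_add]; simp [pow_two]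
      rw [this, mul_smul, mul_smul, h1, h2, ih]
  have h3 : (x ^ (orderOf x)) • a = b := by
    rw [hm, pow_succ, mul_smul, h1]
    -- x^(2m) • b: use symmetric statement
    have hsqb : ∀ j : ℕ, (x ^ (2 * j)) • b = b := by
      intro j
      induction j with
      | zero => simp
      | succ j ih =>
        have : x ^ (2 * (j + 1)) = x ^ (2 * j) * (x * x) := by
          rw [mul_add, pow_add]; simp [pow_two]
        rw [this, mul_smul, mul_smul, h2, h1, ih]
    exact hsqb m
  rw [pow_orderOf_eq_one, one_smul] at h3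
  exact hab h3

/-- If `x` has prime order `p` and fewer than `p` fixed points, then some Sylow `p`-subgroup
containing `x` fixes every point fixed by `x`. -/
theorem exists_sylow_fixedPoints_eq {G Ω : Type*} [Group G] [Finite G] [MulAction G Ω] [Finite Ω]
    (p : ℕ) [Fact p.Prime] (x : G) (hx : orderOf x = p)
    (hlt : Nat.card (MulAction.fixedBy Ω x) < p) :
    ∃ P : Sylow p G, x ∈ P ∧ ∀ ω : Ω, x • ω = ω → ∀ g ∈ P, g • ω = ω := by
  have hQ : IsPGroup p (Subgroup.zpowers x) :=
    IsPGroup.of_card (n := 1) (by rw [Nat.card_zpowers, hx, pow_one])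
  obtain ⟨P, hP⟩ := hQ.exists_le_sylow
  have hxP : x ∈ P := hP (Subgroup.mem_zpowers x)
  have hAB : fixedPoints ↥P Ω ⊆ fixedBy Ω x := by
    intro ω hω
    exact hω ⟨x, hxP⟩
  have cong1 : Nat.card Ω ≡ Nat.card (fixedPoints ↥P Ω) [MOD p] :=
    P.isPGroup'.card_modEq_card_fixedPoints Ω
  have cong2 : Nat.card Ω ≡ Nat.card (fixedPoints ↥(Subgroup.zpowers x) Ω) [MOD p] :=
    hQ.card_modEq_card_fixedPoints Ω
  have hfz : fixedPoints ↥(Subgroup.zpowers x) Ω = fixedBy Ω x := by
    ext ω
    constructor
    · intro hω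
      exact hω ⟨x, Subgroup.mem_zpowers x⟩
    · intro hω g
      obtain ⟨g, hg⟩ := g
      obtain ⟨j, rfl⟩ := Subgroup.mem_zpowers_iff.mp hg
      show (x ^ j) • ω = ω
      exact zpow_smul_eq_iff_period_dvd.mpr (by
        have : period x ω = 1 := period_eq_one_iff.mpr hω
        rw [this]; exact one_dvd _)
  rw [hfz] at cong2
  have hcong : Nat.card (fixedPoints ↥P Ω) ≡ Nat.card (fixedBy Ω x) [MOD p] :=
    cong1.symm.trans cong2
  have hle : Nat.card (fixedPoints ↥P Ω) ≤ Nat.card (fixedBy Ω x) :=
    Nat.card_mono (Set.toFinite _) hAB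
  have hcard : Nat.card (fixedPoints ↥P Ω) = Nat.card (fixedBy Ω x) :=
    Nat.ModEq.eq_of_lt_of_lt hcong (lt_of_le_of_lt hle hlt) hlt
  have hEq : fixedPoints ↥P Ω = fixedBy Ω x := by
    apply Set.eq_of_subset_of_ncard_le hAB _ (Set.toFinite _)
    rw [← Nat.card_coe_set_eq, ← Nat.card_coe_set_eq, hcard]
  refine ⟨P, hxP, ?_⟩
  intro ω hω g hg
  have : ω ∈ fixedPoints ↥P Ω := by rw [hEq]; exact hω
  exact this ⟨g, hg⟩

/-- Witt's lemma (transitive case): the normalizer of a Sylow subgroup is transitive on its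
fixed points. -/
theorem exists_normalizer_smul_eq {G Ω : Type*} [Group G] [Finite G] [MulAction G Ω]
    [IsPretransitive G Ω] (p : ℕ) [Fact p.Prime] (P : Sylow p G) (α β : Ω)
    (hα : ∀ g ∈ P, g • α = α) (hβ : ∀ g ∈ P, g • β = β) :
    ∃ n ∈ Subgroup.normalizer ((P : Subgroup G) : Set G), n • β = α := by
  obtain ⟨h, hh⟩ := exists_smul_eq G β α
  have hP : (P : Subgroup G) ≤ stabilizer G α := fun g hg => hα g hg
  have hP' : ((h • P : Sylow p G) : Subgroup G) ≤ stabilizer G α := by
    intro g hg
    rw [Sylow.coe_subgroup_smul, Subgroup.mem_pointwise_smul_iff_inv_smul_mem] at hg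
    rw [mem_stabilizer_iff]
    have h1 : (h⁻¹ * g * h) • β = β := by
      apply hβ
      have hg' : h⁻¹ * g * h ∈ (P : Subgroup G) := by simpa [MulAut.smul_def] using hg
      exact hg'
    have h2 : g = h * (h⁻¹ * g * h) * h⁻¹ := by group
    rw [h2, mul_smul, mul_smul, ← hh, inv_smul_smul, h1]
  obtain ⟨y, hy⟩ := exists_smul_eq (stabilizer G α) ((h • P).subtype hP') (P.subtype hP)
  rw [Sylow.smul_subtype] at hy
  have hy' : y • (h • P) = P := Sylow.subtype_injective hy
  have hy'' : ((y : G) * h) • P = P := by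
    rw [mul_smul]; exact hy'
  refine ⟨(y : G) * h, Sylow.smul_eq_iff_mem_normalizer.mp hy'', ?_⟩
  rw [mul_smul, hh]
  exact y.2

end Cfsg.Agent.Lib.Helper62
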