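import Mathlib
import Cfsg.Agent.Lib.Helper31.BG134Defs
import Cfsg.Agent.Lib.Helper31.BG12a
import Cfsg.Agent.Lib.Helper31.Transitivity
import Cfsg.Agent.Lib.Helper55.SylowIn
import Cfsg.Agent.Lib.Helper14.NilpHall
import Cfsg.Agent.S1350
import Cfsg.Agent.S1405
import Cfsg.Agent.S0027

/-!
K-S1428-G3 (keystone 142803), LEMMA T: an `s`-subgroup `X ≤ M ∩ H ∩ H'`, `s ∉ σ(M)`, centralizes `M_σ ∩ H`
(`M`, `H` non-conjugate maximal subgroups of a minimal simple group of odd order).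
-/

set_option autoImplicit false

namespace Cfsg.Agent.Lib.Helper62.BG134

open Cfsg Cfsg.Agent.Lib.Helper55 Cfsg.Agent.Lib.Helper31.BG134

open scoped commutatorElement

variable {G : Type*} [Group G] [Finite G]

/-- elements of `H'` of coprime orders commute modulo `H_α` (from S1405). -/
theorem commutatorElement_mem_alphaCore (hG : IsMinSimpleOddOrder G) {H : Subgroup G} (hH : IsCoatom H)
    {x y : G} (hx : x ∈ ⁅H, H⁆) (hy : y ∈ ⁅H, H⁆) (hcop : (orderOf x).Coprime (orderOf y)) :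
    x * y * x⁻¹ * y⁻¹ ∈ alphaCore H := by
  have hnil := (Cfsg.Agent.S1405.result hG H hH).2.2.2.2
  have hHH : ⁅H, H⁆ ≤ H := by
    rw [Subgroup.commutator_le]
    intro a ha b hb
    rw [commutatorElement_def]
    exact H.mul_mem (H.mul_mem (H.mul_mem ha hb) (H.inv_mem ha)) (H.inv_mem hb)
  have hxH : x ∈ H := hHH hx
  have hyH : y ∈ H := hHH hy
  have hmap : (commutator ↥H).map H.subtype = ⁅H, H⁆ := Subgroup.map_subtype_commutator H
  have hx' : (⟨x, hxH⟩ : ↥H) ∈ commutator ↥H := by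
    have : x ∈ (commutator ↥H).map H.subtype := by rw [hmap]; exact hx
    obtain ⟨z, hz, hzx⟩ := this
    have : z = ⟨x, hxH⟩ := Subtype.ext hzx
    rwa [← this]
  have hy' : (⟨y, hyH⟩ : ↥H) ∈ commutator ↥H := by
    have : y ∈ (commutator ↥H).map H.subtype := by rw [hmap]; exact hy
    obtain ⟨z, hz, hzy⟩ := this
    have : z = ⟨y, hyH⟩ := Subtype.ext hzy
    rwa [← this]
  set q := QuotientGroup.mk' (piCore (alpha H) ↥H) with hq
  have ha : q ⟨x, hxH⟩ ∈ (commutator ↥H).map q := Subgroup.mem_map_of_mem q hx'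
  have hb : q ⟨y, hyH⟩ ∈ (commutator ↥H).map q := Subgroup.mem_map_of_mem q hy'
  have hox : orderOf (q ⟨x, hxH⟩) ∣ orderOf x := by
    have h1 : orderOf (q ⟨x, hxH⟩) ∣ orderOf (⟨x, hxH⟩ : ↥H) := orderOf_map_dvd q _
    have h2 : orderOf (⟨x, hxH⟩ : ↥H) = orderOf x := Subgroup.orderOf_mk x hxH
    rwa [h2] at h1
  have hoy : orderOf (q ⟨y, hyH⟩) ∣ orderOf y := by
    have h1 : orderOf (q ⟨y, hyH⟩) ∣ orderOf (⟨y, hyH⟩ : ↥H) := orderOf_map_dvd q _
    have h2 : orderOf (⟨y, hyH⟩ : ↥H) = orderOf y := Subgroup.orderOf_mk y hyH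
    rwa [h2] at h1
  have hcop' : (orderOf (q ⟨x, hxH⟩)).Coprime (orderOf (q ⟨y, hyH⟩)) :=
    (hcop.coprime_dvd_left hox).coprime_dvd_right hoy
  have hcomm := Cfsg.Agent.Lib.Helper14.commute_of_mem_nilpotent hnil ha hb hcop'
  -- the commutator lies in the kernel
  have hker : (⟨x, hxH⟩ * ⟨y, hyH⟩ * (⟨x, hxH⟩ : ↥H)⁻¹ * (⟨y, hyH⟩ : ↥H)⁻¹) ∈ piCore (alpha H) ↥H := by
    rw [← QuotientGroup.eq_one_iff, ← QuotientGroup.mk'_apply, ← hq, map_mul, map_mul, map_mul, map_inv,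
      map_inv, hcomm]
    group
  exact ⟨_, hker, rfl⟩

/-- KEYSTONE 142803  K-S1428-G3  (LEMMA T). -/
theorem centralizes_of_le_commutator (hG : IsMinSimpleOddOrder G) {M H : Subgroup G}
    (hM : IsCoatom M) (hH : IsCoatom H) (hnc : ∀ g : G, cj g M ≠ H)
    {s : ℕ} [Fact s.Prime] (hsM : s ∉ sigma M) {X : Subgroup G} (hXs : IsPGroup s X)
    (hXM : X ≤ M) (hXH : X ≤ H) (hXc : X ≤ ⁅H, H⁆) :
    X ≤ Subgroup.centralizer ((sigmaCore M ⊓ H : Subgroup G) : Set G) := by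
  have hs : s.Prime := Fact.out
  set D : Subgroup G := sigmaCore M ⊓ H with hD
  -- `M_σ` is an `s'`-group
  have hsσ : ¬ s ∣ Nat.card (sigmaCore M) := fun h =>
    hsM ((Cfsg.Agent.S1350.result hG M hM).1.2.1 s hs h)
  have hsD : ¬ s ∣ Nat.card D := fun h => hsσ (h.trans (Subgroup.card_dvd_of_le inf_le_left))
  -- `M` normalizes `M_σ`
  have hMσ : M ≤ Subgroup.normalizer (sigmaCore M : Set G) :=
    Cfsg.Agent.Lib.Helper31.le_normalizer_piCoreOf (sigma M) M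
  -- `X` normalizes `D`
  have hXD : X ≤ Subgroup.normalizer (D : Set G) := by
    intro x hx
    rw [Subgroup.mem_normalizer_iff]
    intro d
    have h1 := (Subgroup.mem_normalizer_iff.mp (hMσ (hXM hx))) d
    have hxH : x ∈ H := hXH hx
    constructor
    · rintro ⟨hd1, hd2⟩
      exact ⟨h1.mp hd1, H.mul_mem (H.mul_mem hxH hd2) (H.inv_mem hxH)⟩
    · rintro ⟨hd1, hd2⟩
      refine ⟨h1.mpr hd1, ?_⟩
      have : d = x⁻¹ * (x * d * x⁻¹) * x := by group
      rw [this]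
      exact H.mul_mem (H.mul_mem (H.inv_mem hxH) hd2) hxH
  -- non-conjugacy is symmetric
  have hnc' : ∀ g : G, cj g H ≠ M := by
    intro g h
    apply hnc g⁻¹
    rw [← h, cj_inv_cj]
  have hdisj : alphaCore H ⊓ sigmaCore M = ⊥ :=
    Cfsg.Agent.Lib.Helper31.BG12.alphaCore_inf_sigmaCore hG hH hM hnc'
  -- (i) `X` centralizes `D ⊓ H'`
  have hi : D ⊓ ⁅H, H⁆ ≤ Subgroup.centralizer (X : Set G) := by
    intro y hy
    rw [Subgroup.mem_centralizer_iff]
    intro x hx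
    have hyσ : y ∈ sigmaCore M := hy.1.1
    have hyc : y ∈ ⁅H, H⁆ := hy.2
    have hxc : x ∈ ⁅H, H⁆ := hXc hx
    obtain ⟨k, hk⟩ := (IsPGroup.iff_orderOf.mp hXs) ⟨x, hx⟩
    have hox : orderOf x = s ^ k := by rw [← hk, Subgroup.orderOf_mk]
    have hoy : orderOf y ∣ Nat.card (sigmaCore M) := by
      have := orderOf_dvd_natCard (⟨y, hyσ⟩ : sigmaCore M)
      rwa [Subgroup.orderOf_mk] at this
    have hcop : (orderOf x).Coprime (orderOf y) := by
      rw [hox]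
      apply Nat.Coprime.pow_left
      rw [Nat.Prime.coprime_iff_not_dvd hs]
      exact fun h => hsσ (h.trans hoy)
    have h1 : x * y * x⁻¹ * y⁻¹ ∈ alphaCore H := commutatorElement_mem_alphaCore hG hH hxc hyc hcop
    have h2 : x * y * x⁻¹ * y⁻¹ ∈ sigmaCore M := by
      have := (Subgroup.mem_normalizer_iff.mp (hMσ (hXM hx))) y
      exact (sigmaCore M).mul_mem (this.mp hyσ) ((sigmaCore M).inv_mem hyσ)
    have h3 : x * y * x⁻¹ * y⁻¹ ∈ alphaCore H ⊓ sigmaCore M := ⟨h1, h2⟩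
    rw [hdisj, Subgroup.mem_bot] at h3
    calc x * y = (x * y * x⁻¹ * y⁻¹) * y * x := by group
      _ = y * x := by rw [h3, one_mul]
  -- (ii) `[D, X] ≤ D ⊓ H'`
  have hii : ⁅D, X⁆ ≤ D ⊓ ⁅H, H⁆ := by
    rw [Subgroup.commutator_le]
    intro d hd x hx
    refine ⟨?_, Subgroup.commutator_mem_commutator hd.2 (hXH hx)⟩
    have h1 : x * d⁻¹ * x⁻¹ ∈ D :=
      (Subgroup.mem_normalizer_iff.mp (hXD hx) d⁻¹).mp (D.inv_mem hd)
    have : ⁅d, x⁆ = d * (x * d⁻¹ * x⁻¹) := by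
      rw [commutatorElement_def]; group
    rw [this]
    exact D.mul_mem hd h1
  have hbot : ⁅⁅D, X⁆, X⁆ = ⊥ := by
    rw [Subgroup.commutator_eq_bot_iff_le_centralizer]
    exact hii.trans hi
  -- coprime action
  have hXsolv : Group.IsSolvable X := by
    have : Group.IsNilpotent X := hXs.isNilpotent
    infer_instance
  have hcopXD : (Nat.card X).Coprime (Nat.card D) := by
    obtain ⟨n, hn⟩ := hXs.exists_card_eq
    rw [hn]
    apply Nat.Coprime.pow_left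
    rw [Nat.Prime.coprime_iff_not_dvd hs]
    exact hsD
  have h27 := Cfsg.Agent.S0027.result X D hXD hcopXD (Or.inl hXsolv)
  rw [hbot] at h27
  have hDX : D ≤ Subgroup.centralizer (X : Set G) :=
    Subgroup.commutator_eq_bot_iff_le_centralizer.mp h27.symm
  exact Subgroup.le_centralizer_iff.mp hDX

end Cfsg.Agent.Lib.Helper62.BG134
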