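import Mathlib
import Cfsg.Agent.Lib.Helper71.BG1366Defs
import Cfsg.Agent.Lib.Helper15.BG142Defs
import Cfsg.Agent.Lib.Helper55.Basic
import Cfsg.Agent.Lib.Helper55.Uniq2
import Cfsg.Agent.Lib.Helper31.BG147C
import Cfsg.Agent.Lib.Helper78.BG1310Aux
import Cfsg.Agent.Lib.Helper16.BG134Asm
import Cfsg.Agent.Lib.Helper64.BG14K
import Cfsg.Agent.Lib.Helper54.BG134A3a
import Cfsg.Agent.Lib.Helper71.BG11a

/-!
# K-1366-B (keystone 136602, pack K-1366, architect helper71): `home_kappa`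

Every prime of `|K*|` is in `κ(J)` for a home `J` of a subgroup `X ≤ K` of prime order; a Hall `κ(J)`-subgroup `KJ ⊇ K*`.
-/

set_option autoImplicit false
set_option linter.unusedVariables false

namespace Cfsg.Agent.Lib.Helper62.BG1366

open Cfsg Subgroup Cfsg.Agent.Lib.Helper55 Cfsg.Agent.Lib.Helper11.BG14D Cfsg.Agent.Lib.Helper11.BG144
  Cfsg.Agent.Lib.Helper31.BG147 Cfsg.Agent.Lib.Helper71.BG1366

variable {G : Type*} [Group G] [Finite G]

theorem home_kappa (hG : IsMinSimpleOddOrder G) (h30 : H1430 G) (h31 : H1431 G) {M K X J : Subgroup G}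
    (hp : PPair M K) (hXK : X ≤ K) (hXc : (Nat.card X).Prime) (hJ : IsCoatom J)
    (hXJ : X ≤ sigmaCore J) (hnc : ∀ g : G, J ≠ M.map (MulAut.conj g).toMonoidHom) (hdis : ∀ r : ℕ, r ∈ sigma M → r ∉ sigma J)
    (hZJ : K ⊔ Ks M K ≤ J) :
    ∃ KJ : Subgroup G, PPair J KJ ∧ Ks M K ≤ KJ := by
  obtain ⟨hM, hK, hK1⟩ := hp
  have hKM : K ≤ M := hK.1
  have hX1 : X ≠ ⊥ := Cfsg.Agent.Lib.Helper78.BG1310.ne_bot_of_card_prime hXc
  obtain ⟨x, hxX, hx1, hxz, hxo⟩ := Cfsg.Agent.Lib.Helper78.BG1310.exists_gen_of_card_prime hXc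
  have hxK : x ∈ K := hXK hxX
  -- `K* ≠ ⊥`
  have hpκ : Nat.card X ∈ kappa M := hK.2.1 _ hXc (Subgroup.card_dvd_of_le hXK)
  have hC0 : sigmaCore M ⊓ centralizer (X : Set G) ≠ ⊥ :=
    Cfsg.Agent.Lib.Helper64.BG14.cent_ne_bot_of_mem_kappa hG hM hpκ (hXK.trans hKM) rfl
  have h30M := h30 M hM K hK hK1
  have hKs_eq : sigmaCore M ⊓ centralizer ({x} : Set G) = Ks M K := h30M.1 x hxK hx1
  have hKs1 : Ks M K ≠ ⊥ := by
    intro h
    apply hC0
    rw [eq_bot_iff, ← h, ← hKs_eq]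
    exact inf_le_inf le_rfl (Subgroup.centralizer_le (Set.singleton_subset_iff.mpr hxX))
  have hKsJ : Ks M K ≤ J := le_sup_right.trans hZJ
  have hJtop : J ≠ ⊤ := hJ.1
  -- the primes of `K*` are in `κ(J)`
  have hκ : ∀ q : ℕ, q.Prime → q ∣ Nat.card (Ks M K) → q ∈ kappa J := by
    intro q hq hqd
    haveI : Fact q.Prime := ⟨hq⟩
    obtain ⟨y, hy⟩ := exists_prime_orderOf_dvd_card' q hqd
    have hyo : orderOf (y : G) = q := by rw [Subgroup.orderOf_coe]; exact hy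
    have hYc : Nat.card (Subgroup.zpowers (y : G)) = q := by rw [Nat.card_zpowers, hyo]
    have hYKs : Subgroup.zpowers (y : G) ≤ Ks M K := Subgroup.zpowers_le.mpr y.2
    have hYJ : Subgroup.zpowers (y : G) ≤ J := hYKs.trans hKsJ
    have hqσM : q ∈ sigma M :=
      Cfsg.Agent.Lib.Helper71.BG11.sigmaCore_pi hG hM hq
        (dvd_trans hqd (Subgroup.card_dvd_of_le (inf_le_left : Ks M K ≤ sigmaCore M)))
    have hqσJ : q ∉ sigma J := hdis q hqσM
    have hqJ : q ∣ Nat.card J := by rw [← hYc]; exact Subgroup.card_dvd_of_le hYJ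
    have hXcent : X ≤ sigmaCore J ⊓ centralizer ((Subgroup.zpowers (y : G) : Subgroup G) : Set G) := by
      refine le_inf hXJ ?_
      intro z hz
      rw [Subgroup.mem_centralizer_iff]
      intro w hw
      have hwc : w ∈ centralizer (K : Set G) := (Subgroup.mem_inf.mp (hYKs hw)).2
      rw [Subgroup.mem_centralizer_iff] at hwc
      exact (hwc z (hXK hz)).symm
    have hCne : sigmaCore J ⊓ centralizer ((Subgroup.zpowers (y : G) : Subgroup G) : Set G) ≠ ⊥ :=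
      fun h => hX1 (eq_bot_iff.mpr (h ▸ hXcent))
    have hnot2 : q ∉ tau2 J := by
      intro h2
      have hu := Cfsg.Agent.Lib.Helper78.BG1310.uniq_of_tau2_cent hG hJ hYJ (by rw [hYc]; exact hq)
        (by rw [hYc]; exact h2) hCne
      have hcu := Cfsg.Agent.Lib.Helper31.BG147.cent_uniq hG h31 hM hK hK1 hYKs (by rw [hYc]; exact hq)
      have hJM : J = M := hcu.2 J hJ hu.1
      apply hnc 1
      rw [hJM]
      exact (cj_one M).symm
    have hr1 : PRankLE q 1 J := by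
      rcases Cfsg.Agent.Lib.Helper16.BG134.mem_tau_cases hG hJ hq hqJ hqσJ with h | h | h
      · exact h.2.2.2.2
      · exact absurd h hnot2
      · exact h.2.2.2
    exact Cfsg.Agent.Lib.Helper64.BG14.mem_kappa_of_cent_ne_bot hG hJ hq hqJ hqσJ hr1 hYJ hYc hCne
  have hsolv : Group.IsSolvable ↥J := ms_solvable hG hJtop
  obtain ⟨KJ, hKJ, hle⟩ := Cfsg.Agent.Lib.Helper54.BG134.exists_isPiHallOf_ge hsolv (kappa J) hKsJ hκ
  refine ⟨KJ, ⟨hJ, hKJ, ?_⟩, hle⟩
  intro h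
  apply hKs1
  rw [eq_bot_iff, ← h]
  exact hle

end Cfsg.Agent.Lib.Helper62.BG1366
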