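import Mathlib
import Cfsg.Agent.Lib.Helper31.BG137Defs
import Cfsg.Agent.Lib.Helper12.CNMaxSub
import Cfsg.Agent.Lib.Helper58.BG1217U
import Cfsg.Agent.S1417
import Cfsg.Agent.S1418

/-!
K-137N-D (keystone 137705), steps (d),(e) of BG 13.7 (nonabelian case): a maximal subgroup `L ≥ N_G(A)`.
-/

set_option autoImplicit false

namespace Cfsg.Agent.Lib.Helper62.BG137

open Cfsg Cfsg.Agent.Lib.Helper55 Cfsg.Agent.Lib.Helper31.BG137

variable {G : Type*} [Group G] [Finite G]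

/-- KEYSTONE 137705  K-137N-D. -/
theorem Cfg.exists_L {M E P A : Subgroup G} {p q : ℕ} (c : Cfg M E P A p q) :
    ∃ L : Subgroup G, IsCoatom L ∧ Subgroup.normalizer (A : Set G) ≤ L ∧ L ≠ M ∧ E ≤ L ∧
      sigmaCore M ⊓ L = ⊥ ∧ M ⊓ L = E ∧ q ∈ sigma L := by
  have hqp : q.Prime := c.hq.1
  have : Fact q.Prime := ⟨hqp⟩
  have hAM : A ≤ M := c.hAE.trans c.hE.1
  have h17 := Cfsg.Agent.S1417.result c.hG M c.hM q c.hq A ⟨hAM, c.hAe, c.hAc⟩
  have h18 := Cfsg.Agent.S1418.result c.hG M c.hM E c.hE q c.hq A ⟨c.hAE, c.hAe, c.hAc⟩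
  have hA1 : A ≠ ⊥ := by
    intro h
    have h1 := c.hAc
    rw [h, Subgroup.card_bot] at h1
    have h2 : 1 < q ^ 2 := Nat.one_lt_pow (by norm_num) hqp.one_lt
    omega
  have hAtop : A ≠ ⊤ := by
    intro h
    apply c.hM.1
    rw [← top_le_iff, ← h]
    exact hAM
  obtain ⟨L, hL, hNL⟩ :=
    Cfsg.Agent.Lib.Helper12.CNMaxSub.exists_coatom_normalizer_le c.hG hA1 hAtop
  have hEN : E ≤ Subgroup.normalizer (A : Set G) := h18.1.1
  have hNM : ¬ Subgroup.normalizer (A : Set G) ≤ M := h18.2.1.2.2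
  have hLM : L ≠ M := by
    rintro rfl
    exact hNM hNL
  have hAL : A ≤ L := Subgroup.le_normalizer.trans hNL
  have hσL : sigmaCore M ⊓ L = ⊥ := h17.2.2.2.2.1 L hL hLM hAL
  have hEL : E ≤ L := hEN.trans hNL
  refine ⟨L, hL, hNL, hLM, hEL, hσL, ?_, ?_⟩
  · apply le_antisymm
    · intro x hx
      obtain ⟨a, ha, b, hb, hab⟩ := c.hE.2.2.2 x hx.1
      have hbL : b ∈ L := by
        have hb' : b = a⁻¹ * x := by rw [hab]; group
        rw [hb']
        exact L.mul_mem (L.inv_mem (hEL ha)) hx.2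
      have hb1 : b ∈ sigmaCore M ⊓ L := ⟨hb, hbL⟩
      rw [hσL, Subgroup.mem_bot] at hb1
      rw [hab, hb1, mul_one]
      exact ha
    · exact le_inf c.hE.1 hEL
  · exact Cfsg.Agent.Lib.Helper58.BG12U.mem_sigma_of_normalizer_elemAb_le c.hG hL c.hAe c.hAc hNL

end Cfsg.Agent.Lib.Helper62.BG137
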