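import Mathlib

/-!
# A computable field with eight elements (helper62)

`F8 = F₂[x]/(x³ + x + 1)`, elements `a + b x + c x²` with `a b c : Bool`.
-/

set_option autoImplicit false

namespace Cfsg.Agent.Lib.Helper62

/-- the field with eight elements `F₂[x]/(x³ + x + 1)` -/
structure F8 where
  a : Bool
  b : Bool
  c : Bool
deriving DecidableEq, Fintype

namespace F8

/-- addition -/
def add (x y : F8) : F8 := ⟨xor x.a y.a, xor x.b y.b, xor x.c y.c⟩

/-- multiplication modulo `x³ + x + 1` -/
def mul (x y : F8) : F8 :=
  ⟨xor (x.a && y.a) (xor (x.b && y.c) (x.c && y.b)),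
   xor (xor (xor (x.a && y.b) (x.b && y.a)) (xor (x.b && y.c) (x.c && y.b))) (x.c && y.c),
   xor (xor (xor (x.a && y.c) (x.b && y.b)) (x.c && y.a)) (x.c && y.c)⟩

/-- inverse: the sixth power -/
def inv (x : F8) : F8 := mul (mul (mul x x) x) (mul (mul x x) x)

instance : Zero F8 := ⟨⟨false, false, false⟩⟩
instance : One F8 := ⟨⟨true, false, false⟩⟩
instance : Add F8 := ⟨add⟩
instance : Mul F8 := ⟨mul⟩
instance : Neg F8 := ⟨id⟩
instance : Inv F8 := ⟨inv⟩

instance : CommRing F8 where
  add_assoc := by decide +kernel
  zero_add := by decide +kernel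
  add_zero := by decide +kernel
  add_comm := by decide +kernel
  neg_add_cancel := by decide +kernel
  mul_assoc := by decide +kernel
  one_mul := by decide +kernel
  mul_one := by decide +kernel
  left_distrib := by decide +kernel
  right_distrib := by decide +kernel
  zero_mul := by decide +kernel
  mul_zero := by decide +kernel
  mul_comm := by decide +kernel
  nsmul := nsmulRec
  zsmul := zsmulRec

instance : Field F8 where
  exists_pair_ne := ⟨0, 1, by decide⟩
  mul_inv_cancel := by decide +kernel
  inv_zero := rfl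
  nnqsmul := _
  nnqsmul_def := fun _ _ => rfl
  qsmul := _
  qsmul_def := fun _ _ => rfl

theorem card_eq : Fintype.card F8 = 8 := by decide +kernel

/-- element from its code `a + 2 b + 4 c` -/
def ofCode (n : ℕ) : F8 := ⟨n % 2 == 1, (n / 2) % 2 == 1, (n / 4) % 2 == 1⟩

/-- code of an element -/
def code (x : F8) : ℕ := x.a.toNat + 2 * x.b.toNat + 4 * x.c.toNat

end F8

end Cfsg.Agent.Lib.Helper62
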