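import Mathlib
import Cfsg.Prelude.Def_Classical

/-!
# Helper62: a computable model `R9 = F₃[i]` of the field with nine elements, and unitary matrices

* `R9` : pairs `(re, im)` over `ZMod 3` with `i² = -1`, a commutative ring with decidable equality.
* `R9.toField` : the ring homomorphism `R9 →+* F` for a field `F` of characteristic three with a chosen
  square root of `-1`; `exists_sq_neg_one`, `charP_three` for fields with nine elements.
* `mem_SU_of_transpose_mul` : `Mᵀ * M^(p) = 1` implies that `M` preserves the Hermitian form.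
-/

set_option autoImplicit false

namespace Cfsg.Agent.Lib.Helper62

structure R9 where
  re : ZMod 3
  im : ZMod 3
deriving DecidableEq, Fintype

namespace R9

instance : Add R9 := ⟨fun x y => ⟨x.re + y.re, x.im + y.im⟩⟩
instance : Mul R9 := ⟨fun x y => ⟨x.re * y.re - x.im * y.im, x.re * y.im + x.im * y.re⟩⟩
instance : Neg R9 := ⟨fun x => ⟨-x.re, -x.im⟩⟩
instance : Zero R9 := ⟨⟨0, 0⟩⟩
instance : One R9 := ⟨⟨1, 0⟩⟩

instance : CommRing R9 :=
  CommRing.ofMinimalAxioms (by decide) (by decide) (by decide) (by decide) (by decide) (by decide)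
    (by decide)

@[simp] theorem add_re (x y : R9) : (x + y).re = x.re + y.re := rfl
@[simp] theorem add_im (x y : R9) : (x + y).im = x.im + y.im := rfl
@[simp] theorem mul_re (x y : R9) : (x * y).re = x.re * y.re - x.im * y.im := rfl
@[simp] theorem mul_im (x y : R9) : (x * y).im = x.re * y.im + x.im * y.re := rfl
@[simp] theorem zero_re : (0 : R9).re = 0 := rfl
@[simp] theorem zero_im : (0 : R9).im = 0 := rfl
@[simp] theorem one_re : (1 : R9).re = 1 := rfl
@[simp] theorem one_im : (1 : R9).im = 0 := rfl

/-- the homomorphism to a field of characteristic three with a square root of `-1` -/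
def toField {F : Type*} [Field F] [CharP F 3] (i : F) (hi : i ^ 2 = -1) : R9 →+* F where
  toFun x := ZMod.castHom (dvd_refl 3) F x.re + ZMod.castHom (dvd_refl 3) F x.im * i
  map_one' := by simp
  map_zero' := by simp
  map_add' x y := by simp only [add_re, add_im, map_add]; ring
  map_mul' x y := by
    simp only [mul_re, mul_im, map_add, map_sub, map_mul]
    linear_combination (-(ZMod.castHom (dvd_refl 3) F x.im * ZMod.castHom (dvd_refl 3) F y.im)) * hi

end R9

section Field9

variable {F : Type*} [Field F] [Fintype F]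

theorem charP_three_of_card (hF : Fintype.card F = 9) : CharP F 3 := by
  obtain ⟨p, hp⟩ := CharP.exists F
  have hpp : p.Prime := by
    have := hp
    exact (CharP.char_is_prime_or_zero F p).resolve_right (by
      intro h0
      subst h0
      have : CharZero F := CharP.charP_to_charZero F
      exact not_finite F)
  have : Fact p.Prime := ⟨hpp⟩
  have := hp
  obtain ⟨n, hn⟩ := FiniteField.card F p
  rw [hF] at hn
  have h3 : p ∣ 9 := by rw [hn.2]; exact dvd_pow_self p n.ne_zero
  have : p = 3 := by
    have : p ∣ 3 ^ 2 := by norm_num; exact h3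
    exact (Nat.prime_dvd_prime_iff_eq hpp Nat.prime_three).mp (hpp.dvd_of_dvd_pow this)
  subst this
  exact hp

theorem exists_sq_neg_one (hF : Fintype.card F = 9) : ∃ i : F, i ^ 2 = -1 := by
  have h : IsSquare (-1 : F) := by
    rw [FiniteField.isSquare_neg_one_iff, hF]
    norm_num
  obtain ⟨r, hr⟩ := h
  exact ⟨r, by rw [hr, pow_two]⟩

end Field9

section Unitary

open Matrix

/-- a matrix with `Mᵀ * M^(p) = 1` preserves the Hermitian form `Σ uᵢ vᵢ^p` in characteristic `p` -/
theorem hermForm_mulVec_of_transpose_mul {F : Type*} [Field F] (p : ℕ) [Fact p.Prime] [CharP F p]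
    (n : ℕ) (M : Matrix (Fin n) (Fin n) F) (hM : Mᵀ * M.map (· ^ p) = 1) (x y : Fin n → F) :
    Cfsg.hermForm n F p (M *ᵥ x) (M *ᵥ y) = Cfsg.hermForm n F p x y := by
  unfold Cfsg.hermForm
  have h1 : ∀ i, (M *ᵥ y) i ^ p = ∑ k, M i k ^ p * y k ^ p := by
    intro i
    simp only [Matrix.mulVec, dotProduct]
    rw [sum_pow_char]
    simp [mul_pow]
  have h2 : ∀ j k, ∑ i, M i j * M i k ^ p = (1 : Matrix (Fin n) (Fin n) F) j k := by
    intro j k
    rw [← hM]
    simp [Matrix.mul_apply]
  calc ∑ i, (M *ᵥ x) i * (M *ᵥ y) i ^ p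
      = ∑ i, (∑ j, M i j * x j) * (∑ k, M i k ^ p * y k ^ p) := by
        apply Finset.sum_congr rfl
        intro i _
        rw [h1]; rfl
    _ = ∑ i, ∑ j, ∑ k, (M i j * x j) * (M i k ^ p * y k ^ p) := by
        apply Finset.sum_congr rfl
        intro i _
        rw [Finset.sum_mul_sum]
    _ = ∑ j, ∑ k, ∑ i, (M i j * x j) * (M i k ^ p * y k ^ p) := by
        rw [Finset.sum_comm]
        apply Finset.sum_congr rfl
        intro j _
        rw [Finset.sum_comm]
    _ = ∑ j, ∑ k, x j * y k ^ p * (1 : Matrix (Fin n) (Fin n) F) j k := by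
        apply Finset.sum_congr rfl
        intro j _
        apply Finset.sum_congr rfl
        intro k _
        rw [← h2 j k, Finset.mul_sum]
        apply Finset.sum_congr rfl
        intro i _
        ring
    _ = ∑ j, x j * y j ^ p := by
        apply Finset.sum_congr rfl
        intro j _
        simp [Matrix.one_apply]

end Unitary

end Cfsg.Agent.Lib.Helper62
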