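import Mathlib
import Cfsg.Agent.Lib.Helper04.BurnsidePQ

/-!
# Helper62: a solvable Frobenius group `13⁴ : 2.O` with spectrum `{1, 2, 3, 4, 6, 8, 13}`

`Q = ⟨X, Y⟩ ≤ GL(4, 13)` is the binary octahedral group (order 48) acting without fixed points on
`(ZMod 13)⁴`; `H = (ZMod 13)⁴ ⋊ Q`.  Main result `exists_H`.
-/

set_option autoImplicit false

namespace Cfsg.Agent.Lib.Helper62.Frob13

open Matrix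

abbrev Mat := Matrix (Fin 4) (Fin 4) (ZMod 13)

/-- `M` in the group, `N` an inverse of `M - 1` (unless `M = 1`), `M2 = M²`, `M4 = M⁴`. -/
structure Row where
  (M N M2 M4 : Mat)

def Xm : Mat := !![0, 4, 0, 0; 2, 0, 0, 0; 0, 0, 0, 7; 0, 0, 10, 0]

def Xi : Mat := !![0, 7, 0, 0; 10, 0, 0, 0; 0, 0, 0, 4; 0, 0, 2, 0]

def Ym : Mat := !![0, 5, 0, 2; 9, 0, 1, 0; 0, 6, 0, 8; 3, 0, 4, 0]

def Yi : Mat := !![0, 8, 0, 11; 4, 0, 12, 0; 0, 7, 0, 5; 10, 0, 9, 0]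

def rows : List Row := [
  ⟨!![1, 0, 0, 0; 0, 1, 0, 0; 0, 0, 1, 0; 0, 0, 0, 1],
    !![1, 0, 0, 0; 0, 1, 0, 0; 0, 0, 1, 0; 0, 0, 0, 1],
    !![1, 0, 0, 0; 0, 1, 0, 0; 0, 0, 1, 0; 0, 0, 0, 1],
    !![1, 0, 0, 0; 0, 1, 0, 0; 0, 0, 1, 0; 0, 0, 0, 1]⟩,
  ⟨!![0, 4, 0, 0; 2, 0, 0, 0; 0, 0, 0, 7; 0, 0, 10, 0],
    !![2, 8, 0, 0; 4, 2, 0, 0; 0, 0, 10, 5; 0, 0, 9, 10],
    !![8, 0, 0, 0; 0, 8, 0, 0; 0, 0, 5, 0; 0, 0, 0, 5],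
    !![12, 0, 0, 0; 0, 12, 0, 0; 0, 0, 12, 0; 0, 0, 0, 12]⟩,
  ⟨!![0, 5, 0, 2; 9, 0, 1, 0; 0, 6, 0, 8; 3, 0, 4, 0],
    !![6, 4, 0, 12; 2, 6, 6, 0; 0, 10, 6, 9; 5, 0, 11, 6],
    !![12, 0, 0, 0; 0, 12, 0, 0; 0, 0, 12, 0; 0, 0, 0, 12],
    !![1, 0, 0, 0; 0, 1, 0, 0; 0, 0, 1, 0; 0, 0, 0, 1]⟩,
  ⟨!![8, 0, 0, 0; 0, 8, 0, 0; 0, 0, 5, 0; 0, 0, 0, 5],
    !![2, 0, 0, 0; 0, 2, 0, 0; 0, 0, 10, 0; 0, 0, 0, 10],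
    !![12, 0, 0, 0; 0, 12, 0, 0; 0, 0, 12, 0; 0, 0, 0, 12],
    !![1, 0, 0, 0; 0, 1, 0, 0; 0, 0, 1, 0; 0, 0, 0, 1]⟩,
  ⟨!![10, 0, 7, 0; 0, 10, 0, 7; 12, 0, 2, 0; 0, 12, 0, 2],
    !![9, 0, 2, 0; 0, 9, 0, 2; 9, 0, 3, 0; 0, 9, 0, 3],
    !![2, 0, 6, 0; 0, 2, 0, 6; 1, 0, 10, 0; 0, 1, 0, 10],
    !![10, 0, 7, 0; 0, 10, 0, 7; 12, 0, 2, 0; 0, 12, 0, 2]⟩,
  ⟨!![10, 0, 4, 0; 0, 10, 0, 4; 8, 0, 2, 0; 0, 8, 0, 2],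
    !![9, 0, 3, 0; 0, 9, 0, 3; 6, 0, 3, 0; 0, 6, 0, 3],
    !![2, 0, 9, 0; 0, 2, 0, 9; 5, 0, 10, 0; 0, 5, 0, 10],
    !![10, 0, 4, 0; 0, 10, 0, 4; 8, 0, 2, 0; 0, 8, 0, 2]⟩,
  ⟨!![12, 0, 0, 0; 0, 12, 0, 0; 0, 0, 12, 0; 0, 0, 0, 12],
    !![6, 0, 0, 0; 0, 6, 0, 0; 0, 0, 6, 0; 0, 0, 0, 6],
    !![1, 0, 0, 0; 0, 1, 0, 0; 0, 0, 1, 0; 0, 0, 0, 1],
    !![1, 0, 0, 0; 0, 1, 0, 0; 0, 0, 1, 0; 0, 0, 0, 1]⟩,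
  ⟨!![0, 6, 0, 0; 3, 0, 0, 0; 0, 0, 0, 9; 0, 0, 11, 0],
    !![10, 8, 0, 0; 4, 10, 0, 0; 0, 0, 2, 5; 0, 0, 9, 2],
    !![5, 0, 0, 0; 0, 5, 0, 0; 0, 0, 8, 0; 0, 0, 0, 8],
    !![12, 0, 0, 0; 0, 12, 0, 0; 0, 0, 12, 0; 0, 0, 0, 12]⟩,
  ⟨!![0, 1, 0, 10; 7, 0, 5, 0; 0, 9, 0, 1; 11, 0, 7, 0],
    !![6, 0, 8, 3; 0, 6, 8, 8; 2, 4, 6, 0; 2, 2, 0, 6],
    !![0, 0, 10, 0; 0, 0, 0, 10; 9, 0, 0, 0; 0, 9, 0, 0],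
    !![12, 0, 0, 0; 0, 12, 0, 0; 0, 0, 12, 0; 0, 0, 0, 12]⟩,
  ⟨!![0, 1, 0, 2; 7, 0, 1, 0; 0, 6, 0, 1; 3, 0, 7, 0],
    !![6, 0, 12, 11; 0, 6, 12, 12; 10, 7, 6, 0; 10, 10, 0, 6],
    !![0, 0, 2, 0; 0, 0, 0, 2; 6, 0, 0, 0; 0, 6, 0, 0],
    !![12, 0, 0, 0; 0, 12, 0, 0; 0, 0, 12, 0; 0, 0, 0, 12]⟩,
  ⟨!![0, 9, 0, 0; 11, 0, 0, 0; 0, 0, 0, 6; 0, 0, 3, 0],
    !![2, 5, 0, 0; 9, 2, 0, 0; 0, 0, 10, 8; 0, 0, 4, 10],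
    !![8, 0, 0, 0; 0, 8, 0, 0; 0, 0, 5, 0; 0, 0, 0, 5],
    !![12, 0, 0, 0; 0, 12, 0, 0; 0, 0, 12, 0; 0, 0, 0, 12]⟩,
  ⟨!![0, 1, 0, 3; 7, 0, 8, 0; 0, 4, 0, 1; 2, 0, 7, 0],
    !![6, 0, 5, 10; 0, 6, 5, 5; 11, 9, 6, 0; 11, 11, 0, 6],
    !![0, 0, 3, 0; 0, 0, 0, 3; 4, 0, 0, 0; 0, 4, 0, 0],
    !![12, 0, 0, 0; 0, 12, 0, 0; 0, 0, 12, 0; 0, 0, 0, 12]⟩,
  ⟨!![0, 1, 0, 11; 7, 0, 12, 0; 0, 7, 0, 1; 10, 0, 7, 0],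
    !![6, 0, 1, 2; 0, 6, 1, 1; 3, 6, 6, 0; 3, 3, 0, 6],
    !![0, 0, 11, 0; 0, 0, 0, 11; 7, 0, 0, 0; 0, 7, 0, 0],
    !![12, 0, 0, 0; 0, 12, 0, 0; 0, 0, 12, 0; 0, 0, 0, 12]⟩,
  ⟨!![0, 8, 0, 11; 4, 0, 12, 0; 0, 7, 0, 5; 10, 0, 9, 0],
    !![6, 9, 0, 1; 11, 6, 7, 0; 0, 3, 6, 4; 8, 0, 2, 6],
    !![12, 0, 0, 0; 0, 12, 0, 0; 0, 0, 12, 0; 0, 0, 0, 12],
    !![1, 0, 0, 0; 0, 1, 0, 0; 0, 0, 1, 0; 0, 0, 0, 1]⟩,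
  ⟨!![2, 0, 9, 0; 0, 2, 0, 9; 5, 0, 10, 0; 0, 5, 0, 10],
    !![3, 0, 10, 0; 0, 3, 0, 10; 7, 0, 9, 0; 0, 7, 0, 9],
    !![10, 0, 4, 0; 0, 10, 0, 4; 8, 0, 2, 0; 0, 8, 0, 2],
    !![2, 0, 9, 0; 0, 2, 0, 9; 5, 0, 10, 0; 0, 5, 0, 10]⟩,
  ⟨!![2, 0, 7, 0; 0, 2, 0, 7; 12, 0, 10, 0; 0, 12, 0, 10],
    !![3, 0, 2, 0; 0, 3, 0, 2; 9, 0, 9, 0; 0, 9, 0, 9],
    !![10, 0, 6, 0; 0, 10, 0, 6; 1, 0, 2, 0; 0, 1, 0, 2],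
    !![2, 0, 7, 0; 0, 2, 0, 7; 12, 0, 10, 0; 0, 12, 0, 10]⟩,
  ⟨!![5, 0, 0, 0; 0, 5, 0, 0; 0, 0, 8, 0; 0, 0, 0, 8],
    !![10, 0, 0, 0; 0, 10, 0, 0; 0, 0, 2, 0; 0, 0, 0, 2],
    !![12, 0, 0, 0; 0, 12, 0, 0; 0, 0, 12, 0; 0, 0, 0, 12],
    !![1, 0, 0, 0; 0, 1, 0, 0; 0, 0, 1, 0; 0, 0, 0, 1]⟩,
  ⟨!![2, 0, 4, 0; 0, 2, 0, 4; 8, 0, 10, 0; 0, 8, 0, 10],
    !![3, 0, 3, 0; 0, 3, 0, 3; 6, 0, 9, 0; 0, 6, 0, 9],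
    !![10, 0, 9, 0; 0, 10, 0, 9; 5, 0, 2, 0; 0, 5, 0, 2],
    !![2, 0, 4, 0; 0, 2, 0, 4; 8, 0, 10, 0; 0, 8, 0, 10]⟩,
  ⟨!![2, 0, 6, 0; 0, 2, 0, 6; 1, 0, 10, 0; 0, 1, 0, 10],
    !![3, 0, 11, 0; 0, 3, 0, 11; 4, 0, 9, 0; 0, 4, 0, 9],
    !![10, 0, 7, 0; 0, 10, 0, 7; 12, 0, 2, 0; 0, 12, 0, 2],
    !![2, 0, 6, 0; 0, 2, 0, 6; 1, 0, 10, 0; 0, 1, 0, 10]⟩,
  ⟨!![3, 0, 6, 0; 0, 3, 0, 6; 1, 0, 11, 0; 0, 1, 0, 11],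
    !![10, 0, 7, 0; 0, 10, 0, 7; 12, 0, 2, 0; 0, 12, 0, 2],
    !![2, 0, 6, 0; 0, 2, 0, 6; 1, 0, 10, 0; 0, 1, 0, 10],
    !![10, 0, 7, 0; 0, 10, 0, 7; 12, 0, 2, 0; 0, 12, 0, 2]⟩,
  ⟨!![0, 0, 2, 0; 0, 0, 0, 2; 6, 0, 0, 0; 0, 6, 0, 0],
    !![6, 0, 12, 0; 0, 6, 0, 12; 10, 0, 6, 0; 0, 10, 0, 6],
    !![12, 0, 0, 0; 0, 12, 0, 0; 0, 0, 12, 0; 0, 0, 0, 12],
    !![1, 0, 0, 0; 0, 1, 0, 0; 0, 0, 1, 0; 0, 0, 0, 1]⟩,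
  ⟨!![3, 0, 9, 0; 0, 3, 0, 9; 5, 0, 11, 0; 0, 5, 0, 11],
    !![10, 0, 4, 0; 0, 10, 0, 4; 8, 0, 2, 0; 0, 8, 0, 2],
    !![2, 0, 9, 0; 0, 2, 0, 9; 5, 0, 10, 0; 0, 5, 0, 10],
    !![10, 0, 4, 0; 0, 10, 0, 4; 8, 0, 2, 0; 0, 8, 0, 2]⟩,
  ⟨!![0, 8, 0, 10; 4, 0, 5, 0; 0, 9, 0, 5; 11, 0, 9, 0],
    !![6, 9, 0, 8; 11, 6, 4, 0; 0, 2, 6, 4; 1, 0, 2, 6],
    !![12, 0, 0, 0; 0, 12, 0, 0; 0, 0, 12, 0; 0, 0, 0, 12],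
    !![1, 0, 0, 0; 0, 1, 0, 0; 0, 0, 1, 0; 0, 0, 0, 1]⟩,
  ⟨!![0, 7, 0, 0; 10, 0, 0, 0; 0, 0, 0, 4; 0, 0, 2, 0],
    !![10, 5, 0, 0; 9, 10, 0, 0; 0, 0, 2, 8; 0, 0, 4, 2],
    !![5, 0, 0, 0; 0, 5, 0, 0; 0, 0, 8, 0; 0, 0, 0, 8],
    !![12, 0, 0, 0; 0, 12, 0, 0; 0, 0, 12, 0; 0, 0, 0, 12]⟩,
  ⟨!![0, 8, 0, 2; 4, 0, 1, 0; 0, 6, 0, 5; 3, 0, 9, 0],
    !![6, 9, 0, 12; 11, 6, 6, 0; 0, 10, 6, 4; 5, 0, 2, 6],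
    !![12, 0, 0, 0; 0, 12, 0, 0; 0, 0, 12, 0; 0, 0, 0, 12],
    !![1, 0, 0, 0; 0, 1, 0, 0; 0, 0, 1, 0; 0, 0, 0, 1]⟩,
  ⟨!![0, 8, 0, 3; 4, 0, 8, 0; 0, 4, 0, 5; 2, 0, 9, 0],
    !![6, 9, 0, 5; 11, 6, 9, 0; 0, 11, 6, 4; 12, 0, 2, 6],
    !![12, 0, 0, 0; 0, 12, 0, 0; 0, 0, 12, 0; 0, 0, 0, 12],
    !![1, 0, 0, 0; 0, 1, 0, 0; 0, 0, 1, 0; 0, 0, 0, 1]⟩,
  ⟨!![0, 12, 0, 3; 6, 0, 8, 0; 0, 4, 0, 12; 2, 0, 6, 0],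
    !![6, 0, 8, 10; 0, 6, 5, 8; 2, 9, 6, 0; 11, 2, 0, 6],
    !![0, 0, 10, 0; 0, 0, 0, 10; 9, 0, 0, 0; 0, 9, 0, 0],
    !![12, 0, 0, 0; 0, 12, 0, 0; 0, 0, 12, 0; 0, 0, 0, 12]⟩,
  ⟨!![0, 0, 0, 1; 0, 0, 7, 0; 0, 11, 0, 0; 12, 0, 0, 0],
    !![6, 0, 0, 6; 0, 6, 3, 0; 0, 1, 6, 0; 7, 0, 0, 6],
    !![12, 0, 0, 0; 0, 12, 0, 0; 0, 0, 12, 0; 0, 0, 0, 12],
    !![1, 0, 0, 0; 0, 1, 0, 0; 0, 0, 1, 0; 0, 0, 0, 1]⟩,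
  ⟨!![0, 12, 0, 11; 6, 0, 12, 0; 0, 7, 0, 12; 10, 0, 6, 0],
    !![6, 0, 12, 2; 0, 6, 1, 12; 10, 6, 6, 0; 3, 10, 0, 6],
    !![0, 0, 2, 0; 0, 0, 0, 2; 6, 0, 0, 0; 0, 6, 0, 0],
    !![12, 0, 0, 0; 0, 12, 0, 0; 0, 0, 12, 0; 0, 0, 0, 12]⟩,
  ⟨!![0, 0, 0, 8; 0, 0, 4, 0; 0, 3, 0, 0; 8, 0, 0, 0],
    !![6, 0, 0, 9; 0, 6, 11, 0; 0, 5, 6, 0; 9, 0, 0, 6],
    !![12, 0, 0, 0; 0, 12, 0, 0; 0, 0, 12, 0; 0, 0, 0, 12],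
    !![1, 0, 0, 0; 0, 1, 0, 0; 0, 0, 1, 0; 0, 0, 0, 1]⟩,
  ⟨!![0, 12, 0, 10; 6, 0, 5, 0; 0, 9, 0, 12; 11, 0, 6, 0],
    !![6, 0, 5, 3; 0, 6, 8, 5; 11, 4, 6, 0; 2, 11, 0, 6],
    !![0, 0, 3, 0; 0, 0, 0, 3; 4, 0, 0, 0; 0, 4, 0, 0],
    !![12, 0, 0, 0; 0, 12, 0, 0; 0, 0, 12, 0; 0, 0, 0, 12]⟩,
  ⟨!![0, 12, 0, 2; 6, 0, 1, 0; 0, 6, 0, 12; 3, 0, 6, 0],
    !![6, 0, 1, 11; 0, 6, 12, 1; 3, 7, 6, 0; 10, 3, 0, 6],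
    !![0, 0, 11, 0; 0, 0, 0, 11; 7, 0, 0, 0; 0, 7, 0, 0],
    !![12, 0, 0, 0; 0, 12, 0, 0; 0, 0, 12, 0; 0, 0, 0, 12]⟩,
  ⟨!![3, 0, 7, 0; 0, 3, 0, 7; 12, 0, 11, 0; 0, 12, 0, 11],
    !![10, 0, 6, 0; 0, 10, 0, 6; 1, 0, 2, 0; 0, 1, 0, 2],
    !![2, 0, 7, 0; 0, 2, 0, 7; 12, 0, 10, 0; 0, 12, 0, 10],
    !![10, 0, 6, 0; 0, 10, 0, 6; 1, 0, 2, 0; 0, 1, 0, 2]⟩,
  ⟨!![3, 0, 4, 0; 0, 3, 0, 4; 8, 0, 11, 0; 0, 8, 0, 11],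
    !![10, 0, 9, 0; 0, 10, 0, 9; 5, 0, 2, 0; 0, 5, 0, 2],
    !![2, 0, 4, 0; 0, 2, 0, 4; 8, 0, 10, 0; 0, 8, 0, 10],
    !![10, 0, 9, 0; 0, 10, 0, 9; 5, 0, 2, 0; 0, 5, 0, 2]⟩,
  ⟨!![11, 0, 4, 0; 0, 11, 0, 4; 8, 0, 3, 0; 0, 8, 0, 3],
    !![2, 0, 9, 0; 0, 2, 0, 9; 5, 0, 10, 0; 0, 5, 0, 10],
    !![10, 0, 4, 0; 0, 10, 0, 4; 8, 0, 2, 0; 0, 8, 0, 2],
    !![2, 0, 9, 0; 0, 2, 0, 9; 5, 0, 10, 0; 0, 5, 0, 10]⟩,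
  ⟨!![0, 0, 10, 0; 0, 0, 0, 10; 9, 0, 0, 0; 0, 9, 0, 0],
    !![6, 0, 8, 0; 0, 6, 0, 8; 2, 0, 6, 0; 0, 2, 0, 6],
    !![12, 0, 0, 0; 0, 12, 0, 0; 0, 0, 12, 0; 0, 0, 0, 12],
    !![1, 0, 0, 0; 0, 1, 0, 0; 0, 0, 1, 0; 0, 0, 0, 1]⟩,
  ⟨!![11, 0, 6, 0; 0, 11, 0, 6; 1, 0, 3, 0; 0, 1, 0, 3],
    !![2, 0, 7, 0; 0, 2, 0, 7; 12, 0, 10, 0; 0, 12, 0, 10],
    !![10, 0, 6, 0; 0, 10, 0, 6; 1, 0, 2, 0; 0, 1, 0, 2],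
    !![2, 0, 7, 0; 0, 2, 0, 7; 12, 0, 10, 0; 0, 12, 0, 10]⟩,
  ⟨!![11, 0, 9, 0; 0, 11, 0, 9; 5, 0, 3, 0; 0, 5, 0, 3],
    !![2, 0, 4, 0; 0, 2, 0, 4; 8, 0, 10, 0; 0, 8, 0, 10],
    !![10, 0, 9, 0; 0, 10, 0, 9; 5, 0, 2, 0; 0, 5, 0, 2],
    !![2, 0, 4, 0; 0, 2, 0, 4; 8, 0, 10, 0; 0, 8, 0, 10]⟩,
  ⟨!![11, 0, 7, 0; 0, 11, 0, 7; 12, 0, 3, 0; 0, 12, 0, 3],
    !![2, 0, 6, 0; 0, 2, 0, 6; 1, 0, 10, 0; 0, 1, 0, 10],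
    !![10, 0, 7, 0; 0, 10, 0, 7; 12, 0, 2, 0; 0, 12, 0, 2],
    !![2, 0, 6, 0; 0, 2, 0, 6; 1, 0, 10, 0; 0, 1, 0, 10]⟩,
  ⟨!![0, 0, 3, 0; 0, 0, 0, 3; 4, 0, 0, 0; 0, 4, 0, 0],
    !![6, 0, 5, 0; 0, 6, 0, 5; 11, 0, 6, 0; 0, 11, 0, 6],
    !![12, 0, 0, 0; 0, 12, 0, 0; 0, 0, 12, 0; 0, 0, 0, 12],
    !![1, 0, 0, 0; 0, 1, 0, 0; 0, 0, 1, 0; 0, 0, 0, 1]⟩,
  ⟨!![0, 0, 11, 0; 0, 0, 0, 11; 7, 0, 0, 0; 0, 7, 0, 0],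
    !![6, 0, 1, 0; 0, 6, 0, 1; 3, 0, 6, 0; 0, 3, 0, 6],
    !![12, 0, 0, 0; 0, 12, 0, 0; 0, 0, 12, 0; 0, 0, 0, 12],
    !![1, 0, 0, 0; 0, 1, 0, 0; 0, 0, 1, 0; 0, 0, 0, 1]⟩,
  ⟨!![0, 0, 0, 5; 0, 0, 9, 0; 0, 10, 0, 0; 5, 0, 0, 0],
    !![6, 0, 0, 4; 0, 6, 2, 0; 0, 8, 6, 0; 4, 0, 0, 6],
    !![12, 0, 0, 0; 0, 12, 0, 0; 0, 0, 12, 0; 0, 0, 0, 12],
    !![1, 0, 0, 0; 0, 1, 0, 0; 0, 0, 1, 0; 0, 0, 0, 1]⟩,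
  ⟨!![0, 5, 0, 3; 9, 0, 8, 0; 0, 4, 0, 8; 2, 0, 4, 0],
    !![6, 4, 0, 5; 2, 6, 9, 0; 0, 11, 6, 9; 12, 0, 11, 6],
    !![12, 0, 0, 0; 0, 12, 0, 0; 0, 0, 12, 0; 0, 0, 0, 12],
    !![1, 0, 0, 0; 0, 1, 0, 0; 0, 0, 1, 0; 0, 0, 0, 1]⟩,
  ⟨!![0, 5, 0, 11; 9, 0, 12, 0; 0, 7, 0, 8; 10, 0, 4, 0],
    !![6, 4, 0, 1; 2, 6, 7, 0; 0, 3, 6, 9; 8, 0, 11, 6],
    !![12, 0, 0, 0; 0, 12, 0, 0; 0, 0, 12, 0; 0, 0, 0, 12],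
    !![1, 0, 0, 0; 0, 1, 0, 0; 0, 0, 1, 0; 0, 0, 0, 1]⟩,
  ⟨!![0, 5, 0, 10; 9, 0, 5, 0; 0, 9, 0, 8; 11, 0, 4, 0],
    !![6, 4, 0, 8; 2, 6, 4, 0; 0, 2, 6, 9; 1, 0, 11, 6],
    !![12, 0, 0, 0; 0, 12, 0, 0; 0, 0, 12, 0; 0, 0, 0, 12],
    !![1, 0, 0, 0; 0, 1, 0, 0; 0, 0, 1, 0; 0, 0, 0, 1]⟩,
  ⟨!![0, 0, 0, 12; 0, 0, 6, 0; 0, 2, 0, 0; 1, 0, 0, 0],
    !![6, 0, 0, 7; 0, 6, 10, 0; 0, 12, 6, 0; 6, 0, 0, 6],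
    !![12, 0, 0, 0; 0, 12, 0, 0; 0, 0, 12, 0; 0, 0, 0, 12],
    !![1, 0, 0, 0; 0, 1, 0, 0; 0, 0, 1, 0; 0, 0, 0, 1]⟩,
  ⟨!![10, 0, 6, 0; 0, 10, 0, 6; 1, 0, 2, 0; 0, 1, 0, 2],
    !![9, 0, 11, 0; 0, 9, 0, 11; 4, 0, 3, 0; 0, 4, 0, 3],
    !![2, 0, 7, 0; 0, 2, 0, 7; 12, 0, 10, 0; 0, 12, 0, 10],
    !![10, 0, 6, 0; 0, 10, 0, 6; 1, 0, 2, 0; 0, 1, 0, 2]⟩,
  ⟨!![10, 0, 9, 0; 0, 10, 0, 9; 5, 0, 2, 0; 0, 5, 0, 2],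
    !![9, 0, 10, 0; 0, 9, 0, 10; 7, 0, 3, 0; 0, 7, 0, 3],
    !![2, 0, 4, 0; 0, 2, 0, 4; 8, 0, 10, 0; 0, 8, 0, 10],
    !![10, 0, 9, 0; 0, 10, 0, 9; 5, 0, 2, 0; 0, 5, 0, 2]⟩]

def QL : List Mat := rows.map Row.M

set_option maxRecDepth 100000 in
theorem rows_ok : ∀ r ∈ rows,
    ((r.M = 1 ∨ r.N * (r.M - 1) = 1) ∧ r.M * r.M = r.M2 ∧ r.M2 * r.M2 = r.M4 ∧
      (r.M4 * r.M4 = 1 ∨ r.M4 * r.M2 = 1)) ∧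
    (Xm * r.M ∈ QL ∧ Xi * r.M ∈ QL ∧ Ym * r.M ∈ QL ∧ Yi * r.M ∈ QL) := by
  decide +kernel

theorem one_mem_QL : (1 : Mat) ∈ QL := by
  decide +kernel

def X : Matˣ := ⟨Xm, Xi, by decide +kernel, by decide +kernel⟩
def Y : Matˣ := ⟨Ym, Yi, by decide +kernel, by decide +kernel⟩

/-- the elements stabilizing the list. -/
def K : Subgroup Matˣ where
  carrier := {g | (∀ M ∈ QL, g.val * M ∈ QL) ∧ (∀ M ∈ QL, g⁻¹.val * M ∈ QL)}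
  one_mem' := by
    constructor <;> intro M hM <;> simpa using hM
  mul_mem' := by
    rintro g h ⟨hg1, hg2⟩ ⟨hh1, hh2⟩
    constructor
    · intro M hM
      rw [Units.val_mul, mul_assoc]
      exact hg1 _ (hh1 _ hM)
    · intro M hM
      rw [_root_.mul_inv_rev, Units.val_mul, mul_assoc]
      exact hh2 _ (hg2 _ hM)
  inv_mem' := by
    rintro g ⟨hg1, hg2⟩
    refine ⟨hg2, ?_⟩
    rw [inv_inv]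
    exact hg1

theorem mem_QL_iff (M : Mat) : M ∈ QL ↔ ∃ r ∈ rows, r.M = M := by
  simp [QL]

theorem X_mem_K : X ∈ K := by
  constructor
  · intro M hM
    obtain ⟨r, hr, rfl⟩ := (mem_QL_iff M).1 hM
    exact (rows_ok r hr).2.1
  · intro M hM
    obtain ⟨r, hr, rfl⟩ := (mem_QL_iff M).1 hM
    exact (rows_ok r hr).2.2.1

theorem Y_mem_K : Y ∈ K := by
  constructor
  · intro M hM
    obtain ⟨r, hr, rfl⟩ := (mem_QL_iff M).1 hM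
    exact (rows_ok r hr).2.2.2.1
  · intro M hM
    obtain ⟨r, hr, rfl⟩ := (mem_QL_iff M).1 hM
    exact (rows_ok r hr).2.2.2.2

/-- the binary octahedral group. -/
def Q : Subgroup Matˣ := Subgroup.closure {X, Y}

theorem Q_le_K : Q ≤ K := by
  rw [Q, Subgroup.closure_le]
  rintro g (rfl | rfl)
  · exact X_mem_K
  · exact Y_mem_K

theorem val_mem_QL {g : Matˣ} (hg : g ∈ Q) : g.val ∈ QL := by
  have := (Q_le_K hg).1 1 one_mem_QL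
  simpa using this

theorem X_mem_Q : X ∈ Q := Subgroup.subset_closure (by simp)
theorem Y_mem_Q : Y ∈ Q := Subgroup.subset_closure (by simp)

theorem exists_inv_sub_one {g : Matˣ} (hg : g ∈ Q) (h1 : g ≠ 1) :
    ∃ N : Mat, (g.val - 1) * N = 1 := by
  obtain ⟨r, hr, hrg⟩ := (mem_QL_iff _).1 (val_mem_QL hg)
  rcases (rows_ok r hr).1.1 with h | h
  · exfalso
    apply h1
    apply Units.ext
    rw [← hrg, h]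
    rfl
  · refine ⟨r.N, ?_⟩
    rw [← hrg]
    exact mul_eq_one_comm.1 h

theorem pow_cases {g : Matˣ} (hg : g ∈ Q) : g ^ 8 = 1 ∨ g ^ 6 = 1 := by
  obtain ⟨r, hr, hrg⟩ := (mem_QL_iff _).1 (val_mem_QL hg)
  obtain ⟨-, h2, h4, h⟩ := (rows_ok r hr).1
  have e2 : g.val ^ 2 = r.M2 := by rw [sq, ← hrg, h2]
  have e4 : g.val ^ 4 = r.M4 := by
    have : g.val ^ 4 = (g.val ^ 2) ^ 2 := by rw [← pow_mul]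
    rw [this, e2, sq, h4]
  rcases h with h | h
  · left
    apply Units.ext
    have : g.val ^ 8 = g.val ^ 4 * g.val ^ 4 := by rw [← pow_add]
    rw [Units.val_pow_eq_pow_val, this, e4, h]
    rfl
  · right
    apply Units.ext
    have : g.val ^ 6 = g.val ^ 4 * g.val ^ 2 := by rw [← pow_add]
    rw [Units.val_pow_eq_pow_val, this, e4, e2, h]
    rfl

theorem orderOf_mem {g : Matˣ} (hg : g ∈ Q) (h1 : g ≠ 1) :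
    orderOf g ∈ ({2, 3, 4, 6, 8} : Set ℕ) := by
  have hne : orderOf g ≠ 1 := by rwa [Ne, orderOf_eq_one_iff]
  simp only [Set.mem_insert_iff, Set.mem_singleton_iff]
  rcases pow_cases hg with h | h
  · have hd := orderOf_dvd_of_pow_eq_one h
    have := Nat.le_of_dvd (by norm_num) hd
    generalize orderOf g = n at *
    interval_cases n <;> simp_all <;> omega
  · have hd := orderOf_dvd_of_pow_eq_one h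
    have := Nat.le_of_dvd (by norm_num) hd
    generalize orderOf g = n at *
    interval_cases n <;> simp_all <;> omega

/-! ### witnesses -/

theorem ne_one_of_val {g : Matˣ} (h : g.val ≠ 1) : g ≠ 1 := by
  rintro rfl
  exact h rfl

theorem order_X : orderOf X = 8 := by
  have : Fact (Nat.Prime 2) := ⟨by norm_num⟩
  have := orderOf_eq_prime_pow (x := X) (p := 2) (n := 2) ?_ ?_
  · simpa using this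
  · intro h
    have := congrArg Units.val h
    rw [Units.val_pow_eq_pow_val] at this
    revert this
    show ¬ Xm ^ 2 ^ 2 = 1
    decide +kernel
  · apply Units.ext
    rw [Units.val_pow_eq_pow_val]
    show Xm ^ 2 ^ (2 + 1) = 1
    decide +kernel

theorem order_Y : orderOf Y = 4 := by
  have : Fact (Nat.Prime 2) := ⟨by norm_num⟩
  have := orderOf_eq_prime_pow (x := Y) (p := 2) (n := 1) ?_ ?_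
  · simpa using this
  · intro h
    have := congrArg Units.val h
    rw [Units.val_pow_eq_pow_val] at this
    revert this
    show ¬ Ym ^ 2 ^ 1 = 1
    decide +kernel
  · apply Units.ext
    rw [Units.val_pow_eq_pow_val]
    show Ym ^ 2 ^ (1 + 1) = 1
    decide +kernel

theorem order_YY : orderOf (Y * Y) = 2 := by
  have : Fact (Nat.Prime 2) := ⟨by norm_num⟩
  apply orderOf_eq_prime
  · apply Units.ext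
    rw [Units.val_pow_eq_pow_val, Units.val_mul]
    show (Ym * Ym) ^ 2 = 1
    decide +kernel
  · apply ne_one_of_val
    rw [Units.val_mul]
    show Ym * Ym ≠ 1
    decide +kernel

theorem order_XY : orderOf (X * Y) = 3 := by
  have : Fact (Nat.Prime 3) := ⟨by norm_num⟩
  apply orderOf_eq_prime
  · apply Units.ext
    rw [Units.val_pow_eq_pow_val, Units.val_mul]
    show (Xm * Ym) ^ 3 = 1
    decide +kernel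
  · apply ne_one_of_val
    rw [Units.val_mul]
    show Xm * Ym ≠ 1
    decide +kernel

theorem order_YYXY : orderOf (Y * Y * (X * Y)) = 6 := by
  have hc : Commute (Y * Y) (X * Y) := by
    apply Units.ext
    simp only [Units.val_mul]
    show Ym * Ym * (Xm * Ym) = Xm * Ym * (Ym * Ym)
    decide +kernel
  have := hc.orderOf_mul_eq_mul_orderOf_of_coprime (by rw [order_YY, order_XY]; norm_num)
  rw [this, order_YY, order_XY]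

/-! ### solvability of `Q` -/

instance : Finite Q := inferInstance

theorem pow_24 (g : Q) : g ^ 24 = 1 := by
  apply Subtype.ext
  rw [Subgroup.coe_pow, Subgroup.coe_one]
  rcases pow_cases g.2 with h | h
  · have : (g : Matˣ) ^ 24 = ((g : Matˣ) ^ 8) ^ 3 := by rw [← pow_mul]
    rw [this, h, one_pow]
  · have : (g : Matˣ) ^ 24 = ((g : Matˣ) ^ 6) ^ 4 := by rw [← pow_mul]
    rw [this, h, one_pow]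

theorem prime_dvd_card {p : ℕ} (hp : p.Prime) (h : p ∣ Nat.card Q) : p = 2 ∨ p = 3 := by
  have : Fact p.Prime := ⟨hp⟩
  obtain ⟨g, hg⟩ := exists_prime_orderOf_dvd_card' p h
  have hd : p ∣ 24 := by
    rw [← hg]
    exact orderOf_dvd_of_pow_eq_one (pow_24 g)
  have hle := Nat.le_of_dvd (by norm_num) hd
  have h2 := hp.two_le
  interval_cases p <;> simp_all <;> first | omega | (exfalso; revert hp; decide)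

theorem card_Q_eq : ∃ a b : ℕ, Nat.card Q = 2 ^ a * 3 ^ b := by
  have hn : Nat.card Q ≠ 0 := Nat.card_pos.ne'
  obtain ⟨a, m, hm, h1⟩ := Nat.exists_eq_two_pow_mul_odd hn
  have hm0 : m ≠ 0 := by
    rintro rfl
    simp at hm
  obtain ⟨b, k, hk, h2⟩ := Nat.exists_eq_pow_mul_and_not_dvd hm0 3 (by norm_num)
  refine ⟨a, b, ?_⟩
  have hk1 : k = 1 := by
    rw [Nat.eq_one_iff_not_exists_prime_dvd]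
    intro p hp hpk
    have hpm : p ∣ m := h2 ▸ Dvd.dvd.mul_left hpk _
    have hpn : p ∣ Nat.card Q := h1 ▸ Dvd.dvd.mul_left hpm _
    rcases prime_dvd_card hp hpn with rfl | rfl
    · exact (Nat.not_even_iff_odd.2 hm) (even_iff_two_dvd.2 hpm)
    · exact hk hpk
  rw [h1, h2, hk1, mul_one]

instance Q_solvable : Group.IsSolvable Q := by
  obtain ⟨a, b, h⟩ := card_Q_eq
  exact Cfsg.Agent.Lib.Helper04.burnside_paqb 2 3 a b (by norm_num) (by norm_num) h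

/-! ### the action and the semidirect product -/

abbrev V := Fin 4 → ZMod 13
abbrev N := Multiplicative V

/-- the action of an invertible matrix. -/
def actEquiv (g : Matˣ) : MulAut N where
  toFun v := Multiplicative.ofAdd (g.val *ᵥ Multiplicative.toAdd v)
  invFun v := Multiplicative.ofAdd (g⁻¹.val *ᵥ Multiplicative.toAdd v)
  left_inv v := by
    simp [Matrix.mulVec_mulVec]
  right_inv v := by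
    simp [Matrix.mulVec_mulVec]
  map_mul' v w := by
    simp [Matrix.mulVec_add]

def φ : Matˣ →* MulAut N where
  toFun := actEquiv
  map_one' := by
    ext v
    simp [actEquiv]
  map_mul' g h := by
    ext v
    simp [actEquiv, Matrix.mulVec_mulVec]

theorem φ_apply (g : Matˣ) (v : N) :
    φ g v = Multiplicative.ofAdd (g.val *ᵥ Multiplicative.toAdd v) := rfl

abbrev ψ : Q →* MulAut N := φ.comp Q.subtype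

abbrev H := N ⋊[ψ] Q

instance : Finite H := Finite.of_equiv _ SemidirectProduct.equivProd.symm

instance : Group.IsSolvable H :=
  Group.isSolvable_of_ker_le_range (SemidirectProduct.inl : N →* H) SemidirectProduct.rightHom
    (by rw [SemidirectProduct.range_inl_eq_ker_rightHom])

theorem pow13 (n : N) : n ^ 13 = 1 := by
  have h : Multiplicative.toAdd (n ^ 13) = Multiplicative.toAdd (1 : N) := by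
    rw [toAdd_pow, toAdd_one]
    funext i
    have : (13 : ZMod 13) = 0 := by decide
    simp [this]
  exact Multiplicative.toAdd.injective h

theorem order_right_one (h : H) (hr : h.right = 1) : orderOf h = 1 ∨ orderOf h = 13 := by
  have e : h = SemidirectProduct.inl h.left := by
    ext
    · simp
    · simp [hr]
  have hp : h ^ 13 = 1 := by
    rw [e, ← map_pow, pow13, map_one]
  have := orderOf_dvd_of_pow_eq_one hp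
  rwa [Nat.dvd_prime (by norm_num)] at this

theorem conj_lemma (n : N) (g : Q) (hg : g ≠ 1) :
    ∃ m : N, (⟨n, g⟩ : H) = SemidirectProduct.inl m * SemidirectProduct.inr g *
      (SemidirectProduct.inl m)⁻¹ := by
  have hg' : (g : Matˣ) ≠ 1 := by
    intro h
    apply hg
    exact Subtype.ext h
  obtain ⟨Ni, hNi⟩ := exists_inv_sub_one g.2 hg'
  set w : V := Multiplicative.toAdd n with hw
  set u : V := Ni *ᵥ w with hu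
  have key : w = -u + (g : Matˣ).val *ᵥ u := by
    have h1 : ((g : Matˣ).val - 1) *ᵥ u = w := by
      rw [hu, Matrix.mulVec_mulVec, hNi, Matrix.one_mulVec]
    rw [Matrix.sub_mulVec, Matrix.one_mulVec] at h1
    rw [← h1]
    abel
  refine ⟨Multiplicative.ofAdd (-u), ?_⟩
  apply SemidirectProduct.ext
  · simp only [SemidirectProduct.mul_left, SemidirectProduct.left_inl, SemidirectProduct.left_inr,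
      SemidirectProduct.mul_right, SemidirectProduct.right_inl, SemidirectProduct.right_inr,
      ← map_inv, map_one, one_mul, mul_one, MulAut.one_apply]
    have e1 : (ψ g) (Multiplicative.ofAdd (-u))⁻¹ =
        Multiplicative.ofAdd ((g : Matˣ).val *ᵥ u) := by
      rw [← ofAdd_neg, neg_neg]
      rfl
    rw [e1, ← ofAdd_add, ← key]
    rfl
  · simp

theorem order_right_ne (h : H) (hr : h.right ≠ 1) : orderOf h ∈ ({2, 3, 4, 6, 8} : Set ℕ) := by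
  obtain ⟨m, hm⟩ := conj_lemma h.left h.right hr
  have e : h = MulAut.conj (SemidirectProduct.inl m) (SemidirectProduct.inr h.right) := by
    rw [MulAut.conj_apply, ← hm]
  rw [e, MulEquiv.orderOf_eq, orderOf_injective _ SemidirectProduct.inr_injective,
    ← Subgroup.orderOf_coe]
  apply orderOf_mem h.right.2
  intro h1
  exact hr (Subtype.ext h1)

theorem order_inr (g : Matˣ) (hg : g ∈ Q) :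
    orderOf (SemidirectProduct.inr ⟨g, hg⟩ : H) = orderOf g := by
  rw [orderOf_injective _ SemidirectProduct.inr_injective, ← Subgroup.orderOf_coe]

theorem order_inl : orderOf (SemidirectProduct.inl (Multiplicative.ofAdd (fun _ => 1 : V)) : H)
    = 13 := by
  have : Fact (Nat.Prime 13) := ⟨by norm_num⟩
  rw [orderOf_injective _ SemidirectProduct.inl_injective]
  apply orderOf_eq_prime (pow13 _)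
  intro h
  have := congrFun (congrArg Multiplicative.toAdd h) 0
  simp at this

theorem spectrum_H : Set.range (orderOf : H → ℕ) = {1, 2, 3, 4, 6, 8, 13} := by
  apply Set.Subset.antisymm
  · rintro _ ⟨h, rfl⟩
    by_cases hr : h.right = 1
    · rcases order_right_one h hr with h1 | h1 <;> simp [h1]
    · have := order_right_ne h hr
      simp only [Set.mem_insert_iff, Set.mem_singleton_iff] at this ⊢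
      omega
  · intro n hn
    simp only [Set.mem_insert_iff, Set.mem_singleton_iff] at hn
    rcases hn with rfl | rfl | rfl | rfl | rfl | rfl | rfl
    · exact ⟨1, orderOf_one⟩
    · exact ⟨_, (order_inr _ (Q.mul_mem Y_mem_Q Y_mem_Q)).trans order_YY⟩
    · exact ⟨_, (order_inr _ (Q.mul_mem X_mem_Q Y_mem_Q)).trans order_XY⟩
    · exact ⟨_, (order_inr _ Y_mem_Q).trans order_Y⟩
    · exact ⟨_, (order_inr _ (Q.mul_mem (Q.mul_mem Y_mem_Q Y_mem_Q)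
        (Q.mul_mem X_mem_Q Y_mem_Q))).trans order_YYXY⟩
    · exact ⟨_, (order_inr _ X_mem_Q).trans order_X⟩
    · exact ⟨_, order_inl⟩

theorem exists_H : ∃ (H : Type) (_ : Group H) (_ : Fintype H), Group.IsSolvable H ∧
    Set.range (orderOf : H → ℕ) = {1, 2, 3, 4, 6, 8, 13} :=
  ⟨H, inferInstance, Fintype.ofFinite H, inferInstance, spectrum_H⟩

end Cfsg.Agent.Lib.Helper62.Frob13
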