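import Mathlib
import Cfsg.Prelude.Def_Solvable

/-!
A semidirect product `N ⋊[φ] G` in which every non-identity element of `G` acts on `N` without
non-trivial fixed points is a Frobenius group with complement `G` (helper62).
-/

set_option autoImplicit false

namespace Cfsg.Agent.Lib.Helper62

open scoped Pointwise

theorem mem_conj_smul_iff {L : Type*} [Group L] (H : Subgroup L) (g x : L) :
    x ∈ MulAut.conj g • H ↔ g⁻¹ * x * g ∈ H := by
  rw [Subgroup.mem_pointwise_smul_iff_inv_smul_mem]
  simp [MulAut.smul_def]

theorem frobenius_of_fpf {N G : Type*} [Group N] [Group G] (φ : G →* MulAut N)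
    (hfpf : ∀ g : G, g ≠ 1 → ∀ n : N, φ g n = n → n = 1) [Nontrivial N] [Nontrivial G] :
    Cfsg.IsFrobeniusComplement (SemidirectProduct.inr : G →* N ⋊[φ] G).range := by
  refine ⟨?_, ?_, ?_⟩
  · intro h
    obtain ⟨g, hg⟩ := exists_ne (1 : G)
    have hmem : (SemidirectProduct.inr g : N ⋊[φ] G) ∈ (SemidirectProduct.inr : G →* N ⋊[φ] G).range :=
      ⟨g, rfl⟩
    rw [h, Subgroup.mem_bot] at hmem
    have := congrArg SemidirectProduct.right hmem
    simp at this
    exact hg this
  · intro h
    obtain ⟨n, hn⟩ := exists_ne (1 : N)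
    have hmem : (SemidirectProduct.inl n : N ⋊[φ] G) ∈ (SemidirectProduct.inr : G →* N ⋊[φ] G).range := by
      rw [h]; exact Subgroup.mem_top _
    obtain ⟨g, hg⟩ := hmem
    have := congrArg SemidirectProduct.left hg
    simp at this
    exact hn this.symm
  · intro x hx
    rw [eq_bot_iff]
    intro y hy
    rw [Subgroup.mem_bot]
    obtain ⟨hy1, hy2⟩ := Subgroup.mem_inf.mp hy
    rw [mem_conj_smul_iff] at hy2
    obtain ⟨k, rfl⟩ := hy1
    obtain ⟨k', hk'⟩ := hy2
    -- x.left ≠ 1
    have hxl : x.left ≠ 1 := by
      intro h1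
      apply hx
      refine ⟨x.right, ?_⟩
      apply SemidirectProduct.ext
      · simp [h1]
      · simp
    -- inr k' = x⁻¹ * inr k * x, so x * inr k' = inr k * x
    have hcomm : x * SemidirectProduct.inr k' = SemidirectProduct.inr k * x := by
      rw [hk']; group
    have hl := congrArg SemidirectProduct.left hcomm
    simp only [SemidirectProduct.mul_left, SemidirectProduct.left_inr, map_one, mul_one,
      SemidirectProduct.right_inr, one_mul] at hl
    -- hl : x.left = φ k x.left
    by_cases hk : k = 1
    · rw [hk, map_one]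
    · exact absurd (hfpf k hk x.left hl.symm) hxl

end Cfsg.Agent.Lib.Helper62
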