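import Mathlib
import Cfsg.Agent.Lib.Helper62.GraphIso

/-!
# Graph subgroups II: derived subgroups (helper62)

A subgroup `D ≤ A × G` which is the graph of an injective homomorphism `A → G` (`A` perfect)
whose image `N` contains the derived subgroup of `G` gives `⁅G, G⁆ ≃* A`.  The inclusion
`⁅G, G⁆ ≤ N` is certified by an involution `t` normalising `N` with every generator of `G` in
`N ∪ tN`; word identities are checked on a faithful set of points through tables.
-/

set_option autoImplicit false

namespace Cfsg.Agent.Lib.Helper62.GraphIso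

open Subgroup Cfsg.Agent.Lib.Helper62

section Rel2

variable {G1 G2 Ω1 Ω2 : Type*} [Group G1] [Group G2] [MulAction G1 Ω1] [MulAction G2 Ω2]

theorem fst_smul_of_snd_eq_one {pt1 : ℕ → Ω1} {pt2 : ℕ → Ω2} {n1 n2 : ℕ} {relL : List (List ℕ)}
    {d : G1 × G2} (hd : RelInv pt1 pt2 n1 relL d) (h2 : d.2 = 1)
    (hrel : ∀ i < n1, ∀ j ∈ nthD relL i [], j < n2)
    (hinj2 : ∀ i < n2, ∀ j < n2, pt2 i = pt2 j → i = j) (i : ℕ) (hi : i < n1) (j : ℕ)
    (hj : j ∈ nthD relL i []) :
    ∃ i' < n1, j ∈ nthD relL i' [] ∧ d.1 • pt1 i = pt1 i' := by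
  obtain ⟨i', hi', j', hj', e1, e2⟩ := hd i hi j hj
  rw [h2, one_smul] at e2
  have := hinj2 j (hrel i hi j hj) j' (hrel i' hi' j' hj') e2
  subst this
  exact ⟨i', hi', hj', e1⟩

end Rel2

section Words

variable {G Ω : Type*} [Group G] [MulAction G Ω]

theorem evalWord_nil (gens : List G) : evalWord gens [] = 1 := by simp [evalWord]

theorem evalWord_append (gens : List G) (w w' : List ℕ) :
    evalWord gens (w ++ w') = evalWord gens w * evalWord gens w' := by simp [evalWord]

/-- words in words -/
theorem evalWord_words (gens : List G) (ws : List (List ℕ)) (u : List ℕ) :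
    evalWord (ws.map (evalWord gens)) u = evalWord gens (u.flatMap (fun k => nthD ws k [])) := by
  induction u with
  | nil => simp [evalWord]
  | cons k u ih =>
    rw [evalWord_cons, ih, List.flatMap_cons, evalWord_append]
    congr 1
    have := nthD_map (evalWord gens) ws k []
    rwa [evalWord_nil] at this

theorem evalWord_mem_genGroup (gens : List G) (w : List ℕ) : evalWord gens w ∈ genGroup gens :=
  evalWord_mem gens w

/-- two words with the same action on a faithful set of points are equal -/
theorem evalWord_eq_of_wordAct_eq {gens : List G} {pt : ℕ → Ω} {n : ℕ} {perm : List (List ℕ)}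
    (hT : TableOK gens pt n perm) (hfaith : ∀ g : G, (∀ i < n, g • pt i = pt i) → g = 1)
    (w w' : List ℕ) (hw : ∀ s ∈ w, s < gens.length) (hw' : ∀ s ∈ w', s < gens.length)
    (h : ∀ i < n, wordAct perm w i = wordAct perm w' i) : evalWord gens w = evalWord gens w' := by
  have h1 : (evalWord gens w')⁻¹ * evalWord gens w = 1 := by
    apply hfaith
    intro i hi
    rw [mul_smul, (wordAct_spec hT w hw i hi).1, h i hi, ← (wordAct_spec hT w' hw' i hi).1,
      inv_smul_smul]
  calc evalWord gens w = evalWord gens w' * ((evalWord gens w')⁻¹ * evalWord gens w) := by group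
    _ = evalWord gens w' := by rw [h1, mul_one]

end Words

section Commutator

variable {G : Type*} [Group G]

/-- an involution `t` conjugating the generators of `N` into `N` normalises `N` -/
theorem conj_mem_of_gens [Finite G] (ys : List G) (t : G) (ht : t * t = 1)
    (h : ∀ y ∈ ys, t * y * t ∈ genGroup ys) : ∀ n ∈ genGroup ys, t * n * t ∈ genGroup ys := by
  apply closure_subset_of_mul_closed {g | g ∈ ys} {n | t * n * t ∈ genGroup ys}
  · show t * 1 * t ∈ genGroup ys
    rw [mul_one, ht]
    exact one_mem _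
  · intro s hs n hn
    have h1 : t * (s * n) * t = (t * s * t) * (t * n * t) := by
      have : t * s * t * (t * n * t) = t * s * (t * t) * n * t := by group
      rw [this, ht]
      group
    show t * (s * n) * t ∈ genGroup ys
    rw [h1]
    exact mul_mem (h s hs) hn

/-- if an involution `t` normalises `N` and every generator of `G` lies in `N ∪ tN`, then
`⁅G, G⁆ ≤ N` -/
theorem commutator_le_of_coset_cert [Finite G] (N : Subgroup G) (S : Set G)
    (hS : closure S = ⊤) (t : G) (ht : t * t = 1)
    (hconj : ∀ n ∈ N, t * n * t ∈ N) (hmem : ∀ x ∈ S, x ∈ N ∨ t * x ∈ N) :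
    commutator G ≤ N := by
  have htinv : t⁻¹ = t := inv_eq_of_mul_eq_one_left ht
  have hc1 : ∀ n ∈ N, t⁻¹ * n * t ∈ N := by
    intro n hn
    rw [htinv]
    exact hconj n hn
  have hc2 : ∀ n ∈ N, t * n * t⁻¹ ∈ N := by
    intro n hn
    rw [htinv]
    exact hconj n hn
  have htt : t * t ∈ N := by
    rw [ht]
    exact one_mem _
  have htt' : t⁻¹ * t⁻¹ ∈ N := by
    rw [htinv]
    exact htt
  have hall : ∀ g ∈ closure S, g ∈ N ∨ t⁻¹ * g ∈ N := by
    apply closure_subset_of_mul_closed S {g | g ∈ N ∨ t⁻¹ * g ∈ N}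
    · left
      exact N.one_mem
    · intro s hs g hg
      have hs' : s ∈ N ∨ t⁻¹ * s ∈ N := by
        rw [htinv]
        exact hmem s hs
      rcases hs' with h1 | h1 <;> rcases hg with h2 | h2
      · left
        exact N.mul_mem h1 h2
      · right
        have : t⁻¹ * (s * g) = (t⁻¹ * s * t) * (t⁻¹ * g) := by group
        rw [this]
        exact N.mul_mem (hc1 s h1) h2
      · right
        have : t⁻¹ * (s * g) = (t⁻¹ * s) * g := by group
        rw [this]
        exact N.mul_mem h1 h2
      · left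
        have : s * g = (t * t) * (t⁻¹ * (t⁻¹ * s) * t) * (t⁻¹ * g) := by group
        rw [this]
        exact N.mul_mem (N.mul_mem htt (hc1 _ h1)) h2
  have hall' : ∀ g : G, g ∈ N ∨ t⁻¹ * g ∈ N := fun g => hall g (by rw [hS]; trivial)
  rw [commutator_def, Subgroup.commutator_le]
  intro g _ h _
  rw [commutatorElement_def]
  rcases hall' g with h1 | h1 <;> rcases hall' h with h2 | h2
  · exact N.mul_mem (N.mul_mem (N.mul_mem h1 h2) (N.inv_mem h1)) (N.inv_mem h2)
  · have : g * h * g⁻¹ * h⁻¹ = g * (t * ((t⁻¹ * h) * g⁻¹ * (t⁻¹ * h)⁻¹) * t⁻¹) := by group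
    rw [this]
    exact N.mul_mem h1 (hc2 _ (N.mul_mem (N.mul_mem h2 (N.inv_mem h1)) (N.inv_mem h2)))
  · have : g * h * g⁻¹ * h⁻¹ = (t * ((t⁻¹ * g) * h * (t⁻¹ * g)⁻¹) * t⁻¹) * h⁻¹ := by group
    rw [this]
    exact N.mul_mem (hc2 _ (N.mul_mem (N.mul_mem h1 h2) (N.inv_mem h1))) (N.inv_mem h2)
  · have : g * h * g⁻¹ * h⁻¹ = (t * (t⁻¹ * g) * t⁻¹) * (t * t)
        * ((t⁻¹ * h) * (t⁻¹ * g)⁻¹) * (t⁻¹ * (t⁻¹ * h)⁻¹ * t) * (t⁻¹ * t⁻¹) := by
      group
    rw [this]
    exact N.mul_mem (N.mul_mem (N.mul_mem (N.mul_mem (hc2 _ h1) htt)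
      (N.mul_mem h2 (N.inv_mem h1))) (hc1 _ (N.inv_mem h2))) htt'

end Commutator

section Assembly2

variable {A G : Type*} [Group A] [Group G]

/-- a graph subgroup of `A × G` onto the perfect group `A`, with both kernels trivial and
second projection containing `⁅G, G⁆`, gives `⁅G, G⁆ ≃* A` -/
theorem exists_commutator_equiv [Finite A] (D : Subgroup (A × G))
    (hA : Nat.card A ≤ Nat.card (D.map (MonoidHom.fst A G)))
    (hkerA : ∀ x : A, (x, (1 : G)) ∈ D → x = 1)
    (hkerG : ∀ y : G, ((1 : A), y) ∈ D → y = 1)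
    (hperf : commutator A = ⊤)
    (hle : commutator G ≤ D.map (MonoidHom.snd A G)) :
    Nonempty (↥(commutator G) ≃* A) := by
  have hAtop : D.map (MonoidHom.fst A G) = ⊤ := Subgroup.eq_top_of_le_card _ hA
  let fD : D →* A := (MonoidHom.fst A G).comp D.subtype
  have hinj : Function.Injective fD := by
    rw [injective_iff_map_eq_one]
    rintro ⟨⟨x, y⟩, hd⟩ h
    have hx : x = 1 := h
    subst hx
    have hy := hkerG y hd
    subst hy
    rfl
  have hsurj : Function.Surjective fD := by
    intro x
    have : x ∈ D.map (MonoidHom.fst A G) := by rw [hAtop]; trivial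
    obtain ⟨d, hd, rfl⟩ := this
    exact ⟨⟨d, hd⟩, rfl⟩
  let e : D ≃* A := MulEquiv.ofBijective fD ⟨hinj, hsurj⟩
  let gD : D →* G := (MonoidHom.snd A G).comp D.subtype
  have hginj : Function.Injective gD := by
    rw [injective_iff_map_eq_one]
    rintro ⟨⟨x, y⟩, hd⟩ h
    have hy : y = 1 := h
    subst hy
    have hx := hkerA x hd
    subst hx
    rfl
  let φ : A →* G := gD.comp e.symm.toMonoidHom
  have hφinj : Function.Injective φ := hginj.comp e.symm.injective
  have hrange : φ.range = D.map (MonoidHom.snd A G) := by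
    ext y
    constructor
    · rintro ⟨x, rfl⟩
      exact ⟨(e.symm x).1, (e.symm x).2, rfl⟩
    · rintro ⟨d, hd, rfl⟩
      refine ⟨e ⟨d, hd⟩, ?_⟩
      simp [φ, gD]
  have hle1 : φ.range ≤ commutator G := by
    have h1 : φ.range = (commutator A).map φ := by
      rw [hperf, MonoidHom.range_eq_map]
    rw [h1, commutator_def, commutator_def, Subgroup.map_commutator]
    exact Subgroup.commutator_mono le_top le_top
  have heq : commutator G = φ.range := le_antisymm (hrange ▸ hle) hle1
  exact ⟨(MulEquiv.subgroupCongr heq).trans (MonoidHom.ofInjective hφinj).symm⟩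

/-- transport of the derived subgroup along an isomorphism -/
noncomputable def commutatorCongr {H : Type*} [Group H] (e : G ≃* H) :
    ↥(commutator G) ≃* ↥(commutator H) :=
  (e.subgroupMap (commutator G)).trans (MulEquiv.subgroupCongr (by
    rw [commutator_def, commutator_def, Subgroup.map_commutator]
    have : (⊤ : Subgroup G).map (e : G →* H) = ⊤ :=
      Subgroup.map_top_of_surjective _ e.surjective
    rw [this]))

end Assembly2

end Cfsg.Agent.Lib.Helper62.GraphIso
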