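import Mathlib
import Cfsg.Prelude.Def_Classical
import Cfsg.Prelude.Def_ChevG2
import Cfsg.Agent.Lib.Helper07.SU33A
import Cfsg.Agent.Lib.Helper62.GraphIso2
import Cfsg.Agent.Lib.Helper62.G2U3Data

/-!
# `SU₃(3)` and `G₂(2)`: the graph subgroup (helper62)

Three explicit pairs `(x, y)` with `x ∈ SU₃(F9)`, `y ∈ G₂(ZMod 2)` a word in the root elements,
and their tables.
-/

set_option autoImplicit false

namespace Cfsg.Agent.Lib.Helper62.G2U3

open Matrix Cfsg.Agent.Lib.Helper07 Cfsg.Agent.Lib.Helper62 Cfsg.Agent.Lib.Helper62.GraphIso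
  Cfsg.Agent.Lib.Helper62.G2U3Data

/-- `SU₃(3)` over the concrete field `F9` -/
abbrev SUA : Type := ↥(Cfsg.SU 3 F9 3)
/-- the index set of the adjoint module of `G₂` -/
abbrev Idx : Type := Fin 2 ⊕ Fin 12
/-- `G₂(2)` -/
abbrev GG : Type := ↥(Cfsg.Lie.chevG2.group (ZMod 2))
/-- vectors of `F₉³` -/
abbrev VA : Type := Fin 3 → F9
/-- vectors of `F₂¹⁴` -/
abbrev VB : Type := Idx → ZMod 2

/-- codes to `F9` -/
def c9 (c : ℕ) : F9 := ⟨((c % 3 : ℕ) : ZMod 3), ((c / 3 : ℕ) : ZMod 3)⟩

/-- code of an element of `F9` -/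
def d9 (x : F9) : ℕ := x.re.val + 3 * x.im.val

/-- position of an index of `Fin 2 ⊕ Fin 12` -/
def ix : Idx → ℕ := Sum.elim (fun a => a.val) (fun a => 2 + a.val)

/-- matrix over `F9` from its rows -/
def mA (L : List (List ℕ)) : Matrix (Fin 3) (Fin 3) F9 :=
  fun i j => c9 (nthD (nthD L i.val []) j.val 0)

/-- entries over `ZMod 2` from the rows as bit masks -/
def eB (L : List ℕ) (i j : Idx) : ZMod 2 := (((nthD L (ix i) 0 / 2 ^ ix j) % 2 : ℕ) : ZMod 2)

/-- matrix over `ZMod 2` from its rows as bit masks -/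
def mB (L : List ℕ) : Matrix Idx Idx (ZMod 2) := fun i j => eB L i j

/-- entries of the root elements -/
def xE (r : Fin 12) (t : ZMod 2) (i j : Idx) : ZMod 2 := Cfsg.Lie.chevG2.xMat (ZMod 2) r t i j

set_option maxRecDepth 100000 in
theorem detOK : ∀ s < 3, (mA (nthD LA s [])).det = 1 := by
  decide +kernel

set_option maxRecDepth 100000 in
theorem unitOK : ∀ s < 3, (mA (nthD LA s []))ᵀ * (mA (nthD LA s [])).map (fun x => x ^ 3) = 1 := by
  decide +kernel

set_option maxRecDepth 100000 in
theorem xE_one : ∀ r : Fin 12, ∀ i j : Idx, xE r 1 i j = eB (nthD LB r.val []) i j := by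
  decide +kernel

set_option maxRecDepth 100000 in
theorem xE_zero : ∀ r : Fin 12, ∀ i j : Idx, xE r 0 i j = if i = j then 1 else 0 := by
  decide +kernel

set_option maxRecDepth 100000 in
theorem sqOK : ∀ r < 12, mB (nthD LB r []) * mB (nthD LB r []) = 1 := by
  decide +kernel

/-- the root element `x_r(1)` as an invertible matrix -/
def uB (r : Fin 12) : GL Idx (ZMod 2) :=
  ⟨mB (nthD LB r.val []), mB (nthD LB r.val []), sqOK r.val r.2, sqOK r.val r.2⟩

theorem uB_val (r : Fin 12) :
    ((uB r : GL Idx (ZMod 2)) : Matrix Idx Idx (ZMod 2)) = Cfsg.Lie.chevG2.xMat (ZMod 2) r 1 := by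
  ext i j
  exact (xE_one r i j).symm

/-- the root element `x_r(1)` in `G₂(2)` -/
def rootGen (r : Fin 12) : GG := ⟨uB r, Subgroup.subset_closure ⟨r, 1, uB_val r⟩⟩

/-- the twelve root elements -/
def rootGens : List GG := (List.finRange 12).map rootGen

/-- the unitary generators -/
def gA (s : Fin 3) : SUA :=
  ⟨⟨mA (nthD LA s.val []), detOK s.val s.2⟩, mem_SU_of_transpose_mul 3 3 _ (unitOK s.val s.2)⟩

/-- their images in `G₂(2)` -/
def gY (s : Fin 3) : GG := evalWord rootGens (nthD wordsY s.val [])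

/-- the generating pairs -/
def gensD : List (SUA × GG) := (List.finRange 3).map (fun s => (gA s, gY s))

/-- `SU₃(3)` acts on `F₉³` -/
instance actA : MulAction SUA VA where
  smul x v := x.val.val *ᵥ v
  one_smul v := Matrix.one_mulVec v
  mul_smul x y v := (Matrix.mulVec_mulVec v x.val.val y.val.val).symm

/-- `G₂(2)` acts on `F₂¹⁴` -/
instance actB : MulAction GG VB where
  smul y v := y.val.val *ᵥ v
  one_smul v := Matrix.one_mulVec v
  mul_smul x y v := (Matrix.mulVec_mulVec v x.val.val y.val.val).symm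

theorem smulA_def (x : SUA) (v : VA) : x • v = x.val.val *ᵥ v := rfl
theorem smulB_def (y : GG) (v : VB) : y • v = y.val.val *ᵥ v := rfl

/-- vector of `F₉³` from its code -/
def vA (c : ℕ) : VA := fun k => c9 ((c / 9 ^ k.val) % 9)

/-- vector of `F₂¹⁴` from its code -/
def vB (c : ℕ) : VB := fun k => (((c / 2 ^ ix k) % 2 : ℕ) : ZMod 2)

/-- the 252 unit vectors -/
def ptA (i : ℕ) : VA := vA (nthD codesA i 0)

/-- the 63 long root vectors -/
def ptB (j : ℕ) : VB := vB (nthD codesB j 0)

/-- code of a vector of `F₉³` -/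
def encA (v : VA) : ℕ := d9 (v 0) + 9 * d9 (v 1) + 81 * d9 (v 2)

/-- code of a vector of `F₂¹⁴` -/
def encB (v : VB) : ℕ := ∑ k : Idx, (v k).val * 2 ^ ix k

/-! ### The tables -/

set_option maxRecDepth 100000 in
theorem tblA_ok : ∀ s < 3, ∀ i < 252,
    mA (nthD LA s []) *ᵥ ptA i = ptA (tbl permA s i) ∧ tbl permA s i < 252 := by
  decide +kernel

set_option maxRecDepth 100000 in
theorem tblB_ok : ∀ r < 12, ∀ j < 63,
    mB (nthD LB r []) *ᵥ ptB j = ptB (tbl permB r j) ∧ tbl permB r j < 63 := by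
  decide +kernel

set_option maxRecDepth 100000 in
theorem permY_ok : ∀ s < 3, ∀ j < 63, tbl permY s j = wordAct permB (nthD wordsY s []) j := by
  decide +kernel

set_option maxRecDepth 100000 in
theorem wordsY_lt : ∀ s < 3, ∀ k ∈ nthD wordsY s [], k < 12 := by
  decide +kernel

theorem rootGens_length : rootGens.length = 12 := by simp [rootGens]

theorem nthD_rootGens (r : ℕ) (hr : r < 12) : nthD rootGens r 1 = rootGen ⟨r, hr⟩ := by
  interval_cases r <;> rfl

theorem gensD_length : gensD.length = 3 := by simp [gensD]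

theorem nthD_gensD (s : ℕ) (hs : s < 3) : nthD gensD s 1 = (gA ⟨s, hs⟩, gY ⟨s, hs⟩) := by
  interval_cases s <;> rfl

/-- the unitary components -/
def gensA : List SUA := gensD.map Prod.fst

/-- the components in `G₂(2)` -/
def gensY : List GG := gensD.map Prod.snd

theorem gensA_length : gensA.length = 3 := by simp [gensA, gensD]
theorem gensY_length : gensY.length = 3 := by simp [gensY, gensD]

theorem tableA : TableOK gensA ptA 252 permA := by
  intro s hs i hi
  have hs' : s < 3 := by rwa [gensA_length] at hs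
  have h1 : nthD gensA s 1 = (nthD gensD s 1).1 := nthD_map Prod.fst gensD s 1
  rw [h1, nthD_gensD s hs']
  exact tblA_ok s hs' i hi

theorem tableB : TableOK rootGens ptB 63 permB := by
  intro r hr j hj
  have hr' : r < 12 := by rwa [rootGens_length] at hr
  rw [nthD_rootGens r hr']
  exact tblB_ok r hr' j hj

theorem tableY : TableOK gensY ptB 63 permY := by
  intro s hs j hj
  have hs' : s < 3 := by rwa [gensY_length] at hs
  have h1 : nthD gensY s 1 = (nthD gensD s 1).2 := nthD_map Prod.snd gensD s 1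
  rw [h1, nthD_gensD s hs', permY_ok s hs' j hj]
  exact wordAct_spec tableB _ (fun k hk => by rw [rootGens_length]; exact wordsY_lt s hs' k hk) j hj

set_option maxRecDepth 100000 in
theorem encA_ok : ∀ i < 252, encA (ptA i) = nthD codesA i 0 := by decide +kernel

set_option maxRecDepth 100000 in
theorem encB_ok : ∀ j < 63, encB (ptB j) = nthD codesB j 0 := by decide +kernel

set_option maxRecDepth 100000 in
theorem codesA_nodup : codesA.Nodup := by decide +kernel

set_option maxRecDepth 100000 in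
theorem codesB_nodup : codesB.Nodup := by decide +kernel

theorem ptA_inj : ∀ i < 252, ∀ j < 252, ptA i = ptA j → i = j :=
  pt_inj_of_codes ptA encA codesA 252 rfl codesA_nodup encA_ok

theorem ptB_inj : ∀ i < 63, ∀ j < 63, ptB i = ptB j → i = j :=
  pt_inj_of_codes ptB encB codesB 63 rfl codesB_nodup encB_ok

end Cfsg.Agent.Lib.Helper62.G2U3
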