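import Mathlib
import Cfsg.Agent.Lib.Helper62.G2U3

/-!
# `SU₃(3)` and `G₂(2)`: orbit chain, invariant relation, kernels, certificates (helper62)
-/

set_option autoImplicit false

namespace Cfsg.Agent.Lib.Helper62.G2U3

open Matrix Cfsg.Agent.Lib.Helper07 Cfsg.Agent.Lib.Helper62 Cfsg.Agent.Lib.Helper62.GraphIso
  Cfsg.Agent.Lib.Helper62.G2U3Data

/-! ### Lower bound for the unitary projection -/

set_option maxRecDepth 100000 in
theorem levelA0 :
    252 * Nat.card (genGroup (sub gensA idxA1)) ≤ Nat.card (genGroup (sub gensA idxA0)) :=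
  card_ge_level tableA ptA_inj idxA0 idxA1 0 (by norm_num) wordsA0
    (by rw [gensA_length]; decide) (by decide) (by decide +kernel) (by decide +kernel)
    (by decide +kernel)

set_option maxRecDepth 100000 in
theorem levelA1 :
    24 * Nat.card (genGroup (sub gensA idxA2)) ≤ Nat.card (genGroup (sub gensA idxA1)) :=
  card_ge_level tableA ptA_inj idxA1 idxA2 22 (by norm_num) wordsA1
    (by rw [gensA_length]; decide) (by decide) (by decide +kernel) (by decide +kernel)
    (by decide +kernel)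

theorem card_genA : 6048 ≤ Nat.card (genGroup gensA) := by
  have h0 := levelA0
  have h1 := levelA1
  have h4 : Nat.card (genGroup (sub gensA idxA2)) = 1 := card_genGroup_sub_nil gensA
  have h5 := Subgroup.card_le_of_le (genGroup_sub_le gensA idxA0)
  omega

/-! ### The invariant relation -/

set_option maxRecDepth 100000 in
theorem rel_lt : ∀ i < 252, ∀ j ∈ nthD relL i [], j < 63 := by decide +kernel

set_option maxRecDepth 100000 in
theorem rel_chk : ∀ s < 3, ∀ i < 252, ∀ j ∈ nthD relL i [],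
    tbl permY s j ∈ nthD relL (tbl permA s i) [] := by decide +kernel

theorem relInv_D : ∀ d ∈ genGroup gensD, RelInv ptA ptB 252 relL d :=
  relInv_of_mem gensD ptA ptB 252 63 permA permY tableA tableY relL rel_lt
    (by rw [gensD_length]; exact rel_chk)

/-! ### The long root vectors span -/

/-- fourteen long root vectors as columns -/
def PB : Matrix Idx Idx (ZMod 2) := fun i k => ptB (nthD colsB (ix k) 0) i

set_option maxRecDepth 100000 in
theorem PB_mul : PB * mB pinvB = 1 := by decide +kernel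

set_option maxRecDepth 100000 in
theorem colsB_lt : ∀ k : Idx, nthD colsB (ix k) 0 < 63 := by decide +kernel

/-- the matrix of an element of `G₂(2)` -/
def matOf (g : GG) : Matrix Idx Idx (ZMod 2) := g.val.val

theorem faithB (g : GG) (h : ∀ j < 63, g • ptB j = ptB j) : g = 1 := by
  have hMP : matOf g * PB = PB := by
    apply Matrix.ext
    intro i k
    have h1 : (matOf g *ᵥ ptB (nthD colsB (ix k) 0)) i = ptB (nthD colsB (ix k) 0) i :=
      congrFun (h (nthD colsB (ix k) 0) (colsB_lt k)) i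
    exact h1
  have hM : matOf g = 1 := by
    calc matOf g = matOf g * (PB * mB pinvB) := by rw [PB_mul, mul_one]
      _ = (matOf g * PB) * mB pinvB := by rw [mul_assoc]
      _ = 1 := by rw [hMP, PB_mul]
  exact Subtype.ext (Units.ext hM)

/-! ### The kernel in `G₂(2)` is trivial -/

set_option maxRecDepth 100000 in
theorem pre_ok : ∀ j < 63, nthD preL j 0 < 252 ∧ nthD relL (nthD preL j 0) [] = [j] := by
  decide +kernel

theorem kerG_trivial (y : GG) (hy : ((1 : SUA), y) ∈ genGroup gensD) : y = 1 := by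
  apply faithB
  intro j hj
  obtain ⟨h1, h2⟩ := pre_ok j hj
  obtain ⟨j', hj', e⟩ := snd_smul_of_fst_eq_one (relInv_D _ hy) rfl ptA_inj (nthD preL j 0) h1 j
    (by rw [h2]; simp)
  rw [h2] at hj'
  have hjj : j' = j := by simpa using hj'
  rw [hjj] at e
  exact e

/-! ### The kernel in `SU₃(3)` is trivial -/

/-- indices `(i, j)` of four special unit vectors and of the related long root vectors -/
def specA : List (ℕ × ℕ) := [(0, 6), (22, 1), (27, 0), (119, 38)]

set_option maxRecDepth 100000 in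
theorem specA_ok : ∀ p ∈ specA, p.1 < 252 ∧ p.2 ∈ nthD relL p.1 [] ∧
    ∀ i' < 252, p.2 ∈ nthD relL i' [] → ∃ l : F9, ptA i' = l • ptA p.1 := by decide +kernel

set_option maxRecDepth 100000 in
theorem ptA_spec : ptA 0 = ![1, 0, 0] ∧ ptA 22 = ![0, 1, 0] ∧ ptA 27 = ![0, 0, 1] ∧
    ptA 119 = ![1, 1, ⟨1, 1⟩] := by decide +kernel

theorem scalar_on_specA (x : SUA) (hx : (x, (1 : GG)) ∈ genGroup gensD) (p : ℕ × ℕ)
    (hp : p ∈ specA) : ∃ l : F9, x.val.val *ᵥ ptA p.1 = l • ptA p.1 := by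
  obtain ⟨h1, h2, h3⟩ := specA_ok p hp
  obtain ⟨i', hi', hj', e⟩ := fst_smul_of_snd_eq_one (relInv_D _ hx) rfl rel_lt ptB_inj p.1 h1 p.2 h2
  obtain ⟨l, hl⟩ := h3 i' hi' hj'
  exact ⟨l, by rw [← hl]; exact e⟩

theorem f9_cube : ∀ l : F9, l ^ 3 = 1 → l = 1 := by decide

theorem eq_one_of_special3 (M : Matrix (Fin 3) (Fin 3) F9) (hdet : M.det = 1)
    (h0 : ∃ l : F9, M *ᵥ ![1, 0, 0] = l • ![1, 0, 0])
    (h1 : ∃ l : F9, M *ᵥ ![0, 1, 0] = l • ![0, 1, 0])
    (h2 : ∃ l : F9, M *ᵥ ![0, 0, 1] = l • ![0, 0, 1])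
    (h3 : ∃ l : F9, M *ᵥ ![1, 1, ⟨1, 1⟩] = l • ![1, 1, ⟨1, 1⟩]) : M = 1 := by
  obtain ⟨l0, h0⟩ := h0
  obtain ⟨l1, h1⟩ := h1
  obtain ⟨l2, h2⟩ := h2
  obtain ⟨l3, h3⟩ := h3
  have c0 : ∀ i, M i 0 = (l0 • ![1, 0, 0]) i := fun i => by
    rw [← h0]; simp [mulVec, dotProduct, Fin.sum_univ_three]
  have c1 : ∀ i, M i 1 = (l1 • ![0, 1, 0]) i := fun i => by
    rw [← h1]; simp [mulVec, dotProduct, Fin.sum_univ_three]
  have c2 : ∀ i, M i 2 = (l2 • ![0, 0, 1]) i := fun i => by
    rw [← h2]; simp [mulVec, dotProduct, Fin.sum_univ_three]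
  have c3 : ∀ i, M i 0 + M i 1 + M i 2 * (⟨1, 1⟩ : F9) = (l3 • ![1, 1, (⟨1, 1⟩ : F9)]) i :=
    fun i => by
      rw [← h3]; simp [mulVec, dotProduct, Fin.sum_univ_three]
  have e00 := c0 0; have e10 := c0 1; have e20 := c0 2
  have e01 := c1 0; have e11 := c1 1; have e21 := c1 2
  have e02 := c2 0; have e12 := c2 1; have e22 := c2 2
  have f0 := c3 0; have f1 := c3 1; have f2 := c3 2
  simp at e00 e10 e20 e01 e11 e21 e02 e12 e22
  rw [e00, e01, e02] at f0
  rw [e10, e11, e12] at f1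
  rw [e20, e21, e22] at f2
  simp at f0 f1 f2
  have hw : (⟨1, 1⟩ : F9) ≠ 0 := by decide
  have hl1 : l1 = l0 := by rw [f1, f0]
  have hl2 : l2 = l0 := by
    rw [f0]
    rcases f2 with h | h
    · exact h
    · exact absurd h hw
  rw [hl1] at e11
  rw [hl2] at e22
  have hM : M = l0 • (1 : Matrix (Fin 3) (Fin 3) F9) := by
    apply Matrix.ext
    intro i j
    fin_cases i <;> fin_cases j <;>
      simp [e00, e10, e20, e01, e11, e21, e02, e12, e22]
  have hd : M.det = l0 ^ 3 := by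
    rw [hM, Matrix.det_smul, Matrix.det_one]; simp
  have : l0 = 1 := f9_cube l0 (by rw [← hd, hdet])
  rw [hM, this, one_smul]

theorem kerA_trivial (x : SUA) (hx : (x, (1 : GG)) ∈ genGroup gensD) : x = 1 := by
  obtain ⟨p0, p1, p2, p3⟩ := ptA_spec
  have s0 := scalar_on_specA x hx (0, 6) (by decide)
  have s1 := scalar_on_specA x hx (22, 1) (by decide)
  have s2 := scalar_on_specA x hx (27, 0) (by decide)
  have s3 := scalar_on_specA x hx (119, 38) (by decide)
  simp only [p0, p1, p2, p3] at s0 s1 s2 s3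
  have h := eq_one_of_special3 x.val.val x.val.2 s0 s1 s2 s3
  apply Subtype.ext
  apply Subtype.ext
  exact h

end Cfsg.Agent.Lib.Helper62.G2U3
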