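import Mathlib
import Cfsg.Agent.Lib.Helper62.G2U3Chain
import Cfsg.Agent.Lib.Helper08.SUCenter
import Cfsg.Agent.Lib.Helper51.SUGen10
import Cfsg.Agent.S0278

/-!
# `G₂(2)′ ≅ SU₃(3)` over the concrete fields (helper62)
-/

set_option autoImplicit false

namespace Cfsg.Agent.Lib.Helper62.G2U3

open Matrix Cfsg.Agent.Lib.Helper07 Cfsg.Agent.Lib.Helper62 Cfsg.Agent.Lib.Helper62.GraphIso
  Cfsg.Agent.Lib.Helper62.G2U3Data

/-! ### Word identities in `G₂(2)` -/

theorem word_eq (w w' : List ℕ) (hw : ∀ s ∈ w, s < 12) (hw' : ∀ s ∈ w', s < 12)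
    (h : ∀ j < 63, wordAct permB w j = wordAct permB w' j) :
    evalWord rootGens w = evalWord rootGens w' :=
  evalWord_eq_of_wordAct_eq tableB faithB w w' (by rwa [rootGens_length])
    (by rwa [rootGens_length]) h

/-- a word in the three generators of `N` as a word in the root elements -/
def expand (u : List ℕ) : List ℕ := u.flatMap (fun k => nthD wordsY k [])

theorem gensY_eq : gensY = wordsY.map (evalWord rootGens) := rfl

theorem evalWord_gensY (u : List ℕ) : evalWord gensY u = evalWord rootGens (expand u) := by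
  rw [gensY_eq]
  exact evalWord_words rootGens wordsY u

/-- the short root element `t = x_2(1)` -/
def tG : GG := rootGen 2

theorem tG_sq : tG * tG = 1 := Subtype.ext (Units.ext (sqOK 2 (by norm_num)))

theorem evalWord_single (r : ℕ) (hr : r < 12) : evalWord rootGens [r] = rootGen ⟨r, hr⟩ := by
  rw [evalWord_cons, evalWord_nil, mul_one, nthD_rootGens r hr]

theorem tG_eq : tG = evalWord rootGens [2] := (evalWord_single 2 (by norm_num)).symm

set_option maxRecDepth 100000 in
theorem conj_chk : ∀ s < 3, (∀ k ∈ expand (nthD conjW s []), k < 12) ∧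
    ∀ j < 63, wordAct permB ([2] ++ nthD wordsY s [] ++ [2]) j
      = wordAct permB (expand (nthD conjW s [])) j := by decide +kernel

set_option maxRecDepth 100000 in
theorem memb_chk : ∀ r < 12, (∀ k ∈ expand (nthD membW r []), k < 12) ∧
    ∀ j < 63, wordAct permB (if nthD membF r 0 = 0 then [r] else [2, r]) j
      = wordAct permB (expand (nthD membW r [])) j := by decide +kernel

theorem conj_gen (y : GG) (hy : y ∈ gensY) : tG * y * tG ∈ genGroup gensY := by
  obtain ⟨s, hs, rfl⟩ := exists_nthD_of_mem gensY 1 y hy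
  have hs' : s < 3 := by rwa [gensY_length] at hs
  have h1 : nthD gensY s 1 = (nthD gensD s 1).2 := nthD_map Prod.snd gensD s 1
  obtain ⟨c1, c2⟩ := conj_chk s hs'
  have h2 : tG * nthD gensY s 1 * tG
      = evalWord rootGens ([2] ++ nthD wordsY s [] ++ [2]) := by
    rw [evalWord_append, evalWord_append, ← tG_eq, h1, nthD_gensD s hs']
    rfl
  rw [h2, word_eq _ _ _ c1 c2, ← evalWord_gensY]
  · exact evalWord_mem_genGroup gensY _
  · intro k hk
    simp only [List.mem_append, List.mem_singleton] at hk
    rcases hk with (rfl | hk) | rfl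
    · norm_num
    · exact wordsY_lt s hs' k hk
    · norm_num

theorem conj_all : ∀ n ∈ genGroup gensY, tG * n * tG ∈ genGroup gensY :=
  conj_mem_of_gens gensY tG tG_sq conj_gen

theorem rootGen_mem (r : ℕ) (hr : r < 12) :
    rootGen ⟨r, hr⟩ ∈ genGroup gensY ∨ tG * rootGen ⟨r, hr⟩ ∈ genGroup gensY := by
  obtain ⟨c1, c2⟩ := memb_chk r hr
  by_cases hf : nthD membF r 0 = 0
  · left
    rw [if_pos hf] at c2
    have h2 : rootGen ⟨r, hr⟩ = evalWord rootGens (expand (nthD membW r [])) := by
      rw [← evalWord_single r hr]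
      exact word_eq _ _ (by simpa using hr) c1 c2
    rw [h2, ← evalWord_gensY]
    exact evalWord_mem_genGroup gensY _
  · right
    rw [if_neg hf] at c2
    have h2 : tG * rootGen ⟨r, hr⟩ = evalWord rootGens (expand (nthD membW r [])) := by
      have h3 : tG * rootGen ⟨r, hr⟩ = evalWord rootGens [2, r] := by
        rw [evalWord_cons, evalWord_single r hr, nthD_rootGens 2 (by norm_num)]
        rfl
      rw [h3]
      refine word_eq _ _ ?_ c1 c2
      intro k hk
      simp only [List.mem_cons, List.not_mem_nil, or_false] at hk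
      rcases hk with rfl | rfl
      · norm_num
      · exact hr
    rw [h2, ← evalWord_gensY]
    exact evalWord_mem_genGroup gensY _

theorem zmod2_cases : ∀ t : ZMod 2, t = 0 ∨ t = 1 := by decide

theorem comm_le : commutator GG ≤ genGroup gensY := by
  apply commutator_le_of_coset_cert (genGroup gensY) _ Subgroup.closure_closure_coe_preimage tG
    tG_sq conj_all
  rintro x ⟨r, t, hx⟩
  rcases zmod2_cases t with rfl | rfl
  · left
    have hm : Cfsg.Lie.chevG2.xMat (ZMod 2) r 0 = (1 : Matrix Idx Idx (ZMod 2)) := by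
      refine Matrix.ext (fun (i j : Idx) => ?_)
      have h1 := xE_zero r i j
      have h2 : (1 : Matrix Idx Idx (ZMod 2)) i j = if i = j then 1 else 0 := Matrix.one_apply
      exact h1.trans h2.symm
    have hx1 : x = 1 := by
      apply Subtype.ext
      apply Units.ext
      exact hx.trans hm
    rw [hx1]
    exact one_mem _
  · have hx1 : x = rootGen ⟨r.val, r.2⟩ := by
      apply Subtype.ext
      apply Units.ext
      rw [hx]
      exact (uB_val r).symm
    rw [hx1]
    exact rootGen_mem r.val r.2

/-! ### The orders -/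

theorem card_SUA : Nat.card SUA = 6048 := by
  have h := Cfsg.Agent.S0278.result (F := F9) (q := 3) (by rw [f9_card]; norm_num) 3 (by norm_num)
  simp [Finset.prod_range_succ] at h
  have h' : (4 : ℕ) * Nat.card (Cfsg.SU 3 F9 3) = 4 * 6048 := by
    rw [h]
  exact Nat.eq_of_mul_eq_mul_left (by norm_num) h'

theorem card_center_SUA : Nat.card (Subgroup.center SUA) = 1 := by
  have h := Cfsg.Agent.Lib.Helper08.card_center_SU (F := F9) (q := 3) (n := 3)
    (by rw [f9_card]; norm_num) (by norm_num)
  rw [h]
  rfl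

theorem perfect_SUA : commutator SUA = ⊤ :=
  Cfsg.Agent.Lib.Helper51.SU_perfect (F := F9) (q := 3) (n := 3)
    (by rw [f9_card]; norm_num) (by norm_num) (by norm_num)

/-- `G₂(2)′ ≅ SU₃(3)` -/
theorem exists_iso_SU : Nonempty (↥(commutator GG) ≃* SUA) := by
  apply exists_commutator_equiv (genGroup gensD)
  · rw [map_genGroup, card_SUA]
    exact card_genA
  · exact kerA_trivial
  · exact kerG_trivial
  · exact perfect_SUA
  · rw [map_genGroup]
    exact comm_le

/-- `G₂(2)′ ≅ PSU₃(3)` over the concrete fields -/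
theorem exists_iso_concrete : Nonempty (↥(commutator GG) ≃* Cfsg.PSU 3 F9 3) := by
  obtain ⟨e⟩ := exists_iso_SU
  have hbot : Subgroup.center SUA = ⊥ := Subgroup.eq_bot_of_card_eq _ card_center_SUA
  have e2 : SUA ⧸ Subgroup.center SUA ≃* SUA ⧸ (⊥ : Subgroup SUA) :=
    QuotientGroup.quotientMulEquivOfEq hbot
  exact ⟨e.trans (e2.trans QuotientGroup.quotientBot).symm⟩

end Cfsg.Agent.Lib.Helper62.G2U3
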