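import Mathlib

set_option autoImplicit false

namespace Cfsg.Agent.Lib.Helper62.GL23

open Matrix

abbrev Γ := GL (Fin 2) (ZMod 3)

def mk (a b c d a' b' c' d' : ZMod 3)
    (h1 : !![a, b; c, d] * !![a', b'; c', d'] = 1) (h2 : !![a', b'; c', d'] * !![a, b; c, d] = 1) : Γ :=
  ⟨!![a, b; c, d], !![a', b'; c', d'], h1, h2⟩

def X : Γ := mk 0 1 1 1 2 1 1 0 (by decide) (by decide)
def Y : Γ := mk 1 0 1 2 1 0 1 2 (by decide) (by decide)

/-- the 16 elements of a Sylow 2-subgroup of GL(2,3) -/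
def L : List Γ := [1, X, X*X, X*X*X, X*X*X*X, X*X*X*X*X, X*X*X*X*X*X, X*X*X*X*X*X*X,
  Y, X*Y, X*X*Y, X*X*X*Y, X*X*X*X*Y, X*X*X*X*X*Y, X*X*X*X*X*X*Y, X*X*X*X*X*X*X*Y]

theorem L_mul : (L.all fun a => L.all fun b => decide (a * b ∈ L)) = true := by decide +kernel
theorem L_inv : (L.all fun a => decide (a⁻¹ ∈ L)) = true := by decide +kernel
theorem L_pow : (L.all fun a => decide (a ^ 16 = 1)) = true := by decide +kernel

def P0 : Subgroup Γ where
  carrier := {g | g ∈ L}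
  mul_mem' := by
    intro a b ha hb
    have := List.all_eq_true.mp (List.all_eq_true.mp L_mul a ha) b hb
    exact of_decide_eq_true this
  one_mem' := by simp [L]
  inv_mem' := by
    intro a ha
    have := List.all_eq_true.mp L_inv a ha
    exact of_decide_eq_true this

theorem X_mem : X ∈ P0 := by
  change X ∈ L
  simp [L]

theorem Y_mem : Y ∈ P0 := by
  change Y ∈ L
  simp [L]

theorem P0_isPGroup : IsPGroup 2 P0 := by
  intro g
  refine ⟨4, ?_⟩
  have := List.all_eq_true.mp L_pow g.1 g.2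
  have h : (g : Γ) ^ 16 = 1 := of_decide_eq_true this
  exact Subtype.ext (by simpa using h)

theorem orderOf_X : orderOf X = 8 := by
  have h1 : ¬ X ^ 2 ^ 2 = 1 := by decide +kernel
  have h2 : X ^ 2 ^ (2 + 1) = 1 := by decide +kernel
  exact orderOf_eq_prime_pow h1 h2

theorem orderOf_Y : orderOf Y = 2 := by
  have h1 : Y ^ 2 = 1 := by decide +kernel
  have h2 : Y ≠ 1 := by decide +kernel
  exact orderOf_eq_prime h1 h2

theorem rel_XY : Y * X * Y⁻¹ = X ^ 3 := by decide +kernel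

theorem card_Γ : Nat.card Γ = 48 := by
  have := Matrix.card_GL_field (𝔽 := ZMod 3) 2
  rw [this]
  simp [Fin.prod_univ_two]

end Cfsg.Agent.Lib.Helper62.GL23

namespace Cfsg.Agent.Lib.Helper62.GL23

open Pointwise in
theorem exists_sd16 (H : Subgroup Γ) (hH : Nat.card H = 16) :
    ∃ x y : Γ, x ∈ H ∧ y ∈ H ∧ orderOf x = 8 ∧ orderOf y = 2 ∧ y * x * y⁻¹ = x ^ 3 := by
  have : Fact (Nat.Prime 2) := ⟨Nat.prime_two⟩
  have hHp : IsPGroup 2 H := IsPGroup.of_card (n := 4) (by rw [hH]; norm_num)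
  have hidx : H.index = 3 := by
    have := H.card_mul_index
    rw [hH, card_Γ] at this
    omega
  have hnd : ¬ 2 ∣ H.index := by rw [hidx]; norm_num
  let H' : Sylow 2 Γ := hHp.toSylow hnd
  obtain ⟨Q, hQ⟩ := P0_isPGroup.exists_le_sylow
  obtain ⟨g, hg⟩ := MulAction.exists_smul_eq Γ Q H'
  have hH' : (H' : Subgroup Γ) = H := rfl
  have hmem : ∀ z ∈ P0, g * z * g⁻¹ ∈ H := by
    intro z hz
    have hzQ : z ∈ (Q : Subgroup Γ) := hQ hz
    have : MulAut.conj g • z ∈ MulAut.conj g • (Q : Subgroup Γ) :=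
      Subgroup.smul_mem_pointwise_smul _ _ _ hzQ
    rw [← Sylow.coe_subgroup_smul, hg, hH'] at this
    simpa [MulAut.smul_def] using this
  refine ⟨g * X * g⁻¹, g * Y * g⁻¹, hmem X X_mem, hmem Y Y_mem, ?_, ?_, ?_⟩
  · have := MulEquiv.orderOf_eq (MulAut.conj g) X
    simpa [orderOf_X] using this
  · have := MulEquiv.orderOf_eq (MulAut.conj g) Y
    simpa [orderOf_Y] using this
  · have h : g * (Y * X * Y⁻¹) * g⁻¹ = g * X ^ 3 * g⁻¹ := by rw [rel_XY]
    rw [conj_pow, ← h]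
    group

end Cfsg.Agent.Lib.Helper62.GL23
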