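import Mathlib
import Cfsg.Agent.Lib.Helper62.GraphIso2

/-!
# Graph subgroups III: separating relations and cyclic quotients (helper62)

* `snd_fixed_of_sep`, `fst_fixed_of_sep`: kernels of a graph subgroup through an invariant relation
  whose neighbourhoods separate points;
* `commutator_le_of_cyclic_cert`: `t` normalises `N` and every generator of `G` lies in some
  `t ^ k N` gives `⁅G, G⁆ ≤ N`;
* `chainOK`: products of a list through checked partial products (one product at a time).
-/

set_option autoImplicit false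

namespace Cfsg.Agent.Lib.Helper62.GraphIso

open Subgroup Cfsg.Agent.Lib.Helper62
open scoped commutatorElement

section Lists

variable {α : Type*}

theorem nthD_map_finRange (n : ℕ) (f : Fin n → α) (k : ℕ) (hk : k < n) (d : α) :
    nthD ((List.finRange n).map f) k d = f ⟨k, hk⟩ := by
  rw [nthD_eq_getElem _ _ _ (by simpa using hk)]
  simp

end Lists

section Sep

variable {G1 G2 Ω1 Ω2 : Type*} [Group G1] [Group G2] [MulAction G1 Ω1] [MulAction G2 Ω2]

/-- if `d.1 = 1` then `d.2` fixes every point `j` which is separated by a set `T` of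
neighbours -/
theorem snd_fixed_of_sep {pt1 : ℕ → Ω1} {pt2 : ℕ → Ω2} {n1 n2 : ℕ} {relL : List (List ℕ)}
    {d : G1 × G2} (hd : RelInv pt1 pt2 n1 relL d) (h1 : d.1 = 1)
    (hinj1 : ∀ i < n1, ∀ j < n1, pt1 i = pt1 j → i = j)
    (hinj2 : ∀ i < n2, ∀ j < n2, pt2 i = pt2 j → i = j)
    (hrel : ∀ i < n1, ∀ j ∈ nthD relL i [], j < n2)
    (j : ℕ) (T : List ℕ) (hT : ∀ i ∈ T, i < n1 ∧ j ∈ nthD relL i []) (hTne : T ≠ [])
    (hsep : ∀ j' < n2, (∀ i ∈ T, j' ∈ nthD relL i []) → j' = j) :
    d.2 • pt2 j = pt2 j := by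
  obtain ⟨i0, hi0⟩ := List.exists_mem_of_ne_nil T hTne
  obtain ⟨j0, hj0, e0⟩ := snd_smul_of_fst_eq_one hd h1 hinj1 i0 (hT i0 hi0).1 j (hT i0 hi0).2
  have hj0lt : j0 < n2 := hrel i0 (hT i0 hi0).1 j0 hj0
  have hall : ∀ i ∈ T, j0 ∈ nthD relL i [] := by
    intro i hi
    obtain ⟨j', hj', e⟩ := snd_smul_of_fst_eq_one hd h1 hinj1 i (hT i hi).1 j (hT i hi).2
    have hj'lt : j' < n2 := hrel i (hT i hi).1 j' hj'
    have : j' = j0 := hinj2 j' hj'lt j0 hj0lt (by rw [← e, ← e0])
    rw [← this]
    exact hj'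
  rw [e0, hsep j0 hj0lt hall]

/-- if `d.2 = 1` then `d.1` fixes every point `i` which is separated by its neighbours -/
theorem fst_fixed_of_sep {pt1 : ℕ → Ω1} {pt2 : ℕ → Ω2} {n1 n2 : ℕ} {relL : List (List ℕ)}
    {d : G1 × G2} (hd : RelInv pt1 pt2 n1 relL d) (h2 : d.2 = 1)
    (hinj1 : ∀ i < n1, ∀ j < n1, pt1 i = pt1 j → i = j)
    (hinj2 : ∀ i < n2, ∀ j < n2, pt2 i = pt2 j → i = j)
    (hrel : ∀ i < n1, ∀ j ∈ nthD relL i [], j < n2)
    (i : ℕ) (hi : i < n1) (hne : nthD relL i [] ≠ [])
    (hsep : ∀ i' < n1, (∀ j ∈ nthD relL i [], j ∈ nthD relL i' []) → i' = i) :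
    d.1 • pt1 i = pt1 i := by
  obtain ⟨j0, hj0⟩ := List.exists_mem_of_ne_nil _ hne
  obtain ⟨i0, hi0, _, e0⟩ := fst_smul_of_snd_eq_one hd h2 hrel hinj2 i hi j0 hj0
  have hall : ∀ j ∈ nthD relL i [], j ∈ nthD relL i0 [] := by
    intro j hj
    obtain ⟨i', hi', hj', e⟩ := fst_smul_of_snd_eq_one hd h2 hrel hinj2 i hi j hj
    have : i' = i0 := hinj1 i' hi' i0 hi0 (by rw [← e, ← e0])
    rw [← this]
    exact hj'
  rw [e0, hsep i0 hi0 hall]

end Sep

section Cyclic

variable {G : Type*} [Group G]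

/-- `t` conjugating the generators of `N` into `N` maps `N` into `N` -/
theorem conj_mem_of_gens' (ys : List G) (t : G) (h : ∀ y ∈ ys, t * y * t⁻¹ ∈ genGroup ys) :
    ∀ n ∈ genGroup ys, t * n * t⁻¹ ∈ genGroup ys := by
  intro n hn
  have hle : genGroup ys ≤ (genGroup ys).comap (MulAut.conj t).toMonoidHom := by
    unfold genGroup
    rw [closure_le]
    intro y hy
    exact h y hy
  exact hle hn

/-- if `t` normalises `N` and every generator of `G` lies in some `t ^ k N`, then
`⁅G, G⁆ ≤ N` -/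
theorem commutator_le_of_cyclic_cert (N : Subgroup G) (S : Set G) (hS : closure S = ⊤) (t : G)
    (hconj : ∀ n ∈ N, t * n * t⁻¹ ∈ N) (hconj' : ∀ n ∈ N, t⁻¹ * n * t ∈ N)
    (hmem : ∀ x ∈ S, ∃ k : ℕ, ∃ n ∈ N, x = t ^ k * n) : commutator G ≤ N := by
  have ht : t ∈ Subgroup.normalizer (N : Set G) := by
    rw [Subgroup.mem_normalizer_iff]
    intro h
    constructor
    · exact hconj h
    · intro hh
      have := hconj' _ hh
      have e : t⁻¹ * (t * h * t⁻¹) * t = h := by group
      rwa [e] at this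
  have hle : closure S ≤ Subgroup.normalizer (N : Set G) := by
    rw [closure_le]
    intro x hx
    obtain ⟨k, n, hn, rfl⟩ := hmem x hx
    exact mul_mem (pow_mem ht k) (Subgroup.le_normalizer hn)
  have hnorm : N.Normal := by
    rw [← Subgroup.normalizer_eq_top_iff]
    exact top_le_iff.mp (hS ▸ hle)
  have hz : ∀ g : G, (QuotientGroup.mk' N g) ∈ Subgroup.zpowers (QuotientGroup.mk' N t) := by
    intro g
    have hle2 : closure S ≤ (Subgroup.zpowers (QuotientGroup.mk' N t)).comap (QuotientGroup.mk' N) := by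
      rw [closure_le]
      intro x hx
      obtain ⟨k, n, hn, rfl⟩ := hmem x hx
      show QuotientGroup.mk' N (t ^ k * n) ∈ Subgroup.zpowers (QuotientGroup.mk' N t)
      have h1 : QuotientGroup.mk' N n = 1 := (QuotientGroup.eq_one_iff n).mpr hn
      rw [map_mul, map_pow, h1, mul_one]
      exact Subgroup.npow_mem_zpowers _ k
    exact hle2 (by rw [hS]; trivial)
  rw [_root_.commutator_def, Subgroup.commutator_le]
  intro g _ h _
  obtain ⟨a, ha⟩ := Subgroup.mem_zpowers_iff.mp (hz g)
  obtain ⟨b, hb⟩ := Subgroup.mem_zpowers_iff.mp (hz h)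
  have hc : Commute (QuotientGroup.mk' N g) (QuotientGroup.mk' N h) := by
    rw [← ha, ← hb]
    exact (Commute.refl _).zpow_zpow a b
  have h1 : QuotientGroup.mk' N ⁅g, h⁆ = 1 := by
    rw [map_commutatorElement]
    exact commutatorElement_eq_one_iff_commute.mpr hc
  exact (QuotientGroup.eq_one_iff _).mp h1

end Cyclic

section Chain

variable {M : Type*} [Monoid M] [DecidableEq M]

/-- `chainOK xs qs`: `qs` lists the products of the suffixes of `xs`, one multiplication at a
time -/
def chainOK : List M → List M → Bool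
  | [x], [q] => decide (x = q)
  | x :: xs, q :: q' :: qs => decide (x * q' = q) && chainOK xs (q' :: qs)
  | _, _ => false

theorem prod_of_chainOK (xs qs : List M) (h : chainOK xs qs = true) : xs.prod = qs.headD 1 := by
  induction xs generalizing qs with
  | nil => simp [chainOK] at h
  | cons x xs ih =>
    match xs, qs, h, ih with
    | [], [q], h, _ =>
      simp only [chainOK, decide_eq_true_eq] at h
      simp [h]
    | [], [], h, _ => simp [chainOK] at h
    | [], q :: q' :: qs, h, _ =>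
      simp [chainOK] at h
    | y :: ys, [], h, _ => simp [chainOK] at h
    | y :: ys, [q], h, _ => simp [chainOK] at h
    | y :: ys, q :: q' :: qs, h, ih =>
      simp only [chainOK, Bool.and_eq_true, decide_eq_true_eq] at h
      have := ih (q' :: qs) h.2
      rw [List.prod_cons, this]
      simpa using h.1

end Chain

end Cfsg.Agent.Lib.Helper62.GraphIso
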