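import Mathlib

set_option autoImplicit false

namespace Cfsg.Agent.Lib.Helper62.HalfTrans

open MulAction

theorem dvd_card_of_orbit_card {H X : Type*} [Group H] [MulAction H X] [Finite X] (t : ℕ)
    (h : ∀ x : X, Nat.card (orbit H x) = t) : t ∣ Nat.card X := by
  classical
  have e := selfEquivSigmaOrbits' H X
  have : Fintype (orbitRel.Quotient H X) := Fintype.ofFinite _
  rw [Nat.card_congr e, Nat.card_sigma]
  apply Finset.dvd_sum
  intro ω _
  rw [orbitRel.Quotient.orbit_eq_orbit_out ω Quotient.out_eq', h]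

/-- normal partition lemma -/
theorem comm_and_exponent_of_partition {N : Type*} [Group N] [Finite N] (F : N → Subgroup N)
    (hmem : ∀ z, z ≠ 1 → z ∈ F z) (hnorm : ∀ z, z ≠ 1 → (F z).Normal)
    (hne : ∀ z, z ≠ 1 → F z ≠ ⊤)
    (heq : ∀ z w, z ≠ 1 → w ≠ 1 → w ∈ F z → F w = F z) :
    (∀ x y : N, x * y = y * x) ∧ ∃ p : ℕ, p.Prime ∧ ∀ x : N, x ^ p = 1 := by
  -- (a) elements in different components commute
  have hinf : ∀ z w, z ≠ 1 → w ≠ 1 → w ∉ F z → ∀ u, u ∈ F z → u ∈ F w → u = 1 := by
    intro z w hz hw hwz u hu1 hu2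
    by_contra hu
    have e1 := heq z u hz hu hu1
    have e2 := heq w u hw hu hu2
    apply hwz
    rw [← e1, e2]
    exact hmem w hw
  have hcomm1 : ∀ z w, z ≠ 1 → w ≠ 1 → w ∉ F z → z * w = w * z := by
    intro z w hz hw hwz
    have h1 : z * w * z⁻¹ * w⁻¹ ∈ F z := by
      have : w * z⁻¹ * w⁻¹ ∈ F z := (hnorm z hz).conj_mem _ ((F z).inv_mem (hmem z hz)) w
      have := (F z).mul_mem (hmem z hz) this
      simpa [mul_assoc] using this
    have h2 : z * w * z⁻¹ * w⁻¹ ∈ F w := by
      have : z * w * z⁻¹ ∈ F w := (hnorm w hw).conj_mem _ (hmem w hw) z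
      exact (F w).mul_mem this ((F w).inv_mem (hmem w hw))
    have := hinf z w hz hw hwz _ h1 h2
    calc z * w = (z * w * z⁻¹ * w⁻¹) * (w * z) := by group
      _ = w * z := by rw [this, one_mul]
  have hex : ∀ z, z ≠ 1 → ∃ y, y ∉ F z := by
    intro z hz
    by_contra hcon
    push Not at hcon
    exact hne z hz (eq_top_iff.mpr fun y _ => hcon y)
  have hcomm : ∀ x y : N, x * y = y * x := by
    intro x y
    by_cases hx : x = 1
    · subst hx; simp
    by_cases hy : y = 1
    · subst hy; simp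
    by_cases hyx : y ∈ F x
    · obtain ⟨w, hw⟩ := hex x hx
      have hw1 : w ≠ 1 := fun h => hw (h ▸ (F x).one_mem)
      have hyw : y * w ∉ F x := fun h => hw (by
        have := (F x).mul_mem ((F x).inv_mem hyx) h
        simpa using this)
      have hyw1 : y * w ≠ 1 := fun h => hyw (h ▸ (F x).one_mem)
      have c1 := hcomm1 x w hx hw1 hw
      have c2 := hcomm1 x (y * w) hx hyw1 hyw
      -- x (y w) = (y w) x, x w = w x ⇒ x y = y x
      have : x * y * w = y * x * w := by
        calc x * y * w = x * (y * w) := by group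
          _ = y * w * x := c2
          _ = y * (w * x) := by group
          _ = y * (x * w) := by rw [c1]
          _ = y * x * w := by group
      exact mul_right_cancel this
    · exact hcomm1 x y hx hy hyx
  refine ⟨hcomm, ?_⟩
  -- orders
  have hord : ∀ x y, x ≠ 1 → y ≠ 1 → y ∉ F x → orderOf x ∣ orderOf y := by
    intro x y hx hy hyx
    have hxy : x * y ∉ F x := fun h => hyx (by
      have := (F x).mul_mem ((F x).inv_mem (hmem x hx)) h
      simpa using this)
    have hxy1 : x * y ≠ 1 := fun h => hxy (h ▸ (F x).one_mem)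
    apply orderOf_dvd_of_pow_eq_one
    have hpow : (x * y) ^ orderOf y = x ^ orderOf y := by
      rw [(Commute.mul_pow (hcomm x y)), pow_orderOf_eq_one, mul_one]
    by_contra hne1
    have h1 : x ^ orderOf y ∈ F x := (F x).pow_mem (hmem x hx) _
    have h2 : x ^ orderOf y ∈ F (x * y) := by
      rw [← hpow]; exact (F (x * y)).pow_mem (hmem _ hxy1) _
    have e1 := heq x _ hx hne1 h1
    have e2 := heq (x * y) _ hxy1 hne1 h2
    apply hxy
    rw [← e1, e2]
    exact hmem _ hxy1
  have hsymm : ∀ x y, x ≠ 1 → y ≠ 1 → y ∉ F x → x ∉ F y := by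
    intro x y hx hy hyx hxy
    have := heq y x hy hx hxy
    exact hyx (this ▸ hmem y hy)
  have hord' : ∀ x y, x ≠ 1 → y ≠ 1 → y ∉ F x → orderOf x = orderOf y := by
    intro x y hx hy hyx
    exact Nat.dvd_antisymm (hord x y hx hy hyx) (hord y x hy hx (hsymm x y hx hy hyx))
  by_cases htriv : ∀ x : N, x = 1
  · exact ⟨2, Nat.prime_two, fun x => by rw [htriv x, one_pow]⟩
  push Not at htriv
  obtain ⟨x0, hx0⟩ := htriv
  obtain ⟨y0, hy0⟩ := hex x0 hx0
  have hy01 : y0 ≠ 1 := fun h => hy0 (h ▸ (F x0).one_mem)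
  have hall : ∀ z : N, z ≠ 1 → orderOf z = orderOf x0 := by
    intro z hz
    by_cases hzx : z ∈ F x0
    · have e := heq x0 z hx0 hz hzx
      have : y0 ∉ F z := by rw [e]; exact hy0
      rw [hord' z y0 hz hy01 this, hord' x0 y0 hx0 hy01 hy0]
    · exact (hord' x0 z hx0 hz hzx).symm
  have hd1 : orderOf x0 ≠ 1 := fun h => hx0 (orderOf_eq_one_iff.mp h)
  obtain ⟨p, hp, hpd⟩ := Nat.exists_prime_and_dvd hd1
  obtain ⟨k, hk⟩ := hpd
  have hk0 : k ≠ 0 := by
    rintro rfl
    rw [mul_zero] at hk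
    exact (orderOf_pos x0).ne' hk
  have hzk : x0 ^ k ≠ 1 := by
    intro h
    have := orderOf_dvd_of_pow_eq_one h
    rw [hk] at this
    have hkpos := Nat.pos_of_ne_zero hk0
    have hle := Nat.le_of_dvd hkpos this
    have := hp.two_le
    nlinarith
  have hordk : orderOf (x0 ^ k) = p := by
    have := Fact.mk hp
    have h1 : (x0 ^ k) ^ p = 1 := by
      rw [← pow_mul, mul_comm, ← hk, pow_orderOf_eq_one]
    exact orderOf_eq_prime h1 hzk
  have hp' : orderOf x0 = p := by rw [← hall _ hzk, hordk]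
  refine ⟨p, hp, fun z => ?_⟩
  by_cases hz : z = 1
  · rw [hz, one_pow]
  · rw [← hp', ← hall z hz, pow_orderOf_eq_one]


section
variable {A N : Type*} [Group A] [Group N] [MulDistribMulAction A N] [Finite A] [Finite N]

/-- Half-transitive, non-semiregular, faithful action by automorphisms. -/
structure IsHalfTrans (A N : Type*) [Group A] [Group N] [MulDistribMulAction A N] (s m : ℕ) : Prop where
  card_stab : ∀ z : N, z ≠ 1 → Nat.card (stabilizer A z) = s
  card_eq : Nat.card A = m * s
  cop : Nat.Coprime m (Nat.card N)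
  one_lt : 1 < s
  faithful : ∀ a : A, (∀ z : N, a • z = z) → a = 1

variable {s m : ℕ}

omit [Finite A] in
/-- Counting lemma: a subgroup `H` preserving a set `X` of non-identity elements whose size is coprime
to `m`, and containing the stabilisers of the elements of `X`, fixes `X` pointwise. -/
theorem fix_of_coprime (hT : IsHalfTrans A N s m) (H : Subgroup A) (X : Set N)
    (hX1 : ∀ u ∈ X, u ≠ 1) (hX : ∀ h ∈ H, ∀ u ∈ X, h • u ∈ X)
    (hst : ∀ u ∈ X, stabilizer A u ≤ H) (hcop : Nat.Coprime (Nat.card X) m) :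
    ∀ h ∈ H, ∀ u ∈ X, h • u = u := by
  intro h0 hh0 u0 hu0
  -- H acts on X
  let XS : SubMulAction H N := ⟨X, fun h u hu => hX h.1 h.2 u hu⟩
  have hspos : 0 < s := lt_trans Nat.zero_lt_one hT.one_lt
  -- stabilizer in H of u has card s
  have hstabcard : ∀ u : XS, Nat.card (stabilizer H u) = s := by
    intro u
    rw [← hT.card_stab u.1 (hX1 u.1 u.2)]
    -- stabilizer H u ≃ stabilizer A u
    let f : stabilizer H u → stabilizer A (u : N) := fun h =>
      ⟨h.1.1, by
        have := h.2
        rw [mem_stabilizer_iff] at this ⊢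
        have h2 := congrArg Subtype.val this
        exact h2⟩
    have hf : Function.Bijective f := by
      constructor
      · intro h1 h2 h12
        have : h1.1.1 = h2.1.1 := congrArg (fun z : stabilizer A (u : N) => (z : A)) h12
        exact Subtype.ext (Subtype.ext this)
      · intro a
        refine ⟨⟨⟨a.1, hst u.1 u.2 a.2⟩, ?_⟩, rfl⟩
        rw [mem_stabilizer_iff]
        apply Subtype.ext
        exact a.2
    exact Nat.card_congr (Equiv.ofBijective f hf)
  -- all orbits have the same size t = |H| / s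
  have horb : ∀ u : XS, Nat.card (orbit H u) * s = Nat.card H := by
    intro u
    rw [← hstabcard u]
    have h1 := index_stabilizer H u
    have h2 := (stabilizer H u).card_mul_index
    rw [h1, ← Nat.card_coe_set_eq] at h2
    rw [mul_comm]; exact h2
  let U0 : XS := ⟨u0, hu0⟩
  obtain ⟨t, ht⟩ : ∃ t, t = Nat.card (orbit H U0) := ⟨_, rfl⟩
  have hall : ∀ u : XS, Nat.card (orbit H u) = t := by
    intro u
    have h1 := horb u
    have h2 := horb U0
    rw [← ht] at h2
    rw [← h2] at h1
    exact Nat.eq_of_mul_eq_mul_right hspos h1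
  have htX : t ∣ Nat.card X := dvd_card_of_orbit_card (H := H) (X := XS) t hall
  have htm : t ∣ m := by
    have h1 : Nat.card H ∣ Nat.card A := Subgroup.card_subgroup_dvd_card H
    rw [hT.card_eq, ← horb U0, ← ht] at h1
    exact Nat.dvd_of_mul_dvd_mul_right hspos h1
  have ht1 : t = 1 := Nat.eq_one_of_dvd_coprimes hcop htX htm
  -- orbit of U0 is a singleton
  have hsub : Subsingleton (orbit H U0) := by
    rw [← Finite.card_le_one_iff_subsingleton, ← ht, ht1]
  have hmem1 : (⟨h0, hh0⟩ : H) • U0 ∈ orbit H U0 := mem_orbit _ _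
  have hmem2 : U0 ∈ orbit H U0 := mem_orbit_self _
  have := Subtype.ext_iff.mp (hsub.elim ⟨_, hmem1⟩ ⟨_, hmem2⟩)
  exact congrArg Subtype.val this


omit [Finite N] in
theorem card_conj_dvd (x : N) : Nat.card {y : N | ∃ n : N, y = n * x * n⁻¹} ∣ Nat.card N := by
  have hX : {y : N | ∃ n : N, y = n * x * n⁻¹} = orbit (ConjAct N) x := by
    ext y
    constructor
    · rintro ⟨n, rfl⟩
      exact ⟨ConjAct.toConjAct n, by simp [ConjAct.smul_def]⟩
    · rintro ⟨g, rfl⟩
      exact ⟨ConjAct.ofConjAct g, ConjAct.smul_def g x⟩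
  rw [hX, Nat.card_coe_set_eq, ← index_stabilizer]
  exact (stabilizer (ConjAct N) x).index_dvd_card

omit [Finite A] in
/-- (*) : if `h • x` is conjugate to `x` in `N` then `h • x = x`. -/
theorem smul_eq_of_conj (hT : IsHalfTrans A N s m) (x : N) (hx : x ≠ 1) (h : A) (n : N)
    (hn : h • x = n * x * n⁻¹) : h • x = x := by
  let H : Subgroup A :=
    { carrier := {h | ∃ n : N, h • x = n * x * n⁻¹}
      one_mem' := ⟨1, by simp⟩
      mul_mem' := by
        rintro h1 h2 ⟨n1, e1⟩ ⟨n2, e2⟩
        refine ⟨(h1 • n2) * n1, ?_⟩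
        rw [mul_smul, e2, smul_mul', smul_mul', smul_inv', e1]
        group
      inv_mem' := by
        rintro h1 ⟨n1, e1⟩
        refine ⟨(h1⁻¹ • n1)⁻¹, ?_⟩
        have : x = h1⁻¹ • (n1 * x * n1⁻¹) := by rw [← e1, inv_smul_smul]
        rw [smul_mul', smul_mul', smul_inv'] at this
        have h2 : h1⁻¹ • x = (h1⁻¹ • n1)⁻¹ * x * (h1⁻¹ • n1) := by
          conv_rhs => rw [this]
          group
        rw [h2]; group }
  have key := fix_of_coprime hT H {y : N | ∃ n : N, y = n * x * n⁻¹}
    (by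
      rintro u ⟨k, rfl⟩ h1
      apply hx
      have : x = k⁻¹ * (k * x * k⁻¹) * k := by group
      rw [this, h1]; group)
    (by
      rintro h1 ⟨n1, e1⟩ u ⟨k, rfl⟩
      refine ⟨(h1 • k) * n1, ?_⟩
      rw [smul_mul', smul_mul', smul_inv', e1]
      group)
    (by
      rintro u ⟨k, rfl⟩ a ha
      rw [mem_stabilizer_iff] at ha
      refine ⟨(a • k)⁻¹ * k, ?_⟩
      have h1 : x = k⁻¹ * (k * x * k⁻¹) * k := by group
      have h2 : a • x = (a • k)⁻¹ * (a • (k * x * k⁻¹)) * (a • k) := by
        conv_lhs => rw [h1]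
        rw [smul_mul', smul_mul', smul_inv']
      rw [h2, ha]; group)
    (Nat.Coprime.coprime_dvd_left (card_conj_dvd x) hT.cop.symm)
  exact key h ⟨n, hn⟩ x ⟨1, by simp⟩

/-- the subgroup of `N` fixed by the stabiliser of `z` -/
def fixSub (A : Type*) {N : Type*} [Group A] [Group N] [MulDistribMulAction A N] (z : N) : Subgroup N where
  carrier := {y | ∀ b ∈ stabilizer A z, b • y = y}
  one_mem' := fun b _ => smul_one b
  mul_mem' := by
    intro y1 y2 h1 h2 b hb
    rw [smul_mul', h1 b hb, h2 b hb]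
  inv_mem' := by
    intro y h1 b hb
    rw [smul_inv', h1 b hb]

omit [Finite N] in
theorem stab_eq_of_mem_fixSub (hT : IsHalfTrans A N s m) (z w : N) (hz : z ≠ 1) (hw : w ≠ 1)
    (hwz : w ∈ fixSub A z) : stabilizer A w = stabilizer A z := by
  symm
  apply Subgroup.eq_of_le_of_card_ge
  · intro b hb
    exact hwz b hb
  · rw [hT.card_stab z hz, hT.card_stab w hw]

theorem comm_and_exponent (hT : IsHalfTrans A N s m) :
    (∀ x y : N, x * y = y * x) ∧ ∃ p : ℕ, p.Prime ∧ ∀ x : N, x ^ p = 1 := by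
  apply comm_and_exponent_of_partition (fixSub A)
  · intro z _ b hb
    exact hb
  · intro z hz
    constructor
    intro y hy n b hb
    by_cases hy1 : y = 1
    · subst hy1; simp
    have hst := stab_eq_of_mem_fixSub hT z y hz hy1 hy
    have hby : b • y = y := hy b hb
    have hne : n * y * n⁻¹ ≠ 1 := by
      intro h1
      apply hy1
      have : y = n⁻¹ * (n * y * n⁻¹) * n := by group
      rw [this, h1]; group
    apply smul_eq_of_conj hT (n * y * n⁻¹) hne b ((b • n) * n⁻¹)
    rw [smul_mul', smul_mul', smul_inv', hby]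
    group
  · intro z hz htop
    have hall : ∀ b ∈ stabilizer A z, b = 1 := by
      intro b hb
      apply hT.faithful
      intro y
      have : y ∈ fixSub A z := by rw [htop]; trivial
      exact this b hb
    have : Nat.card (stabilizer A z) = 1 := by
      rw [Subgroup.card_eq_one, eq_bot_iff]
      intro b hb
      exact Subgroup.mem_bot.mpr (hall b hb)
    rw [hT.card_stab z hz] at this
    have := hT.one_lt
    omega
  · intro z w hz hw hwz
    have := stab_eq_of_mem_fixSub hT z w hz hw hwz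
    ext y
    change (∀ b ∈ stabilizer A w, b • y = y) ↔ (∀ b ∈ stabilizer A z, b • y = y)
    rw [this]


omit [Finite A] in
/-- stabilisers of elements in the same coset of an invariant subgroup fix that subgroup's elements -/
theorem stab_le_of_coset (hT : IsHalfTrans A N s m) (hcomm : ∀ x y : N, x * y = y * x)
    (L : Subgroup N) (hL : ∀ a : A, ∀ l ∈ L, a • l ∈ L) (y : N) (hy : y ∉ L) (x' : N) (hx' : x' ∈ L) :
    stabilizer A y ≤ stabilizer A x' := by
  let H : Subgroup A :=
    { carrier := {h | h • y * y⁻¹ ∈ L}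
      one_mem' := by simp [L.one_mem]
      mul_mem' := by
        intro h1 h2 e1 e2
        simp only [Set.mem_ofPred_eq] at e1 e2 ⊢
        have : (h1 * h2) • y * y⁻¹ = (h1 • (h2 • y * y⁻¹)) * (h1 • y * y⁻¹) := by
          rw [mul_smul, smul_mul', smul_inv']; group
        rw [this]
        exact L.mul_mem (hL h1 _ e2) e1
      inv_mem' := by
        intro h1 e1
        simp only [Set.mem_ofPred_eq] at e1 ⊢
        have : h1⁻¹ • y * y⁻¹ = (h1⁻¹ • (h1 • y * y⁻¹))⁻¹ := by
          rw [smul_mul', smul_inv', inv_smul_smul]; group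
        rw [this]
        exact L.inv_mem (hL _ _ e1) }
  have key := fix_of_coprime hT H {u : N | ∃ l ∈ L, u = y * l}
    (by
      rintro u ⟨l, hl, rfl⟩ h1
      apply hy
      have : y = (y * l) * l⁻¹ := by group
      rw [this, h1, one_mul]
      exact L.inv_mem hl)
    (by
      rintro h1 e1 u ⟨l, hl, rfl⟩
      replace e1 : h1 • y * y⁻¹ ∈ L := e1
      refine ⟨(h1 • y * y⁻¹) * (h1 • l), L.mul_mem e1 (hL h1 l hl), ?_⟩
      rw [smul_mul']
      have : y * (h1 • y * y⁻¹ * h1 • l) = (y * (h1 • y * y⁻¹)) * h1 • l := by group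
      rw [this, hcomm y (h1 • y * y⁻¹)]
      group)
    (by
      rintro u ⟨l, hl, rfl⟩ a ha
      rw [mem_stabilizer_iff] at ha
      change a • y * y⁻¹ ∈ L
      have h1 : a • y = (a • (y * l)) * (a • l)⁻¹ := by
        rw [smul_mul']; group
      rw [h1, ha]
      have : y * l * (a • l)⁻¹ * y⁻¹ = (y * (l * (a • l)⁻¹)) * y⁻¹ := by group
      rw [this, hcomm y (l * (a • l)⁻¹)]
      have : l * (a • l)⁻¹ * y * y⁻¹ = l * (a • l)⁻¹ := by group
      rw [this]
      exact L.mul_mem hl (L.inv_mem (hL a l hl)))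
    (by
      have hcard : Nat.card {u : N | ∃ l ∈ L, u = y * l} = Nat.card L := by
        symm
        apply Nat.card_congr
        refine Equiv.ofBijective (fun l : L => ⟨y * l, l, l.2, rfl⟩) ⟨?_, ?_⟩
        · intro l1 l2 h12
          have : y * (l1 : N) = y * (l2 : N) := congrArg Subtype.val h12
          exact Subtype.ext (mul_left_cancel this)
        · rintro ⟨u, l, hl, rfl⟩
          exact ⟨⟨l, hl⟩, rfl⟩
      rw [hcard]
      exact Nat.Coprime.coprime_dvd_left (Subgroup.card_subgroup_dvd_card L) hT.cop.symm)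
  intro b hb
  rw [mem_stabilizer_iff] at hb ⊢
  have hbH : b ∈ H := by
    change b • y * y⁻¹ ∈ L
    rw [hb]; simp [L.one_mem]
  have h1 := key b hbH (y * x') ⟨x', hx', rfl⟩
  rw [smul_mul', hb] at h1
  exact mul_left_cancel h1

theorem invariant_subgroup_eq_top (hT : IsHalfTrans A N s m) (hcomm : ∀ x y : N, x * y = y * x)
    (L : Subgroup N) (hL : ∀ a : A, ∀ l ∈ L, a • l ∈ L) (hLbot : L ≠ ⊥) : L = ⊤ := by
  by_contra hLtop
  obtain ⟨⟨x0, hx0L⟩, hx01'⟩ := (Subgroup.ne_bot_iff_exists_ne_one.mp hLbot)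
  have hx01 : x0 ≠ 1 := fun h => hx01' (Subtype.ext h)
  obtain ⟨y0, hy0⟩ : ∃ y0, y0 ∉ L := by
    by_contra hcon
    push Not at hcon
    exact hLtop (eq_top_iff.mpr fun y _ => hcon y)
  have hy01 : y0 ≠ 1 := fun h => hy0 (h ▸ L.one_mem)
  -- stabilisers: for y ∉ L and x' ∈ L, x' ≠ 1: equal
  have heq : ∀ y, y ∉ L → ∀ x', x' ∈ L → x' ≠ 1 → stabilizer A y = stabilizer A x' := by
    intro y hy x' hx' hx'1
    have hy1 : y ≠ 1 := fun h => hy (h ▸ L.one_mem)
    apply Subgroup.eq_of_le_of_card_ge (stab_le_of_coset hT hcomm L hL y hy x' hx')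
    rw [hT.card_stab y hy1, hT.card_stab x' hx'1]
  have hall : ∀ z : N, z ≠ 1 → stabilizer A z = stabilizer A x0 := by
    intro z hz
    by_cases hzL : z ∈ L
    · rw [← heq y0 hy0 z hzL hz, heq y0 hy0 x0 hx0L hx01]
    · exact heq z hzL x0 hx0L hx01
  have htriv : ∀ b ∈ stabilizer A x0, b = 1 := by
    intro b hb
    apply hT.faithful
    intro z
    by_cases hz : z = 1
    · subst hz; exact smul_one b
    · have : b ∈ stabilizer A z := by rw [hall z hz]; exact hb
      exact this
  have : Nat.card (stabilizer A x0) = 1 := by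
    rw [Subgroup.card_eq_one, eq_bot_iff]
    intro b hb
    exact Subgroup.mem_bot.mpr (htriv b hb)
  rw [hT.card_stab x0 hx01] at this
  have := hT.one_lt
  omega

end

end Cfsg.Agent.Lib.Helper62.HalfTrans
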