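import Mathlib
import Cfsg.Agent.Lib.Helper72.J1SpecDefs

/-!
# J1Spec pack (S3627), leaf 362703 (Tag `OrdOK`, helper62): `orderOf_mem_of_ordOK`

If `g` is represented by `a` in Helper77's matrix engine and the computational order test
`ordOK a` succeeds then `orderOf g ∈ {1,2,3,5,6,7,10,11,15,19}`.
-/

set_option autoImplicit false

namespace Cfsg.Agent.Lib.Helper62.J1Spec

open Cfsg.Agent.Lib.Helper77.J1 Cfsg.Agent.Lib.Helper77.J1.M7 Cfsg.Agent.Lib.Helper72.J1Spec

theorem ordok_mem_of_dvd {n : ℕ}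
    (hn : n ∣ 6 ∨ n ∣ 10 ∨ n ∣ 15 ∨ n ∣ 7 ∨ n ∣ 11 ∨ n ∣ 19) :
    n ∈ ({1, 2, 3, 5, 6, 7, 10, 11, 15, 19} : Set ℕ) := by
  have key : ∀ k : ℕ, k ∈ ({6, 10, 15, 7, 11, 19} : Finset ℕ) → ∀ d ∈ Nat.divisors k,
      d ∈ ({1, 2, 3, 5, 6, 7, 10, 11, 15, 19} : Finset ℕ) := by decide
  have fin : n ∈ ({1, 2, 3, 5, 6, 7, 10, 11, 15, 19} : Finset ℕ) := by
    rcases hn with h | h | h | h | h | h
    · exact key 6 (by decide) n (Nat.mem_divisors.mpr ⟨h, by norm_num⟩)
    · exact key 10 (by decide) n (Nat.mem_divisors.mpr ⟨h, by norm_num⟩)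
    · exact key 15 (by decide) n (Nat.mem_divisors.mpr ⟨h, by norm_num⟩)
    · exact key 7 (by decide) n (Nat.mem_divisors.mpr ⟨h, by norm_num⟩)
    · exact key 11 (by decide) n (Nat.mem_divisors.mpr ⟨h, by norm_num⟩)
    · exact key 19 (by decide) n (Nat.mem_divisors.mpr ⟨h, by norm_num⟩)
  simpa using fin

theorem orderOf_mem_of_ordOK {g : Γ} {a : M7} (h : Rep g a) (hok : ordOK a = true) :
    orderOf g ∈ ({1, 2, 3, 5, 6, 7, 10, 11, 15, 19} : Set ℕ) := by
  have h2 := Rep.mul h h
  have h3 := Rep.mul h2 h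
  have h5 := Rep.mul h3 h2
  have h6 := Rep.mul h3 h3
  have h7 := Rep.mul h6 h
  have h10 := Rep.mul h5 h5
  have h11 := Rep.mul h10 h
  have h15 := Rep.mul h10 h5
  have h19 := Rep.mul (Rep.mul h15 h3) h
  apply ordok_mem_of_dvd
  unfold ordOK at hok
  simp only [Bool.or_eq_true, decide_eq_true_eq] at hok
  rcases hok with ((((e | e) | e) | e) | e) | e
  · left
    rw [e] at h6
    have := Rep.ext h6 Rep.one
    apply orderOf_dvd_of_pow_eq_one
    rw [← this]; simp only [pow_succ, pow_zero, one_mul, mul_assoc]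
  · right; left
    rw [e] at h10
    have := Rep.ext h10 Rep.one
    apply orderOf_dvd_of_pow_eq_one
    rw [← this]; simp only [pow_succ, pow_zero, one_mul, mul_assoc]
  · right; right; left
    rw [e] at h15
    have := Rep.ext h15 Rep.one
    apply orderOf_dvd_of_pow_eq_one
    rw [← this]; simp only [pow_succ, pow_zero, one_mul, mul_assoc]
  · right; right; right; left
    rw [e] at h7
    have := Rep.ext h7 Rep.one
    apply orderOf_dvd_of_pow_eq_one
    rw [← this]; simp only [pow_succ, pow_zero, one_mul, mul_assoc]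
  · right; right; right; right; left
    rw [e] at h11
    have := Rep.ext h11 Rep.one
    apply orderOf_dvd_of_pow_eq_one
    rw [← this]; simp only [pow_succ, pow_zero, one_mul, mul_assoc]
  · right; right; right; right; right
    rw [e] at h19
    have := Rep.ext h19 Rep.one
    apply orderOf_dvd_of_pow_eq_one
    rw [← this]; simp only [pow_succ, pow_zero, one_mul, mul_assoc]

end Cfsg.Agent.Lib.Helper62.J1Spec
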