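import Mathlib
import Cfsg.Agent.Lib.Helper62.SchreierSims

/-! Data for S3362 (Mathieu groups M11, M12 on 12 points); generated by tools/helper62/m12 scripts. -/

set_option autoImplicit false

namespace Cfsg.Agent.Lib.Helper62.M12

open Cfsg.Agent.Lib.Helper62

abbrev P12 := Equiv.Perm (Fin 12)

def gS : P12 := tblPerm 12 [0,1,2,4,5,3,7,8,6,10,11,9] [0,1,2,5,3,4,8,6,7,11,9,10] (by decide)
def gT : P12 := tblPerm 12 [0,1,2,6,7,8,9,10,11,3,4,5] [0,1,2,9,10,11,3,4,5,6,7,8] (by decide)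
def gU : P12 := tblPerm 12 [0,1,2,3,6,9,5,8,11,4,7,10] [0,1,2,3,9,6,4,10,7,5,11,8] (by decide)
def gV : P12 := tblPerm 12 [0,1,2,3,7,11,10,5,6,8,9,4] [0,1,2,3,11,7,8,4,9,10,6,5] (by decide)
def gW : P12 := tblPerm 12 [0,1,2,3,10,8,11,6,4,7,5,9] [0,1,2,3,8,10,7,9,5,11,4,6] (by decide)
def gX1 : P12 := tblPerm 12 [3,1,2,0,4,5,7,6,10,11,8,9] [3,1,2,0,4,5,7,6,10,11,8,9] (by decide)
def gX2 : P12 := tblPerm 12 [1,0,2,3,4,5,9,10,11,6,7,8] [1,0,2,3,4,5,9,10,11,6,7,8] (by decide)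
def gX3 : P12 := tblPerm 12 [0,2,1,3,4,5,11,9,10,7,8,6] [0,2,1,3,4,5,11,9,10,7,8,6] (by decide)

def gens1 : List P12 := [gS, gT, gU, gV, gW, gX1, gX2, gX3]
def U1 : List P12 := [
  1,
  tblPerm 12 [0,2,1,3,4,5,11,9,10,7,8,6] [0,2,1,3,4,5,11,9,10,7,8,6] (by decide),
  tblPerm 12 [1,2,0,3,4,5,8,6,7,10,11,9] [2,0,1,3,4,5,7,8,6,11,9,10] (by decide),
  tblPerm 12 [1,2,3,0,4,5,10,7,6,8,9,11] [3,0,1,2,4,5,8,7,9,10,6,11] (by decide),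
  tblPerm 12 [1,2,4,0,5,3,11,8,7,6,10,9] [3,0,1,5,2,4,9,8,7,11,10,6] (by decide),
  tblPerm 12 [1,2,6,0,7,8,4,10,9,11,3,5] [3,0,1,10,6,11,2,4,5,8,7,9] (by decide),
  tblPerm 12 [1,2,5,0,3,4,9,6,8,7,11,10] [3,0,1,4,5,2,7,9,8,6,11,10] (by decide),
  tblPerm 12 [1,2,7,0,8,6,5,11,10,9,4,3] [3,0,1,11,10,6,5,2,4,9,8,7] (by decide),
  tblPerm 12 [1,2,10,0,8,3,9,4,6,11,5,7] [3,0,1,5,7,10,8,11,4,6,2,9] (by decide),
  tblPerm 12 [1,2,9,0,10,11,7,4,3,5,6,8] [3,0,1,8,7,9,10,6,11,2,4,5] (by decide),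
  tblPerm 12 [1,2,11,0,6,4,10,5,7,9,3,8] [3,0,1,10,5,7,4,8,11,9,6,2] (by decide),
  tblPerm 12 [1,2,8,0,6,7,3,9,11,10,5,4] [3,0,1,6,11,10,4,5,2,7,9,8] (by decide)]
def W1 : List (List ℕ) := [[], [7], [6,7], [5,6,7], [0,5,6,7], [1,5,6,7], [0,0,5,6,7], [1,0,5,6,7], [4,0,5,6,7], [1,1,5,6,7], [4,1,5,6,7], [1,0,0,5,6,7]]
def lvl1 : Level P12 (Fin 12) := ⟨2, U1⟩

def gens2 : List P12 := [gS, gT, gU, gV, gW, gX1, gX2]
def U2 : List P12 := [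
  1,
  tblPerm 12 [1,0,2,3,4,5,9,10,11,6,7,8] [1,0,2,3,4,5,9,10,11,6,7,8] (by decide),
  tblPerm 12 [1,3,2,0,4,5,11,8,9,7,6,10] [3,0,2,1,4,5,10,9,7,8,11,6] (by decide),
  tblPerm 12 [1,4,2,0,5,3,9,6,10,8,7,11] [3,0,2,5,1,4,7,10,9,6,8,11] (by decide),
  tblPerm 12 [1,6,2,0,7,8,5,11,3,10,9,4] [3,0,2,8,11,6,1,4,5,10,9,7] (by decide),
  tblPerm 12 [1,5,2,0,3,4,10,7,11,6,8,9] [3,0,2,4,5,1,9,7,10,11,6,8] (by decide),
  tblPerm 12 [1,7,2,0,8,6,3,9,4,11,10,5] [3,0,2,6,8,11,5,1,4,7,10,9] (by decide),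
  tblPerm 12 [1,10,2,0,8,3,7,11,5,4,6,9] [3,0,2,5,9,8,10,6,4,11,1,7] (by decide),
  tblPerm 12 [1,9,2,0,10,11,8,5,6,4,3,7] [3,0,2,10,9,7,8,11,6,1,4,5] (by decide),
  tblPerm 12 [1,11,2,0,6,4,8,9,3,5,7,10] [3,0,2,8,5,9,4,10,6,7,11,1] (by decide),
  tblPerm 12 [1,8,2,0,6,7,4,10,5,9,11,3] [3,0,2,11,6,8,4,5,1,9,7,10] (by decide)]
def W2 : List (List ℕ) := [[], [6], [5,6], [0,5,6], [1,5,6], [0,0,5,6], [1,0,5,6], [4,0,5,6], [1,1,5,6], [4,1,5,6], [1,0,0,5,6]]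
def lvl2 : Level P12 (Fin 12) := ⟨1, U2⟩

def gens3 : List P12 := [gS, gT, gU, gV, gW, gX1]
def U3 : List P12 := [
  1,
  tblPerm 12 [3,1,2,0,4,5,7,6,10,11,8,9] [3,1,2,0,4,5,7,6,10,11,8,9] (by decide),
  tblPerm 12 [4,1,2,0,5,3,8,7,11,9,6,10] [3,1,2,5,0,4,10,7,6,9,11,8] (by decide),
  tblPerm 12 [6,1,2,0,7,8,10,9,4,5,11,3] [3,1,2,11,8,9,0,4,5,7,6,10] (by decide),
  tblPerm 12 [5,1,2,0,3,4,6,8,9,10,7,11] [3,1,2,4,5,0,6,10,7,8,9,11] (by decide),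
  tblPerm 12 [7,1,2,0,8,6,11,10,5,3,9,4] [3,1,2,9,11,8,5,0,4,10,7,6] (by decide),
  tblPerm 12 [10,1,2,0,8,3,4,6,9,7,11,5] [3,1,2,5,6,11,7,9,4,8,0,10] (by decide),
  tblPerm 12 [9,1,2,0,10,11,4,3,7,8,5,6] [3,1,2,7,6,10,11,8,9,0,4,5] (by decide),
  tblPerm 12 [11,1,2,0,6,4,5,7,10,8,9,3] [3,1,2,11,5,6,4,7,9,10,8,0] (by decide),
  tblPerm 12 [8,1,2,0,6,7,9,11,3,4,10,5] [3,1,2,8,9,11,4,5,0,6,10,7] (by decide)]
def W3 : List (List ℕ) := [[], [5], [0,5], [1,5], [0,0,5], [1,0,5], [4,0,5], [1,1,5], [4,1,5], [1,0,0,5]]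
def lvl3 : Level P12 (Fin 12) := ⟨0, U3⟩

def gens4 : List P12 := [gS, gT, gU, gV, gW]
def U4 : List P12 := [
  1,
  tblPerm 12 [0,1,2,4,5,3,7,8,6,10,11,9] [0,1,2,5,3,4,8,6,7,11,9,10] (by decide),
  tblPerm 12 [0,1,2,6,7,8,9,10,11,3,4,5] [0,1,2,9,10,11,3,4,5,6,7,8] (by decide),
  tblPerm 12 [0,1,2,5,3,4,8,6,7,11,9,10] [0,1,2,4,5,3,7,8,6,10,11,9] (by decide),
  tblPerm 12 [0,1,2,7,8,6,10,11,9,4,5,3] [0,1,2,11,9,10,5,3,4,8,6,7] (by decide),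
  tblPerm 12 [0,1,2,10,8,3,6,4,11,5,9,7] [0,1,2,5,7,9,6,11,4,10,3,8] (by decide),
  tblPerm 12 [0,1,2,9,10,11,3,4,5,6,7,8] [0,1,2,6,7,8,9,10,11,3,4,5] (by decide),
  tblPerm 12 [0,1,2,11,6,4,7,5,9,3,10,8] [0,1,2,9,5,7,4,6,11,8,10,3] (by decide),
  tblPerm 12 [0,1,2,8,6,7,11,9,10,5,3,4] [0,1,2,10,11,9,4,5,3,7,8,6] (by decide)]
def W4 : List (List ℕ) := [[], [0], [1], [0,0], [1,0], [4,0], [1,1], [4,1], [1,0,0]]
def lvl4 : Level P12 (Fin 12) := ⟨3, U4⟩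

def gens5 : List P12 := [gU, gV, gW]
def U5 : List P12 := [
  1,
  tblPerm 12 [0,1,2,3,6,9,5,8,11,4,7,10] [0,1,2,3,9,6,4,10,7,5,11,8] (by decide),
  tblPerm 12 [0,1,2,3,7,11,10,5,6,8,9,4] [0,1,2,3,11,7,8,4,9,10,6,5] (by decide),
  tblPerm 12 [0,1,2,3,10,8,11,6,4,7,5,9] [0,1,2,3,8,10,7,9,5,11,4,6] (by decide),
  tblPerm 12 [0,1,2,3,5,4,9,11,10,6,8,7] [0,1,2,3,5,4,9,11,10,6,8,7] (by decide),
  tblPerm 12 [0,1,2,3,11,7,8,4,9,10,6,5] [0,1,2,3,7,11,10,5,6,8,9,4] (by decide),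
  tblPerm 12 [0,1,2,3,8,10,7,9,5,11,4,6] [0,1,2,3,10,8,11,6,4,7,5,9] (by decide),
  tblPerm 12 [0,1,2,3,9,6,4,10,7,5,11,8] [0,1,2,3,6,9,5,8,11,4,7,10] (by decide)]
def W5 : List (List ℕ) := [[], [0], [1], [2], [0,0], [2,0], [0,1], [1,2]]
def lvl5 : Level P12 (Fin 12) := ⟨4, U5⟩

def act12 : P12 → Fin 12 → Fin 12 := fun g i => g i

theorem U1_words : U1 = W1.map (evalWord gens1) := by decide +kernel
theorem U1_nodup : (U1.map (fun u => u • lvl1.β)).Nodup := by decide +kernel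
theorem check1 : (gens1.all fun s => U1.all fun v => sift (permIsOne 12) act12 [lvl1, lvl2, lvl3, lvl4, lvl5] (s * v)) = true := by decide +kernel
theorem fix1 : (gens2.all fun s => decide (s • lvl1.β = lvl1.β)) = true := by decide +kernel

theorem U2_words : U2 = W2.map (evalWord gens2) := by decide +kernel
theorem U2_nodup : (U2.map (fun u => u • lvl2.β)).Nodup := by decide +kernel
theorem check2 : (gens2.all fun s => U2.all fun v => sift (permIsOne 12) act12 [lvl2, lvl3, lvl4, lvl5] (s * v)) = true := by decide +kernel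
theorem fix2 : (gens3.all fun s => decide (s • lvl2.β = lvl2.β)) = true := by decide +kernel

theorem U3_words : U3 = W3.map (evalWord gens3) := by decide +kernel
theorem U3_nodup : (U3.map (fun u => u • lvl3.β)).Nodup := by decide +kernel
theorem check3 : (gens3.all fun s => U3.all fun v => sift (permIsOne 12) act12 [lvl3, lvl4, lvl5] (s * v)) = true := by decide +kernel
theorem fix3 : (gens4.all fun s => decide (s • lvl3.β = lvl3.β)) = true := by decide +kernel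

theorem U4_words : U4 = W4.map (evalWord gens4) := by decide +kernel
theorem U4_nodup : (U4.map (fun u => u • lvl4.β)).Nodup := by decide +kernel
theorem check4 : (gens4.all fun s => U4.all fun v => sift (permIsOne 12) act12 [lvl4, lvl5] (s * v)) = true := by decide +kernel
theorem fix4 : (gens5.all fun s => decide (s • lvl4.β = lvl4.β)) = true := by decide +kernel

theorem U5_words : U5 = W5.map (evalWord gens5) := by decide +kernel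
theorem U5_nodup : (U5.map (fun u => u • lvl5.β)).Nodup := by decide +kernel
theorem check5 : (gens5.all fun s => U5.all fun v => sift (permIsOne 12) act12 [lvl5] (s * v)) = true := by decide +kernel

end Cfsg.Agent.Lib.Helper62.M12
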