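import Mathlib
import Cfsg.Agent.Lib.Helper05.N3Defs

set_option autoImplicit false

namespace Cfsg.Agent.Lib.Helper62.N3

open Cfsg.Agent.Lib.Helper05.N3 Cfsg.Agent.Lib.Helper22.Nse

theorem frob_prime' {N : ℕ} {S : ℕ → ℕ} {V : Finset ℕ} (H : NseHyp N S V) {p : ℕ} (hp : p.Prime)
    (hpN : p ∣ N) : p ∣ S p + 1 := by
  have := H.frob p hpN
  rw [hp.sum_divisors, H.one] at this
  exact this

/-- numbers with nonzero count divisible by `p` are `p`-powers -/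
theorem eq_pow_of_ne_zero {N : ℕ} {S : ℕ → ℕ} {V : Finset ℕ} (H : NseHyp N S V) {p q : ℕ}
    (hp : p.Prime) (hq : q.Prime) (hpq : p ≠ q)
    (honly : ∀ t : ℕ, t.Prime → t ∣ N → t = p ∨ t = q) (h0 : S (p * q) = 0) {k : ℕ}
    (hk : S k ≠ 0) (hpk : p ∣ k) : ∃ a, k = p ^ a := by
  have hkN : k ∣ N := H.dvd k hk
  have hk0 : k ≠ 0 := by
    rintro rfl
    exact H.pos.ne' (Nat.eq_zero_of_zero_dvd hkN)
  have hqk : ¬ q ∣ k := by
    intro hqk
    have hcop : Nat.Coprime p q := (Nat.coprime_primes hp hq).2 hpq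
    exact H.closed k (p * q) hk (hcop.mul_dvd_of_dvd_of_dvd hpk hqk) h0
  refine ⟨k.primeFactorsList.length, Nat.eq_prime_pow_of_unique_prime_dvd hk0 ?_⟩
  intro t ht htk
  rcases honly t ht (htk.trans hkN) with h | h
  · exact h
  · exact absurd (h ▸ htk) hqk

theorem no_high_power {N : ℕ} {S : ℕ → ℕ} {m n : ℕ} (C : Ctx N S m n) {p q : ℕ} (hp : p.Prime)
    (hq : q.Prime) (hpq : p ≠ q) (hpN : p ∣ N) (hqN : q ∣ N)
    (honly : ∀ t : ℕ, t.Prime → t ∣ N → t = p ∨ t = q) (h0 : S (p * q) = 0)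
    (hval : ∀ k, S k ≠ 0 → S k = 1 ∨ S k = S p ∨ S k = S q) : ∀ i, 2 ≤ i → S (p ^ i) = 0 := by
  classical
  by_contra hcon
  push Not at hcon
  obtain ⟨a₀, ha₀2, ha₀⟩ := hcon
  have hbound : ∀ a, S (p ^ a) ≠ 0 → a ≤ N := by
    intro a ha
    have h1 := Nat.le_of_dvd C.H.pos (C.H.dvd _ ha)
    have h2 : a < p ^ a := Nat.lt_pow_self hp.one_lt
    omega
  have hspec : (fun a => 2 ≤ a ∧ S (p ^ a) ≠ 0) (Nat.findGreatest (fun a => 2 ≤ a ∧ S (p ^ a) ≠ 0) N) :=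
    Nat.findGreatest_spec (P := fun a => 2 ≤ a ∧ S (p ^ a) ≠ 0) (hbound a₀ ha₀) ⟨ha₀2, ha₀⟩
  have hmax : ∀ a, 2 ≤ a ∧ S (p ^ a) ≠ 0 → a ≤ Nat.findGreatest (fun a => 2 ≤ a ∧ S (p ^ a) ≠ 0) N :=
    fun a ha => Nat.le_findGreatest (P := fun a => 2 ≤ a ∧ S (p ^ a) ≠ 0) (hbound a ha.2) ha
  obtain ⟨i, hi⟩ : ∃ i, Nat.findGreatest (fun a => 2 ≤ a ∧ S (p ^ a) ≠ 0) N = i := ⟨_, rfl⟩
  rw [hi] at hspec hmax
  obtain ⟨hi2, hSi⟩ := hspec
  obtain ⟨j, rfl⟩ : ∃ j, i = j + 1 := ⟨i - 1, by omega⟩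
  have hpiN : p ^ (j + 1) ∣ N := C.H.dvd _ hSi
  have hpjN : p ^ j ∣ N := (pow_dvd_pow p (Nat.le_succ j)).trans hpiN
  have hF1 := C.H.frob _ hpiN
  have hF2 := C.H.frob _ hpjN
  rw [Nat.sum_divisors_prime_pow hp] at hF1 hF2
  rw [Finset.sum_range_succ] at hF1
  have hpj : p ^ j ∣ S (p ^ (j + 1)) := by
    have h3 : p ^ j ∣ ∑ x ∈ Finset.range (j + 1), S (p ^ x) + S (p ^ (j + 1)) :=
      (pow_dvd_pow p (Nat.le_succ j)).trans hF1
    exact (Nat.dvd_add_right hF2).1 h3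
  have hpS : p ∣ S (p ^ (j + 1)) := (dvd_pow_self p (by omega : j ≠ 0)).trans hpj
  have hp1 : p ∣ S p + 1 := frob_prime' C.H hp hpN
  have hq1 : q ∣ S q + 1 := frob_prime' C.H hq hqN
  have hnot1 : ¬ p ∣ 1 := fun h => hp.one_lt.ne' (Nat.dvd_one.1 h)
  have hv : S (p ^ (j + 1)) = S q := by
    rcases hval _ hSi with h | h | h
    · rw [h] at hpS; exact absurd hpS hnot1
    · rw [h] at hpS; exact absurd ((Nat.dvd_add_right hpS).1 hp1) hnot1
    · exact h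
  have hcop : Nat.Coprime (q ^ N.factorization q) (p ^ (j + 1)) :=
    Nat.Coprime.pow _ _ ((Nat.coprime_primes hq hp).2 hpq.symm)
  have hW := C.W (p ^ (j + 1)) (q ^ N.factorization q) (pow_pos hp.pos _) (Nat.ordProj_dvd N q) hcop
  have hsum : ∑ k ∈ N.divisors.filter (fun k => p ^ (j + 1) ∣ k), S k = S (p ^ (j + 1)) := by
    apply Finset.sum_eq_single
    · intro b hb hbne
      rw [Finset.mem_filter, Nat.mem_divisors] at hb
      by_contra hSb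
      obtain ⟨a, rfl⟩ := eq_pow_of_ne_zero C.H hp hq hpq honly h0 hSb
        ((dvd_pow_self p (Nat.succ_ne_zero j)).trans hb.2)
      have h1 : j + 1 ≤ a := (Nat.pow_dvd_pow_iff_le_right hp.one_lt).1 hb.2
      have h2 : a ≤ j + 1 := hmax a ⟨by omega, hSb⟩
      exact hbne (by rw [le_antisymm h2 h1])
    · intro hnot
      exfalso; apply hnot
      rw [Finset.mem_filter, Nat.mem_divisors]
      exact ⟨⟨hpiN, C.H.pos.ne'⟩, dvd_rfl⟩
  rw [hsum, hv] at hW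
  have hfac : N.factorization q ≠ 0 := (hq.factorization_pos_of_dvd C.H.pos.ne' hqN).ne'
  have hqS : q ∣ S q := (dvd_pow_self q hfac).trans hW
  exact hq.one_lt.ne' (Nat.dvd_one.1 ((Nat.dvd_add_right hqS).1 hq1))

/-- LEAF C2b. -/
theorem spectrum_alpha {N : ℕ} {S : ℕ → ℕ} {m n : ℕ} (C : Ctx N S m n) {p q : ℕ} (hp : p.Prime) (hq : q.Prime)
    (hpq : p ≠ q) (hpN : p ∣ N) (hqN : q ∣ N) (honly : ∀ t : ℕ, t.Prime → t ∣ N → t = p ∨ t = q)
    (h1 : S p = m) (h2 : S q = n) (h0 : S (p * q) = 0) (hpn : p ∣ n) (hqm : q ∣ m) :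
    ∀ k, S k ≠ 0 → k = 1 ∨ k = p ∨ k = q := by
  intro k hk
  have hval : ∀ k, S k ≠ 0 → S k = 1 ∨ S k = S p ∨ S k = S q := by
    intro k hk
    have := C.H.mem k hk
    simp only [Finset.mem_insert, Finset.mem_singleton] at this
    rw [h1, h2]; exact this
  have h0' : S (q * p) = 0 := by rwa [mul_comm]
  have hval' : ∀ k, S k ≠ 0 → S k = 1 ∨ S k = S q ∨ S k = S p := by
    intro k hk
    rcases hval k hk with h | h | h
    · exact Or.inl h
    · exact Or.inr (Or.inr h)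
    · exact Or.inr (Or.inl h)
  have honly' : ∀ t : ℕ, t.Prime → t ∣ N → t = q ∨ t = p := fun t ht htN => (honly t ht htN).symm
  by_cases hk1 : k = 1
  · left; exact hk1
  right
  obtain ⟨t, ht, htk⟩ := Nat.exists_prime_and_dvd hk1
  have hkN := C.H.dvd k hk
  rcases honly t ht (htk.trans hkN) with h | h
  · left
    rw [h] at htk
    obtain ⟨a, rfl⟩ := eq_pow_of_ne_zero C.H hp hq hpq honly h0 hk htk
    rcases a with _ | _ | a
    · simp at hk1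
    · simp
    · exact absurd (no_high_power C hp hq hpq hpN hqN honly h0 hval (a + 2) (by omega)) hk
  · right
    rw [h] at htk
    obtain ⟨a, rfl⟩ := eq_pow_of_ne_zero C.H hq hp hpq.symm honly' h0' hk htk
    rcases a with _ | _ | a
    · simp at hk1
    · simp
    · exact absurd (no_high_power C hq hp hpq.symm hqN hpN honly' h0' hval' (a + 2) (by omega)) hk

end Cfsg.Agent.Lib.Helper62.N3
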