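import Mathlib

set_option autoImplicit false

namespace Cfsg.Agent.Lib.Helper62.NT3370

theorem geom_parity (q n : ℕ) (hq : Odd q) : (∑ i ∈ Finset.range n, q ^ i) % 2 = n % 2 := by
  induction n with
  | zero => simp
  | succ k ih =>
    rw [Finset.sum_range_succ, Nat.add_mod, ih]
    have : q ^ k % 2 = 1 := Nat.odd_iff.mp (hq.pow)
    rw [this]; omega

theorem pow_two_eq_add_two (i j : ℕ) (h : 2 ^ j = 2 ^ i + 2) : i = 1 := by
  rcases Nat.lt_or_ge i 2 with hi | hi
  · interval_cases i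
    · exfalso
      rcases Nat.lt_or_ge j 2 with hj | hj
      · interval_cases j <;> omega
      · obtain ⟨k, rfl⟩ := Nat.exists_eq_add_of_le hj
        rw [pow_add] at h; omega
    · rfl
  · exfalso
    obtain ⟨k, rfl⟩ := Nat.exists_eq_add_of_le hi
    rw [pow_add] at h
    have := Nat.two_pow_pos k
    rcases Nat.lt_or_ge j 2 with hj | hj
    · interval_cases j <;> omega
    · obtain ⟨l, rfl⟩ := Nat.exists_eq_add_of_le hj
      rw [pow_add] at h; omega

theorem sq_sub_one_factor (a : ℕ) (ha : 1 ≤ a) : a * a - 1 = (a - 1) * (a + 1) := by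
  obtain ⟨c, rfl⟩ := Nat.exists_eq_add_of_le ha
  simp only [Nat.add_sub_cancel_left]
  have : (1 + c) * (1 + c) = c * (1 + c + 1) + 1 := by ring
  omega

theorem nt_odd (q n b : ℕ) (hq : q.Prime) (hq2 : q ≠ 2) (hn : 1 ≤ n) (h : q ^ n - 1 = 2 ^ b) :
    n = 1 ∨ (q = 3 ∧ n = 2) := by
  have hqodd : Odd q := hq.odd_of_ne_two hq2
  have hqn : 1 ≤ q ^ n := Nat.one_le_pow _ _ hq.pos
  have hq3 : 3 ≤ q := by
    have := hq.two_le
    omega
  rcases Nat.even_or_odd n with he | ho
  · right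
    obtain ⟨k, rfl⟩ := he
    have hk : 1 ≤ k := by omega
    obtain ⟨a, ha⟩ : ∃ a, a = q ^ k := ⟨_, rfl⟩
    have ha3 : 3 ≤ a := by
      have : q ^ 1 ≤ q ^ k := Nat.pow_le_pow_right hq.pos hk
      rw [pow_one] at this
      omega
    have hfac : (a - 1) * (a + 1) = 2 ^ b := by
      rw [pow_add, ← ha] at h
      rw [← h, sq_sub_one_factor a (by omega)]
    obtain ⟨i, _, hi⟩ := (Nat.dvd_prime_pow Nat.prime_two).mp (Dvd.intro _ hfac)
    obtain ⟨j, _, hj⟩ := (Nat.dvd_prime_pow Nat.prime_two).mp (Dvd.intro_left _ hfac)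
    have hij : 2 ^ j = 2 ^ i + 2 := by omega
    have hi1 := pow_two_eq_add_two i j hij
    subst hi1
    have ha3' : q ^ k = 3 := by omega
    have := (Nat.Prime.pow_eq_iff Nat.prime_three).mp ha3'
    exact ⟨this.1, by omega⟩
  · left
    by_contra hn1
    have hn2 : 2 ≤ n := by omega
    have hsum := geom_sum_mul_add (q - 1) n
    have hq1 : q - 1 + 1 = q := Nat.sub_add_cancel hq.pos
    rw [hq1] at hsum
    obtain ⟨S, hS⟩ : ∃ S, S = ∑ i ∈ Finset.range n, q ^ i := ⟨_, rfl⟩
    rw [← hS] at hsum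
    have hS2 : S * (q - 1) = 2 ^ b := by omega
    obtain ⟨j, _, hj⟩ := (Nat.dvd_prime_pow Nat.prime_two).mp (Dvd.intro _ hS2)
    have hpar := geom_parity q n hqodd
    rw [← hS, Nat.odd_iff.mp ho] at hpar
    have hj0 : j = 0 := by
      by_contra hj0
      obtain ⟨l, rfl⟩ := Nat.exists_eq_succ_of_ne_zero hj0
      rw [hj, pow_succ] at hpar
      omega
    subst hj0
    have hSge : 1 + q ≤ S := by
      obtain ⟨m, rfl⟩ := Nat.exists_eq_add_of_le hn2
      rw [hS, show 2 + m = m + 1 + 1 by ring, Finset.sum_range_succ', Finset.sum_range_succ']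
      simp only [pow_zero, zero_add, pow_one]
      omega
    omega

theorem nt_two (n p b : ℕ) (hp : p.Prime) (hn : 1 ≤ n) (h : 2 ^ n - 1 = p ^ b) : b ≤ 1 := by
  by_contra hb
  have hb2 : 2 ≤ b := by omega
  have h2n : 2 ≤ 2 ^ n := by
    calc 2 = 2 ^ 1 := by norm_num
      _ ≤ 2 ^ n := Nat.pow_le_pow_right (by norm_num) hn
  have h' : 2 ^ n = p ^ b + 1 := by omega
  have hpodd : Odd p := by
    rcases hp.eq_two_or_odd' with rfl | ho
    · exfalso
      have h1 : 2 ^ n % 2 = 0 := by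
        obtain ⟨m, rfl⟩ := Nat.exists_eq_add_of_le hn
        rw [pow_add]; omega
      have h2 : (2 ^ b + 1) % 2 = 1 := by
        obtain ⟨m, rfl⟩ := Nat.exists_eq_add_of_le hb2
        rw [pow_add]; omega
      omega
    · exact ho
  rcases Nat.even_or_odd b with he | ho
  · obtain ⟨c, rfl⟩ := he
    have hsq : p ^ (c + c) = (p ^ c) ^ 2 := by rw [← pow_mul]; congr 1; ring
    have hmod : (p ^ c) ^ 2 % 4 = 1 := by
      obtain ⟨m, hm⟩ := (hpodd.pow : Odd (p ^ c))
      rw [hm]
      have : (2 * m + 1) ^ 2 = 4 * (m * m + m) + 1 := by ring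
      rw [this]; omega
    rw [hsq] at h'
    have hn1 : n = 1 := by
      by_contra hn1
      obtain ⟨m, rfl⟩ := Nat.exists_eq_add_of_le (show 2 ≤ n by omega)
      rw [pow_add] at h'
      omega
    subst hn1
    have : (p ^ c) ^ 2 = 1 := by omega
    have hc : 1 ≤ c := by omega
    have : 2 ≤ (p ^ c) ^ 2 := by
      rw [← pow_mul]
      calc 2 ≤ p := hp.two_le
        _ = p ^ 1 := (pow_one p).symm
        _ ≤ p ^ (c * 2) := Nat.pow_le_pow_right hp.pos (by omega)
    omega
  · -- b odd: p^b + 1 = (p+1) * T with T odd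
    have hgeom := geom_sum_mul (-(p : ℤ)) b
    rw [Odd.neg_pow ho] at hgeom
    obtain ⟨T, hT⟩ : ∃ T : ℤ, T = ∑ i ∈ Finset.range b, (-(p : ℤ)) ^ i := ⟨_, rfl⟩
    rw [← hT] at hgeom
    have hT2 : T * ((p : ℤ) + 1) = 2 ^ n := by
      have : ((2 : ℤ) ^ n) = (p : ℤ) ^ b + 1 := by exact_mod_cast h'
      rw [this]; linarith
    have hTodd : Odd T := by
      rw [hT]
      have : ∀ k : ℕ, (∑ i ∈ Finset.range k, (-(p : ℤ)) ^ i) % 2 = (k : ℤ) % 2 := by
        intro k
        induction k with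
        | zero => simp
        | succ k ih =>
          rw [Finset.sum_range_succ, Int.add_emod, ih]
          have : (-(p : ℤ)) ^ k % 2 = 1 := by
            have : Odd ((-(p : ℤ)) ^ k) := Odd.pow (by simpa using hpodd)
            exact Int.odd_iff.mp this
          rw [this]; push_cast; omega
      rw [Int.odd_iff, this b]
      have := Nat.odd_iff.mp ho
      omega
    have hTdvd : T ∣ 2 ^ n := Dvd.intro _ hT2
    have hTpos : 0 < T := by
      by_contra hneg
      push Not at hneg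
      have : T * ((p : ℤ) + 1) ≤ 0 := mul_nonpos_of_nonpos_of_nonneg hneg (by positivity)
      have : (0 : ℤ) < 2 ^ n := by positivity
      omega
    have hT1 : T = 1 := by
      obtain ⟨t, ht⟩ : ∃ t : ℕ, (t : ℤ) = T := ⟨T.toNat, Int.toNat_of_nonneg hTpos.le⟩
      rw [← ht] at hTdvd hTodd ⊢
      have hd : t ∣ 2 ^ n := by exact_mod_cast hTdvd
      obtain ⟨j, _, hj⟩ := (Nat.dvd_prime_pow Nat.prime_two).mp hd
      have hto : Odd t := by exact_mod_cast hTodd
      have : j = 0 := by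
        by_contra hj0
        obtain ⟨l, rfl⟩ := Nat.exists_eq_succ_of_ne_zero hj0
        rw [hj, pow_succ] at hto
        exact (Nat.not_even_iff_odd.mpr hto) (by simp)
      subst this
      simp [hj]
    rw [hT1, one_mul] at hT2
    have : p + 1 = p ^ b + 1 := by
      have : ((p : ℤ) + 1) = (p : ℤ) ^ b + 1 := by
        rw [hT2]; exact_mod_cast h'
      exact_mod_cast this
    have hpb : p ^ b = p ^ 1 := by rw [pow_one]; omega
    have := Nat.pow_right_injective hp.two_le hpb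
    omega

end Cfsg.Agent.Lib.Helper62.NT3370
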