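import Mathlib
import Cfsg.Agent.Lib.Helper62.GraphIso

/-!
# Fast linear algebra over `ZMod p` on lists of natural numbers (helper62)

Matrices indexed by `Fin 2 ⊕ Fin 12` (the adjoint module of `G₂`) given as lists of rows of
digits; products with vectors and matrices are computed on lists of natural numbers, which the
kernel evaluates much faster than sums in `ZMod p`.
-/

set_option autoImplicit false

namespace Cfsg.Agent.Lib.Helper62.NatLin

open Matrix Cfsg.Agent.Lib.Helper62 Cfsg.Agent.Lib.Helper62.GraphIso

/-- the index set -/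
abbrev Idx : Type := Fin 2 ⊕ Fin 12

/-- position of an index -/
def ix : Idx → ℕ := Sum.elim (fun a => a.val) (fun a => 2 + a.val)

theorem ix_lt (k : Idx) : ix k < 14 := by
  rcases k with a | a
  · simp only [ix, Sum.elim_inl]; omega
  · simp only [ix, Sum.elim_inr]; omega

/-- dot product of two lists -/
def dotL : List ℕ → List ℕ → ℕ
  | a :: as, b :: bs => a * b + dotL as bs
  | _, _ => 0

/-- matrix (list of rows) times vector, modulo `p` -/
def mulVecL (p : ℕ) (R : List (List ℕ)) (v : List ℕ) : List ℕ := R.map (fun row => dotL row v % p)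

variable (p : ℕ)

/-- the vector of a list of digits -/
def vecP (v : List ℕ) : Idx → ZMod p := fun k => ((nthD v (ix k) 0 : ℕ) : ZMod p)

/-- the matrix of a list of rows of digits -/
def matP (R : List (List ℕ)) : Matrix Idx Idx (ZMod p) :=
  fun i k => ((nthD (nthD R (ix i) []) (ix k) 0 : ℕ) : ZMod p)

theorem nthD_nil {α : Type*} (k : ℕ) (d : α) : nthD ([] : List α) k d = d := by
  cases k <;> rfl

theorem dotL_eq_sum (a b : List ℕ) (n : ℕ) (ha : a.length = n) :
    dotL a b = ∑ k ∈ Finset.range n, nthD a k 0 * nthD b k 0 := by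
  induction a generalizing b n with
  | nil =>
    subst ha
    simp [dotL]
  | cons x as ih =>
    cases n with
    | zero => simp at ha
    | succ m =>
      have ha' : as.length = m := by simpa using ha
      cases b with
      | nil =>
        simp [dotL, nthD_nil]
      | cons y bs =>
        rw [Finset.sum_range_succ', dotL, ih bs m ha']
        simp [nthD, add_comm]

theorem sum_idx {M : Type*} [AddCommMonoid M] (f : ℕ → M) :
    ∑ k : Idx, f (ix k) = ∑ k ∈ Finset.range 14, f k := by
  simp only [Fintype.sum_sum_type, Fin.sum_univ_succ, Finset.sum_range_succ, ix]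
  simp
  abel

/-- rows of the right length -/
def rowsOK (R : List (List ℕ)) : Bool := (List.range 14).all (fun i => (nthD R i []).length == 14)

theorem length_of_rowsOK {R : List (List ℕ)} (h : rowsOK R = true) (i : ℕ) (hi : i < 14) :
    (nthD R i []).length = 14 := by
  unfold rowsOK at h
  rw [List.all_eq_true] at h
  have := h i (List.mem_range.mpr hi)
  simpa using this

theorem matP_mulVec (R : List (List ℕ)) (v : List ℕ) (hR : rowsOK R = true) :
    matP p R *ᵥ vecP p v = vecP p (mulVecL p R v) := by
  funext i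
  have h1 : (matP p R *ᵥ vecP p v) i
      = ∑ k : Idx, (((nthD (nthD R (ix i) []) (ix k) 0 * nthD v (ix k) 0 : ℕ)) : ZMod p) := by
    simp [Matrix.mulVec, dotProduct, matP, vecP]
  rw [h1, sum_idx (fun k => (((nthD (nthD R (ix i) []) k 0 * nthD v k 0 : ℕ)) : ZMod p)),
    ← Nat.cast_sum, ← dotL_eq_sum _ _ 14 (length_of_rowsOK hR (ix i) (ix_lt i))]
  have h2 : nthD (mulVecL p R v) (ix i) 0 = dotL (nthD R (ix i) []) v % p := by
    have := nthD_map (fun row => dotL row v % p) R (ix i) []
    simpa [mulVecL, dotL] using this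
  simp only [vecP]
  rw [h2, ZMod.natCast_mod]

/-- `Pt` is the transpose of `P` -/
def isTr (P Pt : List (List ℕ)) : Bool :=
  (List.range 14).all fun k => (List.range 14).all fun j =>
    nthD (nthD Pt j []) k 0 == nthD (nthD P k []) j 0

theorem of_isTr {P Pt : List (List ℕ)} (h : isTr P Pt = true) (k j : ℕ) (hk : k < 14)
    (hj : j < 14) : nthD (nthD Pt j []) k 0 = nthD (nthD P k []) j 0 := by
  unfold isTr at h
  rw [List.all_eq_true] at h
  have h1 := h k (List.mem_range.mpr hk)
  rw [List.all_eq_true] at h1
  have h2 := h1 j (List.mem_range.mpr hj)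
  simpa using h2

/-- check of a product `M * P = Q`, the transposes of `P` and `Q` being supplied -/
def mulOK (M P Q Pt Qt : List (List ℕ)) : Bool :=
  rowsOK M && isTr P Pt && isTr Q Qt && (Pt.map (mulVecL p M) == Qt) && (Pt.length == 14)

theorem matP_mul_of_mulOK (M P Q Pt Qt : List (List ℕ)) (h : mulOK p M P Q Pt Qt = true) :
    matP p M * matP p P = matP p Q := by
  unfold mulOK at h
  simp only [Bool.and_eq_true, beq_iff_eq] at h
  obtain ⟨⟨⟨⟨h1, h2⟩, h3⟩, h4⟩, h5⟩ := h
  apply Matrix.ext
  intro i j
  have hcol : (fun k => matP p P k j) = vecP p (nthD Pt (ix j) []) := by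
    funext k
    simp only [matP, vecP]
    rw [of_isTr h2 (ix k) (ix j) (ix_lt k) (ix_lt j)]
  have hcolQ : (fun k => matP p Q k j) = vecP p (nthD Qt (ix j) []) := by
    funext k
    simp only [matP, vecP]
    rw [of_isTr h3 (ix k) (ix j) (ix_lt k) (ix_lt j)]
  have e1 : (matP p M * matP p P) i j = (matP p M *ᵥ (fun k => matP p P k j)) i := rfl
  rw [e1, hcol, matP_mulVec p M _ h1]
  have e2 : mulVecL p M (nthD Pt (ix j) []) = nthD Qt (ix j) [] := by
    have hj : ix j < Pt.length := by rw [h5]; exact ix_lt j
    rw [← h4, nthD_eq_getElem Pt [] (ix j) hj,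
      nthD_eq_getElem (Pt.map (mulVecL p M)) [] (ix j) (by simpa using hj)]
    simp
  rw [e2]
  exact (congrFun hcolQ i).symm

end Cfsg.Agent.Lib.Helper62.NatLin
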