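import Mathlib
import Cfsg.Prelude.Def_Solvable
import Cfsg.Agent.S0034

set_option autoImplicit false
open Cfsg

namespace Cfsg.Agent.Lib.Helper62.OTF

/-- LEAF F2. From `Cfsg.Agent.S0034.result`: `H.index % card H = 1 % card H`. -/
theorem frob_coprime {L : Type*} [Group L] [Finite L] (H : Subgroup L)
    (hH : Cfsg.IsFrobeniusComplement H) :
    Nat.Coprime H.index (Nat.card H) ∧ 1 < H.index ∧ 1 < Nat.card H := by
  obtain ⟨_, hmod⟩ := Cfsg.Agent.S0034.result H hH
  obtain ⟨hbot, htop, _⟩ := hH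
  refine ⟨?_, ?_, ?_⟩
  · have h : H.index ≡ 1 [MOD Nat.card H] := hmod
    have := Nat.ModEq.gcd_eq h
    rw [Nat.gcd_one_left] at this
    exact this
  · have h0 : H.index ≠ 0 := Subgroup.index_ne_zero_of_finite
    have h1 : H.index ≠ 1 := fun h => htop (Subgroup.index_eq_one.1 h)
    omega
  · exact (Subgroup.one_lt_card_iff_ne_bot H).2 hbot

end Cfsg.Agent.Lib.Helper62.OTF
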