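import Mathlib
import Cfsg.Agent.Lib.Helper62.PSL2RecogData

/-!
# Kernel-checked table for the recognition of `PSL(2,11)` (helper62)
-/

namespace Cfsg.Agent.Lib.Helper62.PSL2Recog

set_option maxRecDepth 100000 in
theorem table11 : Table 11 4 2 5 := by decide +kernel

set_option maxRecDepth 100000 in
theorem covers11 : Covers 11 4 2 5 := by decide +kernel

end Cfsg.Agent.Lib.Helper62.PSL2Recog
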