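import Mathlib
import Cfsg.Agent.Lib.Helper62.PSL2RecogData11

/-!
# Kernel-checked facts about the action of `PSL(2,11)` on the projective line (helper62)

Function-level descriptions of the elements of the candidate group `Γ ≤ Perm (Option (ZMod 11))`
(affine maps `y ↦ u y + b` and the maps `y ↦ x - 1/(u y + b)`, `u ^ 5 = 1`) and brute-force facts
about them: the involutions `s` with `(d s)^3 = 1` for `d : y ↦ 4 y`, the normaliser of `⟨d⟩`, ...
-/

namespace Cfsg.Agent.Lib.Helper62.PSL211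

open Equiv Cfsg.Agent.Lib.Helper62.PSL2Recog

abbrev X := Option (ZMod 11)

/-- `y ↦ -1/y` as a function -/
def inv0 : X → X
  | none => some 0
  | some x => if x = 0 then none else some (-x⁻¹)

/-- `y ↦ u y + b` -/
def affF (u b : ZMod 11) : X → X := fun y => shift 11 b (scale 11 u y)

/-- `y ↦ x - 1/(u y + b)` -/
def nonaffF (x u b : ZMod 11) : X → X := fun y => shift 11 x (inv0 (affF u b y))

/-- `y ↦ 4 y` -/
def dF : X → X := scale 11 4

def s1F : X → X := nonaffF 8 1 3
def s2F : X → X := nonaffF 1 9 2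

/-- conjugation by the `k`-th power of `d` -/
def conjF (k : ℕ) (f : X → X) : X → X := fun y => scale 11 (4 ^ k) (f (scale 11 (3 ^ k) y))

/-- the fixed-point-free involution commuting with `⟨d, s₁⟩` -/
def pi1 : X → X
  | none => some 0
  | some x => [none, some 2, some 1, some 6, some 8, some 10, some 3, some 9, some 4, some 7,
      some 5].getD x.val none

set_option maxRecDepth 100000 in
theorem bf_aff : ∀ u b : ZMod 11, u ^ 5 = 1 → (∀ y : X, affF u b (affF u b y) = y) →
    u = 1 ∧ b = 0 := by decide +kernel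

set_option maxRecDepth 100000 in
theorem bf_nonaff : ∀ x u b : ZMod 11, u ^ 5 = 1 →
    (∀ y : X, nonaffF x u b (nonaffF x u b y) = y) →
    (∀ y : X, dF (nonaffF x u b (dF (nonaffF x u b (dF (nonaffF x u b y))))) = y) →
    ∃ k < 5, (∀ y : X, nonaffF x u b y = conjF k s1F y) ∨
      (∀ y : X, nonaffF x u b y = conjF k s2F y) := by decide +kernel

set_option maxRecDepth 100000 in
theorem bf_norm_aff : ∀ u b : ZMod 11, u ^ 5 = 1 →
    (∃ j < 5, ∀ y : X, affF u b (dF y) = scale 11 (4 ^ j) (affF u b y)) → b = 0 := by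
  decide +kernel

set_option maxRecDepth 100000 in
theorem bf_norm_nonaff : ∀ x u b : ZMod 11, u ^ 5 = 1 →
    (∃ j < 5, ∀ y : X, nonaffF x u b (dF y) = scale 11 (4 ^ j) (nonaffF x u b y)) →
    x = 0 ∧ b = 0 := by
  decide +kernel

theorem bf_pow : ∀ u : ZMod 11, u ^ 5 = 1 → ∃ k < 5, u = 4 ^ k := by decide +kernel

theorem bf_t0 : ∀ y : X, inv0 y =
    dF (dF (s1F (dF (dF (dF (s1F (dF (dF (s1F y))))))))) := by decide +kernel

theorem bf_pi_d : ∀ y : X, dF (pi1 y) = pi1 (dF y) := by decide +kernel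
theorem bf_pi_s1 : ∀ y : X, s1F (pi1 y) = pi1 (s1F y) := by decide +kernel
theorem bf_pi_s2 : ¬ ∀ y : X, s2F (pi1 y) = pi1 (s2F y) := by decide +kernel

theorem bf_s1_sq : ∀ y : X, s1F (s1F y) = y := by decide +kernel
theorem bf_s2_sq : ∀ y : X, s2F (s2F y) = y := by decide +kernel
theorem bf_ds1 : ∀ y : X, dF (s1F (dF (s1F (dF (s1F y))))) = y := by decide +kernel
theorem bf_ds2 : ∀ y : X, dF (s2F (dF (s2F (dF (s2F y))))) = y := by decide +kernel

end Cfsg.Agent.Lib.Helper62.PSL211
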