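import Mathlib
import Cfsg.Agent.Lib.Helper62.PSL211Data

/-!
# The candidate group `Γ ≅ PSL(2,11)` on the projective line: perm-level facts (helper62)
-/

namespace Cfsg.Agent.Lib.Helper62.PSL211

open Equiv Cfsg.Agent.Lib.Helper62.PSL2Recog

instance fact11 : Fact (Nat.Prime 11) := ⟨by norm_num⟩

theorem t0_apply (y : X) : t0 11 y = inv0 y := by
  cases y with
  | none => rfl
  | some x =>
    by_cases hx : x = 0
    · subst hx; rw [t0_zero]; rfl
    · rw [t0_some 11 x hx]; simp [inv0, hx]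

theorem t0_inv : (t0 11)⁻¹ = t0 11 := by
  rw [inv_eq_iff_mul_eq_one]
  apply Equiv.ext
  intro y
  rw [Perm.mul_apply, t0_apply, t0_apply, Perm.one_apply]
  revert y
  decide +kernel

theorem aff_apply (u : (ZMod 11)ˣ) (b : ZMod 11) (y : X) :
    aff 11 u b y = affF (u : ZMod 11) b y := by
  cases y with
  | none => rw [aff_none]; rfl
  | some x => rw [aff_some]; simp [affF, shift, scale]

/-- the unit `4` -/
def u4 : (ZMod 11)ˣ := Units.mk0 4 (by decide)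

/-- `d : y ↦ 4 y` -/
def d : Perm X := mulPerm 11 u4

theorem d_apply (y : X) : d y = dF y := by
  unfold d dF
  rw [mulPerm_apply]
  rfl

theorem d_pow_apply (k : ℕ) (y : X) : (d ^ k) y = scale 11 (4 ^ k) y := by
  unfold d
  rw [← map_pow, mulPerm_apply]
  simp [u4]

theorem d_pow_inv_apply (k : ℕ) (y : X) : (d ^ k)⁻¹ y = scale 11 (3 ^ k) y := by
  rw [Perm.inv_eq_iff_eq, d_pow_apply]
  cases y with
  | none => rfl
  | some y =>
    simp only [scale]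
    rw [← mul_assoc, ← mul_pow]
    have : (4 : ZMod 11) * 3 = 1 := by decide
    rw [this, one_pow, one_mul]

/-- the involution `s₁ : y ↦ 8 - 1/(y + 3)` -/
def s1 : Perm X := c0 11 ^ 8 * t0 11 * aff 11 1 3
/-- the involution `s₂ : y ↦ 1 - 1/(9 y + 2)` -/
def s2 : Perm X := c0 11 ^ 1 * t0 11 * aff 11 (Units.mk0 9 (by decide)) 2

theorem s1_apply (y : X) : s1 y = s1F y := by
  unfold s1 s1F nonaffF
  rw [Perm.mul_apply, Perm.mul_apply, c0_pow_apply, t0_apply, aff_apply]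
  simp

theorem s2_apply (y : X) : s2 y = s2F y := by
  unfold s2 s2F nonaffF
  rw [Perm.mul_apply, Perm.mul_apply, c0_pow_apply, t0_apply, aff_apply]
  simp

variable {Γ : Subgroup (Perm X)}

theorem hh : 5 < 11 := by norm_num
theorem hh0 : 0 < 5 := by norm_num

theorem t0_mem (hΓ : IsCand 11 5 Γ) [IsSimpleGroup Γ] : t0 11 ∈ Γ :=
  hΓ.t0_mem (by norm_num) hh0 4 2 (by decide) (by decide) covers11 table11

theorem d_mem (hΓ : IsCand 11 5 Γ) : d ∈ Γ := by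
  unfold d
  rw [hΓ.mem_iff_pow hh hh0]
  apply Units.ext
  simp only [u4, Units.val_pow_eq_pow_val, Units.val_mk0, Units.val_one]
  decide

theorem aff_mem (hΓ : IsCand 11 5 Γ) (u : (ZMod 11)ˣ) (b : ZMod 11) (hu : (u : ZMod 11) ^ 5 = 1) :
    aff 11 u b ∈ Γ := by
  rw [aff_mem_iff hΓ, hΓ.mem_iff_pow hh hh0]
  apply Units.ext
  rw [Units.val_pow_eq_pow_val, hu, Units.val_one]

theorem s1_mem (hΓ : IsCand 11 5 Γ) [IsSimpleGroup Γ] : s1 ∈ Γ := by
  unfold s1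
  refine Γ.mul_mem (Γ.mul_mem (Γ.pow_mem hΓ.c0_mem _) (t0_mem hΓ)) (aff_mem hΓ _ _ ?_)
  simp

theorem s2_mem (hΓ : IsCand 11 5 Γ) [IsSimpleGroup Γ] : s2 ∈ Γ := by
  unfold s2
  refine Γ.mul_mem (Γ.mul_mem (Γ.pow_mem hΓ.c0_mem _) (t0_mem hΓ)) (aff_mem hΓ _ _ ?_)
  simp only [Units.val_mk0]
  decide

/-- normal form of the elements of `Γ` -/
theorem normal_form (hΓ : IsCand 11 5 Γ) [IsSimpleGroup Γ] (γ : Perm X) (hγ : γ ∈ Γ) :
    (∃ u b : ZMod 11, u ^ 5 = 1 ∧ ∀ y, γ y = affF u b y) ∨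
      (∃ x u b : ZMod 11, u ^ 5 = 1 ∧ ∀ y, γ y = nonaffF x u b y) := by
  have hfix : ∀ δ ∈ Γ, δ none = none → ∃ u b : ZMod 11, u ^ 5 = 1 ∧ ∀ y, δ y = affF u b y := by
    intro δ hδ hfix
    obtain ⟨u, b', hub⟩ := hΓ.stab_affine hh hh0 δ hδ hfix
    have hu : u ^ 5 = 1 := by
      rw [← hΓ.mem_iff_pow hh hh0, ← aff_mem_iff hΓ u b', ← hub]; exact hδ
    refine ⟨(u : ZMod 11), b', ?_, ?_⟩
    · rw [← Units.val_pow_eq_pow_val, hu, Units.val_one]
    · intro y; rw [hub, aff_apply]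
  cases hγn : γ none with
  | none => exact Or.inl (hfix γ hγ hγn)
  | some x =>
    right
    have ht := t0_mem hΓ
    have hδΓ : t0 11 * (c0 11 ^ x.val)⁻¹ * γ ∈ Γ :=
      Γ.mul_mem (Γ.mul_mem ht (Γ.inv_mem (Γ.pow_mem hΓ.c0_mem _))) hγ
    have hδfix : (t0 11 * (c0 11 ^ x.val)⁻¹ * γ) none = none := by
      rw [Perm.mul_apply, Perm.mul_apply, hγn, c0_pow_inv_apply, ZMod.natCast_zmod_val]
      simp [shift, t0_zero]
    obtain ⟨u, b, hu, hub⟩ := hfix _ hδΓ hδfix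
    refine ⟨x, u, b, hu, ?_⟩
    intro y
    have hγeq : γ = c0 11 ^ x.val * (t0 11)⁻¹ * (t0 11 * (c0 11 ^ x.val)⁻¹ * γ) := by group
    rw [hγeq, Perm.mul_apply, Perm.mul_apply, hub, t0_inv, t0_apply, c0_pow_apply,
      ZMod.natCast_zmod_val]
    rfl

end Cfsg.Agent.Lib.Helper62.PSL211
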