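import Mathlib
import Cfsg.Agent.Lib.Helper62.PSL211Perm
import Cfsg.Agent.S3377

/-!
# The `A₅` subgroups of `PSL(2,11)` (helper62)

For a simple group `K` with an injective hom `ι` onto a candidate group `Γ ≤ Perm (Option (ZMod 11))`
(see `PSL2Recog`): `K` has exactly 22 subgroups isomorphic to `A₅`, in two conjugacy classes
(`main`).  Generic tools: `nonempty_closure_equiv_A5` (a `(2,3,5)`-generated group is `A₅`),
`exists_conj_mem_zpowers` (elementwise Sylow conjugacy), `mem_of_conj_eq`.
-/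

namespace Cfsg.Agent.Lib.Helper62.PSL211

open Equiv Cfsg.Agent.Lib.Helper62.PSL2Recog
open scoped Pointwise

abbrev A5 := alternatingGroup (Fin 5)

instance fact5 : Fact (Nat.Prime 5) := ⟨by norm_num⟩

set_option linter.unusedSectionVars false

section Generic

variable {G : Type*} [Group G]

theorem P_simple : IsSimpleGroup Cfsg.Agent.S3377.P := by
  obtain ⟨e⟩ := Cfsg.Agent.S3377.result
  have h1 : IsSimpleGroup A5 := alternatingGroup.isSimpleGroup (by simp)
  have : Nontrivial Cfsg.Agent.S3377.P := e.toEquiv.nontrivial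
  exact IsSimpleGroup.isSimpleGroup_of_surjective e.symm.toMonoidHom e.symm.surjective

/-- a subgroup generated by `d`, `s` with `d^5 = s^2 = (d s)^3 = 1`, `d ≠ 1`, is `A₅` -/
theorem nonempty_closure_equiv_A5 (d s : G) (hd : d ^ 5 = 1) (hs : s ^ 2 = 1)
    (hds : (d * s) ^ 3 = 1) (hd1 : d ≠ 1) :
    Nonempty (Subgroup.closure ({d, s} : Set G) ≃* A5) := by
  let gens : Fin 2 → G := ![(d * s)⁻¹, d]
  have hsinv : s⁻¹ = s := by
    rw [inv_eq_iff_mul_eq_one, ← pow_two, hs]
  have hrels : ∀ r ∈ Cfsg.Agent.S3377.rels, FreeGroup.lift gens r = 1 := by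
    intro r hr
    simp only [Cfsg.Agent.S3377.rels, Set.mem_insert_iff, Set.mem_singleton_iff] at hr
    rcases hr with rfl | rfl | rfl
    · simp only [map_pow, FreeGroup.lift_apply_of, gens, Matrix.cons_val_zero]
      rw [inv_pow, hds, inv_one]
    · simp only [map_pow, FreeGroup.lift_apply_of, gens, Matrix.cons_val_one, Matrix.cons_val_zero]
      exact hd
    · simp only [map_pow, map_mul, FreeGroup.lift_apply_of, gens, Matrix.cons_val_one,
        Matrix.cons_val_zero]
      have : (d * s)⁻¹ * d = s := by rw [mul_inv_rev, hsinv]; group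
      rw [this, hs]
  let ψ : Cfsg.Agent.S3377.P →* G := PresentedGroup.toGroup hrels
  have hψ0 : ψ (PresentedGroup.of 0) = (d * s)⁻¹ := by simp [ψ, gens]
  have hψ1 : ψ (PresentedGroup.of 1) = d := by simp [ψ, gens]
  obtain ⟨e⟩ := Cfsg.Agent.S3377.result
  have hsimple := P_simple
  have hinj : Function.Injective ψ := by
    rcases (MonoidHom.normal_ker ψ).eq_bot_or_eq_top with h | h
    · exact (MonoidHom.ker_eq_bot_iff ψ).mp h
    · exfalso
      have : (PresentedGroup.of 1 : Cfsg.Agent.S3377.P) ∈ ψ.ker := by rw [h]; trivial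
      rw [MonoidHom.mem_ker, hψ1] at this
      exact hd1 this
  have hrange : ψ.range = Subgroup.closure ({d, s} : Set G) := by
    have h1 : ψ.range = Subgroup.closure ({(d * s)⁻¹, d} : Set G) := by
      rw [MonoidHom.range_eq_map, ← PresentedGroup.closure_range_of, MonoidHom.map_closure]
      congr 1
      ext x
      simp only [Set.mem_image, Set.mem_range, Set.mem_insert_iff, Set.mem_singleton_iff]
      constructor
      · rintro ⟨_, ⟨i, rfl⟩, rfl⟩
        fin_cases i
        · left; exact hψ0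
        · right; exact hψ1
      · rintro (rfl | rfl)
        · exact ⟨_, ⟨0, rfl⟩, hψ0⟩
        · exact ⟨_, ⟨1, rfl⟩, hψ1⟩
    rw [h1]
    apply le_antisymm
    · rw [Subgroup.closure_le]
      rintro x (rfl | rfl)
      · apply Subgroup.inv_mem
        exact Subgroup.mul_mem _ (Subgroup.subset_closure (by simp))
          (Subgroup.subset_closure (by simp))
      · exact Subgroup.subset_closure (by simp)
    · rw [Subgroup.closure_le]
      rintro x (rfl | rfl)
      · exact Subgroup.subset_closure (by simp)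
      · have hx : x = x⁻¹⁻¹ := (inv_inv x).symm
        have h2 : x = d⁻¹ * ((d * x)⁻¹)⁻¹ := by group
        rw [h2]
        exact Subgroup.mul_mem _ (Subgroup.inv_mem _ (Subgroup.subset_closure (by simp)))
          (Subgroup.inv_mem _ (Subgroup.subset_closure (by simp)))
  exact ⟨((MonoidHom.ofInjective hinj).symm.trans e |>.symm.trans
    (MulEquiv.subgroupCongr hrange)).symm⟩

/-- Sylow conjugacy, elementwise, when `p` divides the order exactly once -/
theorem exists_conj_mem_zpowers [Finite G] (p : ℕ) [Fact p.Prime]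
    (hfac : (Nat.card G).factorization p = 1) (a b : G) (ha : orderOf a = p) (hb : orderOf b = p) :
    ∃ g : G, g * a * g⁻¹ ∈ Subgroup.zpowers b := by
  have hcA : Nat.card (Subgroup.zpowers a) = p ^ (Nat.card G).factorization p := by
    rw [Nat.card_zpowers, ha, hfac, pow_one]
  have hcB : Nat.card (Subgroup.zpowers b) = p ^ (Nat.card G).factorization p := by
    rw [Nat.card_zpowers, hb, hfac, pow_one]
  let P : Sylow p G := Sylow.ofCard _ hcA
  let Q : Sylow p G := Sylow.ofCard _ hcB
  obtain ⟨g, hg⟩ := MulAction.exists_smul_eq G P Q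
  refine ⟨g, ?_⟩
  have h1 : g * a * g⁻¹ ∈ ((g • P : Sylow p G) : Subgroup G) := by
    rw [Sylow.smul_def, Sylow.pointwise_smul_def]
    have : a ∈ (P : Subgroup G) := Subgroup.mem_zpowers a
    have := Subgroup.smul_mem_pointwise_smul a (MulAut.conj g) (P : Subgroup G) this
    rwa [MulAut.smul_def, MulAut.conj_apply] at this
  rw [hg] at h1
  exact h1

set_option maxRecDepth 100000 in
theorem A5_fact : ∀ a : Perm (Fin 5), Perm.sign a = 1 → a ≠ 1 → a ^ 5 = 1 →
    ∃ b : Perm (Fin 5), Perm.sign b = 1 ∧ b ≠ 1 ∧ b ^ 2 = 1 ∧ (a * b) ^ 3 = 1 := by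
  decide +kernel

end Generic


section Main

variable {K : Type*} [Group K] [Finite K] [IsSimpleGroup K] (ι : K →* Perm X)
  (hι : Function.Injective ι) (hΓ : IsCand 11 5 ι.range)

include hι in
theorem range_simple : IsSimpleGroup ι.range := by
  let e := MonoidHom.ofInjective hι
  have : Nontrivial ι.range := e.symm.toEquiv.nontrivial
  exact IsSimpleGroup.isSimpleGroup_of_surjective e.toMonoidHom e.surjective

include hι hΓ in
theorem card_K : Nat.card K = 660 := by
  rw [Nat.card_congr (MonoidHom.ofInjective hι).toEquiv, hΓ.card]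

/-- the subgroup of permutations commuting with a function -/
def commSub (f : X → X) : Subgroup (Perm X) where
  carrier := {γ | ∀ y, γ (f y) = f (γ y)}
  mul_mem' := by
    intro a b ha hb y
    rw [Perm.mul_apply, Perm.mul_apply, hb, ha]
  one_mem' := by intro y; rfl
  inv_mem' := by
    intro a ha y
    have ha' : ∀ y, a (f y) = f (a y) := ha
    apply a.injective
    rw [ha' (a⁻¹ y)]
    simp

variable (dK s1K s2K tK : K) (hdK : ι dK = d) (hs1K : ι s1K = s1) (hs2K : ι s2K = s2)
  (htK : ι tK = t0 11)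

include hι hdK in
theorem dK_pow : dK ^ 5 = 1 := by
  apply hι
  rw [map_pow, hdK, map_one]
  apply Equiv.ext
  intro y
  rw [d_pow_apply, Perm.one_apply]
  cases y with
  | none => rfl
  | some y => simp only [scale]; congr 1; have : (4 : ZMod 11) ^ 5 = 1 := by decide
              rw [this, one_mul]

include hι hdK in
theorem dK_ne : dK ≠ 1 := by
  intro h
  have h1 : ι dK = 1 := by rw [h, map_one]
  rw [hdK] at h1
  have := congrArg (fun f : Perm X => f (some 1)) h1
  simp only [d_apply, Perm.one_apply] at this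
  revert this
  decide

include hι hdK in
theorem orderOf_dK : orderOf dK = 5 :=
  orderOf_eq_prime (dK_pow ι hι dK hdK) (dK_ne ι hι dK hdK)

include hι hs1K in
theorem s1K_sq : s1K ^ 2 = 1 := by
  apply hι
  rw [map_pow, hs1K, map_one]
  apply Equiv.ext
  intro y
  simp only [pow_succ, pow_zero, one_mul, Perm.mul_apply, Perm.one_apply, s1_apply]
  exact bf_s1_sq y

include hι hs2K in
theorem s2K_sq : s2K ^ 2 = 1 := by
  apply hι
  rw [map_pow, hs2K, map_one]
  apply Equiv.ext
  intro y
  simp only [pow_succ, pow_zero, one_mul, Perm.mul_apply, Perm.one_apply, s2_apply]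
  exact bf_s2_sq y

include hι hdK hs1K in
theorem ds1K : (dK * s1K) ^ 3 = 1 := by
  apply hι
  rw [map_pow, map_mul, hdK, hs1K, map_one]
  apply Equiv.ext
  intro y
  simp only [pow_succ, pow_zero, one_mul, Perm.mul_apply, Perm.one_apply, s1_apply, d_apply]
  exact bf_ds1 y

include hι hdK hs2K in
theorem ds2K : (dK * s2K) ^ 3 = 1 := by
  apply hι
  rw [map_pow, map_mul, hdK, hs2K, map_one]
  apply Equiv.ext
  intro y
  simp only [pow_succ, pow_zero, one_mul, Perm.mul_apply, Perm.one_apply, s2_apply, d_apply]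
  exact bf_ds2 y

/-- the two `A₅` subgroups -/
def H1 : Subgroup K := Subgroup.closure {dK, s1K}
def H2 : Subgroup K := Subgroup.closure {dK, s2K}

include hι hdK hs1K in
theorem H1_equiv : Nonempty (H1 dK s1K ≃* A5) :=
  nonempty_closure_equiv_A5 dK s1K (dK_pow ι hι dK hdK) (s1K_sq ι hι s1K hs1K)
    (ds1K ι hι dK s1K hdK hs1K) (dK_ne ι hι dK hdK)

include hι hdK hs2K in
theorem H2_equiv : Nonempty (H2 dK s2K ≃* A5) :=
  nonempty_closure_equiv_A5 dK s2K (dK_pow ι hι dK hdK) (s2K_sq ι hι s2K hs2K)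
    (ds2K ι hι dK s2K hdK hs2K) (dK_ne ι hι dK hdK)

theorem card_A5 : Nat.card A5 = 60 := Cfsg.Agent.S3377.card_A5

theorem dK_mem_H1 : dK ∈ H1 dK s1K := Subgroup.subset_closure (by simp)
theorem s1K_mem_H1 : s1K ∈ H1 dK s1K := Subgroup.subset_closure (by simp)
theorem dK_mem_H2 : dK ∈ H2 dK s2K := Subgroup.subset_closure (by simp)
theorem s2K_mem_H2 : s2K ∈ H2 dK s2K := Subgroup.subset_closure (by simp)

include hι hΓ hdK hs1K hs2K in
/-- the involutions `s` with `(d s)^3 = 1` -/
theorem invol_cases (s : K) (hs : s ^ 2 = 1) (hs1 : s ≠ 1) (hds : (dK * s) ^ 3 = 1) :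
    ∃ k < 5, s = dK ^ k * s1K * (dK ^ k)⁻¹ ∨ s = dK ^ k * s2K * (dK ^ k)⁻¹ := by
  have hsimple := range_simple ι hι
  have hγ : ι s ∈ ι.range := ⟨s, rfl⟩
  have hsq : ∀ y, ι s (ι s y) = y := by
    intro y
    have := congrArg (fun f : Perm X => f y) (by rw [← map_pow, hs, map_one] : (ι s) ^ 2 = 1)
    simpa [pow_succ] using this
  have hcube : ∀ y, d (ι s (d (ι s (d (ι s y))))) = y := by
    intro y
    have h1 : (d * ι s) ^ 3 = 1 := by rw [← hdK, ← map_mul, ← map_pow, hds, map_one]
    have := congrArg (fun f : Perm X => f y) h1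
    simpa [pow_succ] using this
  rcases normal_form hΓ (ι s) hγ with ⟨u, b, hu, hub⟩ | ⟨x, u, b, hu, hub⟩
  · exfalso
    have h1 : ∀ y : X, affF u b (affF u b y) = y := by
      intro y; rw [← hub, ← hub]; exact hsq y
    obtain ⟨rfl, rfl⟩ := bf_aff u b hu h1
    apply hs1
    apply hι
    rw [map_one]
    apply Equiv.ext
    intro y
    rw [hub, Perm.one_apply]
    cases y with
    | none => rfl
    | some y => simp [affF, shift, scale]
  · have h1 : ∀ y : X, nonaffF x u b (nonaffF x u b y) = y := by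
      intro y; rw [← hub, ← hub]; exact hsq y
    have h2 : ∀ y : X, dF (nonaffF x u b (dF (nonaffF x u b (dF (nonaffF x u b y))))) = y := by
      intro y
      rw [← hub, ← d_apply, ← hub, ← d_apply, ← hub, ← d_apply]
      exact hcube y
    obtain ⟨k, hk, h3 | h3⟩ := bf_nonaff x u b hu h1 h2
    · refine ⟨k, hk, Or.inl ?_⟩
      apply hι
      rw [map_mul, map_mul, map_inv, map_pow, hdK, hs1K]
      apply Equiv.ext
      intro y
      rw [hub, h3, Perm.mul_apply, Perm.mul_apply, d_pow_inv_apply, s1_apply, d_pow_apply]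
      rfl
    · refine ⟨k, hk, Or.inr ?_⟩
      apply hι
      rw [map_mul, map_mul, map_inv, map_pow, hdK, hs2K]
      apply Equiv.ext
      intro y
      rw [hub, h3, Perm.mul_apply, Perm.mul_apply, d_pow_inv_apply, s2_apply, d_pow_apply]
      rfl


theorem shift_zero (z : X) : shift 11 0 z = z := by
  cases z with
  | none => rfl
  | some z => simp [shift]

include hι hdK hs1K htK in
theorem tK_mem_H1 : tK ∈ H1 dK s1K := by
  have h : tK = dK * dK * s1K * dK * dK * dK * s1K * dK * dK * s1K := by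
    apply hι
    simp only [map_mul, hdK, hs1K, htK]
    apply Equiv.ext
    intro y
    simp only [Perm.mul_apply, t0_apply, d_apply, s1_apply]
    exact bf_t0 y
  have hd := dK_mem_H1 dK s1K
  have hs := s1K_mem_H1 dK s1K
  rw [h]
  exact Subgroup.mul_mem _ (Subgroup.mul_mem _ (Subgroup.mul_mem _ (Subgroup.mul_mem _
    (Subgroup.mul_mem _ (Subgroup.mul_mem _ (Subgroup.mul_mem _ (Subgroup.mul_mem _
    (Subgroup.mul_mem _ hd hd) hs) hd) hd) hd) hs) hd) hd) hs

include hι hΓ hdK hs1K htK in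
/-- the normaliser of `⟨d⟩` lies in `H₁` -/
theorem normalizer_le_H1 (n : K) (hn : n * dK * n⁻¹ ∈ Subgroup.zpowers dK) : n ∈ H1 dK s1K := by
  classical
  have hsimple := range_simple ι hι
  have ho := orderOf_dK ι hι dK hdK
  -- a natural exponent
  obtain ⟨j, hj, hjn⟩ : ∃ j < 5, dK ^ j = n * dK * n⁻¹ := by
    have h1 : n * dK * n⁻¹ ∈ Submonoid.powers dK := by
      rw [mem_powers_iff_mem_zpowers]; exact hn
    rw [mem_powers_iff_mem_range_orderOf, ho] at h1
    simp only [Finset.mem_image, Finset.mem_range] at h1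
    exact h1
  have hcomm : ∀ y, ι n (d y) = scale 11 (4 ^ j) (ι n y) := by
    intro y
    have h1 : ι n * d = d ^ j * ι n := by
      rw [← hdK, ← map_pow, ← map_mul, ← map_mul, hjn]
      congr 1
      group
    have := congrArg (fun f : Perm X => f y) h1
    simp only [Perm.mul_apply, d_pow_apply] at this
    exact this
  have hd := dK_mem_H1 dK s1K
  rcases normal_form hΓ (ι n) ⟨n, rfl⟩ with ⟨u, b, hu, hub⟩ | ⟨x, u, b, hu, hub⟩
  · have h1 : ∃ j < 5, ∀ y : X, affF u b (dF y) = scale 11 (4 ^ j) (affF u b y) := by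
      refine ⟨j, hj, fun y => ?_⟩
      rw [← hub, ← hub, ← d_apply]; exact hcomm y
    have hb := bf_norm_aff u b hu h1
    subst hb
    obtain ⟨k, hk, rfl⟩ := bf_pow u hu
    have : n = dK ^ k := by
      apply hι
      rw [map_pow, hdK]
      apply Equiv.ext
      intro y
      rw [hub, d_pow_apply]
      cases y with
      | none => rfl
      | some y => simp [affF, shift, scale]
    rw [this]
    exact Subgroup.pow_mem _ hd k
  · have h1 : ∃ j < 5, ∀ y : X, nonaffF x u b (dF y) = scale 11 (4 ^ j) (nonaffF x u b y) := by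
      refine ⟨j, hj, fun y => ?_⟩
      rw [← hub, ← hub, ← d_apply]; exact hcomm y
    obtain ⟨hx, hb⟩ := bf_norm_nonaff x u b hu h1
    subst hx hb
    obtain ⟨k, hk, rfl⟩ := bf_pow u hu
    have : n = tK * dK ^ k := by
      apply hι
      rw [map_mul, map_pow, hdK, htK]
      apply Equiv.ext
      intro y
      rw [hub, Perm.mul_apply, d_pow_apply, t0_apply]
      unfold nonaffF affF
      rw [shift_zero, shift_zero]
    rw [this]
    exact Subgroup.mul_mem _ (tK_mem_H1 ι hι dK s1K tK hdK hs1K htK) (Subgroup.pow_mem _ hd k)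

include hι hdK hs1K hs2K in
theorem s2K_not_mem_H1 : s2K ∉ H1 dK s1K := by
  intro h
  have hle : H1 dK s1K ≤ (commSub pi1).comap ι := by
    unfold H1
    rw [Subgroup.closure_le]
    rintro x (rfl | rfl)
    · show ι x ∈ commSub pi1
      rw [hdK]
      intro y
      rw [d_apply, d_apply]
      exact bf_pi_d y
    · show ι x ∈ commSub pi1
      rw [hs1K]
      intro y
      rw [s1_apply, s1_apply]
      exact bf_pi_s1 y
  have h2 : ι s2K ∈ commSub pi1 := hle h
  rw [hs2K] at h2
  apply bf_pi_s2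
  intro y
  have := h2 y
  rwa [s2_apply, s2_apply] at this


include hι hΓ hdK hs1K hs2K in
/-- every `A₅` subgroup is conjugate to `H₁` or `H₂` -/
theorem conj_cases (L : Subgroup K) (hL : Nonempty (L ≃* A5)) :
    ∃ g : K, MulAut.conj g • L = H1 dK s1K ∨ MulAut.conj g • L = H2 dK s2K := by
  obtain ⟨e⟩ := hL
  have hcardK := card_K ι hι hΓ
  have hfac : (Nat.card K).factorization 5 = 1 := by rw [hcardK]; decide +kernel
  -- an element of order 5 in L
  let a₀ : A5 := ⟨finRotate 5, Perm.mem_alternatingGroup.mpr (by decide)⟩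
  have ha₀ : orderOf a₀ = 5 := by
    apply orderOf_eq_prime
    · apply Subtype.ext; decide
    · intro h; have := congrArg Subtype.val h; revert this; decide
  let a' : K := ((e.symm a₀ : L) : K)
  have ha' : orderOf a' = 5 := by
    rw [Subgroup.orderOf_coe, MulEquiv.orderOf_eq, ha₀]
  have ho := orderOf_dK ι hι dK hdK
  obtain ⟨g, hg⟩ := exists_conj_mem_zpowers 5 hfac a' dK ha' ho
  refine ⟨g, ?_⟩
  have hcL' : g * a' * g⁻¹ ∈ MulAut.conj g • L := by
    have := Subgroup.smul_mem_pointwise_smul a' (MulAut.conj g) L (e.symm a₀).2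
    rwa [MulAut.smul_def, MulAut.conj_apply] at this
  have hoc : orderOf (g * a' * g⁻¹) = 5 := by
    rw [← MulAut.conj_apply, MulEquiv.orderOf_eq, ha']
  have hdL' : dK ∈ MulAut.conj g • L := by
    have hle : Subgroup.zpowers (g * a' * g⁻¹) ≤ Subgroup.zpowers dK := by
      rw [Subgroup.zpowers_le]; exact hg
    have heq : Subgroup.zpowers (g * a' * g⁻¹) = Subgroup.zpowers dK := by
      apply Subgroup.eq_of_le_of_card_ge hle
      rw [Nat.card_zpowers, Nat.card_zpowers, hoc, ho]
    have h1 : dK ∈ Subgroup.zpowers (g * a' * g⁻¹) := by rw [heq]; exact Subgroup.mem_zpowers dK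
    have h2 : Subgroup.zpowers (g * a' * g⁻¹) ≤ MulAut.conj g • L := by
      rw [Subgroup.zpowers_le]; exact hcL'
    exact h2 h1
  let e' : (MulAut.conj g • L : Subgroup K) ≃* A5 :=
    (Subgroup.equivSMul (MulAut.conj g) L).symm.trans e
  have hcardL' : Nat.card (MulAut.conj g • L : Subgroup K) = 60 := by
    rw [Nat.card_congr e'.toEquiv, card_A5]
  let dL' : (MulAut.conj g • L : Subgroup K) := ⟨dK, hdL'⟩
  have hdL'5 : dL' ^ 5 = 1 := Subtype.ext (dK_pow ι hι dK hdK)
  have hdL'1 : dL' ≠ 1 := by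
    intro h; exact dK_ne ι hι dK hdK (congrArg Subtype.val h)
  have ha5 : (e' dL').1 ^ 5 = 1 := by
    have : (e' dL') ^ 5 = 1 := by rw [← map_pow, hdL'5, map_one]
    exact congrArg Subtype.val this
  have ha1 : (e' dL').1 ≠ 1 := by
    intro h
    have h1 : e' dL' = 1 := Subtype.ext h
    rw [← map_one e'] at h1
    exact hdL'1 (e'.injective h1)
  obtain ⟨b, hb1, hb2, hb3, hb4⟩ := A5_fact (e' dL').1
    (Perm.mem_alternatingGroup.mp (e' dL').2) ha1 ha5
  let bA : A5 := ⟨b, Perm.mem_alternatingGroup.mpr hb1⟩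
  let sL' : (MulAut.conj g • L : Subgroup K) := e'.symm bA
  have hsL'2 : sL' ^ 2 = 1 := by
    show (e'.symm bA) ^ 2 = 1
    rw [← map_pow]
    have : bA ^ 2 = 1 := Subtype.ext hb3
    rw [this, map_one]
  have hsL'1 : sL' ≠ 1 := by
    intro h
    have h1 : e' sL' = 1 := by rw [h, map_one]
    have h2 : e' sL' = bA := e'.apply_symm_apply bA
    rw [h2] at h1
    exact hb2 (congrArg Subtype.val h1)
  have hdsL' : (dL' * sL') ^ 3 = 1 := by
    apply e'.injective
    rw [map_pow, map_mul, map_one]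
    have h2 : e' sL' = bA := e'.apply_symm_apply bA
    rw [h2]
    exact Subtype.ext hb4
  have hs2 : (sL' : K) ^ 2 = 1 := congrArg Subtype.val hsL'2
  have hs1 : (sL' : K) ≠ 1 := fun h => hsL'1 (Subtype.ext h)
  have hds : (dK * (sL' : K)) ^ 3 = 1 := congrArg Subtype.val hdsL'
  obtain ⟨k, hk, h | h⟩ := invol_cases ι hι hΓ dK s1K s2K hdK hs1K hs2K (sL' : K) hs2 hs1 hds
  · left
    have hs1mem : s1K ∈ MulAut.conj g • L := by
      have : s1K = (dK ^ k)⁻¹ * (sL' : K) * dK ^ k := by rw [h]; group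
      rw [this]
      exact Subgroup.mul_mem _ (Subgroup.mul_mem _ (Subgroup.inv_mem _ (Subgroup.pow_mem _ hdL' k))
        sL'.2) (Subgroup.pow_mem _ hdL' k)
    have hle : H1 dK s1K ≤ MulAut.conj g • L := by
      unfold H1
      rw [Subgroup.closure_le]
      rintro x (rfl | rfl)
      · exact hdL'
      · exact hs1mem
    obtain ⟨e1⟩ := H1_equiv ι hι dK s1K hdK hs1K
    have hc1 : Nat.card (H1 dK s1K) = 60 := by rw [Nat.card_congr e1.toEquiv, card_A5]
    exact (Subgroup.eq_of_le_of_card_ge hle (by rw [hcardL', hc1])).symm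
  · right
    have hs2mem : s2K ∈ MulAut.conj g • L := by
      have : s2K = (dK ^ k)⁻¹ * (sL' : K) * dK ^ k := by rw [h]; group
      rw [this]
      exact Subgroup.mul_mem _ (Subgroup.mul_mem _ (Subgroup.inv_mem _ (Subgroup.pow_mem _ hdL' k))
        sL'.2) (Subgroup.pow_mem _ hdL' k)
    have hle : H2 dK s2K ≤ MulAut.conj g • L := by
      unfold H2
      rw [Subgroup.closure_le]
      rintro x (rfl | rfl)
      · exact hdL'
      · exact hs2mem
    obtain ⟨e2⟩ := H2_equiv ι hι dK s2K hdK hs2K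
    have hc2 : Nat.card (H2 dK s2K) = 60 := by rw [Nat.card_congr e2.toEquiv, card_A5]
    exact (Subgroup.eq_of_le_of_card_ge hle (by rw [hcardL', hc2])).symm

include hι hΓ hdK hs1K hs2K htK in
/-- `H₁` and `H₂` are not conjugate -/
theorem not_conj (g : K) : MulAut.conj g • H1 dK s1K ≠ H2 dK s2K := by
  intro hg
  have ho := orderOf_dK ι hι dK hdK
  obtain ⟨e2⟩ := H2_equiv ι hι dK s2K hdK hs2K
  have hcard2 : Nat.card (H2 dK s2K) = 60 := by rw [Nat.card_congr e2.toEquiv, card_A5]
  have hfac : (Nat.card (H2 dK s2K)).factorization 5 = 1 := by rw [hcard2]; decide +kernel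
  have hc : g * dK * g⁻¹ ∈ H2 dK s2K := by
    rw [← hg]
    have := Subgroup.smul_mem_pointwise_smul dK (MulAut.conj g) _ (dK_mem_H1 dK s1K)
    rwa [MulAut.smul_def, MulAut.conj_apply] at this
  let cH : H2 dK s2K := ⟨g * dK * g⁻¹, hc⟩
  let dH : H2 dK s2K := ⟨dK, dK_mem_H2 dK s2K⟩
  have hoc : orderOf cH = 5 := by
    rw [← Subgroup.orderOf_coe]
    show orderOf (g * dK * g⁻¹) = 5
    rw [← MulAut.conj_apply, MulEquiv.orderOf_eq, ho]
  have hod : orderOf dH = 5 := by
    rw [← Subgroup.orderOf_coe]; exact ho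
  obtain ⟨h, hh⟩ := exists_conj_mem_zpowers 5 hfac cH dH hoc hod
  have hn : ((h : K) * g) * dK * ((h : K) * g)⁻¹ ∈ Subgroup.zpowers dK := by
    obtain ⟨m, hm⟩ := Subgroup.mem_zpowers_iff.mp hh
    refine Subgroup.mem_zpowers_iff.mpr ⟨m, ?_⟩
    have h1 := congrArg Subtype.val hm
    have h2 : ((dH ^ m : H2 dK s2K) : K) = dK ^ m := by simp [dH]
    have h3 : ((h * cH * h⁻¹ : H2 dK s2K) : K) = (h : K) * (g * dK * g⁻¹) * (h : K)⁻¹ := by
      simp [cH]
    rw [h2, h3] at h1
    rw [h1]; group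
  have hnH1 := normalizer_le_H1 ι hι hΓ dK s1K tK hdK hs1K htK ((h : K) * g) hn
  have h1 : MulAut.conj ((h : K) * g) • H1 dK s1K = H1 dK s1K :=
    Subgroup.conj_smul_eq_self_of_mem hnH1
  have h2 : MulAut.conj ((h : K) * g) • H1 dK s1K = H2 dK s2K := by
    rw [map_mul, mul_smul, hg]; exact Subgroup.conj_smul_eq_self_of_mem h.2
  have h3 : H1 dK s1K = H2 dK s2K := h1.symm.trans h2
  apply s2K_not_mem_H1 ι hι dK s1K s2K hdK hs1K hs2K
  rw [h3]
  exact s2K_mem_H2 dK s2K

/-- a subgroup of order 60 of a simple group of order 660 is self-normalising -/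
theorem mem_of_conj_eq (H : Subgroup K) (hH : Nat.card H = 60) (hK : Nat.card K = 660) (g : K)
    (hg : MulAut.conj g • H = H) : g ∈ H := by
  have hgN : g ∈ Subgroup.normalizer (H : Set K) := by
    rw [Subgroup.mem_normalizer_iff]
    intro h
    constructor
    · intro hh
      have := Subgroup.smul_mem_pointwise_smul h (MulAut.conj g) H hh
      rwa [MulAut.smul_def, MulAut.conj_apply, hg] at this
    · intro hh
      rw [← hg, ← MulAut.conj_apply, ← MulAut.smul_def,
        Subgroup.smul_mem_pointwise_smul_iff] at hh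
      exact hh
  have hle : H ≤ Subgroup.normalizer (H : Set K) := Subgroup.le_normalizer
  have hd1 : Nat.card H ∣ Nat.card (Subgroup.normalizer (H : Set K)) :=
    Subgroup.card_dvd_of_le hle
  have hd2 : Nat.card (Subgroup.normalizer (H : Set K)) ∣ Nat.card K :=
    Subgroup.card_subgroup_dvd_card _
  rw [hH] at hd1
  rw [hK] at hd2
  obtain ⟨m, hm⟩ := hd1
  rw [hm] at hd2
  have hm11 : m ∣ 11 := by
    have : 60 * m ∣ 60 * 11 := hd2
    exact Nat.dvd_of_mul_dvd_mul_left (by norm_num) this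
  rcases (Nat.dvd_prime (by norm_num : Nat.Prime 11)).mp hm11 with rfl | rfl
  · have : H = Subgroup.normalizer (H : Set K) :=
      Subgroup.eq_of_le_of_card_ge hle (by rw [hm, hH])
    rw [this]; exact hgN
  · exfalso
    have htop : Subgroup.normalizer (H : Set K) = ⊤ := by
      rw [← Subgroup.card_eq_iff_eq_top, hm, hK]
    rw [Subgroup.normalizer_eq_top_iff] at htop
    rcases htop.eq_bot_or_eq_top with h | h
    · rw [h, Subgroup.card_bot] at hH; omega
    · rw [h, Subgroup.card_top, hK] at hH; omega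


include hι hΓ hdK hs1K hs2K htK in
theorem main :
    Nat.card {H : Subgroup K // Nonempty (H ≃* A5)} = 22 ∧
    ∃ H K' : Subgroup K, Nonempty (H ≃* A5) ∧ Nonempty (K' ≃* A5) ∧
      (∀ g : K, MulAut.conj g • H ≠ K') ∧
      ∀ L : Subgroup K, Nonempty (L ≃* A5) →
        ∃ g : K, MulAut.conj g • L = H ∨ MulAut.conj g • L = K' := by
  have hcardK := card_K ι hι hΓ
  have hE1 := H1_equiv ι hι dK s1K hdK hs1K
  have hE2 := H2_equiv ι hι dK s2K hdK hs2K
  have hc1 : Nat.card (H1 dK s1K) = 60 := by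
    obtain ⟨e1⟩ := hE1; rw [Nat.card_congr e1.toEquiv, card_A5]
  have hc2 : Nat.card (H2 dK s2K) = 60 := by
    obtain ⟨e2⟩ := hE2; rw [Nat.card_congr e2.toEquiv, card_A5]
  have hcases := conj_cases ι hι hΓ dK s1K s2K hdK hs1K hs2K
  have hnot := not_conj ι hι hΓ dK s1K s2K tK hdK hs1K hs2K htK
  refine ⟨?_, H1 dK s1K, H2 dK s2K, hE1, hE2, hnot, hcases⟩
  -- the count
  let act : MulAction K (Subgroup K) := MulAction.compHom (Subgroup K) (MulAut.conj : K →* MulAut K)
  have hsmul : ∀ (g : K) (L : Subgroup K), g • L = MulAut.conj g • L := fun g L => rfl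
  have hstab : ∀ H : Subgroup K, Nat.card H = 60 → MulAction.stabilizer K H = H := by
    intro H hH
    ext g
    rw [MulAction.mem_stabilizer_iff, hsmul]
    constructor
    · exact mem_of_conj_eq H hH hcardK g
    · exact fun hg => Subgroup.conj_smul_eq_self_of_mem hg
  have hindex : ∀ H : Subgroup K, Nat.card H = 60 → (MulAction.orbit K H).ncard = 11 := by
    intro H hH
    rw [← MulAction.index_stabilizer, hstab H hH]
    have := H.index_mul_card
    rw [hH, hcardK] at this
    omega
  have hset : {H : Subgroup K | Nonempty (H ≃* A5)} =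
      MulAction.orbit K (H1 dK s1K) ∪ MulAction.orbit K (H2 dK s2K) := by
    ext L
    simp only [Set.mem_ofPred_eq, Set.mem_union, MulAction.mem_orbit_iff]
    constructor
    · intro hL
      obtain ⟨g, hg | hg⟩ := hcases L hL
      · left
        refine ⟨g⁻¹, ?_⟩
        rw [hsmul, ← hg, ← mul_smul, ← map_mul, inv_mul_cancel, map_one, one_smul]
      · right
        refine ⟨g⁻¹, ?_⟩
        rw [hsmul, ← hg, ← mul_smul, ← map_mul, inv_mul_cancel, map_one, one_smul]
    · rintro (⟨g, rfl⟩ | ⟨g, rfl⟩)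
      · obtain ⟨e1⟩ := hE1
        exact ⟨(Subgroup.equivSMul (MulAut.conj g) (H1 dK s1K)).symm.trans e1⟩
      · obtain ⟨e2⟩ := hE2
        exact ⟨(Subgroup.equivSMul (MulAut.conj g) (H2 dK s2K)).symm.trans e2⟩
  have hdisj : Disjoint (MulAction.orbit K (H1 dK s1K)) (MulAction.orbit K (H2 dK s2K)) := by
    rw [Set.disjoint_left]
    rintro L ⟨g, rfl⟩ ⟨g', hg'⟩
    apply hnot (g'⁻¹ * g)
    have h1 : g' • H2 dK s2K = g • H1 dK s1K := hg'
    rw [hsmul, hsmul] at h1
    rw [map_mul, mul_smul, ← h1, ← mul_smul, ← map_mul, inv_mul_cancel, map_one, one_smul]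
  show Nat.card ({H : Subgroup K | Nonempty (H ≃* A5)} : Set (Subgroup K)) = 22
  rw [Nat.card_coe_set_eq, hset, Set.ncard_union_eq hdisj (Set.toFinite _) (Set.toFinite _),
    hindex _ hc1, hindex _ hc2]

end Main

end Cfsg.Agent.Lib.Helper62.PSL211
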