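import Mathlib
import Cfsg.Agent.Lib.Helper62.Rewrite
import Cfsg.Agent.Lib.Helper07.SL2Sylow
import Cfsg.Agent.Lib.Helper07.PermEmbed

/-!
# Helper62: the presentation `⟨a, b | a², b³, (ab)⁷, (abab²)⁴⟩` of `PSL(2,7)`

* `P` : the presented group, `P_card : Nat.card P ≤ 168` by a verified Knuth–Bendix certificate.
* `liftHom` : homomorphism from `P` to any group with elements satisfying the relations.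
* `equivPSL` : `P ≃* PSL(2, ZMod 7)`; `P_simple`.
-/

set_option autoImplicit false

namespace Cfsg.Agent.Lib.Helper62.PSL27Pres

open Cfsg.Agent.Lib.Helper62

def R0 : Rules := [([0, 0], []), ([1, 1, 1], []), ([0, 1, 0, 1, 0, 1, 0, 1, 0, 1, 0, 1, 0, 1], []), ([0, 1, 0, 1, 1, 0, 1, 0, 1, 1, 0, 1, 0, 1, 1, 0, 1, 0, 1, 1], [])]
def certs : List Cert := [
  ⟨[], [1, 0, 1, 0, 1, 0, 1, 0, 1, 0, 1, 0, 1], 0, [0], [], 2, false⟩,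
  ⟨[], [1, 0, 1, 1, 0, 1, 0, 1, 1, 0, 1, 0, 1, 1, 0, 1, 0, 1, 1], 0, [0], [], 3, false⟩,
  ⟨[], [1, 1], 2, [0, 1, 0, 1, 0, 1, 0, 1, 0, 1, 0, 1, 0], [], 1, true⟩,
  ⟨[], [0, 1, 1, 0, 1, 0, 1, 1, 0, 1, 0, 1, 1, 0, 1, 0, 1, 1], 2, [0, 1, 0, 1, 0, 1, 0, 1, 0, 1, 0, 1], [], 3, false⟩,
  ⟨[], [1, 0, 1, 0, 1, 1, 0, 1, 0, 1, 1, 0, 1, 0, 1, 1], 2, [0, 1, 0, 1, 0, 1, 0, 1, 0, 1], [], 3, false⟩,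
  ⟨[], [1, 1], 3, [0, 1, 0, 1, 1, 0, 1, 0, 1, 1, 0, 1, 0, 1, 1, 0, 1, 0, 1], [], 1, true⟩,
  ⟨[], [1], 3, [0, 1, 0, 1, 1, 0, 1, 0, 1, 1, 0, 1, 0, 1, 1, 0, 1, 0], [], 1, true⟩,
  ⟨[], [1, 0, 1, 0, 1, 0, 1, 0, 1, 0, 1, 0], 0, [0], [], 6, false⟩,
  ⟨[], [1, 0, 1, 1, 0, 1, 0, 1, 1, 0, 1, 0, 1, 1, 0, 1, 0, 1], 0, [0], [], 9, false⟩,
  ⟨[], [1, 0, 1, 1, 0, 1, 0, 1, 1, 0, 1, 0, 1, 1, 0, 1, 0], 0, [0], [], 10, false⟩,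
  ⟨[], [0, 1, 0, 1, 0, 1, 0, 1, 0, 1, 0, 1], 1, [1, 1], [], 4, false⟩,
  ⟨[], [0, 1, 0, 1, 1, 0, 1, 0, 1, 1, 0, 1, 0, 1, 1], 1, [1, 1], [], 8, false⟩,
  ⟨[], [0, 1, 0, 1, 0, 1, 0, 1, 0, 1, 0], 2, [0, 1, 0, 1, 0, 1, 0, 1, 0, 1, 0, 1], [], 6, false⟩,
  ⟨[], [0, 1, 1, 0, 1, 0, 1, 1, 0, 1, 0, 1, 1], 2, [0, 1, 0, 1, 0, 1, 0, 1, 0, 1, 0], [], 8, true⟩,
  ⟨[], [1, 0, 1, 0, 1, 1, 0, 1, 0, 1, 1], 2, [0, 1, 0, 1, 0, 1, 0, 1, 0], [], 8, true⟩,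
  ⟨[], [0, 1, 1, 0, 1, 0, 1, 1, 0, 1, 0, 1, 1, 0, 1, 0, 1], 2, [0, 1, 0, 1, 0, 1, 0, 1, 0, 1, 0, 1], [], 9, false⟩,
  ⟨[], [1, 0, 1, 0, 1, 1, 0, 1, 0, 1, 1, 0, 1, 0, 1], 2, [0, 1, 0, 1, 0, 1, 0, 1, 0, 1], [], 9, false⟩,
  ⟨[], [0, 1, 1, 0, 1, 0, 1, 1, 0, 1, 0, 1, 1, 0, 1, 0], 2, [0, 1, 0, 1, 0, 1, 0, 1, 0, 1, 0, 1], [], 10, false⟩,
  ⟨[], [1, 0, 1, 0, 1, 1, 0, 1, 0, 1, 1, 0, 1, 0], 2, [0, 1, 0, 1, 0, 1, 0, 1, 0, 1], [], 10, false⟩,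
  ⟨[], [0, 1, 0, 1, 1, 0, 1, 0, 1, 1, 0, 1, 0, 1, 1], 3, [0, 1, 0, 1, 1, 0, 1, 0, 1, 1, 0, 1, 0, 1, 1, 0], [], 5, false⟩,
  ⟨[], [0, 1, 0, 1, 1, 0, 1, 0, 1, 1, 0, 1, 0, 1], 3, [0, 1, 0, 1, 1, 0, 1, 0, 1, 1, 0, 1, 0, 1, 1], [], 9, false⟩,
  ⟨[], [0, 1, 0, 1, 1, 0, 1, 0, 1, 1, 0, 1, 0], 3, [0, 1, 0, 1, 1, 0, 1, 0, 1, 1, 0, 1, 0, 1, 1], [], 10, false⟩,
  ⟨[], [0, 1, 0, 1, 0, 1, 0, 1, 0, 1, 0, 1], 4, [1, 0, 1, 0, 1, 0, 1, 0, 1, 0, 1, 0], [], 4, false⟩,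
  ⟨[], [0, 1, 0, 1, 0, 1, 0, 1, 0, 1, 0], 4, [1, 0, 1, 0, 1, 0, 1, 0, 1, 0, 1], [], 6, false⟩,
  ⟨[], [0, 1, 0, 1, 1, 0, 1, 0, 1, 1, 0, 1, 0, 1, 1], 4, [1, 0, 1, 0, 1, 0, 1, 0, 1, 0, 1, 0], [], 8, false⟩,
  ⟨[], [1, 0, 1, 0, 1, 1, 0, 1, 0, 1, 1], 4, [1, 0, 1, 0, 1, 0, 1, 0], [], 8, true⟩,
  ⟨[], [0, 1, 0, 1, 1, 0, 1, 0, 1, 1, 0, 1, 0, 1], 5, [1, 0, 1, 1, 0, 1, 0, 1, 1, 0, 1, 0, 1, 1], [], 9, false⟩,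
  ⟨[], [0, 1, 0, 1, 1, 0, 1, 0, 1, 1, 0, 1, 0], 5, [1, 0, 1, 1, 0, 1, 0, 1, 1, 0, 1, 0, 1, 1], [], 10, false⟩,
  ⟨[], [1, 0, 1, 0, 1, 0, 1, 0, 1, 0, 1], 6, [0, 1, 0, 1, 0, 1, 0, 1, 0, 1, 0], [], 4, false⟩,
  ⟨[], [1, 0, 1, 0, 1, 0, 1, 0, 1, 0], 6, [0, 1, 0, 1, 0, 1, 0, 1, 0, 1], [], 6, false⟩,
  ⟨[], [0, 1, 0, 1, 0, 1, 0, 1, 0, 1, 0, 1], 8, [1, 0, 1, 0, 1, 1, 0, 1, 0, 1, 1, 0, 1, 0, 1], [], 4, true⟩,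
  ⟨[], [0, 1, 0, 1, 0, 1, 0, 1], 9, [0, 1, 0, 1, 1, 0, 1, 0, 1, 1, 0, 1, 0, 1], [], 4, false⟩,
  ⟨[], [1, 0, 1, 0, 1, 0, 1, 0, 1], 0, [0], [], 32, false⟩,
  ⟨[], [1, 0, 1, 0, 1, 0, 1, 0], 0, [0], [], 33, true⟩,
  ⟨[], [0, 1, 1, 0, 1, 0, 1, 1, 0, 1, 0, 1, 1], 1, [1, 1], [], 28, false⟩,
  ⟨[], [0, 1, 0, 1, 0, 1, 1, 0, 1, 0, 1, 0, 1, 0, 1], 1, [1, 1], [], 29, true⟩,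
  ⟨[], [0, 1, 1, 0, 1, 0, 1, 1, 0, 1, 0, 1], 1, [1, 1], [], 30, false⟩,
  ⟨[], [0, 1, 1, 0, 1, 0, 1, 1, 0, 1, 0], 1, [1, 1], [], 31, false⟩,
  ⟨[], [1, 0, 1, 0, 1, 1, 0, 1, 0, 1], 2, [0, 1, 0, 1, 0, 1, 0, 1, 0], [], 20, true⟩,
  ⟨[], [1, 0, 1, 0, 1, 1, 0, 1, 0, 1], 2, [0, 1, 0, 1, 0, 1, 0, 1, 0, 1], [], 24, true⟩,
  ⟨[], [1, 0, 1, 0, 1, 1, 0, 1, 0], 2, [0, 1, 0, 1, 0, 1, 0, 1, 0, 1], [], 25, true⟩,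
  ⟨[], [1, 0, 1, 0, 1, 1, 0, 1, 0, 1, 1], 2, [0, 1, 0, 1, 0, 1, 0, 1, 0, 1, 0], [], 28, true⟩,
  ⟨[], [0, 1, 0, 1, 1, 0, 1, 0, 1], 3, [0, 1, 0, 1, 1, 0, 1, 0, 1, 1, 0, 1, 0, 1], [], 20, true⟩,
  ⟨[], [0, 1, 0, 1, 1, 0, 1, 0], 3, [0, 1, 0, 1, 1, 0, 1, 0, 1, 1, 0, 1], [], 21, true⟩,
  ⟨[], [0, 1, 0, 1, 1, 0, 1, 0, 1, 1], 3, [0, 1, 0, 1, 1, 0, 1, 0, 1, 1, 0, 1, 0, 1, 1, 0], [], 28, true⟩,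
  ⟨[], [0, 1, 1, 0, 1, 0, 1, 1, 0, 1, 0, 1], 4, [1, 0, 1, 0, 1, 0, 1, 0, 1, 0], [], 20, false⟩,
  ⟨[], [1, 0, 1, 0, 1, 1, 0, 1, 0, 1], 4, [1, 0, 1, 0, 1, 0, 1, 0], [], 20, true⟩,
  ⟨[], [0, 1, 1, 0, 1, 0, 1, 1, 0, 1, 0], 4, [1, 0, 1, 0, 1, 0, 1, 0, 1, 0], [], 22, false⟩,
  ⟨[], [1, 0, 1, 1, 0, 1, 0, 1, 0, 1, 0, 1, 0, 1], 7, [0, 1, 1, 0, 1, 0, 1, 1, 0, 1, 0, 1, 1, 0, 1, 0, 1], [], 17, false⟩,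
  ⟨[], [1, 0, 1, 1, 0, 1, 0, 1, 0, 1, 0, 1, 0, 1], 8, [1, 0, 1, 0, 1, 1, 0, 1, 0, 1, 1, 0, 1, 0, 1], [], 17, false⟩,
  ⟨[], [0, 1, 1, 0, 1, 0, 1, 1, 0, 1, 0, 1], 8, [1, 0, 1, 0, 1, 1, 0, 1, 0, 1, 1, 0, 1, 0, 1], [], 30, true⟩,
  ⟨[], [0, 1, 1, 0, 1, 0, 1, 1, 0, 1, 0], 8, [1, 0, 1, 0, 1, 1, 0, 1, 0, 1, 1, 0, 1, 0, 1], [], 31, true⟩,
  ⟨[], [1, 0, 1, 1, 0, 1, 1, 0], 8, [1, 0, 1, 0, 1, 1, 0, 1, 0, 1, 1, 0, 1, 0, 1], [], 34, true⟩,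
  ⟨[], [0, 1, 0, 1, 1, 0, 1, 0, 1, 0, 1, 0, 1], 9, [0, 1, 0, 1, 1, 0, 1, 0, 1, 1, 0, 1, 0, 1, 1], [], 18, false⟩,
  ⟨[], [0, 1, 0, 1, 1, 0, 1, 0, 1, 0, 1, 0, 1], 12, [1, 0, 1, 1, 0, 1, 0, 1, 1, 0, 1, 0, 1, 1], [], 18, false⟩,
  ⟨[], [1, 0, 1, 1, 0, 1, 0, 1, 0, 1, 0, 1, 0, 1], 15, [0, 1, 0, 1, 1, 0, 1, 0, 1, 1, 0, 1, 0, 1], [], 17, true⟩,
  ⟨[], [1, 0, 1, 0, 1, 1, 0, 1, 0, 1, 1], 17, [1, 1, 0, 1, 1, 0, 1, 0, 1, 0], [], 8, false⟩,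
  ⟨[], [0, 1, 1, 0, 1, 0, 1, 1, 0, 1, 0, 1, 1, 0, 1, 0, 1], 17, [1, 1, 0, 1, 1, 0, 1, 0, 1, 0, 1, 0, 1], [], 9, false⟩,
  ⟨[], [0, 1, 1, 0, 1, 0, 1, 1, 0, 1, 0, 1, 1, 0, 1, 0], 17, [1, 1, 0, 1, 1, 0, 1, 0, 1, 0, 1, 0, 1], [], 10, false⟩,
  ⟨[], [0, 1, 0, 1, 0, 1, 1, 0, 1, 0, 1, 0, 1, 0, 1], 17, [1, 1, 0, 1, 1, 0, 1, 0, 1, 0, 1, 0, 1], [], 18, true⟩,
  ⟨[], [1, 0, 1, 0, 1, 1, 0, 1, 0, 1], 17, [1, 1, 0, 1, 1, 0, 1, 0, 1, 0], [], 20, false⟩,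
  ⟨[], [1, 0, 1, 0, 1, 1, 0, 1, 0], 17, [1, 1, 0, 1, 1, 0, 1, 0, 1, 0], [], 22, true⟩,
  ⟨[], [0, 1, 1, 0, 1, 0, 1, 1, 0, 1, 0], 17, [1, 1, 0, 1, 1, 0, 1, 0, 1, 0, 1, 0, 1], [], 25, true⟩,
  ⟨[], [1, 0, 1, 0, 1, 1, 0, 1, 0], 17, [1, 1, 0, 1, 1, 0, 1, 0, 1, 0, 1], [], 25, true⟩,
  ⟨[], [0, 1, 1, 0, 1, 0, 1, 1, 0, 1, 0, 1, 1], 17, [1, 1, 0, 1, 1, 0, 1, 0, 1, 0, 1, 0, 1, 0], [], 28, true⟩,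
  ⟨[], [1, 0, 1, 0, 1, 1, 0, 1, 0, 1, 1], 17, [1, 1, 0, 1, 1, 0, 1, 0, 1, 0, 1, 0], [], 28, true⟩,
  ⟨[], [0, 1, 0, 1, 0, 1, 0, 1, 0, 1, 0], 18, [0, 1, 0, 1, 0, 1, 0, 1, 1, 0, 1, 0, 1, 0, 1], [], 6, false⟩,
  ⟨[], [1, 0, 1, 0, 1, 1, 0, 1, 0, 1, 1], 18, [0, 1, 0, 1, 0, 1, 0, 1, 1, 0, 1, 0], [], 8, true⟩,
  ⟨[], [0, 1, 1, 0, 1, 0, 1, 1, 0, 1, 0, 1, 1, 0, 1, 0, 1], 18, [0, 1, 0, 1, 0, 1, 0, 1, 1, 0, 1, 0, 1, 0, 1], [], 9, false⟩,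
  ⟨[], [0, 1, 1, 0, 1, 0, 1, 1, 0, 1, 0, 1, 1, 0, 1, 0], 18, [0, 1, 0, 1, 0, 1, 0, 1, 1, 0, 1, 0, 1, 0, 1], [], 10, false⟩,
  ⟨[], [0, 1, 0, 1, 0, 1, 0, 1, 0], 18, [0, 1, 0, 1, 0, 1, 0, 1, 1, 0, 1, 0, 1, 0], [], 11, true⟩,
  ⟨[], [1, 0, 1, 0, 1, 1, 0, 1, 0, 1, 1, 0, 1, 0], 18, [0, 1, 0, 1, 0, 1, 0, 1, 1, 0, 1, 0, 1, 0], [], 13, true⟩,
  ⟨[], [0, 1, 0, 1, 0, 1, 0, 1, 0, 1], 18, [0, 1, 0, 1, 0, 1, 0, 1, 1, 0, 1, 0, 1, 0, 1], [], 14, true⟩,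
  ⟨[], [0, 1, 0, 1, 0, 1, 1, 0, 1, 0, 1, 0, 1, 0, 1], 18, [0, 1, 0, 1, 0, 1, 0, 1, 1, 0, 1, 0, 1, 0, 1], [], 18, true⟩,
  ⟨[], [1, 0, 1, 0, 1, 1, 0, 1, 0, 1], 18, [0, 1, 0, 1, 0, 1, 0, 1, 1, 0, 1, 0], [], 20, true⟩,
  ⟨[], [1, 0, 1, 0, 1, 1, 0, 1, 0], 18, [0, 1, 0, 1, 0, 1, 0, 1, 1, 0, 1, 0], [], 22, true⟩,
  ⟨[], [0, 1, 1, 0, 1, 0, 1, 1, 0, 1, 0], 18, [0, 1, 0, 1, 0, 1, 0, 1, 1, 0, 1, 0, 1, 0, 1], [], 25, true⟩,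
  ⟨[], [0, 1, 1, 0, 1, 0, 1, 1, 0, 1, 0, 1, 1], 18, [0, 1, 0, 1, 0, 1, 0, 1, 1, 0, 1, 0, 1, 0, 1, 0], [], 28, true⟩,
  ⟨[], [1, 0, 1, 0, 1, 1, 0, 1, 0, 1, 1], 18, [0, 1, 0, 1, 0, 1, 0, 1, 1, 0, 1, 0, 1, 0], [], 28, false⟩,
  ⟨[], [0, 1, 0, 1, 0, 1, 1, 0, 1, 0, 1, 0, 1, 0, 1], 19, [0, 1, 1, 0, 1, 0, 1, 1, 0, 1, 0, 1, 1, 0, 1], [], 18, true⟩,
  ⟨[], [0, 1, 1, 0, 1, 0, 1, 1, 0, 1, 0, 1], 20, [1, 0, 1, 0, 1, 1, 0, 1, 0, 1, 1, 0], [], 20, true⟩,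
  ⟨[], [0, 1, 1, 0, 1, 0, 1, 1, 0, 1, 0], 20, [1, 0, 1, 0, 1, 1, 0, 1, 0, 1, 1, 0], [], 22, true⟩,
  ⟨[], [1, 0, 1, 0, 1, 1, 0, 1, 0, 1], 23, [1, 1, 0, 1, 0, 1, 0], [], 20, false⟩,
  ⟨[], [1, 0, 1, 0, 1, 1, 0, 1, 0], 23, [1, 1, 0, 1, 0, 1, 0], [], 22, true⟩,
  ⟨[], [0, 1, 0, 1, 0, 1, 0], 24, [0, 1, 0, 1, 1, 0, 1, 0, 1], [], 11, false⟩,
  ⟨[], [0, 1, 0, 1, 0, 1], 24, [0, 1, 0, 1, 1, 0, 1, 0], [], 23, false⟩,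
  ⟨[], [0, 1, 1, 0, 1, 0, 1, 0, 1, 0, 1], 24, [0, 1, 0, 1, 1, 0, 1, 0, 1], [], 29, false⟩,
  ⟨[], [1, 0, 1, 0, 1, 1, 0, 1, 0, 1], 26, [1, 0, 1, 0, 1, 0], [], 20, false⟩,
  ⟨[], [1, 0, 1, 0, 1, 1, 0, 1, 0], 26, [1, 0, 1, 0, 1, 0], [], 22, true⟩,
  ⟨[], [0, 1, 1, 0, 1, 0, 1, 1, 0, 1, 0, 1, 1, 0, 1, 0, 1, 1], 29, [1, 0, 1, 0, 1, 0, 1, 1, 0, 1, 0, 1, 0, 1], [], 3, true⟩,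
  ⟨[], [0, 1, 0, 1, 0, 1, 0, 1, 0, 1, 0], 29, [1, 0, 1, 0, 1, 0, 1, 1, 0, 1, 0, 1, 0, 1], [], 6, true⟩,
  ⟨[], [0, 1, 1, 0, 1, 0, 1, 1, 0, 1, 0, 1, 1, 0, 1, 0], 29, [1, 0, 1, 0, 1, 0, 1, 1, 0, 1, 0, 1, 0, 1], [], 10, false⟩
]
def NF : List Word := [
  [],
  [0],
  [1],
  [1, 0],
  [0, 1],
  [1, 1],
  [0, 1, 0],
  [1, 1, 0],
  [1, 0, 1],
  [0, 1, 1],
  [1, 0, 1, 0],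
  [0, 1, 1, 0],
  [0, 1, 0, 1],
  [1, 1, 0, 1],
  [1, 0, 1, 1],
  [0, 1, 0, 1, 0],
  [1, 1, 0, 1, 0],
  [1, 0, 1, 1, 0],
  [1, 0, 1, 0, 1],
  [0, 1, 1, 0, 1],
  [0, 1, 0, 1, 1],
  [1, 1, 0, 1, 1],
  [1, 0, 1, 0, 1, 0],
  [0, 1, 1, 0, 1, 0],
  [0, 1, 0, 1, 1, 0],
  [1, 1, 0, 1, 1, 0],
  [0, 1, 0, 1, 0, 1],
  [1, 1, 0, 1, 0, 1],
  [1, 0, 1, 1, 0, 1],
  [1, 0, 1, 0, 1, 1],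
  [0, 1, 1, 0, 1, 1],
  [0, 1, 0, 1, 0, 1, 0],
  [1, 1, 0, 1, 0, 1, 0],
  [1, 0, 1, 1, 0, 1, 0],
  [1, 0, 1, 0, 1, 1, 0],
  [0, 1, 1, 0, 1, 1, 0],
  [1, 0, 1, 0, 1, 0, 1],
  [0, 1, 1, 0, 1, 0, 1],
  [0, 1, 0, 1, 1, 0, 1],
  [1, 1, 0, 1, 1, 0, 1],
  [0, 1, 0, 1, 0, 1, 1],
  [1, 1, 0, 1, 0, 1, 1],
  [1, 0, 1, 1, 0, 1, 1],
  [1, 0, 1, 0, 1, 0, 1, 0],
  [0, 1, 1, 0, 1, 0, 1, 0],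
  [0, 1, 0, 1, 1, 0, 1, 0],
  [1, 1, 0, 1, 1, 0, 1, 0],
  [0, 1, 0, 1, 0, 1, 1, 0],
  [1, 1, 0, 1, 0, 1, 1, 0],
  [1, 0, 1, 1, 0, 1, 1, 0],
  [0, 1, 0, 1, 0, 1, 0, 1],
  [1, 1, 0, 1, 0, 1, 0, 1],
  [1, 0, 1, 1, 0, 1, 0, 1],
  [1, 0, 1, 0, 1, 1, 0, 1],
  [0, 1, 1, 0, 1, 1, 0, 1],
  [1, 0, 1, 0, 1, 0, 1, 1],
  [0, 1, 1, 0, 1, 0, 1, 1],
  [0, 1, 0, 1, 1, 0, 1, 1],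
  [1, 1, 0, 1, 1, 0, 1, 1],
  [1, 1, 0, 1, 0, 1, 0, 1, 0],
  [1, 0, 1, 1, 0, 1, 0, 1, 0],
  [1, 0, 1, 0, 1, 1, 0, 1, 0],
  [0, 1, 1, 0, 1, 1, 0, 1, 0],
  [1, 0, 1, 0, 1, 0, 1, 1, 0],
  [0, 1, 1, 0, 1, 0, 1, 1, 0],
  [0, 1, 0, 1, 1, 0, 1, 1, 0],
  [0, 1, 1, 0, 1, 0, 1, 0, 1],
  [0, 1, 0, 1, 1, 0, 1, 0, 1],
  [1, 1, 0, 1, 1, 0, 1, 0, 1],
  [0, 1, 0, 1, 0, 1, 1, 0, 1],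
  [1, 1, 0, 1, 0, 1, 1, 0, 1],
  [1, 0, 1, 1, 0, 1, 1, 0, 1],
  [0, 1, 0, 1, 0, 1, 0, 1, 1],
  [1, 1, 0, 1, 0, 1, 0, 1, 1],
  [1, 0, 1, 1, 0, 1, 0, 1, 1],
  [1, 0, 1, 0, 1, 1, 0, 1, 1],
  [0, 1, 1, 0, 1, 0, 1, 0, 1, 0],
  [0, 1, 0, 1, 1, 0, 1, 0, 1, 0],
  [1, 1, 0, 1, 1, 0, 1, 0, 1, 0],
  [0, 1, 0, 1, 0, 1, 1, 0, 1, 0],
  [1, 0, 1, 1, 0, 1, 1, 0, 1, 0],
  [0, 1, 0, 1, 0, 1, 0, 1, 1, 0],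
  [1, 1, 0, 1, 0, 1, 0, 1, 1, 0],
  [1, 0, 1, 0, 1, 1, 0, 1, 1, 0],
  [1, 0, 1, 1, 0, 1, 0, 1, 0, 1],
  [1, 0, 1, 0, 1, 1, 0, 1, 0, 1],
  [0, 1, 1, 0, 1, 1, 0, 1, 0, 1],
  [1, 0, 1, 0, 1, 0, 1, 1, 0, 1],
  [0, 1, 1, 0, 1, 0, 1, 1, 0, 1],
  [0, 1, 0, 1, 1, 0, 1, 1, 0, 1],
  [0, 1, 1, 0, 1, 0, 1, 0, 1, 1],
  [0, 1, 0, 1, 1, 0, 1, 0, 1, 1],
  [1, 1, 0, 1, 1, 0, 1, 0, 1, 1],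
  [0, 1, 0, 1, 0, 1, 1, 0, 1, 1],
  [1, 1, 0, 1, 0, 1, 1, 0, 1, 1],
  [1, 0, 1, 1, 0, 1, 0, 1, 0, 1, 0],
  [1, 0, 1, 0, 1, 1, 0, 1, 0, 1, 0],
  [0, 1, 1, 0, 1, 1, 0, 1, 0, 1, 0],
  [1, 0, 1, 0, 1, 0, 1, 1, 0, 1, 0],
  [0, 1, 0, 1, 1, 0, 1, 1, 0, 1, 0],
  [0, 1, 1, 0, 1, 0, 1, 0, 1, 1, 0],
  [0, 1, 0, 1, 0, 1, 1, 0, 1, 1, 0],
  [1, 1, 0, 1, 0, 1, 1, 0, 1, 1, 0],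
  [0, 1, 0, 1, 1, 0, 1, 0, 1, 0, 1],
  [1, 1, 0, 1, 1, 0, 1, 0, 1, 0, 1],
  [0, 1, 0, 1, 0, 1, 1, 0, 1, 0, 1],
  [1, 0, 1, 1, 0, 1, 1, 0, 1, 0, 1],
  [0, 1, 0, 1, 0, 1, 0, 1, 1, 0, 1],
  [1, 1, 0, 1, 0, 1, 0, 1, 1, 0, 1],
  [1, 0, 1, 0, 1, 1, 0, 1, 1, 0, 1],
  [1, 0, 1, 1, 0, 1, 0, 1, 0, 1, 1],
  [1, 0, 1, 0, 1, 1, 0, 1, 0, 1, 1],
  [0, 1, 1, 0, 1, 1, 0, 1, 0, 1, 1],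
  [1, 0, 1, 0, 1, 0, 1, 1, 0, 1, 1],
  [0, 1, 1, 0, 1, 0, 1, 1, 0, 1, 1],
  [0, 1, 0, 1, 1, 0, 1, 0, 1, 0, 1, 0],
  [1, 1, 0, 1, 1, 0, 1, 0, 1, 0, 1, 0],
  [0, 1, 0, 1, 0, 1, 1, 0, 1, 0, 1, 0],
  [1, 0, 1, 1, 0, 1, 1, 0, 1, 0, 1, 0],
  [0, 1, 0, 1, 0, 1, 0, 1, 1, 0, 1, 0],
  [1, 1, 0, 1, 0, 1, 0, 1, 1, 0, 1, 0],
  [1, 0, 1, 0, 1, 1, 0, 1, 1, 0, 1, 0],
  [1, 0, 1, 1, 0, 1, 0, 1, 0, 1, 1, 0],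
  [1, 0, 1, 0, 1, 0, 1, 1, 0, 1, 1, 0],
  [0, 1, 1, 0, 1, 0, 1, 1, 0, 1, 1, 0],
  [1, 0, 1, 0, 1, 1, 0, 1, 0, 1, 0, 1],
  [0, 1, 1, 0, 1, 1, 0, 1, 0, 1, 0, 1],
  [1, 0, 1, 0, 1, 0, 1, 1, 0, 1, 0, 1],
  [0, 1, 0, 1, 1, 0, 1, 1, 0, 1, 0, 1],
  [0, 1, 1, 0, 1, 0, 1, 0, 1, 1, 0, 1],
  [0, 1, 0, 1, 0, 1, 1, 0, 1, 1, 0, 1],
  [1, 1, 0, 1, 0, 1, 1, 0, 1, 1, 0, 1],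
  [0, 1, 0, 1, 1, 0, 1, 0, 1, 0, 1, 1],
  [1, 1, 0, 1, 1, 0, 1, 0, 1, 0, 1, 1],
  [0, 1, 0, 1, 0, 1, 1, 0, 1, 0, 1, 1],
  [1, 0, 1, 1, 0, 1, 1, 0, 1, 0, 1, 1],
  [0, 1, 0, 1, 0, 1, 0, 1, 1, 0, 1, 1],
  [1, 1, 0, 1, 0, 1, 0, 1, 1, 0, 1, 1],
  [1, 0, 1, 0, 1, 1, 0, 1, 0, 1, 0, 1, 0],
  [0, 1, 1, 0, 1, 1, 0, 1, 0, 1, 0, 1, 0],
  [1, 0, 1, 0, 1, 0, 1, 1, 0, 1, 0, 1, 0],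
  [0, 1, 0, 1, 1, 0, 1, 1, 0, 1, 0, 1, 0],
  [0, 1, 1, 0, 1, 0, 1, 0, 1, 1, 0, 1, 0],
  [0, 1, 0, 1, 0, 1, 1, 0, 1, 1, 0, 1, 0],
  [1, 1, 0, 1, 0, 1, 1, 0, 1, 1, 0, 1, 0],
  [0, 1, 0, 1, 1, 0, 1, 0, 1, 0, 1, 1, 0],
  [1, 1, 0, 1, 1, 0, 1, 0, 1, 0, 1, 1, 0],
  [0, 1, 0, 1, 0, 1, 0, 1, 1, 0, 1, 1, 0],
  [1, 1, 0, 1, 0, 1, 0, 1, 1, 0, 1, 1, 0],
  [0, 1, 0, 1, 0, 1, 1, 0, 1, 0, 1, 0, 1],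
  [0, 1, 0, 1, 0, 1, 0, 1, 1, 0, 1, 0, 1],
  [1, 1, 0, 1, 0, 1, 0, 1, 1, 0, 1, 0, 1],
  [1, 0, 1, 0, 1, 1, 0, 1, 1, 0, 1, 0, 1],
  [1, 0, 1, 1, 0, 1, 0, 1, 0, 1, 1, 0, 1],
  [0, 1, 1, 0, 1, 0, 1, 1, 0, 1, 1, 0, 1],
  [1, 0, 1, 0, 1, 1, 0, 1, 0, 1, 0, 1, 1],
  [0, 1, 1, 0, 1, 1, 0, 1, 0, 1, 0, 1, 1],
  [1, 0, 1, 0, 1, 0, 1, 1, 0, 1, 0, 1, 1],
  [0, 1, 0, 1, 1, 0, 1, 1, 0, 1, 0, 1, 1],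
  [0, 1, 1, 0, 1, 0, 1, 0, 1, 1, 0, 1, 1],
  [1, 0, 1, 1, 0, 1, 0, 1, 0, 1, 1, 0, 1, 0],
  [0, 1, 1, 0, 1, 0, 1, 1, 0, 1, 1, 0, 1, 0],
  [0, 1, 1, 0, 1, 1, 0, 1, 0, 1, 0, 1, 1, 0],
  [0, 1, 1, 0, 1, 0, 1, 0, 1, 1, 0, 1, 1, 0],
  [0, 1, 0, 1, 0, 1, 1, 0, 1, 1, 0, 1, 0, 1],
  [0, 1, 0, 1, 1, 0, 1, 0, 1, 0, 1, 1, 0, 1],
  [0, 1, 0, 1, 0, 1, 0, 1, 1, 0, 1, 0, 1, 1],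
  [0, 1, 0, 1, 1, 0, 1, 0, 1, 0, 1, 1, 0, 1, 0]
]

theorem check : checkAll 64 2 R0 certs NF = true := by decide +kernel

theorem NF_length : NF.length = 168 := by decide +kernel

abbrev rels : Set (FreeGroup (Fin 2)) :=
  {FreeGroup.of (0 : Fin 2) ^ 2, FreeGroup.of (1 : Fin 2) ^ 3,
    (FreeGroup.of (0 : Fin 2) * FreeGroup.of 1) ^ 7,
    (FreeGroup.of (0 : Fin 2) * FreeGroup.of 1 * FreeGroup.of 0 * FreeGroup.of 1 * FreeGroup.of 1) ^ 4}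

abbrev P := PresentedGroup rels

def gen : ℕ → P := fun i =>
  if i = 0 then PresentedGroup.of 0 else if i = 1 then PresentedGroup.of 1 else 1

theorem rel0 : (PresentedGroup.of 0 : P) ^ 2 = 1 := by
  have h : (FreeGroup.of (0 : Fin 2) ^ 2) ∈ rels := by simp [rels]
  have := PresentedGroup.one_of_mem h
  simpa [PresentedGroup.of] using this

theorem rel1 : (PresentedGroup.of 1 : P) ^ 3 = 1 := by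
  have h : (FreeGroup.of (1 : Fin 2) ^ 3) ∈ rels := by simp [rels]
  have := PresentedGroup.one_of_mem h
  simpa [PresentedGroup.of] using this

theorem rel2 : ((PresentedGroup.of 0 : P) * PresentedGroup.of 1) ^ 7 = 1 := by
  have h : ((FreeGroup.of (0 : Fin 2) * FreeGroup.of 1) ^ 7) ∈ rels := by simp [rels]
  have := PresentedGroup.one_of_mem h
  simpa [PresentedGroup.of] using this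

theorem rel3 : ((PresentedGroup.of 0 : P) * PresentedGroup.of 1 * PresentedGroup.of 0 *
    PresentedGroup.of 1 * PresentedGroup.of 1) ^ 4 = 1 := by
  have h : ((FreeGroup.of (0 : Fin 2) * FreeGroup.of 1 * FreeGroup.of 0 * FreeGroup.of 1 *
      FreeGroup.of 1) ^ 4) ∈ rels := by simp [rels]
  have := PresentedGroup.one_of_mem h
  simpa [PresentedGroup.of] using this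

theorem valid_R0 : Valid gen R0 := by
  intro p hp
  simp only [R0, List.mem_cons, List.not_mem_nil, or_false] at hp
  rcases hp with rfl | rfl | rfl | rfl
  · simp only [ev_cons, ev_nil, gen, if_true, mul_one]
    rw [← rel0]; simp [pow_succ]
  · simp only [ev_cons, ev_nil, gen]
    simp only [show ((1 : ℕ) = 0) = False by simp, if_false, if_true, mul_one]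
    rw [← rel1]; simp [pow_succ, mul_assoc]
  · simp only [ev_cons, ev_nil, gen]
    simp only [show ((1 : ℕ) = 0) = False by simp, if_false, if_true, mul_one]
    rw [← rel2]; simp [pow_succ, mul_assoc]
  · simp only [ev_cons, ev_nil, gen]
    simp only [show ((1 : ℕ) = 0) = False by simp, if_false, if_true, mul_one]
    rw [← rel3]; simp [pow_succ, mul_assoc]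

theorem gen_closure : Subgroup.closure (gen '' {i | i < 2}) = ⊤ := by
  rw [eq_top_iff, ← PresentedGroup.closure_range_of rels]
  apply Subgroup.closure_mono
  rintro _ ⟨i, rfl⟩
  fin_cases i
  · exact ⟨0, by simp, by simp [gen]⟩
  · exact ⟨1, by simp, by simp [gen]⟩

theorem P_card : Finite P ∧ Nat.card P ≤ 168 := by
  have := card_le_of_checkAll gen 64 2 R0 certs NF valid_R0 check gen_closure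
  rwa [NF_length] at this

section Lift
variable {H : Type*} [Group H] (a b : H)

theorem lift_rels (ha : a ^ 2 = 1) (hb : b ^ 3 = 1) (hab : (a * b) ^ 7 = 1)
    (hc : (a * b * a * b * b) ^ 4 = 1) :
    ∀ r ∈ rels, FreeGroup.lift ![a, b] r = 1 := by
  intro r hr
  simp only [rels, Set.mem_insert_iff, Set.mem_singleton_iff] at hr
  rcases hr with rfl | rfl | rfl | rfl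
  · simpa using ha
  · simpa using hb
  · simpa using hab
  · simpa using hc

/-- the homomorphism from the presented group determined by `a, b` -/
def liftHom (ha : a ^ 2 = 1) (hb : b ^ 3 = 1) (hab : (a * b) ^ 7 = 1)
    (hc : (a * b * a * b * b) ^ 4 = 1) : P →* H :=
  PresentedGroup.toGroup (lift_rels a b ha hb hab hc)

variable (ha : a ^ 2 = 1) (hb : b ^ 3 = 1) (hab : (a * b) ^ 7 = 1)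
    (hc : (a * b * a * b * b) ^ 4 = 1)

theorem liftHom_of0 : liftHom a b ha hb hab hc (PresentedGroup.of 0) = a := by
  simp [liftHom]
theorem liftHom_of1 : liftHom a b ha hb hab hc (PresentedGroup.of 1) = b := by
  simp [liftHom]

theorem liftHom_bijective [Finite H] (hH : 168 ≤ Nat.card H)
    (hgen : Subgroup.closure ({a, b} : Set H) = ⊤) :
    Function.Bijective (liftHom a b ha hb hab hc) := by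
  obtain ⟨hfin, hcard⟩ := P_card
  have hsurj : Function.Surjective (liftHom a b ha hb hab hc) := by
    rw [← MonoidHom.range_eq_top, eq_top_iff, ← hgen, Subgroup.closure_le]
    intro x hx
    simp only [Set.mem_insert_iff, Set.mem_singleton_iff] at hx
    rcases hx with h | h
    · rw [h]; exact ⟨_, liftHom_of0 a b ha hb hab hc⟩
    · rw [h]; exact ⟨_, liftHom_of1 a b ha hb hab hc⟩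
  exact Function.Surjective.bijective_of_nat_card_le hsurj (le_trans hcard hH)

end Lift

end Cfsg.Agent.Lib.Helper62.PSL27Pres
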