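import Mathlib
import Cfsg.Agent.Lib.Helper62.PSL27Pres
import Cfsg.Agent.Lib.Helper07.SL2Sylow
import Cfsg.Agent.Lib.Helper07.PermEmbed
import Cfsg.Agent.Lib.Helper07.PSL27

/-!
# Helper62: the presented group `⟨a, b | a², b³, (ab)⁷, (abab²)⁴⟩` is `PSL(2,7)`

* `equivPSL : P ≃* PSL(2, ZMod 7)`, `P_simple`, `equivPSL' : P ≃* PSL(2, K)` for any field `K` with
  seven elements.
-/

set_option autoImplicit false

namespace Cfsg.Agent.Lib.Helper62.PSL27Pres

open Matrix Cfsg.Agent.Lib.Helper07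

local instance fact_prime_seven : Fact (Nat.Prime 7) := ⟨by norm_num⟩

def Sm : Matrix (Fin 2) (Fin 2) (ZMod 7) := !![0, -1; 1, 0]
def STm : Matrix (Fin 2) (Fin 2) (ZMod 7) := !![0, -1; 1, 1]
def S7 : SpecialLinearGroup (Fin 2) (ZMod 7) := ⟨Sm, by decide⟩
def ST7 : SpecialLinearGroup (Fin 2) (ZMod 7) := ⟨STm, by decide⟩

/-- `±1` lies in the centre -/
theorem mem_center_of_pm (X : SpecialLinearGroup (Fin 2) (ZMod 7))
    (h : X.val = 1 ∨ X.val = -1) : X ∈ Subgroup.center (SpecialLinearGroup (Fin 2) (ZMod 7)) := by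
  rw [Matrix.SpecialLinearGroup.mem_center_iff]
  rcases h with h | h
  · exact ⟨1, by simp, by rw [h]; simp⟩
  · refine ⟨-1, by simp, ?_⟩
    rw [h]
    ext i j
    fin_cases i <;> fin_cases j <;> simp

abbrev L := Matrix.ProjectiveSpecialLinearGroup (Fin 2) (ZMod 7)

def a7 : L := QuotientGroup.mk S7
def b7 : L := QuotientGroup.mk ST7

theorem a7_pow : a7 ^ 2 = 1 := by
  unfold a7
  rw [← QuotientGroup.mk_pow, QuotientGroup.eq_one_iff]
  apply mem_center_of_pm
  right
  decide

theorem b7_pow : b7 ^ 3 = 1 := by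
  unfold b7
  rw [← QuotientGroup.mk_pow, QuotientGroup.eq_one_iff]
  apply mem_center_of_pm
  right
  decide

theorem ab7_pow : (a7 * b7) ^ 7 = 1 := by
  unfold a7 b7
  rw [← QuotientGroup.mk_mul, ← QuotientGroup.mk_pow, QuotientGroup.eq_one_iff]
  apply mem_center_of_pm
  decide

theorem c7_pow : (a7 * b7 * a7 * b7 * b7) ^ 4 = 1 := by
  unfold a7 b7
  rw [← QuotientGroup.mk_mul, ← QuotientGroup.mk_mul, ← QuotientGroup.mk_mul, ← QuotientGroup.mk_mul,
    ← QuotientGroup.mk_pow, QuotientGroup.eq_one_iff]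
  apply mem_center_of_pm
  decide

theorem card_L : Nat.card L = 168 := by
  have h1 := card_psl_two (F := ZMod 7)
  rw [ZMod.card] at h1
  have e1 : Nat.gcd 2 (7 - 1) = 2 := by decide
  have e2 : (7 : ℕ) - 1 = 6 := rfl
  have e3 : ((7 : ℕ) ^ 2 - 1) * (7 ^ 2 - 7) = 2016 := by norm_num
  rw [e1, e2, e3] at h1
  change 2 * (6 * Nat.card L) = 2016 at h1
  omega

theorem gen_SL27 : Subgroup.closure ({S7, ST7} : Set (SpecialLinearGroup (Fin 2) (ZMod 7))) = ⊤ := by
  set R := Subgroup.closure ({S7, ST7} : Set (SpecialLinearGroup (Fin 2) (ZMod 7))) with hR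
  have hS : S7 ∈ R := Subgroup.subset_closure (by simp)
  have hST : ST7 ∈ R := Subgroup.subset_closure (by simp)
  have hT : (upSL (1 : ZMod 7)) ∈ R := by
    have : upSL (1 : ZMod 7) = S7⁻¹ * ST7 := by
      rw [eq_inv_mul_iff_mul_eq]
      apply Subtype.ext
      decide
    rw [this]
    exact R.mul_mem (R.inv_mem hS) hST
  have hT_pow : (upSL (1 : ZMod 7)) ^ 7 = 1 := by apply Subtype.ext; decide
  have hT_ne : (upSL (1 : ZMod 7)) ≠ 1 := by
    intro h; have := congrArg Subtype.val h; revert this; decide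
  have hU : (USL : Subgroup (SpecialLinearGroup (Fin 2) (ZMod 7))) ≤ R := by
    have h1 : Subgroup.zpowers (upSL (1 : ZMod 7)) ≤ USL := by
      rw [Subgroup.zpowers_le]; exact upSL_mem 1
    have h2 : Nat.card (Subgroup.zpowers (upSL (1 : ZMod 7))) = 7 := by
      rw [Nat.card_zpowers, orderOf_eq_prime hT_pow hT_ne]
    have h3 : Subgroup.zpowers (upSL (1 : ZMod 7)) = USL := by
      apply Subgroup.eq_of_le_of_card_ge h1
      rw [h2, card_USL, ZMod.card]
    rw [← h3, Subgroup.zpowers_le]; exact hT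
  have hW : S7 ∉ (borelSL : Subgroup (SpecialLinearGroup (Fin 2) (ZMod 7))) := by
    rw [mem_borelSL]; decide
  have htop := USL_sup_conj_eq_top hW
  rw [eq_top_iff, ← htop]
  apply sup_le hU
  intro x hx
  rw [Subgroup.mem_pointwise_smul_iff_inv_smul_mem] at hx
  rw [MulAut.smul_def, MulAut.conj_inv_apply] at hx
  have hx' : S7⁻¹ * x * S7 ∈ (USL : Subgroup (SpecialLinearGroup (Fin 2) (ZMod 7))) := hx
  have : x = S7 * (S7⁻¹ * x * S7) * S7⁻¹ := by group
  rw [this]
  exact R.mul_mem (R.mul_mem hS (hU hx')) (R.inv_mem hS)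

theorem gen_L : Subgroup.closure ({a7, b7} : Set L) = ⊤ := by
  have h := gen_SL27
  have hmap := congrArg (Subgroup.map (QuotientGroup.mk' (Subgroup.center (SpecialLinearGroup (Fin 2) (ZMod 7))))) h
  rw [MonoidHom.map_closure, Subgroup.map_top_of_surjective _ (QuotientGroup.mk'_surjective _)] at hmap
  rw [← hmap]
  congr 1
  ext x
  simp [a7, b7, Set.image_pair]

/-- the presented group is `PSL(2,7)` -/
noncomputable def equivPSL : P ≃* L :=
  MulEquiv.ofBijective _ (liftHom_bijective a7 b7 a7_pow b7_pow ab7_pow c7_pow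
    (by rw [card_L]) gen_L)

theorem equivPSL_of0 : equivPSL (PresentedGroup.of 0) = a7 := by
  show liftHom a7 b7 a7_pow b7_pow ab7_pow c7_pow (PresentedGroup.of 0) = a7
  exact liftHom_of0 a7 b7 a7_pow b7_pow ab7_pow c7_pow

theorem P_simple : IsSimpleGroup P := by
  have h1 : IsSimpleGroup L :=
    Matrix.ProjectiveSpecialLinearGroup.rank_two_simple (by rw [Nat.card_zmod]; norm_num)
  have : Nontrivial P := equivPSL.toEquiv.nontrivial
  exact IsSimpleGroup.isSimpleGroup_of_surjective equivPSL.symm.toMonoidHom equivPSL.symm.surjective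

/-- the presented group is `PSL(2,K)` for every field with seven elements -/
theorem nonempty_equiv {K : Type*} [Field K] [Fintype K] (hK : Fintype.card K = 7) :
    Nonempty (P ≃* Matrix.ProjectiveSpecialLinearGroup (Fin 2) K) := by
  have e : ZMod 7 ≃+* K := ZMod.ringEquivOfPrime K (by norm_num) hK
  exact ⟨equivPSL.trans (pslCongr e)⟩

end Cfsg.Agent.Lib.Helper62.PSL27Pres
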