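import Mathlib
import Cfsg.Agent.Lib.Helper62.PSL2RecogData

/-!
# Kernel-checked table for the recognition of `PSL(2,19)` (helper62)
-/

namespace Cfsg.Agent.Lib.Helper62.PSL2Recog

set_option maxRecDepth 100000 in
theorem table19 : Table 19 4 2 9 := by decide +kernel

set_option maxRecDepth 100000 in
theorem covers19 : Covers 19 4 2 9 := by decide +kernel

set_option maxRecDepth 100000 in
theorem arith19 : ∀ d ∈ List.range ((19 + 1) * 9 + 1), d ∣ (19 + 1) * 9 → d % 19 = 1 →
    d = 1 ∨ d = 19 + 1 := by decide +kernel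

end Cfsg.Agent.Lib.Helper62.PSL2Recog
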