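import Mathlib

/-!
# Data for `²G₂(3)′ ≅ PSL₂(8)` (helper62)

Generated by `scratch/s1075/emit.py`: the 36 root elements `x_r(c)` of `G₂(3)` and the partial
products of the 54 generating words of `²G₂(3)` (rows of digits, and their transposes), four
matrices of `SL₂(8)` with the words in the 54 generators of their images, permutation tables on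
the 63 nonzero vectors of `F₈²` and on an orbit of 84 vectors of `F₃¹⁴`, the invariant relation,
transversal words and the certificates for `²G₂(3) = N ∪ tN ∪ t²N`.
-/

set_option autoImplicit false

namespace Cfsg.Agent.Lib.Helper62.R3L28Data

/-- four matrices of `SL₂(8)` (rows; the code `a + 2 b + 4 c` stands for `a + b x + c x²`) -/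
def LA : List (List (List ℕ)) :=
  [[[1, 1], [0, 1]], [[1, 2], [0, 1]], [[1, 4], [0, 1]], [[3, 4], [6, 5]]]

/-- the root elements `x_r(c)` over `F₃`, at position `3 r + c`: rows of digits -/
def LX : List (List (List ℕ)) :=
  [
   [[1, 0, 0, 0, 0, 0, 0, 0, 0, 0, 0, 0, 0, 0], [0, 1, 0, 0, 0, 0, 0, 0, 0, 0, 0, 0, 0, 0], [0, 0, 1, 0, 0, 0, 0, 0, 0, 0, 0, 0, 0, 0], [0, 0, 0, 1, 0, 0, 0, 0, 0, 0, 0, 0, 0, 0], [0, 0, 0, 0, 1, 0, 0, 0, 0, 0, 0, 0, 0, 0], [0, 0, 0, 0, 0, 1, 0, 0, 0, 0, 0, 0, 0, 0], [0, 0, 0, 0, 0, 0, 1, 0, 0, 0, 0, 0, 0, 0], [0, 0, 0, 0, 0, 0, 0, 1, 0, 0, 0, 0, 0, 0], [0, 0, 0, 0, 0, 0, 0, 0, 1, 0, 0, 0, 0, 0], [0, 0, 0, 0, 0, 0,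 0, 0, 0, 1, 0, 0, 0, 0], [0, 0, 0, 0, 0, 0, 0, 0, 0, 0, 1, 0, 0, 0], [0, 0, 0, 0, 0, 0, 0, 0, 0, 0, 0, 1, 0, 0], [0, 0, 0, 0, 0, 0, 0, 0, 0, 0, 0, 0, 1, 0], [0, 0, 0, 0, 0, 0, 0, 0, 0, 0, 0, 0, 0, 1]],
   [[1, 0, 0, 0, 0, 0, 0, 0, 0, 0, 0, 0, 0, 2], [0, 1, 0, 0, 0, 0, 0, 0, 0, 0, 0, 0, 0, 1], [0, 1, 1, 0, 0, 0, 0, 0, 0, 0, 0, 0, 0, 2], [0, 0, 0, 1, 0, 0, 0, 0, 1, 0, 0, 0, 0, 0], [0, 0, 0, 0, 1, 0, 0, 0, 0, 0, 1, 0, 0, 0], [0, 0, 0, 0, 0, 1, 0, 0, 0, 0, 0, 2, 0, 0], [0, 0, 0, 0, 0, 0, 1, 0, 0, 0, 0, 0, 0, 0], [0, 0, 0, 0, 0, 0, 0, 1, 0, 0, 0, 0, 2, 0], [0, 0, 0, 0, 0, 0, 0, 0, 1, 0, 0, 0, 0, 0], [0, 0, 0, 0, 0, 0, 0, 0, 0, 1, 0, 0, 0, 0], [0,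 0, 0, 0, 0, 0, 0, 0, 0, 0, 1, 0, 0, 0], [0, 0, 0, 0, 0, 0, 0, 0, 0, 0, 0, 1, 0, 0], [0, 0, 0, 0, 0, 0, 0, 0, 0, 0, 0, 0, 1, 0], [0, 0, 0, 0, 0, 0, 0, 0, 0, 0, 0, 0, 0, 1]],
   [[1, 0, 0, 0, 0, 0, 0, 0, 0, 0, 0, 0, 0, 1], [0, 1, 0, 0, 0, 0, 0, 0, 0, 0, 0, 0, 0, 2], [0, 2, 1, 0, 0, 0, 0, 0, 0, 0, 0, 0, 0, 2], [0, 0, 0, 1, 0, 0, 0, 0, 2, 0, 0, 0, 0, 0], [0, 0, 0, 0, 1, 0, 0, 0, 0, 0, 2, 0, 0, 0], [0, 0, 0, 0, 0, 1, 0, 0, 0, 0, 0, 1, 0, 0], [0, 0, 0, 0, 0, 0, 1, 0, 0, 0, 0, 0, 0, 0], [0, 0, 0, 0, 0, 0, 0, 1, 0, 0, 0, 0, 1, 0], [0, 0, 0, 0, 0, 0, 0, 0, 1, 0, 0, 0, 0, 0], [0, 0, 0, 0, 0, 0, 0, 0, 0, 1, 0, 0, 0, 0], [0, 0, 0, 0, 0, 0, 0, 0, 0, 0,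 1, 0, 0, 0], [0, 0, 0, 0, 0, 0, 0, 0, 0, 0, 0, 1, 0, 0], [0, 0, 0, 0, 0, 0, 0, 0, 0, 0, 0, 0, 1, 0], [0, 0, 0, 0, 0, 0, 0, 0, 0, 0, 0, 0, 0, 1]],
   [[1, 0, 0, 0, 0, 0, 0, 0, 0, 0, 0, 0, 0, 0], [0, 1, 0, 0, 0, 0, 0, 0, 0, 0, 0, 0, 0, 0], [0, 0, 1, 0, 0, 0, 0, 0, 0, 0, 0, 0, 0, 0], [0, 0, 0, 1, 0, 0, 0, 0, 0, 0, 0, 0, 0, 0], [0, 0, 0, 0, 1, 0, 0, 0, 0, 0, 0, 0, 0, 0], [0, 0, 0, 0, 0, 1, 0, 0, 0, 0, 0, 0, 0, 0], [0, 0, 0, 0, 0, 0, 1, 0, 0, 0, 0, 0, 0, 0], [0, 0, 0, 0, 0, 0, 0, 1, 0, 0, 0, 0, 0, 0], [0, 0, 0, 0, 0, 0, 0, 0, 1, 0, 0, 0, 0, 0], [0, 0, 0, 0, 0, 0, 0, 0, 0, 1, 0, 0, 0, 0], [0, 0, 0, 0, 0, 0, 0, 0, 0, 0, 1, 0, 0, 0], [0, 0, 0, 0,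 0, 0, 0, 0, 0, 0, 0, 1, 0, 0], [0, 0, 0, 0, 0, 0, 0, 0, 0, 0, 0, 0, 1, 0], [0, 0, 0, 0, 0, 0, 0, 0, 0, 0, 0, 0, 0, 1]],
   [[1, 0, 0, 0, 0, 0, 0, 0, 0, 0, 0, 0, 2, 0], [0, 1, 0, 0, 0, 0, 0, 0, 0, 0, 0, 0, 2, 0], [0, 0, 1, 0, 0, 0, 0, 1, 0, 0, 0, 0, 0, 0], [0, 2, 0, 1, 0, 0, 0, 0, 0, 0, 0, 0, 2, 0], [0, 0, 0, 0, 1, 0, 0, 0, 0, 1, 0, 0, 0, 0], [0, 0, 0, 0, 0, 1, 0, 0, 0, 0, 0, 0, 0, 0], [0, 0, 0, 0, 0, 0, 1, 0, 0, 0, 0, 2, 0, 0], [0, 0, 0, 0, 0, 0, 0, 1, 0, 0, 0, 0, 0, 0], [0, 0, 0, 0, 0, 0, 0, 0, 1, 0, 0, 0, 0, 2], [0, 0, 0, 0, 0, 0, 0, 0, 0, 1, 0, 0, 0, 0], [0, 0, 0, 0, 0, 0, 0, 0, 0, 0, 1, 0, 0, 0], [0, 0, 0, 0, 0, 0, 0, 0, 0, 0, 0, 1, 0,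 0], [0, 0, 0, 0, 0, 0, 0, 0, 0, 0, 0, 0, 1, 0], [0, 0, 0, 0, 0, 0, 0, 0, 0, 0, 0, 0, 0, 1]],
   [[1, 0, 0, 0, 0, 0, 0, 0, 0, 0, 0, 0, 1, 0], [0, 1, 0, 0, 0, 0, 0, 0, 0, 0, 0, 0, 1, 0], [0, 0, 1, 0, 0, 0, 0, 2, 0, 0, 0, 0, 0, 0], [0, 1, 0, 1, 0, 0, 0, 0, 0, 0, 0, 0, 2, 0], [0, 0, 0, 0, 1, 0, 0, 0, 0, 2, 0, 0, 0, 0], [0, 0, 0, 0, 0, 1, 0, 0, 0, 0, 0, 0, 0, 0], [0, 0, 0, 0, 0, 0, 1, 0, 0, 0, 0, 1, 0, 0], [0, 0, 0, 0, 0, 0, 0, 1, 0, 0, 0, 0, 0, 0], [0, 0, 0, 0, 0, 0, 0, 0, 1, 0, 0, 0, 0, 1], [0, 0, 0, 0, 0, 0, 0, 0, 0, 1, 0, 0, 0, 0], [0, 0, 0, 0, 0, 0, 0, 0, 0, 0, 1, 0, 0, 0], [0, 0, 0, 0, 0, 0, 0, 0, 0, 0, 0, 1, 0, 0], [0, 0, 0, 0, 0, 0, 0,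 0, 0, 0, 0, 0, 1, 0], [0, 0, 0, 0, 0, 0, 0, 0, 0, 0, 0, 0, 0, 1]],
   [[1, 0, 0, 0, 0, 0, 0, 0, 0, 0, 0, 0, 0, 0], [0, 1, 0, 0, 0, 0, 0, 0, 0, 0, 0, 0, 0, 0], [0, 0, 1, 0, 0, 0, 0, 0, 0, 0, 0, 0, 0, 0], [0, 0, 0, 1, 0, 0, 0, 0, 0, 0, 0, 0, 0, 0], [0, 0, 0, 0, 1, 0, 0, 0, 0, 0, 0, 0, 0, 0], [0, 0, 0, 0, 0, 1, 0, 0, 0, 0, 0, 0, 0, 0], [0, 0, 0, 0, 0, 0, 1, 0, 0, 0, 0, 0, 0, 0], [0, 0, 0, 0, 0, 0, 0, 1, 0, 0, 0, 0, 0, 0], [0, 0, 0, 0, 0, 0, 0, 0, 1, 0, 0, 0, 0, 0], [0, 0, 0, 0, 0, 0, 0, 0, 0, 1, 0, 0, 0, 0], [0, 0, 0, 0, 0, 0, 0, 0, 0, 0, 1, 0, 0, 0], [0, 0, 0, 0, 0, 0, 0, 0, 0, 0, 0, 1, 0, 0], [0, 0, 0, 0, 0, 0, 0, 0, 0, 0, 0, 0, 1, 0], [0,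 0, 0, 0, 0, 0, 0, 0, 0, 0, 0, 0, 0, 1]],
   [[1, 0, 0, 0, 0, 0, 0, 0, 0, 0, 0, 1, 0, 0], [0, 1, 0, 0, 0, 0, 0, 0, 0, 0, 0, 0, 0, 0], [0, 0, 1, 0, 0, 0, 0, 0, 0, 0, 0, 0, 1, 0], [0, 0, 0, 1, 0, 0, 0, 0, 0, 0, 0, 0, 0, 2], [1, 0, 0, 0, 1, 0, 0, 0, 0, 0, 0, 2, 0, 0], [0, 0, 0, 0, 0, 1, 0, 0, 0, 1, 0, 0, 1, 0], [0, 0, 0, 0, 0, 0, 1, 0, 0, 0, 2, 0, 0, 2], [0, 0, 0, 0, 0, 0, 0, 1, 0, 0, 0, 0, 0, 0], [0, 0, 0, 0, 0, 0, 0, 0, 1, 0, 0, 0, 0, 0], [0, 0, 0, 0, 0, 0, 0, 0, 0, 1, 0, 0, 2, 0], [0, 0, 0, 0, 0, 0, 0, 0, 0, 0, 1, 0, 0, 2], [0, 0, 0, 0, 0, 0, 0, 0, 0, 0, 0, 1, 0, 0], [0, 0, 0, 0, 0, 0, 0, 0, 0, 0, 0, 0, 1, 0], [0, 0, 0, 0, 0, 0, 0, 0, 0, 0,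 0, 0, 0, 1]],
   [[1, 0, 0, 0, 0, 0, 0, 0, 0, 0, 0, 2, 0, 0], [0, 1, 0, 0, 0, 0, 0, 0, 0, 0, 0, 0, 0, 0], [0, 0, 1, 0, 0, 0, 0, 0, 0, 0, 0, 0, 2, 0], [0, 0, 0, 1, 0, 0, 0, 0, 0, 0, 0, 0, 0, 1], [2, 0, 0, 0, 1, 0, 0, 0, 0, 0, 0, 2, 0, 0], [0, 0, 0, 0, 0, 1, 0, 0, 0, 2, 0, 0, 1, 0], [0, 0, 0, 0, 0, 0, 1, 0, 0, 0, 1, 0, 0, 2], [0, 0, 0, 0, 0, 0, 0, 1, 0, 0, 0, 0, 0, 0], [0, 0, 0, 0, 0, 0, 0, 0, 1, 0, 0, 0, 0, 0], [0, 0, 0, 0, 0, 0, 0, 0, 0, 1, 0, 0, 1, 0], [0, 0, 0, 0, 0, 0, 0, 0, 0, 0, 1, 0, 0, 1], [0, 0, 0, 0, 0, 0, 0, 0, 0, 0, 0, 1, 0, 0], [0, 0, 0, 0, 0, 0, 0, 0, 0, 0, 0, 0, 1, 0], [0, 0, 0, 0, 0, 0, 0, 0, 0, 0, 0, 0, 0, 1]],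
   [[1, 0, 0, 0, 0, 0, 0, 0, 0, 0, 0, 0, 0, 0], [0, 1, 0, 0, 0, 0, 0, 0, 0, 0, 0, 0, 0, 0], [0, 0, 1, 0, 0, 0, 0, 0, 0, 0, 0, 0, 0, 0], [0, 0, 0, 1, 0, 0, 0, 0, 0, 0, 0, 0, 0, 0], [0, 0, 0, 0, 1, 0, 0, 0, 0, 0, 0, 0, 0, 0], [0, 0, 0, 0, 0, 1, 0, 0, 0, 0, 0, 0, 0, 0], [0, 0, 0, 0, 0, 0, 1, 0, 0, 0, 0, 0, 0, 0], [0, 0, 0, 0, 0, 0, 0, 1, 0, 0, 0, 0, 0, 0], [0, 0, 0, 0, 0, 0, 0, 0, 1, 0, 0, 0, 0, 0], [0, 0, 0, 0, 0, 0, 0, 0, 0, 1, 0, 0, 0, 0], [0, 0, 0, 0, 0, 0, 0, 0, 0, 0, 1, 0, 0, 0], [0, 0, 0, 0, 0, 0, 0, 0, 0, 0, 0, 1, 0, 0], [0, 0, 0, 0, 0, 0, 0, 0, 0, 0, 0, 0, 1, 0], [0, 0, 0, 0, 0, 0, 0, 0, 0, 0, 0, 0, 0, 1]],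
   [[1, 0, 0, 0, 0, 0, 0, 0, 0, 0, 2, 0, 0, 0], [0, 1, 0, 0, 0, 0, 0, 0, 0, 0, 0, 0, 0, 0], [0, 0, 1, 0, 0, 0, 0, 0, 1, 0, 0, 0, 0, 0], [0, 0, 0, 1, 0, 0, 0, 0, 0, 0, 0, 0, 0, 0], [0, 0, 0, 0, 1, 0, 1, 0, 2, 0, 0, 0, 0, 0], [2, 1, 0, 0, 0, 1, 0, 0, 0, 0, 2, 0, 0, 0], [0, 0, 0, 0, 0, 0, 1, 0, 1, 0, 0, 0, 0, 0], [0, 0, 0, 0, 0, 0, 0, 1, 0, 0, 0, 0, 0, 2], [0, 0, 0, 0, 0, 0, 0, 0, 1, 0, 0, 0, 0, 0], [0, 0, 0, 0, 0, 0, 0, 0, 0, 1, 0, 2, 0, 1], [0, 0, 0, 0, 0, 0, 0, 0, 0, 0, 1, 0, 0, 0], [0, 0, 0, 0, 0, 0, 0, 0, 0, 0, 0, 1, 0, 1], [0, 0, 0, 0, 0, 0, 0, 0, 0, 0, 0, 0, 1, 0], [0, 0, 0, 0, 0, 0, 0, 0, 0, 0, 0, 0, 0, 1]],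
   [[1, 0, 0, 0, 0, 0, 0, 0, 0, 0, 1, 0, 0, 0], [0, 1, 0, 0, 0, 0, 0, 0, 0, 0, 0, 0, 0, 0], [0, 0, 1, 0, 0, 0, 0, 0, 2, 0, 0, 0, 0, 0], [0, 0, 0, 1, 0, 0, 0, 0, 0, 0, 0, 0, 0, 0], [0, 0, 0, 0, 1, 0, 2, 0, 2, 0, 0, 0, 0, 0], [1, 2, 0, 0, 0, 1, 0, 0, 0, 0, 2, 0, 0, 0], [0, 0, 0, 0, 0, 0, 1, 0, 2, 0, 0, 0, 0, 0], [0, 0, 0, 0, 0, 0, 0, 1, 0, 0, 0, 0, 0, 1], [0, 0, 0, 0, 0, 0, 0, 0, 1, 0, 0, 0, 0, 0], [0, 0, 0, 0, 0, 0, 0, 0, 0, 1, 0, 1, 0, 1], [0, 0, 0, 0, 0, 0, 0, 0, 0, 0, 1, 0, 0, 0], [0, 0, 0, 0, 0, 0, 0, 0, 0, 0, 0, 1, 0, 2], [0, 0, 0, 0, 0, 0, 0, 0, 0, 0, 0, 0, 1, 0], [0, 0, 0, 0, 0, 0, 0, 0, 0, 0, 0, 0, 0, 1]],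
   [[1, 0, 0, 0, 0, 0, 0, 0, 0, 0, 0, 0, 0, 0], [0, 1, 0, 0, 0, 0, 0, 0, 0, 0, 0, 0, 0, 0], [0, 0, 1, 0, 0, 0, 0, 0, 0, 0, 0, 0, 0, 0], [0, 0, 0, 1, 0, 0, 0, 0, 0, 0, 0, 0, 0, 0], [0, 0, 0, 0, 1, 0, 0, 0, 0, 0, 0, 0, 0, 0], [0, 0, 0, 0, 0, 1, 0, 0, 0, 0, 0, 0, 0, 0], [0, 0, 0, 0, 0, 0, 1, 0, 0, 0, 0, 0, 0, 0], [0, 0, 0, 0, 0, 0, 0, 1, 0, 0, 0, 0, 0, 0], [0, 0, 0, 0, 0, 0, 0, 0, 1, 0, 0, 0, 0, 0], [0, 0, 0, 0, 0, 0, 0, 0, 0, 1, 0, 0, 0, 0], [0, 0, 0, 0, 0, 0, 0, 0, 0, 0, 1, 0, 0, 0], [0, 0, 0, 0, 0, 0, 0, 0, 0, 0, 0, 1, 0, 0], [0, 0, 0, 0, 0, 0, 0, 0, 0, 0, 0, 0, 1, 0], [0, 0, 0, 0, 0, 0, 0, 0, 0, 0, 0, 0, 0, 1]],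
   [[1, 0, 0, 0, 0, 0, 0, 0, 0, 2, 0, 0, 0, 0], [0, 1, 0, 0, 0, 0, 0, 0, 0, 0, 0, 0, 0, 0], [0, 0, 1, 0, 0, 0, 0, 0, 0, 0, 0, 0, 0, 0], [0, 0, 0, 1, 0, 0, 0, 2, 0, 0, 0, 0, 0, 0], [0, 0, 0, 0, 1, 2, 0, 1, 0, 0, 0, 0, 0, 0], [0, 0, 0, 0, 0, 1, 0, 1, 0, 0, 0, 0, 0, 0], [2, 2, 0, 0, 0, 0, 1, 0, 0, 2, 0, 0, 0, 0], [0, 0, 0, 0, 0, 0, 0, 1, 0, 0, 0, 0, 0, 0], [0, 0, 0, 0, 0, 0, 0, 0, 1, 0, 0, 0, 1, 0], [0, 0, 0, 0, 0, 0, 0, 0, 0, 1, 0, 0, 0, 0], [0, 0, 0, 0, 0, 0, 0, 0, 0, 0, 1, 1, 2, 0], [0, 0, 0, 0, 0, 0, 0, 0, 0, 0, 0, 1, 1, 0], [0, 0, 0, 0, 0, 0, 0, 0, 0, 0, 0, 0, 1, 0], [0, 0, 0, 0, 0, 0, 0, 0, 0, 0, 0, 0, 0, 1]],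
   [[1, 0, 0, 0, 0, 0, 0, 0, 0, 1, 0, 0, 0, 0], [0, 1, 0, 0, 0, 0, 0, 0, 0, 0, 0, 0, 0, 0], [0, 0, 1, 0, 0, 0, 0, 0, 0, 0, 0, 0, 0, 0], [0, 0, 0, 1, 0, 0, 0, 1, 0, 0, 0, 0, 0, 0], [0, 0, 0, 0, 1, 1, 0, 1, 0, 0, 0, 0, 0, 0], [0, 0, 0, 0, 0, 1, 0, 2, 0, 0, 0, 0, 0, 0], [1, 1, 0, 0, 0, 0, 1, 0, 0, 2, 0, 0, 0, 0], [0, 0, 0, 0, 0, 0, 0, 1, 0, 0, 0, 0, 0, 0], [0, 0, 0, 0, 0, 0, 0, 0, 1, 0, 0, 0, 2, 0], [0, 0, 0, 0, 0, 0, 0, 0, 0, 1, 0, 0, 0, 0], [0, 0, 0, 0, 0, 0, 0, 0, 0, 0, 1, 2, 2, 0], [0, 0, 0, 0, 0, 0, 0, 0, 0, 0, 0, 1, 2, 0], [0, 0, 0, 0, 0, 0, 0, 0, 0, 0, 0, 0, 1, 0], [0, 0, 0, 0, 0, 0, 0, 0, 0, 0, 0, 0, 0, 1]],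
   [[1, 0, 0, 0, 0, 0, 0, 0, 0, 0, 0, 0, 0, 0], [0, 1, 0, 0, 0, 0, 0, 0, 0, 0, 0, 0, 0, 0], [0, 0, 1, 0, 0, 0, 0, 0, 0, 0, 0, 0, 0, 0], [0, 0, 0, 1, 0, 0, 0, 0, 0, 0, 0, 0, 0, 0], [0, 0, 0, 0, 1, 0, 0, 0, 0, 0, 0, 0, 0, 0], [0, 0, 0, 0, 0, 1, 0, 0, 0, 0, 0, 0, 0, 0], [0, 0, 0, 0, 0, 0, 1, 0, 0, 0, 0, 0, 0, 0], [0, 0, 0, 0, 0, 0, 0, 1, 0, 0, 0, 0, 0, 0], [0, 0, 0, 0, 0, 0, 0, 0, 1, 0, 0, 0, 0, 0], [0, 0, 0, 0, 0, 0, 0, 0, 0, 1, 0, 0, 0, 0], [0, 0, 0, 0, 0, 0, 0, 0, 0, 0, 1, 0, 0, 0], [0, 0, 0, 0, 0, 0, 0, 0, 0, 0, 0, 1, 0, 0], [0, 0, 0, 0, 0, 0, 0, 0, 0, 0, 0, 0, 1, 0], [0, 0, 0, 0, 0, 0, 0, 0, 0, 0, 0, 0, 0, 1]],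
   [[1, 0, 0, 0, 0, 0, 0, 0, 0, 0, 0, 0, 0, 0], [0, 1, 0, 0, 0, 0, 0, 0, 2, 0, 0, 0, 0, 0], [0, 0, 1, 2, 0, 0, 0, 0, 0, 0, 0, 0, 0, 0], [0, 0, 0, 1, 0, 0, 0, 0, 0, 0, 0, 0, 0, 0], [0, 0, 0, 0, 1, 0, 0, 0, 0, 0, 0, 0, 0, 0], [0, 0, 0, 0, 0, 1, 2, 0, 0, 0, 0, 0, 0, 0], [0, 0, 0, 0, 0, 0, 1, 0, 0, 0, 0, 0, 0, 0], [0, 2, 0, 0, 0, 0, 0, 1, 2, 0, 0, 0, 0, 0], [0, 0, 0, 0, 0, 0, 0, 0, 1, 0, 0, 0, 0, 0], [0, 0, 0, 0, 0, 0, 0, 0, 0, 1, 1, 0, 0, 0], [0, 0, 0, 0, 0, 0, 0, 0, 0, 0, 1, 0, 0, 0], [0, 0, 0, 0, 0, 0, 0, 0, 0, 0, 0, 1, 0, 0], [0, 0, 0, 0, 0, 0, 0, 0, 0, 0, 0, 0, 1, 1], [0, 0, 0, 0, 0, 0, 0, 0, 0, 0, 0, 0, 0, 1]],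
   [[1, 0, 0, 0, 0, 0, 0, 0, 0, 0, 0, 0, 0, 0], [0, 1, 0, 0, 0, 0, 0, 0, 1, 0, 0, 0, 0, 0], [0, 0, 1, 1, 0, 0, 0, 0, 0, 0, 0, 0, 0, 0], [0, 0, 0, 1, 0, 0, 0, 0, 0, 0, 0, 0, 0, 0], [0, 0, 0, 0, 1, 0, 0, 0, 0, 0, 0, 0, 0, 0], [0, 0, 0, 0, 0, 1, 1, 0, 0, 0, 0, 0, 0, 0], [0, 0, 0, 0, 0, 0, 1, 0, 0, 0, 0, 0, 0, 0], [0, 1, 0, 0, 0, 0, 0, 1, 2, 0, 0, 0, 0, 0], [0, 0, 0, 0, 0, 0, 0, 0, 1, 0, 0, 0, 0, 0], [0, 0, 0, 0, 0, 0, 0, 0, 0, 1, 2, 0, 0, 0], [0, 0, 0, 0, 0, 0, 0, 0, 0, 0, 1, 0, 0, 0], [0, 0, 0, 0, 0, 0, 0, 0, 0, 0, 0, 1, 0, 0], [0, 0, 0, 0, 0, 0, 0, 0, 0, 0, 0, 0, 1, 2], [0, 0, 0, 0, 0, 0, 0, 0, 0, 0, 0, 0, 0, 1]],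
   [[1, 0, 0, 0, 0, 0, 0, 0, 0, 0, 0, 0, 0, 0], [0, 1, 0, 0, 0, 0, 0, 0, 0, 0, 0, 0, 0, 0], [0, 0, 1, 0, 0, 0, 0, 0, 0, 0, 0, 0, 0, 0], [0, 0, 0, 1, 0, 0, 0, 0, 0, 0, 0, 0, 0, 0], [0, 0, 0, 0, 1, 0, 0, 0, 0, 0, 0, 0, 0, 0], [0, 0, 0, 0, 0, 1, 0, 0, 0, 0, 0, 0, 0, 0], [0, 0, 0, 0, 0, 0, 1, 0, 0, 0, 0, 0, 0, 0], [0, 0, 0, 0, 0, 0, 0, 1, 0, 0, 0, 0, 0, 0], [0, 0, 0, 0, 0, 0, 0, 0, 1, 0, 0, 0, 0, 0], [0, 0, 0, 0, 0, 0, 0, 0, 0, 1, 0, 0, 0, 0], [0, 0, 0, 0, 0, 0, 0, 0, 0, 0, 1, 0, 0, 0], [0, 0, 0, 0, 0, 0, 0, 0, 0, 0, 0, 1, 0, 0], [0, 0, 0, 0, 0, 0, 0, 0, 0, 0, 0, 0, 1, 0], [0, 0, 0, 0, 0, 0, 0, 0, 0, 0, 0, 0, 0, 1]],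
   [[1, 0, 0, 0, 0, 0, 0, 0, 0, 0, 0, 0, 0, 0], [0, 1, 0, 0, 0, 0, 0, 1, 0, 0, 0, 0, 0, 0], [0, 0, 1, 0, 0, 0, 0, 0, 0, 0, 0, 0, 0, 0], [0, 0, 2, 1, 0, 0, 0, 0, 0, 0, 0, 0, 0, 0], [0, 0, 0, 0, 1, 0, 0, 0, 0, 0, 0, 0, 0, 0], [0, 0, 0, 0, 0, 1, 0, 0, 0, 0, 0, 0, 0, 0], [0, 0, 0, 0, 0, 2, 1, 0, 0, 0, 0, 0, 0, 0], [0, 0, 0, 0, 0, 0, 0, 1, 0, 0, 0, 0, 0, 0], [0, 1, 0, 0, 0, 0, 0, 2, 1, 0, 0, 0, 0, 0], [0, 0, 0, 0, 0, 0, 0, 0, 0, 1, 0, 0, 0, 0], [0, 0, 0, 0, 0, 0, 0, 0, 0, 1, 1, 0, 0, 0], [0, 0, 0, 0, 0, 0, 0, 0, 0, 0, 0, 1, 0, 0], [0, 0, 0, 0, 0, 0, 0, 0, 0, 0, 0, 0, 1, 0], [0, 0, 0, 0, 0, 0, 0, 0, 0, 0, 0, 0, 1, 1]],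
   [[1, 0, 0, 0, 0, 0, 0, 0, 0, 0, 0, 0, 0, 0], [0, 1, 0, 0, 0, 0, 0, 2, 0, 0, 0, 0, 0, 0], [0, 0, 1, 0, 0, 0, 0, 0, 0, 0, 0, 0, 0, 0], [0, 0, 1, 1, 0, 0, 0, 0, 0, 0, 0, 0, 0, 0], [0, 0, 0, 0, 1, 0, 0, 0, 0, 0, 0, 0, 0, 0], [0, 0, 0, 0, 0, 1, 0, 0, 0, 0, 0, 0, 0, 0], [0, 0, 0, 0, 0, 1, 1, 0, 0, 0, 0, 0, 0, 0], [0, 0, 0, 0, 0, 0, 0, 1, 0, 0, 0, 0, 0, 0], [0, 2, 0, 0, 0, 0, 0, 2, 1, 0, 0, 0, 0, 0], [0, 0, 0, 0, 0, 0, 0, 0, 0, 1, 0, 0, 0, 0], [0, 0, 0, 0, 0, 0, 0, 0, 0, 2, 1, 0, 0, 0], [0, 0, 0, 0, 0, 0, 0, 0, 0, 0, 0, 1, 0, 0], [0, 0, 0, 0, 0, 0, 0, 0, 0, 0, 0, 0, 1, 0], [0, 0, 0, 0, 0, 0, 0, 0, 0, 0, 0, 0, 2, 1]],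
   [[1, 0, 0, 0, 0, 0, 0, 0, 0, 0, 0, 0, 0, 0], [0, 1, 0, 0, 0, 0, 0, 0, 0, 0, 0, 0, 0, 0], [0, 0, 1, 0, 0, 0, 0, 0, 0, 0, 0, 0, 0, 0], [0, 0, 0, 1, 0, 0, 0, 0, 0, 0, 0, 0, 0, 0], [0, 0, 0, 0, 1, 0, 0, 0, 0, 0, 0, 0, 0, 0], [0, 0, 0, 0, 0, 1, 0, 0, 0, 0, 0, 0, 0, 0], [0, 0, 0, 0, 0, 0, 1, 0, 0, 0, 0, 0, 0, 0], [0, 0, 0, 0, 0, 0, 0, 1, 0, 0, 0, 0, 0, 0], [0, 0, 0, 0, 0, 0, 0, 0, 1, 0, 0, 0, 0, 0], [0, 0, 0, 0, 0, 0, 0, 0, 0, 1, 0, 0, 0, 0], [0, 0, 0, 0, 0, 0, 0, 0, 0, 0, 1, 0, 0, 0], [0, 0, 0, 0, 0, 0, 0, 0, 0, 0, 0, 1, 0, 0], [0, 0, 0, 0, 0, 0, 0, 0, 0, 0, 0, 0, 1, 0], [0, 0, 0, 0, 0, 0, 0, 0, 0, 0, 0, 0, 0, 1]],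
   [[1, 0, 0, 0, 0, 0, 1, 0, 0, 0, 0, 0, 0, 0], [0, 1, 0, 0, 0, 0, 0, 0, 0, 0, 0, 0, 0, 0], [0, 0, 1, 0, 0, 0, 0, 0, 0, 0, 0, 0, 0, 0], [0, 0, 0, 1, 0, 0, 0, 0, 0, 0, 0, 0, 0, 0], [0, 0, 0, 2, 1, 0, 0, 0, 0, 0, 0, 0, 0, 0], [0, 0, 0, 2, 2, 1, 0, 0, 0, 0, 0, 0, 0, 0], [0, 0, 0, 0, 0, 0, 1, 0, 0, 0, 0, 0, 0, 0], [0, 0, 0, 2, 0, 0, 0, 1, 0, 0, 0, 0, 0, 0], [0, 0, 0, 0, 0, 0, 0, 0, 1, 0, 0, 0, 0, 0], [1, 1, 0, 0, 0, 0, 2, 0, 0, 1, 0, 0, 0, 0], [0, 0, 0, 0, 0, 0, 0, 0, 2, 0, 1, 0, 0, 0], [0, 0, 0, 0, 0, 0, 0, 0, 1, 0, 1, 1, 0, 0], [0, 0, 0, 0, 0, 0, 0, 0, 1, 0, 0, 0, 1, 0], [0, 0, 0, 0, 0, 0, 0, 0, 0, 0, 0, 0, 0, 1]],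
   [[1, 0, 0, 0, 0, 0, 2, 0, 0, 0, 0, 0, 0, 0], [0, 1, 0, 0, 0, 0, 0, 0, 0, 0, 0, 0, 0, 0], [0, 0, 1, 0, 0, 0, 0, 0, 0, 0, 0, 0, 0, 0], [0, 0, 0, 1, 0, 0, 0, 0, 0, 0, 0, 0, 0, 0], [0, 0, 0, 1, 1, 0, 0, 0, 0, 0, 0, 0, 0, 0], [0, 0, 0, 2, 1, 1, 0, 0, 0, 0, 0, 0, 0, 0], [0, 0, 0, 0, 0, 0, 1, 0, 0, 0, 0, 0, 0, 0], [0, 0, 0, 1, 0, 0, 0, 1, 0, 0, 0, 0, 0, 0], [0, 0, 0, 0, 0, 0, 0, 0, 1, 0, 0, 0, 0, 0], [2, 2, 0, 0, 0, 0, 2, 0, 0, 1, 0, 0, 0, 0], [0, 0, 0, 0, 0, 0, 0, 0, 1, 0, 1, 0, 0, 0], [0, 0, 0, 0, 0, 0, 0, 0, 1, 0, 2, 1, 0, 0], [0, 0, 0, 0, 0, 0, 0, 0, 2, 0, 0, 0, 1, 0], [0, 0, 0, 0, 0, 0, 0, 0, 0, 0, 0, 0, 0, 1]],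
   [[1, 0, 0, 0, 0, 0, 0, 0, 0, 0, 0, 0, 0, 0], [0, 1, 0, 0, 0, 0, 0, 0, 0, 0, 0, 0, 0, 0], [0, 0, 1, 0, 0, 0, 0, 0, 0, 0, 0, 0, 0, 0], [0, 0, 0, 1, 0, 0, 0, 0, 0, 0, 0, 0, 0, 0], [0, 0, 0, 0, 1, 0, 0, 0, 0, 0, 0, 0, 0, 0], [0, 0, 0, 0, 0, 1, 0, 0, 0, 0, 0, 0, 0, 0], [0, 0, 0, 0, 0, 0, 1, 0, 0, 0, 0, 0, 0, 0], [0, 0, 0, 0, 0, 0, 0, 1, 0, 0, 0, 0, 0, 0], [0, 0, 0, 0, 0, 0, 0, 0, 1, 0, 0, 0, 0, 0], [0, 0, 0, 0, 0, 0, 0, 0, 0, 1, 0, 0, 0, 0], [0, 0, 0, 0, 0, 0, 0, 0, 0, 0, 1, 0, 0, 0], [0, 0, 0, 0, 0, 0, 0, 0, 0, 0, 0, 1, 0, 0], [0, 0, 0, 0, 0, 0, 0, 0, 0, 0, 0, 0, 1, 0], [0, 0, 0, 0, 0, 0, 0, 0, 0, 0, 0, 0, 0, 1]],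
   [[1, 0, 0, 0, 0, 1, 0, 0, 0, 0, 0, 0, 0, 0], [0, 1, 0, 0, 0, 0, 0, 0, 0, 0, 0, 0, 0, 0], [0, 0, 1, 0, 0, 0, 0, 0, 0, 0, 0, 0, 0, 0], [0, 0, 0, 1, 0, 0, 0, 0, 0, 0, 0, 0, 0, 0], [0, 0, 2, 0, 1, 0, 0, 0, 0, 0, 0, 0, 0, 0], [0, 0, 0, 0, 0, 1, 0, 0, 0, 0, 0, 0, 0, 0], [0, 0, 1, 0, 1, 0, 1, 0, 0, 0, 0, 0, 0, 0], [0, 0, 0, 0, 0, 0, 0, 1, 0, 0, 0, 0, 0, 0], [0, 0, 1, 0, 0, 0, 0, 0, 1, 0, 0, 0, 0, 0], [0, 0, 0, 0, 0, 0, 0, 2, 0, 1, 0, 0, 0, 0], [1, 2, 0, 0, 0, 2, 0, 0, 0, 0, 1, 0, 0, 0], [0, 0, 0, 0, 0, 0, 0, 2, 0, 2, 0, 1, 0, 0], [0, 0, 0, 0, 0, 0, 0, 0, 0, 0, 0, 0, 1, 0], [0, 0, 0, 0, 0, 0, 0, 2, 0, 0, 0, 0, 0, 1]],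
   [[1, 0, 0, 0, 0, 2, 0, 0, 0, 0, 0, 0, 0, 0], [0, 1, 0, 0, 0, 0, 0, 0, 0, 0, 0, 0, 0, 0], [0, 0, 1, 0, 0, 0, 0, 0, 0, 0, 0, 0, 0, 0], [0, 0, 0, 1, 0, 0, 0, 0, 0, 0, 0, 0, 0, 0], [0, 0, 1, 0, 1, 0, 0, 0, 0, 0, 0, 0, 0, 0], [0, 0, 0, 0, 0, 1, 0, 0, 0, 0, 0, 0, 0, 0], [0, 0, 1, 0, 2, 0, 1, 0, 0, 0, 0, 0, 0, 0], [0, 0, 0, 0, 0, 0, 0, 1, 0, 0, 0, 0, 0, 0], [0, 0, 2, 0, 0, 0, 0, 0, 1, 0, 0, 0, 0, 0], [0, 0, 0, 0, 0, 0, 0, 1, 0, 1, 0, 0, 0, 0], [2, 1, 0, 0, 0, 2, 0, 0, 0, 0, 1, 0, 0, 0], [0, 0, 0, 0, 0, 0, 0, 2, 0, 1, 0, 1, 0, 0], [0, 0, 0, 0, 0, 0, 0, 0, 0, 0, 0, 0, 1, 0], [0, 0, 0, 0, 0, 0, 0, 1, 0, 0, 0, 0, 0, 1]],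
   [[1, 0, 0, 0, 0, 0, 0, 0, 0, 0, 0, 0, 0, 0], [0, 1, 0, 0, 0, 0, 0, 0, 0, 0, 0, 0, 0, 0], [0, 0, 1, 0, 0, 0, 0, 0, 0, 0, 0, 0, 0, 0], [0, 0, 0, 1, 0, 0, 0, 0, 0, 0, 0, 0, 0, 0], [0, 0, 0, 0, 1, 0, 0, 0, 0, 0, 0, 0, 0, 0], [0, 0, 0, 0, 0, 1, 0, 0, 0, 0, 0, 0, 0, 0], [0, 0, 0, 0, 0, 0, 1, 0, 0, 0, 0, 0, 0, 0], [0, 0, 0, 0, 0, 0, 0, 1, 0, 0, 0, 0, 0, 0], [0, 0, 0, 0, 0, 0, 0, 0, 1, 0, 0, 0, 0, 0], [0, 0, 0, 0, 0, 0, 0, 0, 0, 1, 0, 0, 0, 0], [0, 0, 0, 0, 0, 0, 0, 0, 0, 0, 1, 0, 0, 0], [0, 0, 0, 0, 0, 0, 0, 0, 0, 0, 0, 1, 0, 0], [0, 0, 0, 0, 0, 0, 0, 0, 0, 0, 0, 0, 1, 0], [0, 0, 0, 0, 0, 0, 0, 0, 0, 0, 0, 0, 0, 1]],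
   [[1, 0, 0, 0, 2, 0, 0, 0, 0, 0, 0, 0, 0, 0], [0, 1, 0, 0, 0, 0, 0, 0, 0, 0, 0, 0, 0, 0], [0, 0, 1, 0, 0, 0, 0, 0, 0, 0, 0, 0, 0, 0], [0, 0, 0, 1, 0, 0, 0, 0, 0, 0, 0, 0, 0, 0], [0, 0, 0, 0, 1, 0, 0, 0, 0, 0, 0, 0, 0, 0], [0, 0, 1, 0, 0, 1, 0, 0, 0, 0, 0, 0, 0, 0], [0, 0, 0, 1, 0, 0, 1, 0, 0, 0, 0, 0, 0, 0], [0, 0, 0, 0, 0, 0, 0, 1, 0, 0, 0, 0, 0, 0], [0, 0, 0, 0, 0, 0, 0, 0, 1, 0, 0, 0, 0, 0], [0, 0, 2, 0, 0, 1, 0, 0, 0, 1, 0, 0, 0, 0], [0, 0, 0, 1, 0, 0, 2, 0, 0, 0, 1, 0, 0, 0], [2, 0, 0, 0, 2, 0, 0, 0, 0, 0, 0, 1, 0, 0], [0, 0, 1, 0, 0, 0, 0, 0, 0, 0, 0, 0, 1, 0], [0, 0, 0, 2, 0, 0, 0, 0, 0, 0, 0, 0, 0, 1]],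
   [[1, 0, 0, 0, 1, 0, 0, 0, 0, 0, 0, 0, 0, 0], [0, 1, 0, 0, 0, 0, 0, 0, 0, 0, 0, 0, 0, 0], [0, 0, 1, 0, 0, 0, 0, 0, 0, 0, 0, 0, 0, 0], [0, 0, 0, 1, 0, 0, 0, 0, 0, 0, 0, 0, 0, 0], [0, 0, 0, 0, 1, 0, 0, 0, 0, 0, 0, 0, 0, 0], [0, 0, 2, 0, 0, 1, 0, 0, 0, 0, 0, 0, 0, 0], [0, 0, 0, 2, 0, 0, 1, 0, 0, 0, 0, 0, 0, 0], [0, 0, 0, 0, 0, 0, 0, 1, 0, 0, 0, 0, 0, 0], [0, 0, 0, 0, 0, 0, 0, 0, 1, 0, 0, 0, 0, 0], [0, 0, 2, 0, 0, 2, 0, 0, 0, 1, 0, 0, 0, 0], [0, 0, 0, 1, 0, 0, 1, 0, 0, 0, 1, 0, 0, 0], [1, 0, 0, 0, 2, 0, 0, 0, 0, 0, 0, 1, 0, 0], [0, 0, 2, 0, 0, 0, 0, 0, 0, 0, 0, 0, 1, 0], [0, 0, 0, 1, 0, 0, 0, 0, 0, 0, 0, 0, 0, 1]],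
   [[1, 0, 0, 0, 0, 0, 0, 0, 0, 0, 0, 0, 0, 0], [0, 1, 0, 0, 0, 0, 0, 0, 0, 0, 0, 0, 0, 0], [0, 0, 1, 0, 0, 0, 0, 0, 0, 0, 0, 0, 0, 0], [0, 0, 0, 1, 0, 0, 0, 0, 0, 0, 0, 0, 0, 0], [0, 0, 0, 0, 1, 0, 0, 0, 0, 0, 0, 0, 0, 0], [0, 0, 0, 0, 0, 1, 0, 0, 0, 0, 0, 0, 0, 0], [0, 0, 0, 0, 0, 0, 1, 0, 0, 0, 0, 0, 0, 0], [0, 0, 0, 0, 0, 0, 0, 1, 0, 0, 0, 0, 0, 0], [0, 0, 0, 0, 0, 0, 0, 0, 1, 0, 0, 0, 0, 0], [0, 0, 0, 0, 0, 0, 0, 0, 0, 1, 0, 0, 0, 0], [0, 0, 0, 0, 0, 0, 0, 0, 0, 0, 1, 0, 0, 0], [0, 0, 0, 0, 0, 0, 0, 0, 0, 0, 0, 1, 0, 0], [0, 0, 0, 0, 0, 0, 0, 0, 0, 0, 0, 0, 1, 0], [0, 0, 0, 0, 0, 0, 0, 0, 0, 0, 0, 0, 0, 1]],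
   [[1, 0, 0, 1, 0, 0, 0, 0, 0, 0, 0, 0, 0, 0], [0, 1, 0, 1, 0, 0, 0, 0, 0, 0, 0, 0, 0, 0], [0, 0, 1, 0, 0, 0, 0, 0, 0, 0, 0, 0, 0, 0], [0, 0, 0, 1, 0, 0, 0, 0, 0, 0, 0, 0, 0, 0], [0, 0, 0, 0, 1, 0, 0, 0, 0, 0, 0, 0, 0, 0], [0, 0, 0, 0, 0, 1, 0, 0, 0, 0, 0, 0, 0, 0], [0, 0, 0, 0, 0, 0, 1, 0, 0, 0, 0, 0, 0, 0], [0, 0, 1, 0, 0, 0, 0, 1, 0, 0, 0, 0, 0, 0], [0, 0, 0, 0, 0, 0, 0, 0, 1, 0, 0, 0, 0, 0], [0, 0, 0, 0, 1, 0, 0, 0, 0, 1, 0, 0, 0, 0], [0, 0, 0, 0, 0, 0, 0, 0, 0, 0, 1, 0, 0, 0], [0, 0, 0, 0, 0, 0, 2, 0, 0, 0, 0, 1, 0, 0], [0, 1, 0, 2, 0, 0, 0, 0, 0, 0, 0, 0, 1, 0], [0, 0, 0, 0, 0, 0, 0, 0, 2, 0, 0, 0, 0, 1]],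
   [[1, 0, 0, 2, 0, 0, 0, 0, 0, 0, 0, 0, 0, 0], [0, 1, 0, 2, 0, 0, 0, 0, 0, 0, 0, 0, 0, 0], [0, 0, 1, 0, 0, 0, 0, 0, 0, 0, 0, 0, 0, 0], [0, 0, 0, 1, 0, 0, 0, 0, 0, 0, 0, 0, 0, 0], [0, 0, 0, 0, 1, 0, 0, 0, 0, 0, 0, 0, 0, 0], [0, 0, 0, 0, 0, 1, 0, 0, 0, 0, 0, 0, 0, 0], [0, 0, 0, 0, 0, 0, 1, 0, 0, 0, 0, 0, 0, 0], [0, 0, 2, 0, 0, 0, 0, 1, 0, 0, 0, 0, 0, 0], [0, 0, 0, 0, 0, 0, 0, 0, 1, 0, 0, 0, 0, 0], [0, 0, 0, 0, 2, 0, 0, 0, 0, 1, 0, 0, 0, 0], [0, 0, 0, 0, 0, 0, 0, 0, 0, 0, 1, 0, 0, 0], [0, 0, 0, 0, 0, 0, 1, 0, 0, 0, 0, 1, 0, 0], [0, 2, 0, 2, 0, 0, 0, 0, 0, 0, 0, 0, 1, 0], [0, 0, 0, 0, 0, 0, 0, 0, 1, 0, 0, 0, 0, 1]],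
   [[1, 0, 0, 0, 0, 0, 0, 0, 0, 0, 0, 0, 0, 0], [0, 1, 0, 0, 0, 0, 0, 0, 0, 0, 0, 0, 0, 0], [0, 0, 1, 0, 0, 0, 0, 0, 0, 0, 0, 0, 0, 0], [0, 0, 0, 1, 0, 0, 0, 0, 0, 0, 0, 0, 0, 0], [0, 0, 0, 0, 1, 0, 0, 0, 0, 0, 0, 0, 0, 0], [0, 0, 0, 0, 0, 1, 0, 0, 0, 0, 0, 0, 0, 0], [0, 0, 0, 0, 0, 0, 1, 0, 0, 0, 0, 0, 0, 0], [0, 0, 0, 0, 0, 0, 0, 1, 0, 0, 0, 0, 0, 0], [0, 0, 0, 0, 0, 0, 0, 0, 1, 0, 0, 0, 0, 0], [0, 0, 0, 0, 0, 0, 0, 0, 0, 1, 0, 0, 0, 0], [0, 0, 0, 0, 0, 0, 0, 0, 0, 0, 1, 0, 0, 0], [0, 0, 0, 0, 0, 0, 0, 0, 0, 0, 0, 1, 0, 0], [0, 0, 0, 0, 0, 0, 0, 0, 0, 0, 0, 0, 1, 0], [0, 0, 0, 0, 0, 0, 0, 0, 0, 0, 0, 0, 0, 1]],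
   [[1, 0, 1, 0, 0, 0, 0, 0, 0, 0, 0, 0, 0, 0], [0, 1, 2, 0, 0, 0, 0, 0, 0, 0, 0, 0, 0, 0], [0, 0, 1, 0, 0, 0, 0, 0, 0, 0, 0, 0, 0, 0], [0, 0, 0, 1, 0, 0, 0, 0, 0, 0, 0, 0, 0, 0], [0, 0, 0, 0, 1, 0, 0, 0, 0, 0, 0, 0, 0, 0], [0, 0, 0, 0, 0, 1, 0, 0, 0, 0, 0, 0, 0, 0], [0, 0, 0, 0, 0, 0, 1, 0, 0, 0, 0, 0, 0, 0], [0, 0, 0, 0, 0, 0, 0, 1, 0, 0, 0, 0, 0, 0], [0, 0, 0, 1, 0, 0, 0, 0, 1, 0, 0, 0, 0, 0], [0, 0, 0, 0, 0, 0, 0, 0, 0, 1, 0, 0, 0, 0], [0, 0, 0, 0, 1, 0, 0, 0, 0, 0, 1, 0, 0, 0], [0, 0, 0, 0, 0, 2, 0, 0, 0, 0, 0, 1, 0, 0], [0, 0, 0, 0, 0, 0, 0, 2, 0, 0, 0, 0, 1, 0], [0, 2, 2, 0, 0, 0, 0, 0, 0, 0, 0, 0, 0, 1]],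
   [[1, 0, 2, 0, 0, 0, 0, 0, 0, 0, 0, 0, 0, 0], [0, 1, 1, 0, 0, 0, 0, 0, 0, 0, 0, 0, 0, 0], [0, 0, 1, 0, 0, 0, 0, 0, 0, 0, 0, 0, 0, 0], [0, 0, 0, 1, 0, 0, 0, 0, 0, 0, 0, 0, 0, 0], [0, 0, 0, 0, 1, 0, 0, 0, 0, 0, 0, 0, 0, 0], [0, 0, 0, 0, 0, 1, 0, 0, 0, 0, 0, 0, 0, 0], [0, 0, 0, 0, 0, 0, 1, 0, 0, 0, 0, 0, 0, 0], [0, 0, 0, 0, 0, 0, 0, 1, 0, 0, 0, 0, 0, 0], [0, 0, 0, 2, 0, 0, 0, 0, 1, 0, 0, 0, 0, 0], [0, 0, 0, 0, 0, 0, 0, 0, 0, 1, 0, 0, 0, 0], [0, 0, 0, 0, 2, 0, 0, 0, 0, 0, 1, 0, 0, 0], [0, 0, 0, 0, 0, 1, 0, 0, 0, 0, 0, 1, 0, 0], [0, 0, 0, 0, 0, 0, 0, 1, 0, 0, 0, 0, 1, 0], [0, 1, 2, 0, 0, 0, 0, 0, 0, 0, 0, 0, 0, 1]]]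

/-- the distinct partial products of the 54 words: rows of digits -/
def MATS : List (List (List ℕ)) :=
  [
   [[1, 0, 0, 0, 0, 0, 0, 0, 0, 0, 0, 0, 0, 0], [0, 1, 0, 0, 0, 0, 0, 0, 0, 0, 0, 0, 0, 0], [0, 0, 1, 0, 0, 0, 0, 0, 0, 0, 0, 0, 0, 0], [0, 0, 0, 1, 0, 0, 0, 0, 0, 0, 0, 0, 0, 0], [0, 0, 0, 0, 1, 0, 0, 0, 0, 0, 0, 0, 0, 0], [0, 0, 0, 0, 0, 1, 0, 0, 0, 0, 0, 0, 0, 0], [0, 0, 0, 0, 0, 0, 1, 0, 0, 0, 0, 0, 0, 0], [0, 0, 0, 0, 0, 0, 0, 1, 0, 0, 0, 0, 0, 0], [0, 0, 0, 0, 0, 0, 0, 0, 1, 0, 0, 0, 0, 0], [0, 0, 0, 0, 0, 0, 0, 0, 0, 1, 0, 0, 0, 0], [0, 0, 0, 0, 0, 0, 0, 0, 0, 0, 1, 0, 0, 0], [0, 0, 0, 0, 0, 0, 0, 0, 0, 0, 0, 1, 0, 0], [0, 0,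 0, 0, 0, 0, 0, 0, 0, 0, 0, 0, 1, 0], [0, 0, 0, 0, 0, 0, 0, 0, 0, 0, 0, 0, 0, 1]],
   [[1, 0, 1, 0, 2, 0, 0, 0, 0, 0, 0, 0, 0, 0], [0, 1, 2, 0, 0, 0, 0, 0, 0, 0, 0, 0, 0, 0], [0, 0, 1, 0, 0, 0, 0, 0, 0, 0, 0, 0, 0, 0], [0, 0, 0, 1, 0, 0, 0, 0, 0, 0, 0, 0, 0, 0], [0, 0, 0, 0, 1, 0, 0, 0, 0, 0, 0, 0, 0, 0], [0, 0, 1, 0, 0, 1, 0, 0, 0, 0, 0, 0, 0, 0], [0, 0, 0, 1, 0, 0, 1, 0, 0, 0, 0, 0, 0, 0], [0, 0, 0, 0, 0, 0, 0, 1, 0, 0, 0, 0, 0, 0], [0, 0, 0, 1, 0, 0, 0, 0, 1, 0, 0, 0, 0, 0], [0, 0, 2, 0, 0, 1, 0, 0, 0, 1, 0, 0, 0, 0], [0, 0, 0, 1, 1, 0, 2, 0, 0, 0, 1, 0, 0, 0], [2, 0, 2, 0, 2, 2, 0, 0, 0, 0, 0, 1, 0, 0], [0, 0, 1, 0, 0, 0, 0, 2, 0, 0, 0,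 0, 1, 0], [0, 2, 2, 2, 0, 0, 0, 0, 0, 0, 0, 0, 0, 1]],
   [[1, 0, 1, 0, 0, 0, 0, 0, 0, 0, 0, 0, 0, 0], [0, 1, 2, 0, 0, 0, 0, 0, 0, 0, 0, 0, 0, 0], [0, 0, 1, 0, 0, 0, 0, 0, 0, 0, 0, 0, 0, 0], [0, 0, 0, 1, 0, 0, 0, 0, 0, 0, 0, 0, 0, 0], [0, 0, 0, 0, 1, 0, 0, 0, 0, 0, 0, 0, 0, 0], [0, 0, 0, 0, 0, 1, 0, 0, 0, 0, 0, 0, 0, 0], [0, 0, 0, 0, 0, 0, 1, 0, 0, 0, 0, 0, 0, 0], [0, 0, 0, 0, 0, 0, 0, 1, 0, 0, 0, 0, 0, 0], [0, 0, 0, 1, 0, 0, 0, 0, 1, 0, 0, 0, 0, 0], [0, 0, 0, 0, 0, 0, 0, 0, 0, 1, 0, 0, 0, 0], [0, 0, 0, 0, 1, 0, 0, 0, 0, 0, 1, 0, 0, 0], [0, 0, 0, 0, 0, 2, 0, 0, 0, 0, 0, 1, 0, 0], [0, 0, 0, 0, 0, 0, 0, 2, 0, 0, 0, 0, 1, 0], [0, 2, 2, 0, 0,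 0, 0, 0, 0, 0, 0, 0, 0, 1]],
   [[1, 0, 2, 0, 1, 0, 0, 0, 0, 0, 0, 0, 0, 0], [0, 1, 1, 0, 0, 0, 0, 0, 0, 0, 0, 0, 0, 0], [0, 0, 1, 0, 0, 0, 0, 0, 0, 0, 0, 0, 0, 0], [0, 0, 0, 1, 0, 0, 0, 0, 0, 0, 0, 0, 0, 0], [0, 0, 0, 0, 1, 0, 0, 0, 0, 0, 0, 0, 0, 0], [0, 0, 2, 0, 0, 1, 0, 0, 0, 0, 0, 0, 0, 0], [0, 0, 0, 2, 0, 0, 1, 0, 0, 0, 0, 0, 0, 0], [0, 0, 0, 0, 0, 0, 0, 1, 0, 0, 0, 0, 0, 0], [0, 0, 0, 2, 0, 0, 0, 0, 1, 0, 0, 0, 0, 0], [0, 0, 2, 0, 0, 2, 0, 0, 0, 1, 0, 0, 0, 0], [0, 0, 0, 1, 2, 0, 1, 0, 0, 0, 1, 0, 0, 0], [1, 0, 2, 0, 2, 1, 0, 0, 0, 0, 0, 1, 0, 0], [0, 0, 2, 0, 0, 0, 0, 1, 0, 0, 0, 0, 1, 0], [0, 1, 2, 1, 0, 0, 0, 0, 0, 0, 0, 0, 0, 1]],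
   [[1, 0, 2, 0, 0, 0, 0, 0, 0, 0, 0, 0, 0, 0], [0, 1, 1, 0, 0, 0, 0, 0, 0, 0, 0, 0, 0, 0], [0, 0, 1, 0, 0, 0, 0, 0, 0, 0, 0, 0, 0, 0], [0, 0, 0, 1, 0, 0, 0, 0, 0, 0, 0, 0, 0, 0], [0, 0, 0, 0, 1, 0, 0, 0, 0, 0, 0, 0, 0, 0], [0, 0, 0, 0, 0, 1, 0, 0, 0, 0, 0, 0, 0, 0], [0, 0, 0, 0, 0, 0, 1, 0, 0, 0, 0, 0, 0, 0], [0, 0, 0, 0, 0, 0, 0, 1, 0, 0, 0, 0, 0, 0], [0, 0, 0, 2, 0, 0, 0, 0, 1, 0, 0, 0, 0, 0], [0, 0, 0, 0, 0, 0, 0, 0, 0, 1, 0, 0, 0, 0], [0, 0, 0, 0, 2, 0, 0, 0, 0, 0, 1, 0, 0, 0], [0, 0, 0, 0, 0, 1, 0, 0, 0, 0, 0, 1, 0, 0], [0, 0, 0, 0, 0, 0, 0, 1, 0, 0, 0, 0, 1, 0], [0, 1, 2, 0, 0, 0, 0, 0, 0, 0, 0, 0, 0, 1]],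
   [[1, 0, 0, 1, 0, 1, 0, 0, 0, 0, 0, 0, 0, 0], [0, 1, 0, 1, 0, 0, 0, 0, 0, 0, 0, 0, 0, 0], [0, 0, 1, 0, 0, 0, 0, 0, 0, 0, 0, 0, 0, 0], [0, 0, 0, 1, 0, 0, 0, 0, 0, 0, 0, 0, 0, 0], [0, 0, 2, 0, 1, 0, 0, 0, 0, 0, 0, 0, 0, 0], [0, 0, 0, 0, 0, 1, 0, 0, 0, 0, 0, 0, 0, 0], [0, 0, 1, 0, 1, 0, 1, 0, 0, 0, 0, 0, 0, 0], [0, 0, 1, 0, 0, 0, 0, 1, 0, 0, 0, 0, 0, 0], [0, 0, 1, 0, 0, 0, 0, 0, 1, 0, 0, 0, 0, 0], [0, 0, 2, 0, 1, 0, 0, 2, 0, 1, 0, 0, 0, 0], [1, 2, 0, 0, 0, 2, 0, 0, 0, 0, 1, 0, 0, 0], [0, 0, 2, 0, 2, 0, 2, 2, 0, 2, 0, 1, 0, 0], [0, 1, 0, 2, 0, 0, 0, 0, 0, 0, 0, 0, 1, 0], [0, 0, 2, 0, 0, 0, 0, 2, 2, 0, 0, 0, 0, 1]],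
   [[1, 0, 0, 1, 0, 0, 0, 0, 0, 0, 0, 0, 0, 0], [0, 1, 0, 1, 0, 0, 0, 0, 0, 0, 0, 0, 0, 0], [0, 0, 1, 0, 0, 0, 0, 0, 0, 0, 0, 0, 0, 0], [0, 0, 0, 1, 0, 0, 0, 0, 0, 0, 0, 0, 0, 0], [0, 0, 0, 0, 1, 0, 0, 0, 0, 0, 0, 0, 0, 0], [0, 0, 0, 0, 0, 1, 0, 0, 0, 0, 0, 0, 0, 0], [0, 0, 0, 0, 0, 0, 1, 0, 0, 0, 0, 0, 0, 0], [0, 0, 1, 0, 0, 0, 0, 1, 0, 0, 0, 0, 0, 0], [0, 0, 0, 0, 0, 0, 0, 0, 1, 0, 0, 0, 0, 0], [0, 0, 0, 0, 1, 0, 0, 0, 0, 1, 0, 0, 0, 0], [0, 0, 0, 0, 0, 0, 0, 0, 0, 0, 1, 0, 0, 0], [0, 0, 0, 0, 0, 0, 2, 0, 0, 0, 0, 1, 0, 0], [0, 1, 0, 2, 0, 0, 0, 0, 0, 0, 0, 0, 1, 0], [0, 0, 0, 0, 0, 0, 0, 0, 2, 0, 0, 0, 0, 1]],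
   [[1, 0, 2, 1, 2, 1, 0, 0, 0, 0, 0, 0, 0, 0], [0, 1, 2, 1, 0, 0, 0, 0, 0, 0, 0, 0, 0, 0], [0, 0, 1, 0, 0, 0, 0, 0, 0, 0, 0, 0, 0, 0], [0, 0, 0, 1, 0, 0, 0, 0, 0, 0, 0, 0, 0, 0], [0, 0, 2, 0, 1, 0, 0, 0, 0, 0, 0, 0, 0, 0], [0, 0, 1, 0, 0, 1, 0, 0, 0, 0, 0, 0, 0, 0], [0, 0, 1, 1, 1, 0, 1, 0, 0, 0, 0, 0, 0, 0], [0, 0, 1, 0, 0, 0, 0, 1, 0, 0, 0, 0, 0, 0], [0, 0, 1, 1, 0, 0, 0, 0, 1, 0, 0, 0, 0, 0], [0, 0, 1, 0, 1, 1, 0, 2, 0, 1, 0, 0, 0, 0], [1, 2, 1, 1, 0, 2, 2, 0, 0, 0, 1, 0, 0, 0], [2, 0, 2, 2, 1, 1, 2, 2, 0, 2, 0, 1, 0, 0], [0, 1, 0, 2, 0, 0, 0, 2, 0, 0, 0, 0, 1, 0], [0, 2, 1, 1, 0, 0, 0, 2, 2, 0, 0, 0, 0, 1]],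
   [[1, 0, 1, 1, 2, 0, 0, 0, 0, 0, 0, 0, 0, 0], [0, 1, 2, 1, 0, 0, 0, 0, 0, 0, 0, 0, 0, 0], [0, 0, 1, 0, 0, 0, 0, 0, 0, 0, 0, 0, 0, 0], [0, 0, 0, 1, 0, 0, 0, 0, 0, 0, 0, 0, 0, 0], [0, 0, 0, 0, 1, 0, 0, 0, 0, 0, 0, 0, 0, 0], [0, 0, 1, 0, 0, 1, 0, 0, 0, 0, 0, 0, 0, 0], [0, 0, 0, 1, 0, 0, 1, 0, 0, 0, 0, 0, 0, 0], [0, 0, 1, 0, 0, 0, 0, 1, 0, 0, 0, 0, 0, 0], [0, 0, 0, 1, 0, 0, 0, 0, 1, 0, 0, 0, 0, 0], [0, 0, 2, 0, 1, 1, 0, 0, 0, 1, 0, 0, 0, 0], [0, 0, 0, 1, 1, 0, 2, 0, 0, 0, 1, 0, 0, 0], [2, 0, 2, 2, 2, 2, 2, 0, 0, 0, 0, 1, 0, 0], [0, 1, 0, 2, 0, 0, 0, 2, 0, 0, 0, 0, 1, 0], [0, 2, 2, 1, 0, 0, 0, 0, 2, 0, 0, 0, 0, 1]],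
   [[1, 0, 1, 1, 0, 0, 0, 0, 0, 0, 0, 0, 0, 0], [0, 1, 2, 1, 0, 0, 0, 0, 0, 0, 0, 0, 0, 0], [0, 0, 1, 0, 0, 0, 0, 0, 0, 0, 0, 0, 0, 0], [0, 0, 0, 1, 0, 0, 0, 0, 0, 0, 0, 0, 0, 0], [0, 0, 0, 0, 1, 0, 0, 0, 0, 0, 0, 0, 0, 0], [0, 0, 0, 0, 0, 1, 0, 0, 0, 0, 0, 0, 0, 0], [0, 0, 0, 0, 0, 0, 1, 0, 0, 0, 0, 0, 0, 0], [0, 0, 1, 0, 0, 0, 0, 1, 0, 0, 0, 0, 0, 0], [0, 0, 0, 1, 0, 0, 0, 0, 1, 0, 0, 0, 0, 0], [0, 0, 0, 0, 1, 0, 0, 0, 0, 1, 0, 0, 0, 0], [0, 0, 0, 0, 1, 0, 0, 0, 0, 0, 1, 0, 0, 0], [0, 0, 0, 0, 0, 2, 2, 0, 0, 0, 0, 1, 0, 0], [0, 1, 2, 2, 0, 0, 0, 2, 0, 0, 0, 0, 1, 0], [0, 2, 2, 2, 0, 0, 0, 0, 2, 0, 0, 0, 0, 1]],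
   [[1, 0, 1, 1, 1, 1, 0, 0, 0, 0, 0, 0, 0, 0], [0, 1, 1, 1, 0, 0, 0, 0, 0, 0, 0, 0, 0, 0], [0, 0, 1, 0, 0, 0, 0, 0, 0, 0, 0, 0, 0, 0], [0, 0, 0, 1, 0, 0, 0, 0, 0, 0, 0, 0, 0, 0], [0, 0, 2, 0, 1, 0, 0, 0, 0, 0, 0, 0, 0, 0], [0, 0, 2, 0, 0, 1, 0, 0, 0, 0, 0, 0, 0, 0], [0, 0, 1, 2, 1, 0, 1, 0, 0, 0, 0, 0, 0, 0], [0, 0, 1, 0, 0, 0, 0, 1, 0, 0, 0, 0, 0, 0], [0, 0, 1, 2, 0, 0, 0, 0, 1, 0, 0, 0, 0, 0], [0, 0, 1, 0, 1, 2, 0, 2, 0, 1, 0, 0, 0, 0], [1, 2, 2, 1, 0, 2, 1, 0, 0, 0, 1, 0, 0, 0], [1, 0, 2, 1, 1, 2, 2, 2, 0, 2, 0, 1, 0, 0], [0, 1, 0, 2, 0, 0, 0, 1, 0, 0, 0, 0, 1, 0], [0, 1, 1, 2, 0, 0, 0, 2, 2, 0, 0, 0, 0, 1]],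
   [[1, 0, 2, 1, 1, 0, 0, 0, 0, 0, 0, 0, 0, 0], [0, 1, 1, 1, 0, 0, 0, 0, 0, 0, 0, 0, 0, 0], [0, 0, 1, 0, 0, 0, 0, 0, 0, 0, 0, 0, 0, 0], [0, 0, 0, 1, 0, 0, 0, 0, 0, 0, 0, 0, 0, 0], [0, 0, 0, 0, 1, 0, 0, 0, 0, 0, 0, 0, 0, 0], [0, 0, 2, 0, 0, 1, 0, 0, 0, 0, 0, 0, 0, 0], [0, 0, 0, 2, 0, 0, 1, 0, 0, 0, 0, 0, 0, 0], [0, 0, 1, 0, 0, 0, 0, 1, 0, 0, 0, 0, 0, 0], [0, 0, 0, 2, 0, 0, 0, 0, 1, 0, 0, 0, 0, 0], [0, 0, 2, 0, 1, 2, 0, 0, 0, 1, 0, 0, 0, 0], [0, 0, 0, 1, 2, 0, 1, 0, 0, 0, 1, 0, 0, 0], [1, 0, 2, 1, 2, 1, 2, 0, 0, 0, 0, 1, 0, 0], [0, 1, 0, 2, 0, 0, 0, 1, 0, 0, 0, 0, 1, 0], [0, 1, 2, 2, 0, 0, 0, 0, 2, 0, 0, 0, 0, 1]],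
   [[1, 0, 2, 1, 0, 0, 0, 0, 0, 0, 0, 0, 0, 0], [0, 1, 1, 1, 0, 0, 0, 0, 0, 0, 0, 0, 0, 0], [0, 0, 1, 0, 0, 0, 0, 0, 0, 0, 0, 0, 0, 0], [0, 0, 0, 1, 0, 0, 0, 0, 0, 0, 0, 0, 0, 0], [0, 0, 0, 0, 1, 0, 0, 0, 0, 0, 0, 0, 0, 0], [0, 0, 0, 0, 0, 1, 0, 0, 0, 0, 0, 0, 0, 0], [0, 0, 0, 0, 0, 0, 1, 0, 0, 0, 0, 0, 0, 0], [0, 0, 1, 0, 0, 0, 0, 1, 0, 0, 0, 0, 0, 0], [0, 0, 0, 2, 0, 0, 0, 0, 1, 0, 0, 0, 0, 0], [0, 0, 0, 0, 1, 0, 0, 0, 0, 1, 0, 0, 0, 0], [0, 0, 0, 0, 2, 0, 0, 0, 0, 0, 1, 0, 0, 0], [0, 0, 0, 0, 0, 1, 2, 0, 0, 0, 0, 1, 0, 0], [0, 1, 1, 2, 0, 0, 0, 1, 0, 0, 0, 0, 1, 0], [0, 1, 2, 1, 0, 0, 0, 0, 2, 0, 0, 0, 0, 1]],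
   [[1, 0, 0, 2, 0, 2, 0, 0, 0, 0, 0, 0, 0, 0], [0, 1, 0, 2, 0, 0, 0, 0, 0, 0, 0, 0, 0, 0], [0, 0, 1, 0, 0, 0, 0, 0, 0, 0, 0, 0, 0, 0], [0, 0, 0, 1, 0, 0, 0, 0, 0, 0, 0, 0, 0, 0], [0, 0, 1, 0, 1, 0, 0, 0, 0, 0, 0, 0, 0, 0], [0, 0, 0, 0, 0, 1, 0, 0, 0, 0, 0, 0, 0, 0], [0, 0, 1, 0, 2, 0, 1, 0, 0, 0, 0, 0, 0, 0], [0, 0, 2, 0, 0, 0, 0, 1, 0, 0, 0, 0, 0, 0], [0, 0, 2, 0, 0, 0, 0, 0, 1, 0, 0, 0, 0, 0], [0, 0, 2, 0, 2, 0, 0, 1, 0, 1, 0, 0, 0, 0], [2, 1, 0, 0, 0, 2, 0, 0, 0, 0, 1, 0, 0, 0], [0, 0, 1, 0, 2, 0, 1, 2, 0, 1, 0, 1, 0, 0], [0, 2, 0, 2, 0, 0, 0, 0, 0, 0, 0, 0, 1, 0], [0, 0, 2, 0, 0, 0, 0, 1, 1, 0, 0, 0, 0, 1]],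
   [[1, 0, 0, 2, 0, 0, 0, 0, 0, 0, 0, 0, 0, 0], [0, 1, 0, 2, 0, 0, 0, 0, 0, 0, 0, 0, 0, 0], [0, 0, 1, 0, 0, 0, 0, 0, 0, 0, 0, 0, 0, 0], [0, 0, 0, 1, 0, 0, 0, 0, 0, 0, 0, 0, 0, 0], [0, 0, 0, 0, 1, 0, 0, 0, 0, 0, 0, 0, 0, 0], [0, 0, 0, 0, 0, 1, 0, 0, 0, 0, 0, 0, 0, 0], [0, 0, 0, 0, 0, 0, 1, 0, 0, 0, 0, 0, 0, 0], [0, 0, 2, 0, 0, 0, 0, 1, 0, 0, 0, 0, 0, 0], [0, 0, 0, 0, 0, 0, 0, 0, 1, 0, 0, 0, 0, 0], [0, 0, 0, 0, 2, 0, 0, 0, 0, 1, 0, 0, 0, 0], [0, 0, 0, 0, 0, 0, 0, 0, 0, 0, 1, 0, 0, 0], [0, 0, 0, 0, 0, 0, 1, 0, 0, 0, 0, 1, 0, 0], [0, 2, 0, 2, 0, 0, 0, 0, 0, 0, 0, 0, 1, 0], [0, 0, 0, 0, 0, 0, 0, 0, 1, 0, 0, 0, 0, 1]],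
   [[1, 0, 0, 2, 2, 2, 0, 0, 0, 0, 0, 0, 0, 0], [0, 1, 2, 2, 0, 0, 0, 0, 0, 0, 0, 0, 0, 0], [0, 0, 1, 0, 0, 0, 0, 0, 0, 0, 0, 0, 0, 0], [0, 0, 0, 1, 0, 0, 0, 0, 0, 0, 0, 0, 0, 0], [0, 0, 1, 0, 1, 0, 0, 0, 0, 0, 0, 0, 0, 0], [0, 0, 1, 0, 0, 1, 0, 0, 0, 0, 0, 0, 0, 0], [0, 0, 1, 1, 2, 0, 1, 0, 0, 0, 0, 0, 0, 0], [0, 0, 2, 0, 0, 0, 0, 1, 0, 0, 0, 0, 0, 0], [0, 0, 2, 1, 0, 0, 0, 0, 1, 0, 0, 0, 0, 0], [0, 0, 1, 0, 2, 1, 0, 1, 0, 1, 0, 0, 0, 0], [2, 1, 0, 1, 2, 2, 2, 0, 0, 0, 1, 0, 0, 0], [2, 0, 2, 1, 1, 0, 1, 2, 0, 1, 0, 1, 0, 0], [0, 2, 2, 2, 0, 0, 0, 2, 0, 0, 0, 0, 1, 0], [0, 2, 1, 0, 0, 0, 0, 1, 1, 0, 0, 0, 0, 1]],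
   [[1, 0, 1, 2, 2, 0, 0, 0, 0, 0, 0, 0, 0, 0], [0, 1, 2, 2, 0, 0, 0, 0, 0, 0, 0, 0, 0, 0], [0, 0, 1, 0, 0, 0, 0, 0, 0, 0, 0, 0, 0, 0], [0, 0, 0, 1, 0, 0, 0, 0, 0, 0, 0, 0, 0, 0], [0, 0, 0, 0, 1, 0, 0, 0, 0, 0, 0, 0, 0, 0], [0, 0, 1, 0, 0, 1, 0, 0, 0, 0, 0, 0, 0, 0], [0, 0, 0, 1, 0, 0, 1, 0, 0, 0, 0, 0, 0, 0], [0, 0, 2, 0, 0, 0, 0, 1, 0, 0, 0, 0, 0, 0], [0, 0, 0, 1, 0, 0, 0, 0, 1, 0, 0, 0, 0, 0], [0, 0, 2, 0, 2, 1, 0, 0, 0, 1, 0, 0, 0, 0], [0, 0, 0, 1, 1, 0, 2, 0, 0, 0, 1, 0, 0, 0], [2, 0, 2, 1, 2, 2, 1, 0, 0, 0, 0, 1, 0, 0], [0, 2, 2, 2, 0, 0, 0, 2, 0, 0, 0, 0, 1, 0], [0, 2, 2, 0, 0, 0, 0, 0, 1, 0, 0, 0, 0, 1]],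
   [[1, 0, 1, 2, 0, 0, 0, 0, 0, 0, 0, 0, 0, 0], [0, 1, 2, 2, 0, 0, 0, 0, 0, 0, 0, 0, 0, 0], [0, 0, 1, 0, 0, 0, 0, 0, 0, 0, 0, 0, 0, 0], [0, 0, 0, 1, 0, 0, 0, 0, 0, 0, 0, 0, 0, 0], [0, 0, 0, 0, 1, 0, 0, 0, 0, 0, 0, 0, 0, 0], [0, 0, 0, 0, 0, 1, 0, 0, 0, 0, 0, 0, 0, 0], [0, 0, 0, 0, 0, 0, 1, 0, 0, 0, 0, 0, 0, 0], [0, 0, 2, 0, 0, 0, 0, 1, 0, 0, 0, 0, 0, 0], [0, 0, 0, 1, 0, 0, 0, 0, 1, 0, 0, 0, 0, 0], [0, 0, 0, 0, 2, 0, 0, 0, 0, 1, 0, 0, 0, 0], [0, 0, 0, 0, 1, 0, 0, 0, 0, 0, 1, 0, 0, 0], [0, 0, 0, 0, 0, 2, 1, 0, 0, 0, 0, 1, 0, 0], [0, 2, 1, 2, 0, 0, 0, 2, 0, 0, 0, 0, 1, 0], [0, 2, 2, 1, 0, 0, 0, 0, 1, 0, 0, 0, 0, 1]],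
   [[1, 0, 0, 2, 1, 2, 0, 0, 0, 0, 0, 0, 0, 0], [0, 1, 1, 2, 0, 0, 0, 0, 0, 0, 0, 0, 0, 0], [0, 0, 1, 0, 0, 0, 0, 0, 0, 0, 0, 0, 0, 0], [0, 0, 0, 1, 0, 0, 0, 0, 0, 0, 0, 0, 0, 0], [0, 0, 1, 0, 1, 0, 0, 0, 0, 0, 0, 0, 0, 0], [0, 0, 2, 0, 0, 1, 0, 0, 0, 0, 0, 0, 0, 0], [0, 0, 1, 2, 2, 0, 1, 0, 0, 0, 0, 0, 0, 0], [0, 0, 2, 0, 0, 0, 0, 1, 0, 0, 0, 0, 0, 0], [0, 0, 2, 2, 0, 0, 0, 0, 1, 0, 0, 0, 0, 0], [0, 0, 1, 0, 2, 2, 0, 1, 0, 1, 0, 0, 0, 0], [2, 1, 0, 1, 1, 2, 1, 0, 0, 0, 1, 0, 0, 0], [1, 0, 2, 2, 1, 0, 1, 2, 0, 1, 0, 1, 0, 0], [0, 2, 1, 2, 0, 0, 0, 1, 0, 0, 0, 0, 1, 0], [0, 1, 1, 0, 0, 0, 0, 1, 1, 0, 0, 0, 0, 1]],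
   [[1, 0, 2, 2, 1, 0, 0, 0, 0, 0, 0, 0, 0, 0], [0, 1, 1, 2, 0, 0, 0, 0, 0, 0, 0, 0, 0, 0], [0, 0, 1, 0, 0, 0, 0, 0, 0, 0, 0, 0, 0, 0], [0, 0, 0, 1, 0, 0, 0, 0, 0, 0, 0, 0, 0, 0], [0, 0, 0, 0, 1, 0, 0, 0, 0, 0, 0, 0, 0, 0], [0, 0, 2, 0, 0, 1, 0, 0, 0, 0, 0, 0, 0, 0], [0, 0, 0, 2, 0, 0, 1, 0, 0, 0, 0, 0, 0, 0], [0, 0, 2, 0, 0, 0, 0, 1, 0, 0, 0, 0, 0, 0], [0, 0, 0, 2, 0, 0, 0, 0, 1, 0, 0, 0, 0, 0], [0, 0, 2, 0, 2, 2, 0, 0, 0, 1, 0, 0, 0, 0], [0, 0, 0, 1, 2, 0, 1, 0, 0, 0, 1, 0, 0, 0], [1, 0, 2, 2, 2, 1, 1, 0, 0, 0, 0, 1, 0, 0], [0, 2, 1, 2, 0, 0, 0, 1, 0, 0, 0, 0, 1, 0], [0, 1, 2, 0, 0, 0, 0, 0, 1, 0, 0, 0, 0, 1]],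
   [[1, 0, 2, 2, 0, 0, 0, 0, 0, 0, 0, 0, 0, 0], [0, 1, 1, 2, 0, 0, 0, 0, 0, 0, 0, 0, 0, 0], [0, 0, 1, 0, 0, 0, 0, 0, 0, 0, 0, 0, 0, 0], [0, 0, 0, 1, 0, 0, 0, 0, 0, 0, 0, 0, 0, 0], [0, 0, 0, 0, 1, 0, 0, 0, 0, 0, 0, 0, 0, 0], [0, 0, 0, 0, 0, 1, 0, 0, 0, 0, 0, 0, 0, 0], [0, 0, 0, 0, 0, 0, 1, 0, 0, 0, 0, 0, 0, 0], [0, 0, 2, 0, 0, 0, 0, 1, 0, 0, 0, 0, 0, 0], [0, 0, 0, 2, 0, 0, 0, 0, 1, 0, 0, 0, 0, 0], [0, 0, 0, 0, 2, 0, 0, 0, 0, 1, 0, 0, 0, 0], [0, 0, 0, 0, 2, 0, 0, 0, 0, 0, 1, 0, 0, 0], [0, 0, 0, 0, 0, 1, 1, 0, 0, 0, 0, 1, 0, 0], [0, 2, 2, 2, 0, 0, 0, 1, 0, 0, 0, 0, 1, 0], [0, 1, 2, 2, 0, 0, 0, 0, 1, 0, 0, 0, 0, 1]],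
   [[1, 0, 1, 1, 0, 0, 1, 0, 0, 0, 0, 0, 0, 0], [0, 1, 0, 0, 0, 0, 0, 1, 0, 0, 0, 0, 0, 0], [0, 0, 1, 0, 0, 0, 0, 0, 0, 0, 0, 0, 0, 0], [0, 0, 2, 1, 0, 0, 0, 0, 0, 0, 0, 0, 0, 0], [0, 0, 0, 2, 1, 0, 0, 0, 0, 0, 0, 0, 0, 0], [0, 0, 0, 2, 2, 1, 0, 0, 0, 0, 0, 0, 0, 0], [0, 0, 0, 1, 1, 2, 1, 0, 0, 0, 0, 0, 0, 0], [0, 0, 1, 2, 0, 0, 0, 1, 0, 0, 0, 0, 0, 0], [0, 1, 1, 0, 0, 0, 0, 2, 1, 0, 0, 0, 0, 0], [1, 1, 0, 2, 1, 0, 2, 0, 0, 1, 0, 0, 0, 0], [1, 1, 0, 1, 2, 0, 2, 0, 2, 1, 1, 0, 0, 0], [0, 0, 0, 1, 1, 2, 2, 0, 1, 0, 1, 1, 0, 0], [0, 1, 2, 0, 0, 0, 0, 2, 1, 0, 0, 0, 1, 0], [0, 0, 1, 2, 0, 0, 0, 2, 0, 0, 0, 0, 1, 1]],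
   [[1, 0, 1, 0, 2, 1, 0, 0, 0, 0, 0, 0, 0, 0], [0, 1, 0, 0, 0, 0, 0, 1, 0, 0, 0, 0, 0, 0], [0, 0, 1, 0, 0, 0, 0, 0, 0, 0, 0, 0, 0, 0], [0, 0, 2, 1, 0, 0, 0, 0, 0, 0, 0, 0, 0, 0], [0, 0, 2, 0, 1, 0, 0, 0, 0, 0, 0, 0, 0, 0], [0, 0, 1, 0, 0, 1, 0, 0, 0, 0, 0, 0, 0, 0], [0, 0, 0, 1, 1, 2, 1, 0, 0, 0, 0, 0, 0, 0], [0, 0, 0, 0, 0, 0, 0, 1, 0, 0, 0, 0, 0, 0], [0, 1, 1, 0, 0, 0, 0, 2, 1, 0, 0, 0, 0, 0], [0, 0, 2, 0, 0, 1, 0, 2, 0, 1, 0, 0, 0, 0], [1, 2, 1, 1, 2, 0, 2, 2, 0, 1, 1, 0, 0, 0], [2, 0, 1, 0, 2, 2, 0, 2, 0, 2, 0, 1, 0, 0], [0, 0, 1, 0, 0, 0, 0, 0, 0, 0, 0, 0, 1, 0], [0, 0, 1, 2, 0, 0, 0, 2, 0, 0, 0, 0, 1, 1]],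
   [[1, 0, 1, 0, 2, 1, 0, 0, 0, 0, 0, 0, 0, 0], [0, 1, 0, 0, 0, 0, 0, 0, 0, 0, 0, 0, 0, 0], [0, 0, 1, 0, 0, 0, 0, 0, 0, 0, 0, 0, 0, 0], [0, 0, 0, 1, 0, 0, 0, 0, 0, 0, 0, 0, 0, 0], [0, 0, 2, 0, 1, 0, 0, 0, 0, 0, 0, 0, 0, 0], [0, 0, 1, 0, 0, 1, 0, 0, 0, 0, 0, 0, 0, 0], [0, 0, 1, 1, 1, 0, 1, 0, 0, 0, 0, 0, 0, 0], [0, 0, 0, 0, 0, 0, 0, 1, 0, 0, 0, 0, 0, 0], [0, 0, 1, 0, 0, 0, 0, 0, 1, 0, 0, 0, 0, 0], [0, 0, 2, 0, 0, 1, 0, 2, 0, 1, 0, 0, 0, 0], [1, 2, 2, 1, 2, 2, 2, 0, 0, 0, 1, 0, 0, 0], [2, 0, 1, 0, 2, 2, 0, 2, 0, 2, 0, 1, 0, 0], [0, 0, 1, 0, 0, 0, 0, 0, 0, 0, 0, 0, 1, 0], [0, 0, 0, 2, 0, 0, 0, 2, 0, 0, 0, 0, 0, 1]],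
   [[1, 0, 0, 0, 2, 0, 0, 0, 0, 0, 0, 0, 0, 0], [0, 1, 0, 0, 0, 0, 0, 0, 0, 0, 0, 0, 0, 0], [0, 0, 1, 0, 0, 0, 0, 0, 0, 0, 0, 0, 0, 0], [0, 0, 0, 1, 0, 0, 0, 0, 0, 0, 0, 0, 0, 0], [0, 0, 0, 0, 1, 0, 0, 0, 0, 0, 0, 0, 0, 0], [0, 0, 1, 0, 0, 1, 0, 0, 0, 0, 0, 0, 0, 0], [0, 0, 0, 1, 0, 0, 1, 0, 0, 0, 0, 0, 0, 0], [0, 0, 0, 0, 0, 0, 0, 1, 0, 0, 0, 0, 0, 0], [0, 0, 0, 0, 0, 0, 0, 0, 1, 0, 0, 0, 0, 0], [0, 0, 2, 0, 0, 1, 0, 0, 0, 1, 0, 0, 0, 0], [0, 0, 0, 1, 0, 0, 2, 0, 0, 0, 1, 0, 0, 0], [2, 0, 0, 0, 2, 0, 0, 0, 0, 0, 0, 1, 0, 0], [0, 0, 1, 0, 0, 0, 0, 0, 0, 0, 0, 0, 1, 0], [0, 0, 0, 2, 0, 0, 0, 0, 0, 0, 0, 0, 0, 1]],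
   [[1, 0, 2, 2, 2, 0, 1, 0, 0, 0, 0, 0, 0, 0], [0, 1, 2, 0, 0, 0, 0, 1, 0, 0, 0, 0, 0, 0], [0, 0, 1, 0, 0, 0, 0, 0, 0, 0, 0, 0, 0, 0], [0, 0, 2, 1, 0, 0, 0, 0, 0, 0, 0, 0, 0, 0], [0, 0, 0, 2, 1, 0, 0, 0, 0, 0, 0, 0, 0, 0], [0, 0, 1, 2, 2, 1, 0, 0, 0, 0, 0, 0, 0, 0], [0, 0, 2, 2, 1, 2, 1, 0, 0, 0, 0, 0, 0, 0], [0, 0, 1, 2, 0, 0, 0, 1, 0, 0, 0, 0, 0, 0], [0, 1, 0, 1, 0, 0, 0, 2, 1, 0, 0, 0, 0, 0], [1, 1, 2, 1, 0, 1, 2, 0, 0, 1, 0, 0, 0, 0], [1, 1, 2, 0, 2, 1, 1, 0, 2, 1, 1, 0, 0, 0], [2, 0, 1, 2, 1, 1, 1, 0, 1, 0, 1, 1, 0, 0], [0, 1, 2, 1, 0, 0, 0, 1, 1, 0, 0, 0, 1, 0], [0, 2, 1, 1, 0, 0, 0, 1, 0, 0, 0, 0, 1, 1]],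
   [[1, 0, 0, 0, 1, 1, 0, 0, 0, 0, 0, 0, 0, 0], [0, 1, 2, 0, 0, 0, 0, 1, 0, 0, 0, 0, 0, 0], [0, 0, 1, 0, 0, 0, 0, 0, 0, 0, 0, 0, 0, 0], [0, 0, 2, 1, 0, 0, 0, 0, 0, 0, 0, 0, 0, 0], [0, 0, 2, 0, 1, 0, 0, 0, 0, 0, 0, 0, 0, 0], [0, 0, 2, 0, 0, 1, 0, 0, 0, 0, 0, 0, 0, 0], [0, 0, 2, 2, 1, 2, 1, 0, 0, 0, 0, 0, 0, 0], [0, 0, 0, 0, 0, 0, 0, 1, 0, 0, 0, 0, 0, 0], [0, 1, 0, 1, 0, 0, 0, 2, 1, 0, 0, 0, 0, 0], [0, 0, 2, 0, 0, 2, 0, 2, 0, 1, 0, 0, 0, 0], [1, 2, 2, 1, 2, 1, 1, 2, 0, 1, 1, 0, 0, 0], [1, 0, 2, 0, 2, 0, 0, 2, 0, 2, 0, 1, 0, 0], [0, 0, 2, 0, 0, 0, 0, 2, 0, 0, 0, 0, 1, 0], [0, 2, 1, 1, 0, 0, 0, 1, 0, 0, 0, 0, 1, 1]],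
   [[1, 0, 0, 0, 1, 1, 0, 0, 0, 0, 0, 0, 0, 0], [0, 1, 2, 0, 0, 0, 0, 0, 0, 0, 0, 0, 0, 0], [0, 0, 1, 0, 0, 0, 0, 0, 0, 0, 0, 0, 0, 0], [0, 0, 0, 1, 0, 0, 0, 0, 0, 0, 0, 0, 0, 0], [0, 0, 2, 0, 1, 0, 0, 0, 0, 0, 0, 0, 0, 0], [0, 0, 2, 0, 0, 1, 0, 0, 0, 0, 0, 0, 0, 0], [0, 0, 1, 2, 1, 0, 1, 0, 0, 0, 0, 0, 0, 0], [0, 0, 0, 0, 0, 0, 0, 1, 0, 0, 0, 0, 0, 0], [0, 0, 1, 1, 0, 0, 0, 0, 1, 0, 0, 0, 0, 0], [0, 0, 2, 0, 0, 2, 0, 2, 0, 1, 0, 0, 0, 0], [1, 2, 0, 1, 2, 2, 1, 0, 0, 0, 1, 0, 0, 0], [1, 0, 2, 0, 2, 0, 0, 2, 0, 2, 0, 1, 0, 0], [0, 0, 2, 0, 0, 0, 0, 2, 0, 0, 0, 0, 1, 0], [0, 2, 2, 1, 0, 0, 0, 2, 0, 0, 0, 0, 0, 1]],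
   [[1, 0, 1, 0, 1, 0, 0, 0, 0, 0, 0, 0, 0, 0], [0, 1, 2, 0, 0, 0, 0, 0, 0, 0, 0, 0, 0, 0], [0, 0, 1, 0, 0, 0, 0, 0, 0, 0, 0, 0, 0, 0], [0, 0, 0, 1, 0, 0, 0, 0, 0, 0, 0, 0, 0, 0], [0, 0, 0, 0, 1, 0, 0, 0, 0, 0, 0, 0, 0, 0], [0, 0, 2, 0, 0, 1, 0, 0, 0, 0, 0, 0, 0, 0], [0, 0, 0, 2, 0, 0, 1, 0, 0, 0, 0, 0, 0, 0], [0, 0, 0, 0, 0, 0, 0, 1, 0, 0, 0, 0, 0, 0], [0, 0, 0, 1, 0, 0, 0, 0, 1, 0, 0, 0, 0, 0], [0, 0, 2, 0, 0, 2, 0, 0, 0, 1, 0, 0, 0, 0], [0, 0, 0, 1, 1, 0, 1, 0, 0, 0, 1, 0, 0, 0], [1, 0, 1, 0, 2, 2, 0, 0, 0, 0, 0, 1, 0, 0], [0, 0, 2, 0, 0, 0, 0, 2, 0, 0, 0, 0, 1, 0], [0, 2, 2, 1, 0, 0, 0, 0, 0, 0, 0, 0, 0, 1]],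
   [[1, 0, 0, 0, 1, 0, 1, 0, 0, 0, 0, 0, 0, 0], [0, 1, 1, 0, 0, 0, 0, 1, 0, 0, 0, 0, 0, 0], [0, 0, 1, 0, 0, 0, 0, 0, 0, 0, 0, 0, 0, 0], [0, 0, 2, 1, 0, 0, 0, 0, 0, 0, 0, 0, 0, 0], [0, 0, 0, 2, 1, 0, 0, 0, 0, 0, 0, 0, 0, 0], [0, 0, 2, 2, 2, 1, 0, 0, 0, 0, 0, 0, 0, 0], [0, 0, 1, 0, 1, 2, 1, 0, 0, 0, 0, 0, 0, 0], [0, 0, 1, 2, 0, 0, 0, 1, 0, 0, 0, 0, 0, 0], [0, 1, 2, 2, 0, 0, 0, 2, 1, 0, 0, 0, 0, 0], [1, 1, 2, 0, 2, 2, 2, 0, 0, 1, 0, 0, 0, 0], [1, 1, 2, 1, 2, 2, 0, 0, 2, 1, 1, 0, 0, 0], [1, 0, 0, 2, 2, 0, 0, 0, 1, 0, 1, 1, 0, 0], [0, 1, 2, 2, 0, 0, 0, 0, 1, 0, 0, 0, 1, 0], [0, 1, 2, 0, 0, 0, 0, 0, 0, 0, 0, 0, 1, 1]],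
   [[1, 0, 2, 0, 0, 1, 0, 0, 0, 0, 0, 0, 0, 0], [0, 1, 1, 0, 0, 0, 0, 1, 0, 0, 0, 0, 0, 0], [0, 0, 1, 0, 0, 0, 0, 0, 0, 0, 0, 0, 0, 0], [0, 0, 2, 1, 0, 0, 0, 0, 0, 0, 0, 0, 0, 0], [0, 0, 2, 0, 1, 0, 0, 0, 0, 0, 0, 0, 0, 0], [0, 0, 0, 0, 0, 1, 0, 0, 0, 0, 0, 0, 0, 0], [0, 0, 1, 0, 1, 2, 1, 0, 0, 0, 0, 0, 0, 0], [0, 0, 0, 0, 0, 0, 0, 1, 0, 0, 0, 0, 0, 0], [0, 1, 2, 2, 0, 0, 0, 2, 1, 0, 0, 0, 0, 0], [0, 0, 0, 0, 0, 0, 0, 2, 0, 1, 0, 0, 0, 0], [1, 2, 1, 0, 2, 2, 0, 2, 0, 1, 1, 0, 0, 0], [0, 0, 0, 0, 0, 1, 0, 2, 0, 2, 0, 1, 0, 0], [0, 0, 0, 0, 0, 0, 0, 1, 0, 0, 0, 0, 1, 0], [0, 1, 2, 0, 0, 0, 0, 0, 0, 0, 0, 0, 1, 1]],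
   [[1, 0, 2, 0, 0, 1, 0, 0, 0, 0, 0, 0, 0, 0], [0, 1, 1, 0, 0, 0, 0, 0, 0, 0, 0, 0, 0, 0], [0, 0, 1, 0, 0, 0, 0, 0, 0, 0, 0, 0, 0, 0], [0, 0, 0, 1, 0, 0, 0, 0, 0, 0, 0, 0, 0, 0], [0, 0, 2, 0, 1, 0, 0, 0, 0, 0, 0, 0, 0, 0], [0, 0, 0, 0, 0, 1, 0, 0, 0, 0, 0, 0, 0, 0], [0, 0, 1, 0, 1, 0, 1, 0, 0, 0, 0, 0, 0, 0], [0, 0, 0, 0, 0, 0, 0, 1, 0, 0, 0, 0, 0, 0], [0, 0, 1, 2, 0, 0, 0, 0, 1, 0, 0, 0, 0, 0], [0, 0, 0, 0, 0, 0, 0, 2, 0, 1, 0, 0, 0, 0], [1, 2, 1, 0, 2, 2, 0, 0, 0, 0, 1, 0, 0, 0], [0, 0, 0, 0, 0, 1, 0, 2, 0, 2, 0, 1, 0, 0], [0, 0, 0, 0, 0, 0, 0, 1, 0, 0, 0, 0, 1, 0], [0, 1, 2, 0, 0, 0, 0, 2, 0, 0, 0, 0, 0, 1]],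
   [[1, 0, 2, 2, 1, 1, 1, 0, 0, 0, 0, 0, 0, 0], [0, 1, 1, 1, 0, 0, 0, 1, 0, 0, 0, 0, 0, 0], [0, 0, 1, 0, 0, 0, 0, 0, 0, 0, 0, 0, 0, 0], [0, 0, 2, 1, 0, 0, 0, 0, 0, 0, 0, 0, 0, 0], [0, 0, 2, 2, 1, 0, 0, 0, 0, 0, 0, 0, 0, 0], [0, 0, 1, 2, 2, 1, 0, 0, 0, 0, 0, 0, 0, 0], [0, 0, 0, 1, 2, 2, 1, 0, 0, 0, 0, 0, 0, 0], [0, 0, 2, 2, 0, 0, 0, 1, 0, 0, 0, 0, 0, 0], [0, 1, 1, 1, 0, 0, 0, 2, 1, 0, 0, 0, 0, 0], [1, 1, 0, 1, 1, 1, 2, 2, 0, 1, 0, 0, 0, 0], [2, 0, 1, 0, 2, 0, 2, 2, 2, 1, 1, 0, 0, 0], [1, 2, 1, 1, 2, 1, 1, 2, 1, 2, 1, 1, 0, 0], [0, 2, 2, 0, 0, 0, 0, 2, 1, 0, 0, 0, 1, 0], [0, 1, 2, 1, 0, 0, 0, 1, 2, 0, 0, 0, 1, 1]],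
   [[1, 0, 2, 1, 2, 2, 0, 0, 0, 0, 0, 0, 0, 0], [0, 1, 1, 1, 0, 0, 0, 1, 0, 0, 0, 0, 0, 0], [0, 0, 1, 0, 0, 0, 0, 0, 0, 0, 0, 0, 0, 0], [0, 0, 2, 1, 0, 0, 0, 0, 0, 0, 0, 0, 0, 0], [0, 0, 1, 0, 1, 0, 0, 0, 0, 0, 0, 0, 0, 0], [0, 0, 1, 0, 0, 1, 0, 0, 0, 0, 0, 0, 0, 0], [0, 0, 0, 1, 2, 2, 1, 0, 0, 0, 0, 0, 0, 0], [0, 0, 1, 0, 0, 0, 0, 1, 0, 0, 0, 0, 0, 0], [0, 1, 1, 1, 0, 0, 0, 2, 1, 0, 0, 0, 0, 0], [0, 0, 0, 0, 1, 1, 0, 1, 0, 1, 0, 0, 0, 0], [2, 1, 2, 1, 2, 0, 2, 1, 0, 1, 1, 0, 0, 0], [2, 0, 1, 2, 0, 1, 2, 2, 0, 1, 0, 1, 0, 0], [0, 1, 1, 2, 0, 0, 0, 0, 0, 0, 0, 0, 1, 0], [0, 1, 2, 1, 0, 0, 0, 1, 2, 0, 0, 0, 1, 1]],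
   [[1, 0, 2, 1, 2, 2, 0, 0, 0, 0, 0, 0, 0, 0], [0, 1, 0, 1, 0, 0, 0, 0, 0, 0, 0, 0, 0, 0], [0, 0, 1, 0, 0, 0, 0, 0, 0, 0, 0, 0, 0, 0], [0, 0, 0, 1, 0, 0, 0, 0, 0, 0, 0, 0, 0, 0], [0, 0, 1, 0, 1, 0, 0, 0, 0, 0, 0, 0, 0, 0], [0, 0, 1, 0, 0, 1, 0, 0, 0, 0, 0, 0, 0, 0], [0, 0, 1, 1, 2, 0, 1, 0, 0, 0, 0, 0, 0, 0], [0, 0, 1, 0, 0, 0, 0, 1, 0, 0, 0, 0, 0, 0], [0, 0, 2, 0, 0, 0, 0, 0, 1, 0, 0, 0, 0, 0], [0, 0, 0, 0, 1, 1, 0, 1, 0, 1, 0, 0, 0, 0], [2, 1, 2, 1, 1, 2, 2, 0, 0, 0, 1, 0, 0, 0], [2, 0, 1, 2, 0, 1, 2, 2, 0, 1, 0, 1, 0, 0], [0, 1, 1, 2, 0, 0, 0, 0, 0, 0, 0, 0, 1, 0], [0, 0, 1, 2, 0, 0, 0, 1, 2, 0, 0, 0, 0, 1]],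
   [[1, 0, 0, 1, 2, 0, 0, 0, 0, 0, 0, 0, 0, 0], [0, 1, 0, 1, 0, 0, 0, 0, 0, 0, 0, 0, 0, 0], [0, 0, 1, 0, 0, 0, 0, 0, 0, 0, 0, 0, 0, 0], [0, 0, 0, 1, 0, 0, 0, 0, 0, 0, 0, 0, 0, 0], [0, 0, 0, 0, 1, 0, 0, 0, 0, 0, 0, 0, 0, 0], [0, 0, 1, 0, 0, 1, 0, 0, 0, 0, 0, 0, 0, 0], [0, 0, 0, 1, 0, 0, 1, 0, 0, 0, 0, 0, 0, 0], [0, 0, 1, 0, 0, 0, 0, 1, 0, 0, 0, 0, 0, 0], [0, 0, 0, 0, 0, 0, 0, 0, 1, 0, 0, 0, 0, 0], [0, 0, 2, 0, 1, 1, 0, 0, 0, 1, 0, 0, 0, 0], [0, 0, 0, 1, 0, 0, 2, 0, 0, 0, 1, 0, 0, 0], [2, 0, 0, 2, 2, 0, 2, 0, 0, 0, 0, 1, 0, 0], [0, 1, 1, 2, 0, 0, 0, 0, 0, 0, 0, 0, 1, 0], [0, 0, 0, 2, 0, 0, 0, 0, 2, 0, 0, 0, 0, 1]],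
   [[1, 0, 1, 0, 0, 1, 1, 0, 0, 0, 0, 0, 0, 0], [0, 1, 0, 1, 0, 0, 0, 1, 0, 0, 0, 0, 0, 0], [0, 0, 1, 0, 0, 0, 0, 0, 0, 0, 0, 0, 0, 0], [0, 0, 2, 1, 0, 0, 0, 0, 0, 0, 0, 0, 0, 0], [0, 0, 2, 2, 1, 0, 0, 0, 0, 0, 0, 0, 0, 0], [0, 0, 2, 2, 2, 1, 0, 0, 0, 0, 0, 0, 0, 0], [0, 0, 2, 2, 2, 2, 1, 0, 0, 0, 0, 0, 0, 0], [0, 0, 2, 2, 0, 0, 0, 1, 0, 0, 0, 0, 0, 0], [0, 1, 0, 2, 0, 0, 0, 2, 1, 0, 0, 0, 0, 0], [1, 1, 0, 0, 0, 2, 2, 2, 0, 1, 0, 0, 0, 0], [2, 0, 2, 2, 1, 1, 1, 2, 2, 1, 1, 0, 0, 0], [0, 2, 1, 1, 1, 2, 0, 2, 1, 2, 1, 1, 0, 0], [0, 2, 1, 1, 0, 0, 0, 1, 1, 0, 0, 0, 1, 0], [0, 0, 1, 2, 0, 0, 0, 0, 2, 0, 0, 0, 1, 1]],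
   [[1, 0, 2, 1, 1, 2, 0, 0, 0, 0, 0, 0, 0, 0], [0, 1, 0, 1, 0, 0, 0, 1, 0, 0, 0, 0, 0, 0], [0, 0, 1, 0, 0, 0, 0, 0, 0, 0, 0, 0, 0, 0], [0, 0, 2, 1, 0, 0, 0, 0, 0, 0, 0, 0, 0, 0], [0, 0, 1, 0, 1, 0, 0, 0, 0, 0, 0, 0, 0, 0], [0, 0, 2, 0, 0, 1, 0, 0, 0, 0, 0, 0, 0, 0], [0, 0, 2, 2, 2, 2, 1, 0, 0, 0, 0, 0, 0, 0], [0, 0, 1, 0, 0, 0, 0, 1, 0, 0, 0, 0, 0, 0], [0, 1, 0, 2, 0, 0, 0, 2, 1, 0, 0, 0, 0, 0], [0, 0, 0, 0, 1, 2, 0, 1, 0, 1, 0, 0, 0, 0], [2, 1, 2, 1, 1, 1, 1, 1, 0, 1, 1, 0, 0, 0], [1, 0, 2, 1, 0, 1, 2, 2, 0, 1, 0, 1, 0, 0], [0, 1, 1, 2, 0, 0, 0, 2, 0, 0, 0, 0, 1, 0], [0, 0, 1, 2, 0, 0, 0, 0, 2, 0, 0, 0, 1, 1]],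
   [[1, 0, 2, 1, 1, 2, 0, 0, 0, 0, 0, 0, 0, 0], [0, 1, 2, 1, 0, 0, 0, 0, 0, 0, 0, 0, 0, 0], [0, 0, 1, 0, 0, 0, 0, 0, 0, 0, 0, 0, 0, 0], [0, 0, 0, 1, 0, 0, 0, 0, 0, 0, 0, 0, 0, 0], [0, 0, 1, 0, 1, 0, 0, 0, 0, 0, 0, 0, 0, 0], [0, 0, 2, 0, 0, 1, 0, 0, 0, 0, 0, 0, 0, 0], [0, 0, 1, 2, 2, 0, 1, 0, 0, 0, 0, 0, 0, 0], [0, 0, 1, 0, 0, 0, 0, 1, 0, 0, 0, 0, 0, 0], [0, 0, 2, 1, 0, 0, 0, 0, 1, 0, 0, 0, 0, 0], [0, 0, 0, 0, 1, 2, 0, 1, 0, 1, 0, 0, 0, 0], [2, 1, 2, 1, 0, 2, 1, 0, 0, 0, 1, 0, 0, 0], [1, 0, 2, 1, 0, 1, 2, 2, 0, 1, 0, 1, 0, 0], [0, 1, 1, 2, 0, 0, 0, 2, 0, 0, 0, 0, 1, 0], [0, 2, 0, 0, 0, 0, 0, 1, 2, 0, 0, 0, 0, 1]],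
   [[1, 0, 1, 1, 1, 0, 0, 0, 0, 0, 0, 0, 0, 0], [0, 1, 2, 1, 0, 0, 0, 0, 0, 0, 0, 0, 0, 0], [0, 0, 1, 0, 0, 0, 0, 0, 0, 0, 0, 0, 0, 0], [0, 0, 0, 1, 0, 0, 0, 0, 0, 0, 0, 0, 0, 0], [0, 0, 0, 0, 1, 0, 0, 0, 0, 0, 0, 0, 0, 0], [0, 0, 2, 0, 0, 1, 0, 0, 0, 0, 0, 0, 0, 0], [0, 0, 0, 2, 0, 0, 1, 0, 0, 0, 0, 0, 0, 0], [0, 0, 1, 0, 0, 0, 0, 1, 0, 0, 0, 0, 0, 0], [0, 0, 0, 1, 0, 0, 0, 0, 1, 0, 0, 0, 0, 0], [0, 0, 2, 0, 1, 2, 0, 0, 0, 1, 0, 0, 0, 0], [0, 0, 0, 1, 1, 0, 1, 0, 0, 0, 1, 0, 0, 0], [1, 0, 1, 1, 2, 2, 2, 0, 0, 0, 0, 1, 0, 0], [0, 1, 1, 2, 0, 0, 0, 2, 0, 0, 0, 0, 1, 0], [0, 2, 2, 0, 0, 0, 0, 0, 2, 0, 0, 0, 0, 1]],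
   [[1, 0, 0, 1, 2, 1, 1, 0, 0, 0, 0, 0, 0, 0], [0, 1, 2, 1, 0, 0, 0, 1, 0, 0, 0, 0, 0, 0], [0, 0, 1, 0, 0, 0, 0, 0, 0, 0, 0, 0, 0, 0], [0, 0, 2, 1, 0, 0, 0, 0, 0, 0, 0, 0, 0, 0], [0, 0, 2, 2, 1, 0, 0, 0, 0, 0, 0, 0, 0, 0], [0, 0, 0, 2, 2, 1, 0, 0, 0, 0, 0, 0, 0, 0], [0, 0, 1, 0, 2, 2, 1, 0, 0, 0, 0, 0, 0, 0], [0, 0, 2, 2, 0, 0, 0, 1, 0, 0, 0, 0, 0, 0], [0, 1, 2, 0, 0, 0, 0, 2, 1, 0, 0, 0, 0, 0], [1, 1, 1, 2, 2, 0, 2, 2, 0, 1, 0, 0, 0, 0], [2, 0, 1, 0, 0, 2, 0, 2, 2, 1, 1, 0, 0, 0], [2, 2, 1, 0, 1, 0, 2, 2, 1, 2, 1, 1, 0, 0], [0, 2, 0, 2, 0, 0, 0, 0, 1, 0, 0, 0, 1, 0], [0, 2, 1, 0, 0, 0, 0, 2, 2, 0, 0, 0, 1, 1]],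
   [[1, 0, 2, 1, 0, 2, 0, 0, 0, 0, 0, 0, 0, 0], [0, 1, 2, 1, 0, 0, 0, 1, 0, 0, 0, 0, 0, 0], [0, 0, 1, 0, 0, 0, 0, 0, 0, 0, 0, 0, 0, 0], [0, 0, 2, 1, 0, 0, 0, 0, 0, 0, 0, 0, 0, 0], [0, 0, 1, 0, 1, 0, 0, 0, 0, 0, 0, 0, 0, 0], [0, 0, 0, 0, 0, 1, 0, 0, 0, 0, 0, 0, 0, 0], [0, 0, 1, 0, 2, 2, 1, 0, 0, 0, 0, 0, 0, 0], [0, 0, 1, 0, 0, 0, 0, 1, 0, 0, 0, 0, 0, 0], [0, 1, 2, 0, 0, 0, 0, 2, 1, 0, 0, 0, 0, 0], [0, 0, 1, 0, 1, 0, 0, 1, 0, 1, 0, 0, 0, 0], [2, 1, 0, 0, 0, 2, 0, 1, 0, 1, 1, 0, 0, 0], [0, 0, 2, 0, 1, 1, 2, 2, 0, 1, 0, 1, 0, 0], [0, 1, 1, 2, 0, 0, 0, 1, 0, 0, 0, 0, 1, 0], [0, 2, 1, 0, 0, 0, 0, 2, 2, 0, 0, 0, 1, 1]],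
   [[1, 0, 2, 1, 0, 2, 0, 0, 0, 0, 0, 0, 0, 0], [0, 1, 1, 1, 0, 0, 0, 0, 0, 0, 0, 0, 0, 0], [0, 0, 1, 0, 0, 0, 0, 0, 0, 0, 0, 0, 0, 0], [0, 0, 0, 1, 0, 0, 0, 0, 0, 0, 0, 0, 0, 0], [0, 0, 1, 0, 1, 0, 0, 0, 0, 0, 0, 0, 0, 0], [0, 0, 0, 0, 0, 1, 0, 0, 0, 0, 0, 0, 0, 0], [0, 0, 1, 0, 2, 0, 1, 0, 0, 0, 0, 0, 0, 0], [0, 0, 1, 0, 0, 0, 0, 1, 0, 0, 0, 0, 0, 0], [0, 0, 2, 2, 0, 0, 0, 0, 1, 0, 0, 0, 0, 0], [0, 0, 1, 0, 1, 0, 0, 1, 0, 1, 0, 0, 0, 0], [2, 1, 2, 0, 2, 2, 0, 0, 0, 0, 1, 0, 0, 0], [0, 0, 2, 0, 1, 1, 2, 2, 0, 1, 0, 1, 0, 0], [0, 1, 1, 2, 0, 0, 0, 1, 0, 0, 0, 0, 1, 0], [0, 1, 0, 1, 0, 0, 0, 1, 2, 0, 0, 0, 0, 1]],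
   [[1, 0, 2, 0, 2, 2, 1, 0, 0, 0, 0, 0, 0, 0], [0, 1, 2, 2, 0, 0, 0, 1, 0, 0, 0, 0, 0, 0], [0, 0, 1, 0, 0, 0, 0, 0, 0, 0, 0, 0, 0, 0], [0, 0, 2, 1, 0, 0, 0, 0, 0, 0, 0, 0, 0, 0], [0, 0, 1, 2, 1, 0, 0, 0, 0, 0, 0, 0, 0, 0], [0, 0, 2, 2, 2, 1, 0, 0, 0, 0, 0, 0, 0, 0], [0, 0, 2, 1, 0, 2, 1, 0, 0, 0, 0, 0, 0, 0], [0, 0, 0, 2, 0, 0, 0, 1, 0, 0, 0, 0, 0, 0], [0, 1, 1, 2, 0, 0, 0, 2, 1, 0, 0, 0, 0, 0], [1, 1, 2, 0, 1, 2, 2, 1, 0, 1, 0, 0, 0, 0], [0, 2, 1, 2, 2, 1, 2, 1, 2, 1, 1, 0, 0, 0], [2, 1, 0, 1, 1, 1, 0, 2, 1, 1, 1, 1, 0, 0], [0, 0, 2, 1, 0, 0, 0, 2, 1, 0, 0, 0, 1, 0], [0, 2, 1, 1, 0, 0, 0, 0, 1, 0, 0, 0, 1, 1]],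
   [[1, 0, 0, 2, 2, 0, 0, 0, 0, 0, 0, 0, 0, 0], [0, 1, 2, 2, 0, 0, 0, 1, 0, 0, 0, 0, 0, 0], [0, 0, 1, 0, 0, 0, 0, 0, 0, 0, 0, 0, 0, 0], [0, 0, 2, 1, 0, 0, 0, 0, 0, 0, 0, 0, 0, 0], [0, 0, 0, 0, 1, 0, 0, 0, 0, 0, 0, 0, 0, 0], [0, 0, 1, 0, 0, 1, 0, 0, 0, 0, 0, 0, 0, 0], [0, 0, 2, 1, 0, 2, 1, 0, 0, 0, 0, 0, 0, 0], [0, 0, 2, 0, 0, 0, 0, 1, 0, 0, 0, 0, 0, 0], [0, 1, 1, 2, 0, 0, 0, 2, 1, 0, 0, 0, 0, 0], [0, 0, 2, 0, 2, 1, 0, 0, 0, 1, 0, 0, 0, 0], [0, 0, 2, 1, 2, 1, 2, 0, 0, 1, 1, 0, 0, 0], [2, 0, 0, 1, 2, 0, 1, 0, 0, 0, 0, 1, 0, 0], [0, 2, 1, 2, 0, 0, 0, 0, 0, 0, 0, 0, 1, 0], [0, 2, 1, 1, 0, 0, 0, 0, 1, 0, 0, 0, 1, 1]],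
   [[1, 0, 0, 2, 2, 0, 0, 0, 0, 0, 0, 0, 0, 0], [0, 1, 0, 2, 0, 0, 0, 0, 0, 0, 0, 0, 0, 0], [0, 0, 1, 0, 0, 0, 0, 0, 0, 0, 0, 0, 0, 0], [0, 0, 0, 1, 0, 0, 0, 0, 0, 0, 0, 0, 0, 0], [0, 0, 0, 0, 1, 0, 0, 0, 0, 0, 0, 0, 0, 0], [0, 0, 1, 0, 0, 1, 0, 0, 0, 0, 0, 0, 0, 0], [0, 0, 0, 1, 0, 0, 1, 0, 0, 0, 0, 0, 0, 0], [0, 0, 2, 0, 0, 0, 0, 1, 0, 0, 0, 0, 0, 0], [0, 0, 0, 0, 0, 0, 0, 0, 1, 0, 0, 0, 0, 0], [0, 0, 2, 0, 2, 1, 0, 0, 0, 1, 0, 0, 0, 0], [0, 0, 0, 1, 0, 0, 2, 0, 0, 0, 1, 0, 0, 0], [2, 0, 0, 1, 2, 0, 1, 0, 0, 0, 0, 1, 0, 0], [0, 2, 1, 2, 0, 0, 0, 0, 0, 0, 0, 0, 1, 0], [0, 0, 0, 2, 0, 0, 0, 0, 1, 0, 0, 0, 0, 1]],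
   [[1, 0, 2, 1, 1, 2, 1, 0, 0, 0, 0, 0, 0, 0], [0, 1, 1, 2, 0, 0, 0, 1, 0, 0, 0, 0, 0, 0], [0, 0, 1, 0, 0, 0, 0, 0, 0, 0, 0, 0, 0, 0], [0, 0, 2, 1, 0, 0, 0, 0, 0, 0, 0, 0, 0, 0], [0, 0, 1, 2, 1, 0, 0, 0, 0, 0, 0, 0, 0, 0], [0, 0, 0, 2, 2, 1, 0, 0, 0, 0, 0, 0, 0, 0], [0, 0, 1, 2, 0, 2, 1, 0, 0, 0, 0, 0, 0, 0], [0, 0, 0, 2, 0, 0, 0, 1, 0, 0, 0, 0, 0, 0], [0, 1, 0, 0, 0, 0, 0, 2, 1, 0, 0, 0, 0, 0], [1, 1, 0, 2, 0, 0, 2, 1, 0, 1, 0, 0, 0, 0], [0, 2, 2, 1, 0, 2, 1, 1, 2, 1, 1, 0, 0, 0], [1, 1, 0, 0, 2, 1, 2, 2, 1, 1, 1, 1, 0, 0], [0, 0, 0, 2, 0, 0, 0, 1, 1, 0, 0, 0, 1, 0], [0, 1, 2, 1, 0, 0, 0, 2, 1, 0, 0, 0, 1, 1]],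
   [[1, 0, 1, 2, 1, 0, 0, 0, 0, 0, 0, 0, 0, 0], [0, 1, 1, 2, 0, 0, 0, 1, 0, 0, 0, 0, 0, 0], [0, 0, 1, 0, 0, 0, 0, 0, 0, 0, 0, 0, 0, 0], [0, 0, 2, 1, 0, 0, 0, 0, 0, 0, 0, 0, 0, 0], [0, 0, 0, 0, 1, 0, 0, 0, 0, 0, 0, 0, 0, 0], [0, 0, 2, 0, 0, 1, 0, 0, 0, 0, 0, 0, 0, 0], [0, 0, 1, 2, 0, 2, 1, 0, 0, 0, 0, 0, 0, 0], [0, 0, 2, 0, 0, 0, 0, 1, 0, 0, 0, 0, 0, 0], [0, 1, 0, 0, 0, 0, 0, 2, 1, 0, 0, 0, 0, 0], [0, 0, 2, 0, 2, 2, 0, 0, 0, 1, 0, 0, 0, 0], [0, 0, 2, 1, 0, 2, 1, 0, 0, 1, 1, 0, 0, 0], [1, 0, 1, 2, 2, 2, 1, 0, 0, 0, 0, 1, 0, 0], [0, 2, 0, 2, 0, 0, 0, 2, 0, 0, 0, 0, 1, 0], [0, 1, 2, 1, 0, 0, 0, 2, 1, 0, 0, 0, 1, 1]],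
   [[1, 0, 1, 2, 1, 0, 0, 0, 0, 0, 0, 0, 0, 0], [0, 1, 2, 2, 0, 0, 0, 0, 0, 0, 0, 0, 0, 0], [0, 0, 1, 0, 0, 0, 0, 0, 0, 0, 0, 0, 0, 0], [0, 0, 0, 1, 0, 0, 0, 0, 0, 0, 0, 0, 0, 0], [0, 0, 0, 0, 1, 0, 0, 0, 0, 0, 0, 0, 0, 0], [0, 0, 2, 0, 0, 1, 0, 0, 0, 0, 0, 0, 0, 0], [0, 0, 0, 2, 0, 0, 1, 0, 0, 0, 0, 0, 0, 0], [0, 0, 2, 0, 0, 0, 0, 1, 0, 0, 0, 0, 0, 0], [0, 0, 0, 1, 0, 0, 0, 0, 1, 0, 0, 0, 0, 0], [0, 0, 2, 0, 2, 2, 0, 0, 0, 1, 0, 0, 0, 0], [0, 0, 0, 1, 1, 0, 1, 0, 0, 0, 1, 0, 0, 0], [1, 0, 1, 2, 2, 2, 1, 0, 0, 0, 0, 1, 0, 0], [0, 2, 0, 2, 0, 0, 0, 2, 0, 0, 0, 0, 1, 0], [0, 2, 2, 2, 0, 0, 0, 0, 1, 0, 0, 0, 0, 1]],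
   [[1, 0, 2, 2, 0, 2, 1, 0, 0, 0, 0, 0, 0, 0], [0, 1, 0, 2, 0, 0, 0, 1, 0, 0, 0, 0, 0, 0], [0, 0, 1, 0, 0, 0, 0, 0, 0, 0, 0, 0, 0, 0], [0, 0, 2, 1, 0, 0, 0, 0, 0, 0, 0, 0, 0, 0], [0, 0, 1, 2, 1, 0, 0, 0, 0, 0, 0, 0, 0, 0], [0, 0, 1, 2, 2, 1, 0, 0, 0, 0, 0, 0, 0, 0], [0, 0, 0, 0, 0, 2, 1, 0, 0, 0, 0, 0, 0, 0], [0, 0, 0, 2, 0, 0, 0, 1, 0, 0, 0, 0, 0, 0], [0, 1, 2, 1, 0, 0, 0, 2, 1, 0, 0, 0, 0, 0], [1, 1, 2, 1, 2, 1, 2, 1, 0, 1, 0, 0, 0, 0], [0, 2, 1, 2, 1, 0, 0, 1, 2, 1, 1, 0, 0, 0], [0, 1, 2, 1, 1, 1, 1, 2, 1, 1, 1, 1, 0, 0], [0, 0, 1, 0, 0, 0, 0, 0, 1, 0, 0, 0, 1, 0], [0, 0, 1, 1, 0, 0, 0, 1, 1, 0, 0, 0, 1, 1]],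
   [[1, 0, 2, 2, 0, 0, 0, 0, 0, 0, 0, 0, 0, 0], [0, 1, 0, 2, 0, 0, 0, 1, 0, 0, 0, 0, 0, 0], [0, 0, 1, 0, 0, 0, 0, 0, 0, 0, 0, 0, 0, 0], [0, 0, 2, 1, 0, 0, 0, 0, 0, 0, 0, 0, 0, 0], [0, 0, 0, 0, 1, 0, 0, 0, 0, 0, 0, 0, 0, 0], [0, 0, 0, 0, 0, 1, 0, 0, 0, 0, 0, 0, 0, 0], [0, 0, 0, 0, 0, 2, 1, 0, 0, 0, 0, 0, 0, 0], [0, 0, 2, 0, 0, 0, 0, 1, 0, 0, 0, 0, 0, 0], [0, 1, 2, 1, 0, 0, 0, 2, 1, 0, 0, 0, 0, 0], [0, 0, 0, 0, 2, 0, 0, 0, 0, 1, 0, 0, 0, 0], [0, 0, 0, 0, 1, 0, 0, 0, 0, 1, 1, 0, 0, 0], [0, 0, 0, 0, 0, 1, 1, 0, 0, 0, 0, 1, 0, 0], [0, 2, 2, 2, 0, 0, 0, 1, 0, 0, 0, 0, 1, 0], [0, 0, 1, 1, 0, 0, 0, 1, 1, 0, 0, 0, 1, 1]],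
   [[1, 0, 2, 1, 0, 0, 2, 0, 0, 0, 0, 0, 0, 0], [0, 1, 0, 0, 0, 0, 0, 2, 0, 0, 0, 0, 0, 0], [0, 0, 1, 0, 0, 0, 0, 0, 0, 0, 0, 0, 0, 0], [0, 0, 1, 1, 0, 0, 0, 0, 0, 0, 0, 0, 0, 0], [0, 0, 0, 1, 1, 0, 0, 0, 0, 0, 0, 0, 0, 0], [0, 0, 0, 2, 1, 1, 0, 0, 0, 0, 0, 0, 0, 0], [0, 0, 0, 2, 1, 1, 1, 0, 0, 0, 0, 0, 0, 0], [0, 0, 1, 1, 0, 0, 0, 1, 0, 0, 0, 0, 0, 0], [0, 2, 1, 0, 0, 0, 0, 2, 1, 0, 0, 0, 0, 0], [2, 2, 0, 1, 1, 0, 2, 0, 0, 1, 0, 0, 0, 0], [1, 1, 0, 1, 1, 0, 1, 0, 1, 2, 1, 0, 0, 0], [0, 0, 0, 2, 1, 1, 2, 0, 1, 0, 2, 1, 0, 0], [0, 1, 1, 0, 0, 0, 0, 1, 2, 0, 0, 0, 1, 0], [0, 0, 1, 1, 0, 0, 0, 2, 0, 0, 0, 0, 2, 1]],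
   [[1, 0, 2, 0, 1, 1, 0, 0, 0, 0, 0, 0, 0, 0], [0, 1, 0, 0, 0, 0, 0, 2, 0, 0, 0, 0, 0, 0], [0, 0, 1, 0, 0, 0, 0, 0, 0, 0, 0, 0, 0, 0], [0, 0, 1, 1, 0, 0, 0, 0, 0, 0, 0, 0, 0, 0], [0, 0, 2, 0, 1, 0, 0, 0, 0, 0, 0, 0, 0, 0], [0, 0, 2, 0, 0, 1, 0, 0, 0, 0, 0, 0, 0, 0], [0, 0, 0, 2, 1, 1, 1, 0, 0, 0, 0, 0, 0, 0], [0, 0, 0, 0, 0, 0, 0, 1, 0, 0, 0, 0, 0, 0], [0, 2, 1, 0, 0, 0, 0, 2, 1, 0, 0, 0, 0, 0], [0, 0, 2, 0, 0, 2, 0, 2, 0, 1, 0, 0, 0, 0], [1, 2, 2, 1, 1, 0, 1, 1, 0, 2, 1, 0, 0, 0], [1, 0, 1, 0, 2, 1, 0, 2, 0, 2, 0, 1, 0, 0], [0, 0, 2, 0, 0, 0, 0, 0, 0, 0, 0, 0, 1, 0], [0, 0, 1, 1, 0, 0, 0, 2, 0, 0, 0, 0, 2, 1]],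
   [[1, 0, 2, 0, 1, 1, 0, 0, 0, 0, 0, 0, 0, 0], [0, 1, 0, 0, 0, 0, 0, 0, 0, 0, 0, 0, 0, 0], [0, 0, 1, 0, 0, 0, 0, 0, 0, 0, 0, 0, 0, 0], [0, 0, 0, 1, 0, 0, 0, 0, 0, 0, 0, 0, 0, 0], [0, 0, 2, 0, 1, 0, 0, 0, 0, 0, 0, 0, 0, 0], [0, 0, 2, 0, 0, 1, 0, 0, 0, 0, 0, 0, 0, 0], [0, 0, 1, 2, 1, 0, 1, 0, 0, 0, 0, 0, 0, 0], [0, 0, 0, 0, 0, 0, 0, 1, 0, 0, 0, 0, 0, 0], [0, 0, 1, 0, 0, 0, 0, 0, 1, 0, 0, 0, 0, 0], [0, 0, 2, 0, 0, 2, 0, 2, 0, 1, 0, 0, 0, 0], [1, 2, 1, 1, 1, 2, 1, 0, 0, 0, 1, 0, 0, 0], [1, 0, 1, 0, 2, 1, 0, 2, 0, 2, 0, 1, 0, 0], [0, 0, 2, 0, 0, 0, 0, 0, 0, 0, 0, 0, 1, 0], [0, 0, 0, 1, 0, 0, 0, 2, 0, 0, 0, 0, 0, 1]],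
   [[1, 0, 0, 0, 1, 0, 0, 0, 0, 0, 0, 0, 0, 0], [0, 1, 0, 0, 0, 0, 0, 0, 0, 0, 0, 0, 0, 0], [0, 0, 1, 0, 0, 0, 0, 0, 0, 0, 0, 0, 0, 0], [0, 0, 0, 1, 0, 0, 0, 0, 0, 0, 0, 0, 0, 0], [0, 0, 0, 0, 1, 0, 0, 0, 0, 0, 0, 0, 0, 0], [0, 0, 2, 0, 0, 1, 0, 0, 0, 0, 0, 0, 0, 0], [0, 0, 0, 2, 0, 0, 1, 0, 0, 0, 0, 0, 0, 0], [0, 0, 0, 0, 0, 0, 0, 1, 0, 0, 0, 0, 0, 0], [0, 0, 0, 0, 0, 0, 0, 0, 1, 0, 0, 0, 0, 0], [0, 0, 2, 0, 0, 2, 0, 0, 0, 1, 0, 0, 0, 0], [0, 0, 0, 1, 0, 0, 1, 0, 0, 0, 1, 0, 0, 0], [1, 0, 0, 0, 2, 0, 0, 0, 0, 0, 0, 1, 0, 0], [0, 0, 2, 0, 0, 0, 0, 0, 0, 0, 0, 0, 1, 0], [0, 0, 0, 1, 0, 0, 0, 0, 0, 0, 0, 0, 0, 1]],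
   [[1, 0, 0, 0, 2, 0, 2, 0, 0, 0, 0, 0, 0, 0], [0, 1, 2, 0, 0, 0, 0, 2, 0, 0, 0, 0, 0, 0], [0, 0, 1, 0, 0, 0, 0, 0, 0, 0, 0, 0, 0, 0], [0, 0, 1, 1, 0, 0, 0, 0, 0, 0, 0, 0, 0, 0], [0, 0, 0, 1, 1, 0, 0, 0, 0, 0, 0, 0, 0, 0], [0, 0, 1, 2, 1, 1, 0, 0, 0, 0, 0, 0, 0, 0], [0, 0, 1, 0, 1, 1, 1, 0, 0, 0, 0, 0, 0, 0], [0, 0, 1, 1, 0, 0, 0, 1, 0, 0, 0, 0, 0, 0], [0, 2, 2, 1, 0, 0, 0, 2, 1, 0, 0, 0, 0, 0], [2, 2, 2, 0, 2, 1, 2, 0, 0, 1, 0, 0, 0, 0], [1, 1, 1, 1, 1, 2, 0, 0, 1, 2, 1, 0, 0, 0], [2, 0, 0, 1, 2, 0, 0, 0, 1, 0, 2, 1, 0, 0], [0, 1, 1, 2, 0, 0, 0, 0, 2, 0, 0, 0, 1, 0], [0, 2, 2, 0, 0, 0, 0, 0, 0, 0, 0, 0, 2, 1]],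
   [[1, 0, 1, 0, 0, 1, 0, 0, 0, 0, 0, 0, 0, 0], [0, 1, 2, 0, 0, 0, 0, 2, 0, 0, 0, 0, 0, 0], [0, 0, 1, 0, 0, 0, 0, 0, 0, 0, 0, 0, 0, 0], [0, 0, 1, 1, 0, 0, 0, 0, 0, 0, 0, 0, 0, 0], [0, 0, 2, 0, 1, 0, 0, 0, 0, 0, 0, 0, 0, 0], [0, 0, 0, 0, 0, 1, 0, 0, 0, 0, 0, 0, 0, 0], [0, 0, 1, 0, 1, 1, 1, 0, 0, 0, 0, 0, 0, 0], [0, 0, 0, 0, 0, 0, 0, 1, 0, 0, 0, 0, 0, 0], [0, 2, 2, 1, 0, 0, 0, 2, 1, 0, 0, 0, 0, 0], [0, 0, 0, 0, 0, 0, 0, 2, 0, 1, 0, 0, 0, 0], [1, 2, 2, 0, 1, 2, 0, 1, 0, 2, 1, 0, 0, 0], [0, 0, 0, 0, 0, 2, 0, 2, 0, 2, 0, 1, 0, 0], [0, 0, 0, 0, 0, 0, 0, 2, 0, 0, 0, 0, 1, 0], [0, 2, 2, 0, 0, 0, 0, 0, 0, 0, 0, 0, 2, 1]],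
   [[1, 0, 1, 0, 0, 1, 0, 0, 0, 0, 0, 0, 0, 0], [0, 1, 2, 0, 0, 0, 0, 0, 0, 0, 0, 0, 0, 0], [0, 0, 1, 0, 0, 0, 0, 0, 0, 0, 0, 0, 0, 0], [0, 0, 0, 1, 0, 0, 0, 0, 0, 0, 0, 0, 0, 0], [0, 0, 2, 0, 1, 0, 0, 0, 0, 0, 0, 0, 0, 0], [0, 0, 0, 0, 0, 1, 0, 0, 0, 0, 0, 0, 0, 0], [0, 0, 1, 0, 1, 0, 1, 0, 0, 0, 0, 0, 0, 0], [0, 0, 0, 0, 0, 0, 0, 1, 0, 0, 0, 0, 0, 0], [0, 0, 1, 1, 0, 0, 0, 0, 1, 0, 0, 0, 0, 0], [0, 0, 0, 0, 0, 0, 0, 2, 0, 1, 0, 0, 0, 0], [1, 2, 2, 0, 1, 2, 0, 0, 0, 0, 1, 0, 0, 0], [0, 0, 0, 0, 0, 2, 0, 2, 0, 2, 0, 1, 0, 0], [0, 0, 0, 0, 0, 0, 0, 2, 0, 0, 0, 0, 1, 0], [0, 2, 2, 0, 0, 0, 0, 2, 0, 0, 0, 0, 0, 1]],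
   [[1, 0, 1, 2, 1, 0, 2, 0, 0, 0, 0, 0, 0, 0], [0, 1, 1, 0, 0, 0, 0, 2, 0, 0, 0, 0, 0, 0], [0, 0, 1, 0, 0, 0, 0, 0, 0, 0, 0, 0, 0, 0], [0, 0, 1, 1, 0, 0, 0, 0, 0, 0, 0, 0, 0, 0], [0, 0, 0, 1, 1, 0, 0, 0, 0, 0, 0, 0, 0, 0], [0, 0, 2, 2, 1, 1, 0, 0, 0, 0, 0, 0, 0, 0], [0, 0, 2, 1, 1, 1, 1, 0, 0, 0, 0, 0, 0, 0], [0, 0, 1, 1, 0, 0, 0, 1, 0, 0, 0, 0, 0, 0], [0, 2, 0, 2, 0, 0, 0, 2, 1, 0, 0, 0, 0, 0], [2, 2, 2, 2, 0, 2, 2, 0, 0, 1, 0, 0, 0, 0], [1, 1, 1, 0, 1, 1, 2, 0, 1, 2, 1, 0, 0, 0], [1, 0, 1, 1, 1, 2, 1, 0, 1, 0, 2, 1, 0, 0], [0, 1, 1, 1, 0, 0, 0, 2, 2, 0, 0, 0, 1, 0], [0, 1, 1, 2, 0, 0, 0, 1, 0, 0, 0, 0, 2, 1]],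
   [[1, 0, 0, 0, 2, 1, 0, 0, 0, 0, 0, 0, 0, 0], [0, 1, 1, 0, 0, 0, 0, 2, 0, 0, 0, 0, 0, 0], [0, 0, 1, 0, 0, 0, 0, 0, 0, 0, 0, 0, 0, 0], [0, 0, 1, 1, 0, 0, 0, 0, 0, 0, 0, 0, 0, 0], [0, 0, 2, 0, 1, 0, 0, 0, 0, 0, 0, 0, 0, 0], [0, 0, 1, 0, 0, 1, 0, 0, 0, 0, 0, 0, 0, 0], [0, 0, 2, 1, 1, 1, 1, 0, 0, 0, 0, 0, 0, 0], [0, 0, 0, 0, 0, 0, 0, 1, 0, 0, 0, 0, 0, 0], [0, 2, 0, 2, 0, 0, 0, 2, 1, 0, 0, 0, 0, 0], [0, 0, 2, 0, 0, 1, 0, 2, 0, 1, 0, 0, 0, 0], [1, 2, 1, 1, 1, 1, 2, 1, 0, 2, 1, 0, 0, 0], [2, 0, 2, 0, 2, 0, 0, 2, 0, 2, 0, 1, 0, 0], [0, 0, 1, 0, 0, 0, 0, 1, 0, 0, 0, 0, 1, 0], [0, 1, 1, 2, 0, 0, 0, 1, 0, 0, 0, 0, 2, 1]],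
   [[1, 0, 0, 0, 2, 1, 0, 0, 0, 0, 0, 0, 0, 0], [0, 1, 1, 0, 0, 0, 0, 0, 0, 0, 0, 0, 0, 0], [0, 0, 1, 0, 0, 0, 0, 0, 0, 0, 0, 0, 0, 0], [0, 0, 0, 1, 0, 0, 0, 0, 0, 0, 0, 0, 0, 0], [0, 0, 2, 0, 1, 0, 0, 0, 0, 0, 0, 0, 0, 0], [0, 0, 1, 0, 0, 1, 0, 0, 0, 0, 0, 0, 0, 0], [0, 0, 1, 1, 1, 0, 1, 0, 0, 0, 0, 0, 0, 0], [0, 0, 0, 0, 0, 0, 0, 1, 0, 0, 0, 0, 0, 0], [0, 0, 1, 2, 0, 0, 0, 0, 1, 0, 0, 0, 0, 0], [0, 0, 2, 0, 0, 1, 0, 2, 0, 1, 0, 0, 0, 0], [1, 2, 0, 1, 1, 2, 2, 0, 0, 0, 1, 0, 0, 0], [2, 0, 2, 0, 2, 0, 0, 2, 0, 2, 0, 1, 0, 0], [0, 0, 1, 0, 0, 0, 0, 1, 0, 0, 0, 0, 1, 0], [0, 1, 2, 2, 0, 0, 0, 2, 0, 0, 0, 0, 0, 1]],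
   [[1, 0, 2, 0, 2, 0, 0, 0, 0, 0, 0, 0, 0, 0], [0, 1, 1, 0, 0, 0, 0, 0, 0, 0, 0, 0, 0, 0], [0, 0, 1, 0, 0, 0, 0, 0, 0, 0, 0, 0, 0, 0], [0, 0, 0, 1, 0, 0, 0, 0, 0, 0, 0, 0, 0, 0], [0, 0, 0, 0, 1, 0, 0, 0, 0, 0, 0, 0, 0, 0], [0, 0, 1, 0, 0, 1, 0, 0, 0, 0, 0, 0, 0, 0], [0, 0, 0, 1, 0, 0, 1, 0, 0, 0, 0, 0, 0, 0], [0, 0, 0, 0, 0, 0, 0, 1, 0, 0, 0, 0, 0, 0], [0, 0, 0, 2, 0, 0, 0, 0, 1, 0, 0, 0, 0, 0], [0, 0, 2, 0, 0, 1, 0, 0, 0, 1, 0, 0, 0, 0], [0, 0, 0, 1, 2, 0, 2, 0, 0, 0, 1, 0, 0, 0], [2, 0, 1, 0, 2, 1, 0, 0, 0, 0, 0, 1, 0, 0], [0, 0, 1, 0, 0, 0, 0, 1, 0, 0, 0, 0, 1, 0], [0, 1, 2, 2, 0, 0, 0, 0, 0, 0, 0, 0, 0, 1]],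
   [[1, 0, 1, 2, 2, 1, 2, 0, 0, 0, 0, 0, 0, 0], [0, 1, 2, 1, 0, 0, 0, 2, 0, 0, 0, 0, 0, 0], [0, 0, 1, 0, 0, 0, 0, 0, 0, 0, 0, 0, 0, 0], [0, 0, 1, 1, 0, 0, 0, 0, 0, 0, 0, 0, 0, 0], [0, 0, 2, 1, 1, 0, 0, 0, 0, 0, 0, 0, 0, 0], [0, 0, 2, 2, 1, 1, 0, 0, 0, 0, 0, 0, 0, 0], [0, 0, 0, 2, 2, 1, 1, 0, 0, 0, 0, 0, 0, 0], [0, 0, 2, 1, 0, 0, 0, 1, 0, 0, 0, 0, 0, 0], [0, 2, 1, 2, 0, 0, 0, 2, 1, 0, 0, 0, 0, 0], [2, 2, 0, 2, 1, 2, 2, 2, 0, 1, 0, 0, 0, 0], [2, 0, 2, 0, 1, 0, 1, 1, 1, 2, 1, 0, 0, 0], [2, 1, 1, 2, 2, 2, 1, 2, 1, 2, 2, 1, 0, 0], [0, 2, 1, 0, 0, 0, 0, 1, 2, 0, 0, 0, 1, 0], [0, 2, 2, 2, 0, 0, 0, 1, 2, 0, 0, 0, 2, 1]],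
   [[1, 0, 1, 1, 1, 2, 0, 0, 0, 0, 0, 0, 0, 0], [0, 1, 2, 1, 0, 0, 0, 2, 0, 0, 0, 0, 0, 0], [0, 0, 1, 0, 0, 0, 0, 0, 0, 0, 0, 0, 0, 0], [0, 0, 1, 1, 0, 0, 0, 0, 0, 0, 0, 0, 0, 0], [0, 0, 1, 0, 1, 0, 0, 0, 0, 0, 0, 0, 0, 0], [0, 0, 2, 0, 0, 1, 0, 0, 0, 0, 0, 0, 0, 0], [0, 0, 0, 2, 2, 1, 1, 0, 0, 0, 0, 0, 0, 0], [0, 0, 1, 0, 0, 0, 0, 1, 0, 0, 0, 0, 0, 0], [0, 2, 1, 2, 0, 0, 0, 2, 1, 0, 0, 0, 0, 0], [0, 0, 0, 0, 1, 2, 0, 1, 0, 1, 0, 0, 0, 0], [2, 1, 1, 1, 1, 0, 1, 2, 0, 2, 1, 0, 0, 0], [1, 0, 1, 1, 0, 2, 2, 2, 0, 1, 0, 1, 0, 0], [0, 1, 2, 2, 0, 0, 0, 0, 0, 0, 0, 0, 1, 0], [0, 2, 2, 2, 0, 0, 0, 1, 2, 0, 0, 0, 2, 1]],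
   [[1, 0, 1, 1, 1, 2, 0, 0, 0, 0, 0, 0, 0, 0], [0, 1, 0, 1, 0, 0, 0, 0, 0, 0, 0, 0, 0, 0], [0, 0, 1, 0, 0, 0, 0, 0, 0, 0, 0, 0, 0, 0], [0, 0, 0, 1, 0, 0, 0, 0, 0, 0, 0, 0, 0, 0], [0, 0, 1, 0, 1, 0, 0, 0, 0, 0, 0, 0, 0, 0], [0, 0, 2, 0, 0, 1, 0, 0, 0, 0, 0, 0, 0, 0], [0, 0, 1, 2, 2, 0, 1, 0, 0, 0, 0, 0, 0, 0], [0, 0, 1, 0, 0, 0, 0, 1, 0, 0, 0, 0, 0, 0], [0, 0, 2, 0, 0, 0, 0, 0, 1, 0, 0, 0, 0, 0], [0, 0, 0, 0, 1, 2, 0, 1, 0, 1, 0, 0, 0, 0], [2, 1, 1, 1, 2, 2, 1, 0, 0, 0, 1, 0, 0, 0], [1, 0, 1, 1, 0, 2, 2, 2, 0, 1, 0, 1, 0, 0], [0, 1, 2, 2, 0, 0, 0, 0, 0, 0, 0, 0, 1, 0], [0, 0, 1, 1, 0, 0, 0, 1, 2, 0, 0, 0, 0, 1]],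
   [[1, 0, 0, 1, 1, 0, 0, 0, 0, 0, 0, 0, 0, 0], [0, 1, 0, 1, 0, 0, 0, 0, 0, 0, 0, 0, 0, 0], [0, 0, 1, 0, 0, 0, 0, 0, 0, 0, 0, 0, 0, 0], [0, 0, 0, 1, 0, 0, 0, 0, 0, 0, 0, 0, 0, 0], [0, 0, 0, 0, 1, 0, 0, 0, 0, 0, 0, 0, 0, 0], [0, 0, 2, 0, 0, 1, 0, 0, 0, 0, 0, 0, 0, 0], [0, 0, 0, 2, 0, 0, 1, 0, 0, 0, 0, 0, 0, 0], [0, 0, 1, 0, 0, 0, 0, 1, 0, 0, 0, 0, 0, 0], [0, 0, 0, 0, 0, 0, 0, 0, 1, 0, 0, 0, 0, 0], [0, 0, 2, 0, 1, 2, 0, 0, 0, 1, 0, 0, 0, 0], [0, 0, 0, 1, 0, 0, 1, 0, 0, 0, 1, 0, 0, 0], [1, 0, 0, 1, 2, 0, 2, 0, 0, 0, 0, 1, 0, 0], [0, 1, 2, 2, 0, 0, 0, 0, 0, 0, 0, 0, 1, 0], [0, 0, 0, 1, 0, 0, 0, 0, 2, 0, 0, 0, 0, 1]],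
   [[1, 0, 0, 1, 1, 1, 2, 0, 0, 0, 0, 0, 0, 0], [0, 1, 1, 1, 0, 0, 0, 2, 0, 0, 0, 0, 0, 0], [0, 0, 1, 0, 0, 0, 0, 0, 0, 0, 0, 0, 0, 0], [0, 0, 1, 1, 0, 0, 0, 0, 0, 0, 0, 0, 0, 0], [0, 0, 2, 1, 1, 0, 0, 0, 0, 0, 0, 0, 0, 0], [0, 0, 0, 2, 1, 1, 0, 0, 0, 0, 0, 0, 0, 0], [0, 0, 1, 0, 2, 1, 1, 0, 0, 0, 0, 0, 0, 0], [0, 0, 2, 1, 0, 0, 0, 1, 0, 0, 0, 0, 0, 0], [0, 2, 2, 0, 0, 0, 0, 2, 1, 0, 0, 0, 0, 0], [2, 2, 1, 1, 2, 0, 2, 2, 0, 1, 0, 0, 0, 0], [2, 0, 2, 0, 0, 2, 0, 1, 1, 2, 1, 0, 0, 0], [1, 1, 1, 0, 1, 0, 2, 2, 1, 2, 2, 1, 0, 0], [0, 2, 0, 2, 0, 0, 0, 0, 2, 0, 0, 0, 1, 0], [0, 1, 1, 0, 0, 0, 0, 2, 2, 0, 0, 0, 2, 1]],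
   [[1, 0, 1, 1, 0, 2, 0, 0, 0, 0, 0, 0, 0, 0], [0, 1, 1, 1, 0, 0, 0, 2, 0, 0, 0, 0, 0, 0], [0, 0, 1, 0, 0, 0, 0, 0, 0, 0, 0, 0, 0, 0], [0, 0, 1, 1, 0, 0, 0, 0, 0, 0, 0, 0, 0, 0], [0, 0, 1, 0, 1, 0, 0, 0, 0, 0, 0, 0, 0, 0], [0, 0, 0, 0, 0, 1, 0, 0, 0, 0, 0, 0, 0, 0], [0, 0, 1, 0, 2, 1, 1, 0, 0, 0, 0, 0, 0, 0], [0, 0, 1, 0, 0, 0, 0, 1, 0, 0, 0, 0, 0, 0], [0, 2, 2, 0, 0, 0, 0, 2, 1, 0, 0, 0, 0, 0], [0, 0, 1, 0, 1, 0, 0, 1, 0, 1, 0, 0, 0, 0], [2, 1, 0, 0, 0, 2, 0, 2, 0, 2, 1, 0, 0, 0], [0, 0, 2, 0, 1, 2, 2, 2, 0, 1, 0, 1, 0, 0], [0, 1, 2, 2, 0, 0, 0, 2, 0, 0, 0, 0, 1, 0], [0, 1, 1, 0, 0, 0, 0, 2, 2, 0, 0, 0, 2, 1]],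
   [[1, 0, 1, 1, 0, 2, 0, 0, 0, 0, 0, 0, 0, 0], [0, 1, 2, 1, 0, 0, 0, 0, 0, 0, 0, 0, 0, 0], [0, 0, 1, 0, 0, 0, 0, 0, 0, 0, 0, 0, 0, 0], [0, 0, 0, 1, 0, 0, 0, 0, 0, 0, 0, 0, 0, 0], [0, 0, 1, 0, 1, 0, 0, 0, 0, 0, 0, 0, 0, 0], [0, 0, 0, 0, 0, 1, 0, 0, 0, 0, 0, 0, 0, 0], [0, 0, 1, 0, 2, 0, 1, 0, 0, 0, 0, 0, 0, 0], [0, 0, 1, 0, 0, 0, 0, 1, 0, 0, 0, 0, 0, 0], [0, 0, 2, 1, 0, 0, 0, 0, 1, 0, 0, 0, 0, 0], [0, 0, 1, 0, 1, 0, 0, 1, 0, 1, 0, 0, 0, 0], [2, 1, 1, 0, 1, 2, 0, 0, 0, 0, 1, 0, 0, 0], [0, 0, 2, 0, 1, 2, 2, 2, 0, 1, 0, 1, 0, 0], [0, 1, 2, 2, 0, 0, 0, 2, 0, 0, 0, 0, 1, 0], [0, 2, 0, 2, 0, 0, 0, 1, 2, 0, 0, 0, 0, 1]],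
   [[1, 0, 2, 0, 0, 1, 2, 0, 0, 0, 0, 0, 0, 0], [0, 1, 0, 1, 0, 0, 0, 2, 0, 0, 0, 0, 0, 0], [0, 0, 1, 0, 0, 0, 0, 0, 0, 0, 0, 0, 0, 0], [0, 0, 1, 1, 0, 0, 0, 0, 0, 0, 0, 0, 0, 0], [0, 0, 2, 1, 1, 0, 0, 0, 0, 0, 0, 0, 0, 0], [0, 0, 1, 2, 1, 1, 0, 0, 0, 0, 0, 0, 0, 0], [0, 0, 2, 1, 2, 1, 1, 0, 0, 0, 0, 0, 0, 0], [0, 0, 2, 1, 0, 0, 0, 1, 0, 0, 0, 0, 0, 0], [0, 2, 0, 1, 0, 0, 0, 2, 1, 0, 0, 0, 0, 0], [2, 2, 0, 0, 0, 1, 2, 2, 0, 1, 0, 0, 0, 0], [2, 0, 1, 2, 2, 1, 2, 1, 1, 2, 1, 0, 0, 0], [0, 1, 1, 2, 1, 1, 0, 2, 1, 2, 2, 1, 0, 0], [0, 2, 2, 1, 0, 0, 0, 2, 2, 0, 0, 0, 1, 0], [0, 0, 1, 1, 0, 0, 0, 0, 2, 0, 0, 0, 2, 1]],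
   [[1, 0, 1, 1, 2, 2, 0, 0, 0, 0, 0, 0, 0, 0], [0, 1, 0, 1, 0, 0, 0, 2, 0, 0, 0, 0, 0, 0], [0, 0, 1, 0, 0, 0, 0, 0, 0, 0, 0, 0, 0, 0], [0, 0, 1, 1, 0, 0, 0, 0, 0, 0, 0, 0, 0, 0], [0, 0, 1, 0, 1, 0, 0, 0, 0, 0, 0, 0, 0, 0], [0, 0, 1, 0, 0, 1, 0, 0, 0, 0, 0, 0, 0, 0], [0, 0, 2, 1, 2, 1, 1, 0, 0, 0, 0, 0, 0, 0], [0, 0, 1, 0, 0, 0, 0, 1, 0, 0, 0, 0, 0, 0], [0, 2, 0, 1, 0, 0, 0, 2, 1, 0, 0, 0, 0, 0], [0, 0, 0, 0, 1, 1, 0, 1, 0, 1, 0, 0, 0, 0], [2, 1, 1, 1, 2, 1, 2, 2, 0, 2, 1, 0, 0, 0], [2, 0, 2, 2, 0, 2, 2, 2, 0, 1, 0, 1, 0, 0], [0, 1, 2, 2, 0, 0, 0, 1, 0, 0, 0, 0, 1, 0], [0, 0, 1, 1, 0, 0, 0, 0, 2, 0, 0, 0, 2, 1]],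
   [[1, 0, 1, 1, 2, 2, 0, 0, 0, 0, 0, 0, 0, 0], [0, 1, 1, 1, 0, 0, 0, 0, 0, 0, 0, 0, 0, 0], [0, 0, 1, 0, 0, 0, 0, 0, 0, 0, 0, 0, 0, 0], [0, 0, 0, 1, 0, 0, 0, 0, 0, 0, 0, 0, 0, 0], [0, 0, 1, 0, 1, 0, 0, 0, 0, 0, 0, 0, 0, 0], [0, 0, 1, 0, 0, 1, 0, 0, 0, 0, 0, 0, 0, 0], [0, 0, 1, 1, 2, 0, 1, 0, 0, 0, 0, 0, 0, 0], [0, 0, 1, 0, 0, 0, 0, 1, 0, 0, 0, 0, 0, 0], [0, 0, 2, 2, 0, 0, 0, 0, 1, 0, 0, 0, 0, 0], [0, 0, 0, 0, 1, 1, 0, 1, 0, 1, 0, 0, 0, 0], [2, 1, 1, 1, 0, 2, 2, 0, 0, 0, 1, 0, 0, 0], [2, 0, 2, 2, 0, 2, 2, 2, 0, 1, 0, 1, 0, 0], [0, 1, 2, 2, 0, 0, 0, 1, 0, 0, 0, 0, 1, 0], [0, 1, 0, 0, 0, 0, 0, 1, 2, 0, 0, 0, 0, 1]],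
   [[1, 0, 2, 1, 2, 0, 0, 0, 0, 0, 0, 0, 0, 0], [0, 1, 1, 1, 0, 0, 0, 0, 0, 0, 0, 0, 0, 0], [0, 0, 1, 0, 0, 0, 0, 0, 0, 0, 0, 0, 0, 0], [0, 0, 0, 1, 0, 0, 0, 0, 0, 0, 0, 0, 0, 0], [0, 0, 0, 0, 1, 0, 0, 0, 0, 0, 0, 0, 0, 0], [0, 0, 1, 0, 0, 1, 0, 0, 0, 0, 0, 0, 0, 0], [0, 0, 0, 1, 0, 0, 1, 0, 0, 0, 0, 0, 0, 0], [0, 0, 1, 0, 0, 0, 0, 1, 0, 0, 0, 0, 0, 0], [0, 0, 0, 2, 0, 0, 0, 0, 1, 0, 0, 0, 0, 0], [0, 0, 2, 0, 1, 1, 0, 0, 0, 1, 0, 0, 0, 0], [0, 0, 0, 1, 2, 0, 2, 0, 0, 0, 1, 0, 0, 0], [2, 0, 1, 2, 2, 1, 2, 0, 0, 0, 0, 1, 0, 0], [0, 1, 2, 2, 0, 0, 0, 1, 0, 0, 0, 0, 1, 0], [0, 1, 2, 0, 0, 0, 0, 0, 2, 0, 0, 0, 0, 1]],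
   [[1, 0, 1, 0, 1, 2, 2, 0, 0, 0, 0, 0, 0, 0], [0, 1, 1, 2, 0, 0, 0, 2, 0, 0, 0, 0, 0, 0], [0, 0, 1, 0, 0, 0, 0, 0, 0, 0, 0, 0, 0, 0], [0, 0, 1, 1, 0, 0, 0, 0, 0, 0, 0, 0, 0, 0], [0, 0, 1, 1, 1, 0, 0, 0, 0, 0, 0, 0, 0, 0], [0, 0, 1, 2, 1, 1, 0, 0, 0, 0, 0, 0, 0, 0], [0, 0, 2, 2, 0, 1, 1, 0, 0, 0, 0, 0, 0, 0], [0, 0, 0, 1, 0, 0, 0, 1, 0, 0, 0, 0, 0, 0], [0, 2, 1, 1, 0, 0, 0, 2, 1, 0, 0, 0, 0, 0], [2, 2, 2, 0, 1, 1, 2, 1, 0, 1, 0, 0, 0, 0], [0, 2, 2, 2, 1, 1, 1, 2, 1, 2, 1, 0, 0, 0], [1, 2, 0, 2, 1, 2, 0, 2, 1, 1, 2, 1, 0, 0], [0, 0, 1, 1, 0, 0, 0, 1, 2, 0, 0, 0, 1, 0], [0, 1, 1, 2, 0, 0, 0, 0, 1, 0, 0, 0, 2, 1]],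
   [[1, 0, 0, 2, 1, 0, 0, 0, 0, 0, 0, 0, 0, 0], [0, 1, 1, 2, 0, 0, 0, 2, 0, 0, 0, 0, 0, 0], [0, 0, 1, 0, 0, 0, 0, 0, 0, 0, 0, 0, 0, 0], [0, 0, 1, 1, 0, 0, 0, 0, 0, 0, 0, 0, 0, 0], [0, 0, 0, 0, 1, 0, 0, 0, 0, 0, 0, 0, 0, 0], [0, 0, 2, 0, 0, 1, 0, 0, 0, 0, 0, 0, 0, 0], [0, 0, 2, 2, 0, 1, 1, 0, 0, 0, 0, 0, 0, 0], [0, 0, 2, 0, 0, 0, 0, 1, 0, 0, 0, 0, 0, 0], [0, 2, 1, 1, 0, 0, 0, 2, 1, 0, 0, 0, 0, 0], [0, 0, 2, 0, 2, 2, 0, 0, 0, 1, 0, 0, 0, 0], [0, 0, 1, 1, 1, 1, 1, 0, 0, 2, 1, 0, 0, 0], [1, 0, 0, 2, 2, 0, 1, 0, 0, 0, 0, 1, 0, 0], [0, 2, 2, 2, 0, 0, 0, 0, 0, 0, 0, 0, 1, 0], [0, 1, 1, 2, 0, 0, 0, 0, 1, 0, 0, 0, 2, 1]],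
   [[1, 0, 0, 2, 1, 0, 0, 0, 0, 0, 0, 0, 0, 0], [0, 1, 0, 2, 0, 0, 0, 0, 0, 0, 0, 0, 0, 0], [0, 0, 1, 0, 0, 0, 0, 0, 0, 0, 0, 0, 0, 0], [0, 0, 0, 1, 0, 0, 0, 0, 0, 0, 0, 0, 0, 0], [0, 0, 0, 0, 1, 0, 0, 0, 0, 0, 0, 0, 0, 0], [0, 0, 2, 0, 0, 1, 0, 0, 0, 0, 0, 0, 0, 0], [0, 0, 0, 2, 0, 0, 1, 0, 0, 0, 0, 0, 0, 0], [0, 0, 2, 0, 0, 0, 0, 1, 0, 0, 0, 0, 0, 0], [0, 0, 0, 0, 0, 0, 0, 0, 1, 0, 0, 0, 0, 0], [0, 0, 2, 0, 2, 2, 0, 0, 0, 1, 0, 0, 0, 0], [0, 0, 0, 1, 0, 0, 1, 0, 0, 0, 1, 0, 0, 0], [1, 0, 0, 2, 2, 0, 1, 0, 0, 0, 0, 1, 0, 0], [0, 2, 2, 2, 0, 0, 0, 0, 0, 0, 0, 0, 1, 0], [0, 0, 0, 1, 0, 0, 0, 0, 1, 0, 0, 0, 0, 1]],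
   [[1, 0, 1, 2, 0, 2, 2, 0, 0, 0, 0, 0, 0, 0], [0, 1, 0, 2, 0, 0, 0, 2, 0, 0, 0, 0, 0, 0], [0, 0, 1, 0, 0, 0, 0, 0, 0, 0, 0, 0, 0, 0], [0, 0, 1, 1, 0, 0, 0, 0, 0, 0, 0, 0, 0, 0], [0, 0, 1, 1, 1, 0, 0, 0, 0, 0, 0, 0, 0, 0], [0, 0, 2, 2, 1, 1, 0, 0, 0, 0, 0, 0, 0, 0], [0, 0, 0, 0, 0, 1, 1, 0, 0, 0, 0, 0, 0, 0], [0, 0, 0, 1, 0, 0, 0, 1, 0, 0, 0, 0, 0, 0], [0, 2, 2, 2, 0, 0, 0, 2, 1, 0, 0, 0, 0, 0], [2, 2, 2, 2, 2, 2, 2, 1, 0, 1, 0, 0, 0, 0], [0, 2, 2, 2, 2, 0, 0, 2, 1, 2, 1, 0, 0, 0], [0, 2, 2, 2, 1, 2, 1, 2, 1, 1, 2, 1, 0, 0], [0, 0, 2, 0, 0, 0, 0, 0, 2, 0, 0, 0, 1, 0], [0, 0, 1, 2, 0, 0, 0, 1, 1, 0, 0, 0, 2, 1]],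
   [[1, 0, 1, 2, 0, 0, 0, 0, 0, 0, 0, 0, 0, 0], [0, 1, 0, 2, 0, 0, 0, 2, 0, 0, 0, 0, 0, 0], [0, 0, 1, 0, 0, 0, 0, 0, 0, 0, 0, 0, 0, 0], [0, 0, 1, 1, 0, 0, 0, 0, 0, 0, 0, 0, 0, 0], [0, 0, 0, 0, 1, 0, 0, 0, 0, 0, 0, 0, 0, 0], [0, 0, 0, 0, 0, 1, 0, 0, 0, 0, 0, 0, 0, 0], [0, 0, 0, 0, 0, 1, 1, 0, 0, 0, 0, 0, 0, 0], [0, 0, 2, 0, 0, 0, 0, 1, 0, 0, 0, 0, 0, 0], [0, 2, 2, 2, 0, 0, 0, 2, 1, 0, 0, 0, 0, 0], [0, 0, 0, 0, 2, 0, 0, 0, 0, 1, 0, 0, 0, 0], [0, 0, 0, 0, 2, 0, 0, 0, 0, 2, 1, 0, 0, 0], [0, 0, 0, 0, 0, 2, 1, 0, 0, 0, 0, 1, 0, 0], [0, 2, 1, 2, 0, 0, 0, 2, 0, 0, 0, 0, 1, 0], [0, 0, 1, 2, 0, 0, 0, 1, 1, 0, 0, 0, 2, 1]],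
   [[1, 0, 1, 1, 2, 2, 2, 0, 0, 0, 0, 0, 0, 0], [0, 1, 2, 2, 0, 0, 0, 2, 0, 0, 0, 0, 0, 0], [0, 0, 1, 0, 0, 0, 0, 0, 0, 0, 0, 0, 0, 0], [0, 0, 1, 1, 0, 0, 0, 0, 0, 0, 0, 0, 0, 0], [0, 0, 1, 1, 1, 0, 0, 0, 0, 0, 0, 0, 0, 0], [0, 0, 0, 2, 1, 1, 0, 0, 0, 0, 0, 0, 0, 0], [0, 0, 1, 1, 0, 1, 1, 0, 0, 0, 0, 0, 0, 0], [0, 0, 0, 1, 0, 0, 0, 1, 0, 0, 0, 0, 0, 0], [0, 2, 0, 0, 0, 0, 0, 2, 1, 0, 0, 0, 0, 0], [2, 2, 0, 1, 0, 0, 2, 1, 0, 1, 0, 0, 0, 0], [0, 2, 1, 1, 0, 2, 2, 2, 1, 2, 1, 0, 0, 0], [2, 2, 0, 0, 2, 2, 2, 2, 1, 1, 2, 1, 0, 0], [0, 0, 0, 2, 0, 0, 0, 2, 2, 0, 0, 0, 1, 0], [0, 2, 2, 2, 0, 0, 0, 2, 1, 0, 0, 0, 2, 1]],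
   [[1, 0, 2, 2, 2, 0, 0, 0, 0, 0, 0, 0, 0, 0], [0, 1, 2, 2, 0, 0, 0, 2, 0, 0, 0, 0, 0, 0], [0, 0, 1, 0, 0, 0, 0, 0, 0, 0, 0, 0, 0, 0], [0, 0, 1, 1, 0, 0, 0, 0, 0, 0, 0, 0, 0, 0], [0, 0, 0, 0, 1, 0, 0, 0, 0, 0, 0, 0, 0, 0], [0, 0, 1, 0, 0, 1, 0, 0, 0, 0, 0, 0, 0, 0], [0, 0, 1, 1, 0, 1, 1, 0, 0, 0, 0, 0, 0, 0], [0, 0, 2, 0, 0, 0, 0, 1, 0, 0, 0, 0, 0, 0], [0, 2, 0, 0, 0, 0, 0, 2, 1, 0, 0, 0, 0, 0], [0, 0, 2, 0, 2, 1, 0, 0, 0, 1, 0, 0, 0, 0], [0, 0, 1, 1, 0, 2, 2, 0, 0, 2, 1, 0, 0, 0], [2, 0, 1, 1, 2, 1, 1, 0, 0, 0, 0, 1, 0, 0], [0, 2, 0, 2, 0, 0, 0, 1, 0, 0, 0, 0, 1, 0], [0, 2, 2, 2, 0, 0, 0, 2, 1, 0, 0, 0, 2, 1]],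
   [[1, 0, 2, 2, 2, 0, 0, 0, 0, 0, 0, 0, 0, 0], [0, 1, 1, 2, 0, 0, 0, 0, 0, 0, 0, 0, 0, 0], [0, 0, 1, 0, 0, 0, 0, 0, 0, 0, 0, 0, 0, 0], [0, 0, 0, 1, 0, 0, 0, 0, 0, 0, 0, 0, 0, 0], [0, 0, 0, 0, 1, 0, 0, 0, 0, 0, 0, 0, 0, 0], [0, 0, 1, 0, 0, 1, 0, 0, 0, 0, 0, 0, 0, 0], [0, 0, 0, 1, 0, 0, 1, 0, 0, 0, 0, 0, 0, 0], [0, 0, 2, 0, 0, 0, 0, 1, 0, 0, 0, 0, 0, 0], [0, 0, 0, 2, 0, 0, 0, 0, 1, 0, 0, 0, 0, 0], [0, 0, 2, 0, 2, 1, 0, 0, 0, 1, 0, 0, 0, 0], [0, 0, 0, 1, 2, 0, 2, 0, 0, 0, 1, 0, 0, 0], [2, 0, 1, 1, 2, 1, 1, 0, 0, 0, 0, 1, 0, 0], [0, 2, 0, 2, 0, 0, 0, 1, 0, 0, 0, 0, 1, 0], [0, 1, 2, 1, 0, 0, 0, 0, 1, 0, 0, 0, 0, 1]],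
   [[1, 0, 0, 0, 0, 0, 0, 0, 0, 0, 0, 2, 0, 1], [0, 1, 0, 0, 0, 0, 0, 0, 0, 0, 0, 0, 0, 2], [0, 2, 1, 0, 0, 0, 0, 0, 0, 0, 0, 0, 2, 2], [0, 0, 0, 1, 0, 0, 0, 0, 2, 0, 0, 0, 0, 1], [2, 0, 0, 0, 1, 0, 0, 0, 0, 0, 2, 2, 0, 2], [0, 0, 0, 0, 0, 1, 0, 0, 0, 2, 0, 1, 1, 0], [0, 0, 0, 0, 0, 0, 1, 0, 0, 0, 1, 0, 0, 2], [0, 0, 0, 0, 0, 0, 0, 1, 0, 0, 0, 0, 1, 0], [0, 0, 0, 0, 0, 0, 0, 0, 1, 0, 0, 0, 0, 0], [0, 0, 0, 0, 0, 0, 0, 0, 0, 1, 0, 0, 1, 0], [0, 0, 0, 0, 0, 0, 0, 0, 0, 0, 1, 0, 0, 1], [0, 0, 0, 0, 0, 0, 0, 0, 0, 0, 0, 1, 0, 0], [0, 0, 0, 0, 0, 0, 0, 0, 0, 0, 0, 0, 1, 0], [0, 0, 0, 0, 0, 0, 0, 0, 0, 0, 0, 0, 0, 1]],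
   [[1, 0, 0, 0, 0, 0, 0, 0, 0, 0, 0, 0, 0, 1], [0, 1, 0, 0, 0, 0, 0, 0, 0, 0, 0, 0, 0, 2], [0, 2, 1, 0, 0, 0, 0, 0, 0, 0, 0, 0, 0, 2], [0, 0, 0, 1, 0, 0, 0, 0, 2, 0, 0, 0, 0, 0], [0, 0, 0, 0, 1, 0, 0, 0, 0, 0, 2, 0, 0, 0], [0, 0, 0, 0, 0, 1, 0, 0, 0, 0, 0, 1, 0, 0], [0, 0, 0, 0, 0, 0, 1, 0, 0, 0, 0, 0, 0, 0], [0, 0, 0, 0, 0, 0, 0, 1, 0, 0, 0, 0, 1, 0], [0, 0, 0, 0, 0, 0, 0, 0, 1, 0, 0, 0, 0, 0], [0, 0, 0, 0, 0, 0, 0, 0, 0, 1, 0, 0, 0, 0], [0, 0, 0, 0, 0, 0, 0, 0, 0, 0, 1, 0, 0, 0], [0, 0, 0, 0, 0, 0, 0, 0, 0, 0, 0, 1, 0, 0], [0, 0, 0, 0, 0, 0, 0, 0, 0, 0, 0, 0, 1, 0], [0, 0, 0, 0, 0, 0, 0, 0, 0, 0, 0, 0, 0, 1]],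
   [[1, 0, 0, 0, 0, 0, 0, 0, 0, 0, 0, 1, 0, 2], [0, 1, 0, 0, 0, 0, 0, 0, 0, 0, 0, 0, 0, 1], [0, 1, 1, 0, 0, 0, 0, 0, 0, 0, 0, 0, 1, 2], [0, 0, 0, 1, 0, 0, 0, 0, 1, 0, 0, 0, 0, 2], [1, 0, 0, 0, 1, 0, 0, 0, 0, 0, 1, 2, 0, 2], [0, 0, 0, 0, 0, 1, 0, 0, 0, 1, 0, 2, 1, 0], [0, 0, 0, 0, 0, 0, 1, 0, 0, 0, 2, 0, 0, 2], [0, 0, 0, 0, 0, 0, 0, 1, 0, 0, 0, 0, 2, 0], [0, 0, 0, 0, 0, 0, 0, 0, 1, 0, 0, 0, 0, 0], [0, 0, 0, 0, 0, 0, 0, 0, 0, 1, 0, 0, 2, 0], [0, 0, 0, 0, 0, 0, 0, 0, 0, 0, 1, 0, 0, 2], [0, 0, 0, 0, 0, 0, 0, 0, 0, 0, 0, 1, 0, 0], [0, 0, 0, 0, 0, 0, 0, 0, 0, 0, 0, 0, 1, 0], [0, 0, 0, 0, 0, 0, 0, 0, 0, 0, 0, 0, 0, 1]],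
   [[1, 0, 0, 0, 0, 0, 0, 0, 0, 0, 0, 0, 0, 2], [0, 1, 0, 0, 0, 0, 0, 0, 0, 0, 0, 0, 0, 1], [0, 1, 1, 0, 0, 0, 0, 0, 0, 0, 0, 0, 0, 2], [0, 0, 0, 1, 0, 0, 0, 0, 1, 0, 0, 0, 0, 0], [0, 0, 0, 0, 1, 0, 0, 0, 0, 0, 1, 0, 0, 0], [0, 0, 0, 0, 0, 1, 0, 0, 0, 0, 0, 2, 0, 0], [0, 0, 0, 0, 0, 0, 1, 0, 0, 0, 0, 0, 0, 0], [0, 0, 0, 0, 0, 0, 0, 1, 0, 0, 0, 0, 2, 0], [0, 0, 0, 0, 0, 0, 0, 0, 1, 0, 0, 0, 0, 0], [0, 0, 0, 0, 0, 0, 0, 0, 0, 1, 0, 0, 0, 0], [0, 0, 0, 0, 0, 0, 0, 0, 0, 0, 1, 0, 0, 0], [0, 0, 0, 0, 0, 0, 0, 0, 0, 0, 0, 1, 0, 0], [0, 0, 0, 0, 0, 0, 0, 0, 0, 0, 0, 0, 1, 0], [0, 0, 0, 0, 0, 0, 0, 0, 0, 0, 0, 0, 0, 1]],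
   [[1, 0, 0, 0, 0, 0, 0, 0, 0, 0, 1, 0, 1, 0], [0, 1, 0, 0, 0, 0, 0, 0, 0, 0, 0, 0, 1, 0], [0, 0, 1, 0, 0, 0, 0, 2, 2, 0, 0, 0, 0, 2], [0, 1, 0, 1, 0, 0, 0, 0, 0, 0, 0, 0, 2, 0], [0, 0, 0, 0, 1, 0, 2, 0, 2, 2, 0, 2, 0, 2], [1, 2, 0, 0, 0, 1, 0, 0, 0, 0, 2, 0, 0, 0], [0, 0, 0, 0, 0, 0, 1, 0, 2, 0, 0, 1, 0, 2], [0, 0, 0, 0, 0, 0, 0, 1, 0, 0, 0, 0, 0, 1], [0, 0, 0, 0, 0, 0, 0, 0, 1, 0, 0, 0, 0, 1], [0, 0, 0, 0, 0, 0, 0, 0, 0, 1, 0, 1, 0, 1], [0, 0, 0, 0, 0, 0, 0, 0, 0, 0, 1, 0, 0, 0], [0, 0, 0, 0, 0, 0, 0, 0, 0, 0, 0, 1, 0, 2], [0, 0, 0, 0, 0, 0, 0, 0, 0, 0, 0, 0, 1, 0], [0, 0, 0, 0, 0, 0, 0, 0, 0, 0, 0, 0, 0, 1]],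
   [[1, 0, 0, 0, 0, 0, 0, 0, 0, 0, 0, 0, 1, 0], [0, 1, 0, 0, 0, 0, 0, 0, 0, 0, 0, 0, 1, 0], [0, 0, 1, 0, 0, 0, 0, 2, 0, 0, 0, 0, 0, 0], [0, 1, 0, 1, 0, 0, 0, 0, 0, 0, 0, 0, 2, 0], [0, 0, 0, 0, 1, 0, 0, 0, 0, 2, 0, 0, 0, 0], [0, 0, 0, 0, 0, 1, 0, 0, 0, 0, 0, 0, 0, 0], [0, 0, 0, 0, 0, 0, 1, 0, 0, 0, 0, 1, 0, 0], [0, 0, 0, 0, 0, 0, 0, 1, 0, 0, 0, 0, 0, 0], [0, 0, 0, 0, 0, 0, 0, 0, 1, 0, 0, 0, 0, 1], [0, 0, 0, 0, 0, 0, 0, 0, 0, 1, 0, 0, 0, 0], [0, 0, 0, 0, 0, 0, 0, 0, 0, 0, 1, 0, 0, 0], [0, 0, 0, 0, 0, 0, 0, 0, 0, 0, 0, 1, 0, 0], [0, 0, 0, 0, 0, 0, 0, 0, 0, 0, 0, 0, 1, 0], [0, 0, 0, 0, 0, 0, 0, 0, 0, 0, 0, 0, 0, 1]],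
   [[1, 0, 0, 0, 0, 0, 0, 0, 0, 0, 1, 2, 1, 2], [0, 1, 0, 0, 0, 0, 0, 0, 0, 0, 0, 0, 1, 2], [0, 2, 1, 0, 0, 0, 0, 2, 2, 0, 0, 0, 1, 1], [0, 1, 0, 1, 0, 0, 0, 0, 2, 0, 0, 0, 2, 0], [2, 0, 0, 0, 1, 0, 2, 0, 2, 2, 1, 1, 2, 2], [1, 2, 0, 0, 0, 1, 0, 0, 0, 2, 2, 0, 1, 1], [0, 0, 0, 0, 0, 0, 1, 0, 2, 0, 1, 1, 0, 1], [0, 0, 0, 0, 0, 0, 0, 1, 0, 0, 0, 0, 1, 1], [0, 0, 0, 0, 0, 0, 0, 0, 1, 0, 0, 0, 0, 1], [0, 0, 0, 0, 0, 0, 0, 0, 0, 1, 0, 1, 1, 1], [0, 0, 0, 0, 0, 0, 0, 0, 0, 0, 1, 0, 0, 1], [0, 0, 0, 0, 0, 0, 0, 0, 0, 0, 0, 1, 0, 2], [0, 0, 0, 0, 0, 0, 0, 0, 0, 0, 0, 0, 1, 0], [0, 0, 0, 0, 0, 0, 0, 0, 0, 0, 0, 0, 0, 1]],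
   [[1, 0, 0, 0, 0, 0, 0, 0, 0, 0, 0, 2, 1, 1], [0, 1, 0, 0, 0, 0, 0, 0, 0, 0, 0, 0, 1, 2], [0, 2, 1, 0, 0, 0, 0, 2, 0, 0, 0, 0, 1, 2], [0, 1, 0, 1, 0, 0, 0, 0, 2, 0, 0, 0, 2, 0], [2, 0, 0, 0, 1, 0, 0, 0, 0, 2, 2, 2, 2, 2], [0, 0, 0, 0, 0, 1, 0, 0, 0, 2, 0, 1, 1, 0], [0, 0, 0, 0, 0, 0, 1, 0, 0, 0, 1, 1, 0, 2], [0, 0, 0, 0, 0, 0, 0, 1, 0, 0, 0, 0, 1, 0], [0, 0, 0, 0, 0, 0, 0, 0, 1, 0, 0, 0, 0, 1], [0, 0, 0, 0, 0, 0, 0, 0, 0, 1, 0, 0, 1, 0], [0, 0, 0, 0, 0, 0, 0, 0, 0, 0, 1, 0, 0, 1], [0, 0, 0, 0, 0, 0, 0, 0, 0, 0, 0, 1, 0, 0], [0, 0, 0, 0, 0, 0, 0, 0, 0, 0, 0, 0, 1, 0], [0, 0, 0, 0, 0, 0, 0, 0, 0, 0, 0, 0, 0, 1]],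
   [[1, 0, 0, 0, 0, 0, 0, 0, 0, 0, 0, 0, 1, 1], [0, 1, 0, 0, 0, 0, 0, 0, 0, 0, 0, 0, 1, 2], [0, 2, 1, 0, 0, 0, 0, 2, 0, 0, 0, 0, 2, 2], [0, 1, 0, 1, 0, 0, 0, 0, 2, 0, 0, 0, 2, 2], [0, 0, 0, 0, 1, 0, 0, 0, 0, 2, 2, 0, 0, 0], [0, 0, 0, 0, 0, 1, 0, 0, 0, 0, 0, 1, 0, 0], [0, 0, 0, 0, 0, 0, 1, 0, 0, 0, 0, 1, 0, 0], [0, 0, 0, 0, 0, 0, 0, 1, 0, 0, 0, 0, 1, 0], [0, 0, 0, 0, 0, 0, 0, 0, 1, 0, 0, 0, 0, 1], [0, 0, 0, 0, 0, 0, 0, 0, 0, 1, 0, 0, 0, 0], [0, 0, 0, 0, 0, 0, 0, 0, 0, 0, 1, 0, 0, 0], [0, 0, 0, 0, 0, 0, 0, 0, 0, 0, 0, 1, 0, 0], [0, 0, 0, 0, 0, 0, 0, 0, 0, 0, 0, 0, 1, 0], [0, 0, 0, 0, 0, 0, 0, 0, 0, 0, 0, 0, 0, 1]],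
   [[1, 0, 0, 0, 0, 0, 0, 0, 0, 0, 1, 1, 1, 1], [0, 1, 0, 0, 0, 0, 0, 0, 0, 0, 0, 0, 1, 1], [0, 1, 1, 0, 0, 0, 0, 2, 2, 0, 0, 0, 2, 1], [0, 1, 0, 1, 0, 0, 0, 0, 1, 0, 0, 0, 2, 0], [1, 0, 0, 0, 1, 0, 2, 0, 2, 2, 2, 1, 1, 2], [1, 2, 0, 0, 0, 1, 0, 0, 0, 1, 2, 0, 1, 2], [0, 0, 0, 0, 0, 0, 1, 0, 2, 0, 2, 1, 0, 1], [0, 0, 0, 0, 0, 0, 0, 1, 0, 0, 0, 0, 2, 1], [0, 0, 0, 0, 0, 0, 0, 0, 1, 0, 0, 0, 0, 1], [0, 0, 0, 0, 0, 0, 0, 0, 0, 1, 0, 1, 2, 1], [0, 0, 0, 0, 0, 0, 0, 0, 0, 0, 1, 0, 0, 2], [0, 0, 0, 0, 0, 0, 0, 0, 0, 0, 0, 1, 0, 2], [0, 0, 0, 0, 0, 0, 0, 0, 0, 0, 0, 0, 1, 0], [0, 0, 0, 0, 0, 0, 0, 0, 0, 0, 0, 0, 0, 1]],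
   [[1, 0, 0, 0, 0, 0, 0, 0, 0, 0, 0, 1, 1, 2], [0, 1, 0, 0, 0, 0, 0, 0, 0, 0, 0, 0, 1, 1], [0, 1, 1, 0, 0, 0, 0, 2, 0, 0, 0, 0, 2, 2], [0, 1, 0, 1, 0, 0, 0, 0, 1, 0, 0, 0, 2, 0], [1, 0, 0, 0, 1, 0, 0, 0, 0, 2, 1, 2, 1, 2], [0, 0, 0, 0, 0, 1, 0, 0, 0, 1, 0, 2, 1, 0], [0, 0, 0, 0, 0, 0, 1, 0, 0, 0, 2, 1, 0, 2], [0, 0, 0, 0, 0, 0, 0, 1, 0, 0, 0, 0, 2, 0], [0, 0, 0, 0, 0, 0, 0, 0, 1, 0, 0, 0, 0, 1], [0, 0, 0, 0, 0, 0, 0, 0, 0, 1, 0, 0, 2, 0], [0, 0, 0, 0, 0, 0, 0, 0, 0, 0, 1, 0, 0, 2], [0, 0, 0, 0, 0, 0, 0, 0, 0, 0, 0, 1, 0, 0], [0, 0, 0, 0, 0, 0, 0, 0, 0, 0, 0, 0, 1, 0], [0, 0, 0, 0, 0, 0, 0, 0, 0, 0, 0, 0, 0, 1]],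
   [[1, 0, 0, 0, 0, 0, 0, 0, 0, 0, 0, 0, 1, 2], [0, 1, 0, 0, 0, 0, 0, 0, 0, 0, 0, 0, 1, 1], [0, 1, 1, 0, 0, 0, 0, 2, 0, 0, 0, 0, 1, 2], [0, 1, 0, 1, 0, 0, 0, 0, 1, 0, 0, 0, 2, 1], [0, 0, 0, 0, 1, 0, 0, 0, 0, 2, 1, 0, 0, 0], [0, 0, 0, 0, 0, 1, 0, 0, 0, 0, 0, 2, 0, 0], [0, 0, 0, 0, 0, 0, 1, 0, 0, 0, 0, 1, 0, 0], [0, 0, 0, 0, 0, 0, 0, 1, 0, 0, 0, 0, 2, 0], [0, 0, 0, 0, 0, 0, 0, 0, 1, 0, 0, 0, 0, 1], [0, 0, 0, 0, 0, 0, 0, 0, 0, 1, 0, 0, 0, 0], [0, 0, 0, 0, 0, 0, 0, 0, 0, 0, 1, 0, 0, 0], [0, 0, 0, 0, 0, 0, 0, 0, 0, 0, 0, 1, 0, 0], [0, 0, 0, 0, 0, 0, 0, 0, 0, 0, 0, 0, 1, 0], [0, 0, 0, 0, 0, 0, 0, 0, 0, 0, 0, 0, 0, 1]],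
   [[1, 0, 0, 0, 0, 0, 0, 0, 0, 0, 2, 0, 2, 0], [0, 1, 0, 0, 0, 0, 0, 0, 0, 0, 0, 0, 2, 0], [0, 0, 1, 0, 0, 0, 0, 1, 1, 0, 0, 0, 0, 2], [0, 2, 0, 1, 0, 0, 0, 0, 0, 0, 0, 0, 2, 0], [0, 0, 0, 0, 1, 0, 1, 0, 2, 1, 0, 2, 0, 1], [2, 1, 0, 0, 0, 1, 0, 0, 0, 0, 2, 0, 0, 0], [0, 0, 0, 0, 0, 0, 1, 0, 1, 0, 0, 2, 0, 2], [0, 0, 0, 0, 0, 0, 0, 1, 0, 0, 0, 0, 0, 2], [0, 0, 0, 0, 0, 0, 0, 0, 1, 0, 0, 0, 0, 2], [0, 0, 0, 0, 0, 0, 0, 0, 0, 1, 0, 2, 0, 1], [0, 0, 0, 0, 0, 0, 0, 0, 0, 0, 1, 0, 0, 0], [0, 0, 0, 0, 0, 0, 0, 0, 0, 0, 0, 1, 0, 1], [0, 0, 0, 0, 0, 0, 0, 0, 0, 0, 0, 0, 1, 0], [0, 0, 0, 0, 0, 0, 0, 0, 0, 0, 0, 0, 0, 1]],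
   [[1, 0, 0, 0, 0, 0, 0, 0, 0, 0, 0, 0, 2, 0], [0, 1, 0, 0, 0, 0, 0, 0, 0, 0, 0, 0, 2, 0], [0, 0, 1, 0, 0, 0, 0, 1, 0, 0, 0, 0, 0, 0], [0, 2, 0, 1, 0, 0, 0, 0, 0, 0, 0, 0, 2, 0], [0, 0, 0, 0, 1, 0, 0, 0, 0, 1, 0, 0, 0, 0], [0, 0, 0, 0, 0, 1, 0, 0, 0, 0, 0, 0, 0, 0], [0, 0, 0, 0, 0, 0, 1, 0, 0, 0, 0, 2, 0, 0], [0, 0, 0, 0, 0, 0, 0, 1, 0, 0, 0, 0, 0, 0], [0, 0, 0, 0, 0, 0, 0, 0, 1, 0, 0, 0, 0, 2], [0, 0, 0, 0, 0, 0, 0, 0, 0, 1, 0, 0, 0, 0], [0, 0, 0, 0, 0, 0, 0, 0, 0, 0, 1, 0, 0, 0], [0, 0, 0, 0, 0, 0, 0, 0, 0, 0, 0, 1, 0, 0], [0, 0, 0, 0, 0, 0, 0, 0, 0, 0, 0, 0, 1, 0], [0, 0, 0, 0, 0, 0, 0, 0, 0, 0, 0, 0, 0, 1]],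
   [[1, 0, 0, 0, 0, 0, 0, 0, 0, 0, 2, 2, 2, 0], [0, 1, 0, 0, 0, 0, 0, 0, 0, 0, 0, 0, 2, 2], [0, 2, 1, 0, 0, 0, 0, 1, 1, 0, 0, 0, 0, 1], [0, 2, 0, 1, 0, 0, 0, 0, 2, 0, 0, 0, 2, 2], [2, 0, 0, 0, 1, 0, 1, 0, 2, 1, 0, 1, 1, 2], [2, 1, 0, 0, 0, 1, 0, 0, 0, 2, 2, 2, 1, 0], [0, 0, 0, 0, 0, 0, 1, 0, 1, 0, 1, 2, 0, 1], [0, 0, 0, 0, 0, 0, 0, 1, 0, 0, 0, 0, 1, 2], [0, 0, 0, 0, 0, 0, 0, 0, 1, 0, 0, 0, 0, 2], [0, 0, 0, 0, 0, 0, 0, 0, 0, 1, 0, 2, 1, 1], [0, 0, 0, 0, 0, 0, 0, 0, 0, 0, 1, 0, 0, 1], [0, 0, 0, 0, 0, 0, 0, 0, 0, 0, 0, 1, 0, 1], [0, 0, 0, 0, 0, 0, 0, 0, 0, 0, 0, 0, 1, 0], [0, 0, 0, 0, 0, 0, 0, 0, 0, 0, 0, 0, 0, 1]],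
   [[1, 0, 0, 0, 0, 0, 0, 0, 0, 0, 0, 2, 2, 1], [0, 1, 0, 0, 0, 0, 0, 0, 0, 0, 0, 0, 2, 2], [0, 2, 1, 0, 0, 0, 0, 1, 0, 0, 0, 0, 0, 2], [0, 2, 0, 1, 0, 0, 0, 0, 2, 0, 0, 0, 2, 2], [2, 0, 0, 0, 1, 0, 0, 0, 0, 1, 2, 2, 1, 2], [0, 0, 0, 0, 0, 1, 0, 0, 0, 2, 0, 1, 1, 0], [0, 0, 0, 0, 0, 0, 1, 0, 0, 0, 1, 2, 0, 2], [0, 0, 0, 0, 0, 0, 0, 1, 0, 0, 0, 0, 1, 0], [0, 0, 0, 0, 0, 0, 0, 0, 1, 0, 0, 0, 0, 2], [0, 0, 0, 0, 0, 0, 0, 0, 0, 1, 0, 0, 1, 0], [0, 0, 0, 0, 0, 0, 0, 0, 0, 0, 1, 0, 0, 1], [0, 0, 0, 0, 0, 0, 0, 0, 0, 0, 0, 1, 0, 0], [0, 0, 0, 0, 0, 0, 0, 0, 0, 0, 0, 0, 1, 0], [0, 0, 0, 0, 0, 0, 0, 0, 0, 0, 0, 0, 0, 1]],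
   [[1, 0, 0, 0, 0, 0, 0, 0, 0, 0, 0, 0, 2, 1], [0, 1, 0, 0, 0, 0, 0, 0, 0, 0, 0, 0, 2, 2], [0, 2, 1, 0, 0, 0, 0, 1, 0, 0, 0, 0, 1, 2], [0, 2, 0, 1, 0, 0, 0, 0, 2, 0, 0, 0, 2, 1], [0, 0, 0, 0, 1, 0, 0, 0, 0, 1, 2, 0, 0, 0], [0, 0, 0, 0, 0, 1, 0, 0, 0, 0, 0, 1, 0, 0], [0, 0, 0, 0, 0, 0, 1, 0, 0, 0, 0, 2, 0, 0], [0, 0, 0, 0, 0, 0, 0, 1, 0, 0, 0, 0, 1, 0], [0, 0, 0, 0, 0, 0, 0, 0, 1, 0, 0, 0, 0, 2], [0, 0, 0, 0, 0, 0, 0, 0, 0, 1, 0, 0, 0, 0], [0, 0, 0, 0, 0, 0, 0, 0, 0, 0, 1, 0, 0, 0], [0, 0, 0, 0, 0, 0, 0, 0, 0, 0, 0, 1, 0, 0], [0, 0, 0, 0, 0, 0, 0, 0, 0, 0, 0, 0, 1, 0], [0, 0, 0, 0, 0, 0, 0, 0, 0, 0, 0, 0, 0, 1]],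
   [[1, 0, 0, 0, 0, 0, 0, 0, 0, 0, 2, 1, 2, 0], [0, 1, 0, 0, 0, 0, 0, 0, 0, 0, 0, 0, 2, 1], [0, 1, 1, 0, 0, 0, 0, 1, 1, 0, 0, 0, 0, 1], [0, 2, 0, 1, 0, 0, 0, 0, 1, 0, 0, 0, 2, 1], [1, 0, 0, 0, 1, 0, 1, 0, 2, 1, 0, 1, 2, 2], [2, 1, 0, 0, 0, 1, 0, 0, 0, 1, 2, 1, 1, 0], [0, 0, 0, 0, 0, 0, 1, 0, 1, 0, 2, 2, 0, 1], [0, 0, 0, 0, 0, 0, 0, 1, 0, 0, 0, 0, 2, 2], [0, 0, 0, 0, 0, 0, 0, 0, 1, 0, 0, 0, 0, 2], [0, 0, 0, 0, 0, 0, 0, 0, 0, 1, 0, 2, 2, 1], [0, 0, 0, 0, 0, 0, 0, 0, 0, 0, 1, 0, 0, 2], [0, 0, 0, 0, 0, 0, 0, 0, 0, 0, 0, 1, 0, 1], [0, 0, 0, 0, 0, 0, 0, 0, 0, 0, 0, 0, 1, 0], [0, 0, 0, 0, 0, 0, 0, 0, 0, 0, 0, 0, 0, 1]],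
   [[1, 0, 0, 0, 0, 0, 0, 0, 0, 0, 0, 1, 2, 2], [0, 1, 0, 0, 0, 0, 0, 0, 0, 0, 0, 0, 2, 1], [0, 1, 1, 0, 0, 0, 0, 1, 0, 0, 0, 0, 0, 2], [0, 2, 0, 1, 0, 0, 0, 0, 1, 0, 0, 0, 2, 1], [1, 0, 0, 0, 1, 0, 0, 0, 0, 1, 1, 2, 2, 2], [0, 0, 0, 0, 0, 1, 0, 0, 0, 1, 0, 2, 1, 0], [0, 0, 0, 0, 0, 0, 1, 0, 0, 0, 2, 2, 0, 2], [0, 0, 0, 0, 0, 0, 0, 1, 0, 0, 0, 0, 2, 0], [0, 0, 0, 0, 0, 0, 0, 0, 1, 0, 0, 0, 0, 2], [0, 0, 0, 0, 0, 0, 0, 0, 0, 1, 0, 0, 2, 0], [0, 0, 0, 0, 0, 0, 0, 0, 0, 0, 1, 0, 0, 2], [0, 0, 0, 0, 0, 0, 0, 0, 0, 0, 0, 1, 0, 0], [0, 0, 0, 0, 0, 0, 0, 0, 0, 0, 0, 0, 1, 0], [0, 0, 0, 0, 0, 0, 0, 0, 0, 0, 0, 0, 0, 1]],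
   [[1, 0, 0, 0, 0, 0, 0, 0, 0, 0, 0, 0, 2, 2], [0, 1, 0, 0, 0, 0, 0, 0, 0, 0, 0, 0, 2, 1], [0, 1, 1, 0, 0, 0, 0, 1, 0, 0, 0, 0, 2, 2], [0, 2, 0, 1, 0, 0, 0, 0, 1, 0, 0, 0, 2, 2], [0, 0, 0, 0, 1, 0, 0, 0, 0, 1, 1, 0, 0, 0], [0, 0, 0, 0, 0, 1, 0, 0, 0, 0, 0, 2, 0, 0], [0, 0, 0, 0, 0, 0, 1, 0, 0, 0, 0, 2, 0, 0], [0, 0, 0, 0, 0, 0, 0, 1, 0, 0, 0, 0, 2, 0], [0, 0, 0, 0, 0, 0, 0, 0, 1, 0, 0, 0, 0, 2], [0, 0, 0, 0, 0, 0, 0, 0, 0, 1, 0, 0, 0, 0], [0, 0, 0, 0, 0, 0, 0, 0, 0, 0, 1, 0, 0, 0], [0, 0, 0, 0, 0, 0, 0, 0, 0, 0, 0, 1, 0, 0], [0, 0, 0, 0, 0, 0, 0, 0, 0, 0, 0, 0, 1, 0], [0, 0, 0, 0, 0, 0, 0, 0, 0, 0, 0, 0, 0, 1]],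
   [[1, 0, 0, 0, 0, 0, 0, 0, 0, 1, 0, 0, 1, 1], [0, 1, 0, 0, 0, 0, 0, 0, 1, 0, 0, 0, 0, 0], [0, 0, 1, 1, 0, 0, 0, 0, 2, 0, 0, 0, 2, 1], [0, 1, 0, 1, 0, 0, 0, 1, 2, 0, 0, 0, 0, 2], [0, 0, 0, 0, 1, 1, 0, 1, 0, 2, 2, 1, 1, 0], [1, 1, 0, 0, 0, 1, 1, 2, 0, 2, 0, 2, 1, 0], [1, 1, 0, 0, 0, 0, 1, 0, 0, 2, 0, 1, 2, 0], [0, 1, 0, 0, 0, 0, 0, 1, 2, 0, 0, 0, 0, 1], [0, 0, 0, 0, 0, 0, 0, 0, 1, 0, 0, 0, 2, 1], [0, 0, 0, 0, 0, 0, 0, 0, 0, 1, 2, 1, 1, 0], [0, 0, 0, 0, 0, 0, 0, 0, 0, 0, 1, 2, 2, 0], [0, 0, 0, 0, 0, 0, 0, 0, 0, 0, 0, 1, 2, 0], [0, 0, 0, 0, 0, 0, 0, 0, 0, 0, 0, 0, 1, 2], [0, 0, 0, 0, 0, 0, 0, 0, 0, 0, 0, 0, 0, 1]],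
   [[1, 0, 0, 0, 0, 0, 0, 0, 0, 0, 1, 2, 0, 1], [0, 1, 0, 0, 0, 0, 0, 0, 1, 0, 0, 0, 0, 0], [0, 0, 1, 1, 0, 0, 0, 0, 2, 0, 0, 0, 2, 1], [0, 0, 0, 1, 0, 0, 0, 0, 0, 0, 0, 0, 0, 1], [2, 0, 0, 0, 1, 0, 2, 0, 2, 0, 2, 2, 0, 1], [1, 2, 0, 0, 0, 1, 1, 0, 2, 2, 0, 2, 1, 1], [0, 0, 0, 0, 0, 0, 1, 0, 2, 0, 1, 0, 0, 2], [0, 1, 0, 0, 0, 0, 0, 1, 2, 0, 0, 0, 0, 1], [0, 0, 0, 0, 0, 0, 0, 0, 1, 0, 0, 0, 0, 0], [0, 0, 0, 0, 0, 0, 0, 0, 0, 1, 2, 1, 1, 0], [0, 0, 0, 0, 0, 0, 0, 0, 0, 0, 1, 0, 0, 1], [0, 0, 0, 0, 0, 0, 0, 0, 0, 0, 0, 1, 0, 2], [0, 0, 0, 0, 0, 0, 0, 0, 0, 0, 0, 0, 1, 2], [0, 0, 0, 0, 0, 0, 0, 0, 0, 0, 0, 0, 0, 1]],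
   [[1, 0, 0, 0, 0, 0, 0, 0, 0, 0, 1, 2, 0, 1], [0, 1, 0, 0, 0, 0, 0, 0, 0, 0, 0, 0, 0, 0], [0, 0, 1, 0, 0, 0, 0, 0, 2, 0, 0, 0, 2, 0], [0, 0, 0, 1, 0, 0, 0, 0, 0, 0, 0, 0, 0, 1], [2, 0, 0, 0, 1, 0, 2, 0, 2, 0, 2, 2, 0, 1], [1, 2, 0, 0, 0, 1, 0, 0, 0, 2, 2, 2, 1, 2], [0, 0, 0, 0, 0, 0, 1, 0, 2, 0, 1, 0, 0, 2], [0, 0, 0, 0, 0, 0, 0, 1, 0, 0, 0, 0, 0, 1], [0, 0, 0, 0, 0, 0, 0, 0, 1, 0, 0, 0, 0, 0], [0, 0, 0, 0, 0, 0, 0, 0, 0, 1, 0, 1, 1, 1], [0, 0, 0, 0, 0, 0, 0, 0, 0, 0, 1, 0, 0, 1], [0, 0, 0, 0, 0, 0, 0, 0, 0, 0, 0, 1, 0, 2], [0, 0, 0, 0, 0, 0, 0, 0, 0, 0, 0, 0, 1, 0], [0, 0, 0, 0, 0, 0, 0, 0, 0, 0, 0, 0, 0, 1]],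
   [[1, 0, 0, 0, 0, 0, 0, 0, 0, 0, 0, 2, 0, 0], [0, 1, 0, 0, 0, 0, 0, 0, 0, 0, 0, 0, 0, 0], [0, 0, 1, 0, 0, 0, 0, 0, 0, 0, 0, 0, 2, 0], [0, 0, 0, 1, 0, 0, 0, 0, 0, 0, 0, 0, 0, 1], [2, 0, 0, 0, 1, 0, 0, 0, 0, 0, 0, 2, 0, 0], [0, 0, 0, 0, 0, 1, 0, 0, 0, 2, 0, 0, 1, 0], [0, 0, 0, 0, 0, 0, 1, 0, 0, 0, 1, 0, 0, 2], [0, 0, 0, 0, 0, 0, 0, 1, 0, 0, 0, 0, 0, 0], [0, 0, 0, 0, 0, 0, 0, 0, 1, 0, 0, 0, 0, 0], [0, 0, 0, 0, 0, 0, 0, 0, 0, 1, 0, 0, 1, 0], [0, 0, 0, 0, 0, 0, 0, 0, 0, 0, 1, 0, 0, 1], [0, 0, 0, 0, 0, 0, 0, 0, 0, 0, 0, 1, 0, 0], [0, 0, 0, 0, 0, 0, 0, 0, 0, 0, 0, 0, 1, 0], [0, 0, 0, 0, 0, 0, 0, 0, 0, 0, 0, 0, 0, 1]],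
   [[1, 0, 0, 0, 0, 0, 0, 0, 0, 1, 0, 2, 2, 2], [0, 1, 0, 0, 0, 0, 0, 0, 1, 0, 0, 0, 0, 2], [0, 2, 1, 1, 0, 0, 0, 0, 1, 0, 0, 0, 1, 1], [0, 1, 0, 1, 0, 0, 0, 1, 1, 0, 0, 0, 1, 2], [2, 0, 0, 0, 1, 1, 0, 1, 0, 1, 1, 1, 2, 1], [1, 1, 0, 0, 0, 1, 1, 2, 0, 1, 1, 2, 0, 2], [1, 1, 0, 0, 0, 0, 1, 0, 0, 2, 1, 0, 1, 2], [0, 1, 0, 0, 0, 0, 0, 1, 2, 0, 0, 0, 1, 0], [0, 0, 0, 0, 0, 0, 0, 0, 1, 0, 0, 0, 2, 1], [0, 0, 0, 0, 0, 0, 0, 0, 0, 1, 2, 1, 2, 2], [0, 0, 0, 0, 0, 0, 0, 0, 0, 0, 1, 2, 2, 1], [0, 0, 0, 0, 0, 0, 0, 0, 0, 0, 0, 1, 2, 0], [0, 0, 0, 0, 0, 0, 0, 0, 0, 0, 0, 0, 1, 2], [0, 0, 0, 0, 0, 0, 0, 0, 0, 0, 0, 0, 0, 1]],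
   [[1, 0, 0, 0, 0, 0, 0, 0, 0, 0, 1, 1, 0, 0], [0, 1, 0, 0, 0, 0, 0, 0, 1, 0, 0, 0, 0, 2], [0, 2, 1, 1, 0, 0, 0, 0, 1, 0, 0, 0, 1, 1], [0, 0, 0, 1, 0, 0, 0, 0, 2, 0, 0, 0, 0, 2], [1, 0, 0, 0, 1, 0, 2, 0, 2, 0, 0, 2, 0, 2], [1, 2, 0, 0, 0, 1, 1, 0, 2, 1, 1, 2, 1, 2], [0, 0, 0, 0, 0, 0, 1, 0, 2, 0, 2, 0, 0, 2], [0, 1, 0, 0, 0, 0, 0, 1, 2, 0, 0, 0, 1, 0], [0, 0, 0, 0, 0, 0, 0, 0, 1, 0, 0, 0, 0, 0], [0, 0, 0, 0, 0, 0, 0, 0, 0, 1, 2, 1, 2, 2], [0, 0, 0, 0, 0, 0, 0, 0, 0, 0, 1, 0, 0, 2], [0, 0, 0, 0, 0, 0, 0, 0, 0, 0, 0, 1, 0, 2], [0, 0, 0, 0, 0, 0, 0, 0, 0, 0, 0, 0, 1, 2], [0, 0, 0, 0, 0, 0, 0, 0, 0, 0, 0, 0, 0, 1]],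
   [[1, 0, 0, 0, 0, 0, 0, 0, 0, 0, 1, 1, 0, 0], [0, 1, 0, 0, 0, 0, 0, 0, 0, 0, 0, 0, 0, 2], [0, 2, 1, 0, 0, 0, 0, 0, 2, 0, 0, 0, 1, 2], [0, 0, 0, 1, 0, 0, 0, 0, 2, 0, 0, 0, 0, 2], [1, 0, 0, 0, 1, 0, 2, 0, 2, 0, 0, 2, 0, 2], [1, 2, 0, 0, 0, 1, 0, 0, 0, 1, 2, 2, 1, 0], [0, 0, 0, 0, 0, 0, 1, 0, 2, 0, 2, 0, 0, 2], [0, 0, 0, 0, 0, 0, 0, 1, 0, 0, 0, 0, 1, 1], [0, 0, 0, 0, 0, 0, 0, 0, 1, 0, 0, 0, 0, 0], [0, 0, 0, 0, 0, 0, 0, 0, 0, 1, 0, 1, 2, 1], [0, 0, 0, 0, 0, 0, 0, 0, 0, 0, 1, 0, 0, 2], [0, 0, 0, 0, 0, 0, 0, 0, 0, 0, 0, 1, 0, 2], [0, 0, 0, 0, 0, 0, 0, 0, 0, 0, 0, 0, 1, 0], [0, 0, 0, 0, 0, 0, 0, 0, 0, 0, 0, 0, 0, 1]],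
   [[1, 0, 0, 0, 0, 0, 0, 0, 0, 0, 0, 1, 0, 1], [0, 1, 0, 0, 0, 0, 0, 0, 0, 0, 0, 0, 0, 2], [0, 2, 1, 0, 0, 0, 0, 0, 0, 0, 0, 0, 1, 2], [0, 0, 0, 1, 0, 0, 0, 0, 2, 0, 0, 0, 0, 2], [1, 0, 0, 0, 1, 0, 0, 0, 0, 0, 2, 2, 0, 1], [0, 0, 0, 0, 0, 1, 0, 0, 0, 1, 0, 1, 1, 0], [0, 0, 0, 0, 0, 0, 1, 0, 0, 0, 2, 0, 0, 2], [0, 0, 0, 0, 0, 0, 0, 1, 0, 0, 0, 0, 1, 0], [0, 0, 0, 0, 0, 0, 0, 0, 1, 0, 0, 0, 0, 0], [0, 0, 0, 0, 0, 0, 0, 0, 0, 1, 0, 0, 2, 0], [0, 0, 0, 0, 0, 0, 0, 0, 0, 0, 1, 0, 0, 2], [0, 0, 0, 0, 0, 0, 0, 0, 0, 0, 0, 1, 0, 0], [0, 0, 0, 0, 0, 0, 0, 0, 0, 0, 0, 0, 1, 0], [0, 0, 0, 0, 0, 0, 0, 0, 0, 0, 0, 0, 0, 1]],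
   [[1, 0, 0, 0, 0, 0, 0, 0, 0, 1, 0, 1, 0, 0], [0, 1, 0, 0, 0, 0, 0, 0, 1, 0, 0, 0, 0, 1], [0, 1, 1, 1, 0, 0, 0, 0, 0, 0, 0, 0, 0, 2], [0, 1, 0, 1, 0, 0, 0, 1, 0, 0, 0, 0, 2, 2], [1, 0, 0, 0, 1, 1, 0, 1, 0, 0, 0, 2, 2, 0], [1, 1, 0, 0, 0, 1, 1, 2, 0, 0, 2, 2, 1, 2], [1, 1, 0, 0, 0, 0, 1, 0, 0, 2, 2, 2, 0, 2], [0, 1, 0, 0, 0, 0, 0, 1, 2, 0, 0, 0, 2, 2], [0, 0, 0, 0, 0, 0, 0, 0, 1, 0, 0, 0, 2, 1], [0, 0, 0, 0, 0, 0, 0, 0, 0, 1, 2, 1, 0, 1], [0, 0, 0, 0, 0, 0, 0, 0, 0, 0, 1, 2, 2, 2], [0, 0, 0, 0, 0, 0, 0, 0, 0, 0, 0, 1, 2, 0], [0, 0, 0, 0, 0, 0, 0, 0, 0, 0, 0, 0, 1, 2], [0, 0, 0, 0, 0, 0, 0, 0, 0, 0, 0, 0, 0, 1]],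
   [[1, 0, 0, 0, 0, 0, 0, 0, 0, 0, 1, 0, 0, 2], [0, 1, 0, 0, 0, 0, 0, 0, 1, 0, 0, 0, 0, 1], [0, 1, 1, 1, 0, 0, 0, 0, 0, 0, 0, 0, 0, 2], [0, 0, 0, 1, 0, 0, 0, 0, 1, 0, 0, 0, 0, 0], [0, 0, 0, 0, 1, 0, 2, 0, 2, 0, 1, 0, 0, 0], [1, 2, 0, 0, 0, 1, 1, 0, 2, 0, 2, 2, 0, 1], [0, 0, 0, 0, 0, 0, 1, 0, 2, 0, 0, 0, 0, 0], [0, 1, 0, 0, 0, 0, 0, 1, 2, 0, 0, 0, 2, 2], [0, 0, 0, 0, 0, 0, 0, 0, 1, 0, 0, 0, 0, 0], [0, 0, 0, 0, 0, 0, 0, 0, 0, 1, 2, 1, 0, 1], [0, 0, 0, 0, 0, 0, 0, 0, 0, 0, 1, 0, 0, 0], [0, 0, 0, 0, 0, 0, 0, 0, 0, 0, 0, 1, 0, 2], [0, 0, 0, 0, 0, 0, 0, 0, 0, 0, 0, 0, 1, 2], [0, 0, 0, 0, 0, 0, 0, 0, 0, 0, 0, 0, 0, 1]],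
   [[1, 0, 0, 0, 0, 0, 0, 0, 0, 0, 1, 0, 0, 2], [0, 1, 0, 0, 0, 0, 0, 0, 0, 0, 0, 0, 0, 1], [0, 1, 1, 0, 0, 0, 0, 0, 2, 0, 0, 0, 0, 2], [0, 0, 0, 1, 0, 0, 0, 0, 1, 0, 0, 0, 0, 0], [0, 0, 0, 0, 1, 0, 2, 0, 2, 0, 1, 0, 0, 0], [1, 2, 0, 0, 0, 1, 0, 0, 0, 0, 2, 2, 0, 1], [0, 0, 0, 0, 0, 0, 1, 0, 2, 0, 0, 0, 0, 0], [0, 0, 0, 0, 0, 0, 0, 1, 0, 0, 0, 0, 2, 1], [0, 0, 0, 0, 0, 0, 0, 0, 1, 0, 0, 0, 0, 0], [0, 0, 0, 0, 0, 0, 0, 0, 0, 1, 0, 1, 0, 1], [0, 0, 0, 0, 0, 0, 0, 0, 0, 0, 1, 0, 0, 0], [0, 0, 0, 0, 0, 0, 0, 0, 0, 0, 0, 1, 0, 2], [0, 0, 0, 0, 0, 0, 0, 0, 0, 0, 0, 0, 1, 0], [0, 0, 0, 0, 0, 0, 0, 0, 0, 0, 0, 0, 0, 1]],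
   [[1, 0, 0, 0, 0, 0, 0, 0, 0, 1, 1, 1, 2, 2], [0, 1, 0, 0, 0, 0, 0, 0, 1, 0, 0, 0, 1, 1], [0, 1, 1, 1, 0, 0, 0, 2, 1, 0, 0, 0, 1, 2], [0, 2, 0, 1, 0, 0, 0, 1, 2, 0, 0, 0, 0, 2], [1, 2, 0, 0, 1, 1, 2, 1, 2, 1, 1, 2, 1, 1], [2, 0, 0, 0, 0, 1, 1, 2, 2, 2, 0, 2, 0, 1], [1, 1, 0, 0, 0, 0, 1, 0, 2, 2, 1, 1, 1, 0], [0, 1, 0, 0, 0, 0, 0, 1, 2, 0, 0, 0, 1, 1], [0, 0, 0, 0, 0, 0, 0, 0, 1, 0, 0, 0, 2, 2], [0, 0, 0, 0, 0, 0, 0, 0, 0, 1, 2, 2, 1, 0], [0, 0, 0, 0, 0, 0, 0, 0, 0, 0, 1, 2, 2, 1], [0, 0, 0, 0, 0, 0, 0, 0, 0, 0, 0, 1, 2, 2], [0, 0, 0, 0, 0, 0, 0, 0, 0, 0, 0, 0, 1, 2], [0, 0, 0, 0, 0, 0, 0, 0, 0, 0, 0, 0, 0, 1]],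
   [[1, 0, 0, 0, 0, 0, 0, 0, 0, 0, 2, 2, 1, 2], [0, 1, 0, 0, 0, 0, 0, 0, 1, 0, 0, 0, 1, 1], [0, 1, 1, 1, 0, 0, 0, 2, 1, 0, 0, 0, 1, 2], [0, 1, 0, 1, 0, 0, 0, 0, 0, 0, 0, 0, 2, 1], [2, 0, 0, 0, 1, 0, 1, 0, 2, 2, 1, 0, 2, 1], [2, 1, 0, 0, 0, 1, 1, 0, 1, 2, 0, 2, 1, 2], [0, 0, 0, 0, 0, 0, 1, 0, 1, 0, 1, 1, 0, 0], [0, 1, 0, 0, 0, 0, 0, 1, 2, 0, 0, 0, 1, 1], [0, 0, 0, 0, 0, 0, 0, 0, 1, 0, 0, 0, 0, 1], [0, 0, 0, 0, 0, 0, 0, 0, 0, 1, 2, 2, 1, 0], [0, 0, 0, 0, 0, 0, 0, 0, 0, 0, 1, 0, 0, 1], [0, 0, 0, 0, 0, 0, 0, 0, 0, 0, 0, 1, 0, 1], [0, 0, 0, 0, 0, 0, 0, 0, 0, 0, 0, 0, 1, 2], [0, 0, 0, 0, 0, 0, 0, 0, 0, 0, 0, 0, 0, 1]],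
   [[1, 0, 0, 0, 0, 0, 0, 0, 0, 0, 2, 2, 1, 2], [0, 1, 0, 0, 0, 0, 0, 0, 0, 0, 0, 0, 1, 0], [0, 0, 1, 0, 0, 0, 0, 2, 1, 0, 0, 0, 2, 1], [0, 1, 0, 1, 0, 0, 0, 0, 0, 0, 0, 0, 2, 1], [2, 0, 0, 0, 1, 0, 1, 0, 2, 2, 1, 0, 2, 1], [2, 1, 0, 0, 0, 1, 0, 0, 0, 2, 2, 1, 1, 2], [0, 0, 0, 0, 0, 0, 1, 0, 1, 0, 1, 1, 0, 0], [0, 0, 0, 0, 0, 0, 0, 1, 0, 0, 0, 0, 0, 2], [0, 0, 0, 0, 0, 0, 0, 0, 1, 0, 0, 0, 0, 1], [0, 0, 0, 0, 0, 0, 0, 0, 0, 1, 0, 2, 1, 1], [0, 0, 0, 0, 0, 0, 0, 0, 0, 0, 1, 0, 0, 1], [0, 0, 0, 0, 0, 0, 0, 0, 0, 0, 0, 1, 0, 1], [0, 0, 0, 0, 0, 0, 0, 0, 0, 0, 0, 0, 1, 0], [0, 0, 0, 0, 0, 0, 0, 0, 0, 0, 0, 0, 0, 1]],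
   [[1, 0, 0, 0, 0, 0, 0, 0, 0, 0, 0, 2, 1, 0], [0, 1, 0, 0, 0, 0, 0, 0, 0, 0, 0, 0, 1, 0], [0, 0, 1, 0, 0, 0, 0, 2, 0, 0, 0, 0, 2, 0], [0, 1, 0, 1, 0, 0, 0, 0, 0, 0, 0, 0, 2, 1], [2, 0, 0, 0, 1, 0, 0, 0, 0, 2, 0, 2, 2, 0], [0, 0, 0, 0, 0, 1, 0, 0, 0, 2, 0, 0, 1, 0], [0, 0, 0, 0, 0, 0, 1, 0, 0, 0, 1, 1, 0, 2], [0, 0, 0, 0, 0, 0, 0, 1, 0, 0, 0, 0, 0, 0], [0, 0, 0, 0, 0, 0, 0, 0, 1, 0, 0, 0, 0, 1], [0, 0, 0, 0, 0, 0, 0, 0, 0, 1, 0, 0, 1, 0], [0, 0, 0, 0, 0, 0, 0, 0, 0, 0, 1, 0, 0, 1], [0, 0, 0, 0, 0, 0, 0, 0, 0, 0, 0, 1, 0, 0], [0, 0, 0, 0, 0, 0, 0, 0, 0, 0, 0, 0, 1, 0], [0, 0, 0, 0, 0, 0, 0, 0, 0, 0, 0, 0, 0, 1]],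
   [[1, 0, 0, 0, 0, 0, 0, 0, 0, 1, 1, 0, 0, 1], [0, 1, 0, 0, 0, 0, 0, 0, 1, 0, 0, 0, 1, 0], [0, 0, 1, 1, 0, 0, 0, 2, 0, 0, 0, 0, 2, 1], [0, 2, 0, 1, 0, 0, 0, 1, 1, 0, 0, 0, 1, 1], [0, 2, 0, 0, 1, 1, 2, 1, 2, 0, 2, 1, 1, 1], [2, 0, 0, 0, 0, 1, 1, 2, 2, 1, 1, 1, 2, 2], [1, 1, 0, 0, 0, 0, 1, 0, 2, 2, 2, 0, 0, 0], [0, 1, 0, 0, 0, 0, 0, 1, 2, 0, 0, 0, 2, 0], [0, 0, 0, 0, 0, 0, 0, 0, 1, 0, 0, 0, 2, 2], [0, 0, 0, 0, 0, 0, 0, 0, 0, 1, 2, 2, 2, 2], [0, 0, 0, 0, 0, 0, 0, 0, 0, 0, 1, 2, 2, 2], [0, 0, 0, 0, 0, 0, 0, 0, 0, 0, 0, 1, 2, 2], [0, 0, 0, 0, 0, 0, 0, 0, 0, 0, 0, 0, 1, 2], [0, 0, 0, 0, 0, 0, 0, 0, 0, 0, 0, 0, 0, 1]],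
   [[1, 0, 0, 0, 0, 0, 0, 0, 0, 0, 2, 1, 1, 2], [0, 1, 0, 0, 0, 0, 0, 0, 1, 0, 0, 0, 1, 0], [0, 0, 1, 1, 0, 0, 0, 2, 0, 0, 0, 0, 2, 1], [0, 1, 0, 1, 0, 0, 0, 0, 2, 0, 0, 0, 2, 1], [1, 0, 0, 0, 1, 0, 1, 0, 2, 2, 1, 0, 1, 2], [2, 1, 0, 0, 0, 1, 1, 0, 1, 1, 1, 1, 1, 2], [0, 0, 0, 0, 0, 0, 1, 0, 1, 0, 2, 1, 0, 0], [0, 1, 0, 0, 0, 0, 0, 1, 2, 0, 0, 0, 2, 0], [0, 0, 0, 0, 0, 0, 0, 0, 1, 0, 0, 0, 0, 1], [0, 0, 0, 0, 0, 0, 0, 0, 0, 1, 2, 2, 2, 2], [0, 0, 0, 0, 0, 0, 0, 0, 0, 0, 1, 0, 0, 2], [0, 0, 0, 0, 0, 0, 0, 0, 0, 0, 0, 1, 0, 1], [0, 0, 0, 0, 0, 0, 0, 0, 0, 0, 0, 0, 1, 2], [0, 0, 0, 0, 0, 0, 0, 0, 0, 0, 0, 0, 0, 1]],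
   [[1, 0, 0, 0, 0, 0, 0, 0, 0, 0, 2, 1, 1, 2], [0, 1, 0, 0, 0, 0, 0, 0, 0, 0, 0, 0, 1, 2], [0, 2, 1, 0, 0, 0, 0, 2, 1, 0, 0, 0, 0, 0], [0, 1, 0, 1, 0, 0, 0, 0, 2, 0, 0, 0, 2, 1], [1, 0, 0, 0, 1, 0, 1, 0, 2, 2, 1, 0, 1, 2], [2, 1, 0, 0, 0, 1, 0, 0, 0, 1, 2, 0, 1, 2], [0, 0, 0, 0, 0, 0, 1, 0, 1, 0, 2, 1, 0, 0], [0, 0, 0, 0, 0, 0, 0, 1, 0, 0, 0, 0, 1, 2], [0, 0, 0, 0, 0, 0, 0, 0, 1, 0, 0, 0, 0, 1], [0, 0, 0, 0, 0, 0, 0, 0, 0, 1, 0, 2, 2, 1], [0, 0, 0, 0, 0, 0, 0, 0, 0, 0, 1, 0, 0, 2], [0, 0, 0, 0, 0, 0, 0, 0, 0, 0, 0, 1, 0, 1], [0, 0, 0, 0, 0, 0, 0, 0, 0, 0, 0, 0, 1, 0], [0, 0, 0, 0, 0, 0, 0, 0, 0, 0, 0, 0, 0, 1]],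
   [[1, 0, 0, 0, 0, 0, 0, 0, 0, 0, 0, 1, 1, 1], [0, 1, 0, 0, 0, 0, 0, 0, 0, 0, 0, 0, 1, 2], [0, 2, 1, 0, 0, 0, 0, 2, 0, 0, 0, 0, 0, 2], [0, 1, 0, 1, 0, 0, 0, 0, 2, 0, 0, 0, 2, 1], [1, 0, 0, 0, 1, 0, 0, 0, 0, 2, 2, 2, 1, 1], [0, 0, 0, 0, 0, 1, 0, 0, 0, 1, 0, 1, 1, 0], [0, 0, 0, 0, 0, 0, 1, 0, 0, 0, 2, 1, 0, 2], [0, 0, 0, 0, 0, 0, 0, 1, 0, 0, 0, 0, 1, 0], [0, 0, 0, 0, 0, 0, 0, 0, 1, 0, 0, 0, 0, 1], [0, 0, 0, 0, 0, 0, 0, 0, 0, 1, 0, 0, 2, 0], [0, 0, 0, 0, 0, 0, 0, 0, 0, 0, 1, 0, 0, 2], [0, 0, 0, 0, 0, 0, 0, 0, 0, 0, 0, 1, 0, 0], [0, 0, 0, 0, 0, 0, 0, 0, 0, 0, 0, 0, 1, 0], [0, 0, 0, 0, 0, 0, 0, 0, 0, 0, 0, 0, 0, 1]],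
   [[1, 0, 0, 0, 0, 0, 0, 0, 0, 1, 1, 2, 1, 0], [0, 1, 0, 0, 0, 0, 0, 0, 1, 0, 0, 0, 1, 2], [0, 2, 1, 1, 0, 0, 0, 2, 2, 0, 0, 0, 0, 1], [0, 2, 0, 1, 0, 0, 0, 1, 0, 0, 0, 0, 2, 0], [2, 2, 0, 0, 1, 1, 2, 1, 2, 2, 0, 1, 0, 1], [2, 0, 0, 0, 0, 1, 1, 2, 2, 0, 2, 0, 0, 1], [1, 1, 0, 0, 0, 0, 1, 0, 2, 2, 0, 2, 2, 1], [0, 1, 0, 0, 0, 0, 0, 1, 2, 0, 0, 0, 0, 2], [0, 0, 0, 0, 0, 0, 0, 0, 1, 0, 0, 0, 2, 2], [0, 0, 0, 0, 0, 0, 0, 0, 0, 1, 2, 2, 0, 1], [0, 0, 0, 0, 0, 0, 0, 0, 0, 0, 1, 2, 2, 0], [0, 0, 0, 0, 0, 0, 0, 0, 0, 0, 0, 1, 2, 2], [0, 0, 0, 0, 0, 0, 0, 0, 0, 0, 0, 0, 1, 2], [0, 0, 0, 0, 0, 0, 0, 0, 0, 0, 0, 0, 0, 1]],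
   [[1, 0, 0, 0, 0, 0, 0, 0, 0, 0, 2, 0, 1, 2], [0, 1, 0, 0, 0, 0, 0, 0, 1, 0, 0, 0, 1, 2], [0, 2, 1, 1, 0, 0, 0, 2, 2, 0, 0, 0, 0, 1], [0, 1, 0, 1, 0, 0, 0, 0, 1, 0, 0, 0, 2, 1], [0, 0, 0, 0, 1, 0, 1, 0, 2, 2, 1, 1, 0, 2], [2, 1, 0, 0, 0, 1, 1, 0, 1, 0, 2, 0, 0, 0], [0, 0, 0, 0, 0, 0, 1, 0, 1, 0, 0, 1, 0, 1], [0, 1, 0, 0, 0, 0, 0, 1, 2, 0, 0, 0, 0, 2], [0, 0, 0, 0, 0, 0, 0, 0, 1, 0, 0, 0, 0, 1], [0, 0, 0, 0, 0, 0, 0, 0, 0, 1, 2, 2, 0, 1], [0, 0, 0, 0, 0, 0, 0, 0, 0, 0, 1, 0, 0, 0], [0, 0, 0, 0, 0, 0, 0, 0, 0, 0, 0, 1, 0, 1], [0, 0, 0, 0, 0, 0, 0, 0, 0, 0, 0, 0, 1, 2], [0, 0, 0, 0, 0, 0, 0, 0, 0, 0, 0, 0, 0, 1]],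
   [[1, 0, 0, 0, 0, 0, 0, 0, 0, 0, 2, 0, 1, 2], [0, 1, 0, 0, 0, 0, 0, 0, 0, 0, 0, 0, 1, 1], [0, 1, 1, 0, 0, 0, 0, 2, 1, 0, 0, 0, 1, 0], [0, 1, 0, 1, 0, 0, 0, 0, 1, 0, 0, 0, 2, 1], [0, 0, 0, 0, 1, 0, 1, 0, 2, 2, 1, 1, 0, 2], [2, 1, 0, 0, 0, 1, 0, 0, 0, 0, 2, 2, 0, 2], [0, 0, 0, 0, 0, 0, 1, 0, 1, 0, 0, 1, 0, 1], [0, 0, 0, 0, 0, 0, 0, 1, 0, 0, 0, 0, 2, 2], [0, 0, 0, 0, 0, 0, 0, 0, 1, 0, 0, 0, 0, 1], [0, 0, 0, 0, 0, 0, 0, 0, 0, 1, 0, 2, 0, 1], [0, 0, 0, 0, 0, 0, 0, 0, 0, 0, 1, 0, 0, 0], [0, 0, 0, 0, 0, 0, 0, 0, 0, 0, 0, 1, 0, 1], [0, 0, 0, 0, 0, 0, 0, 0, 0, 0, 0, 0, 1, 0], [0, 0, 0, 0, 0, 0, 0, 0, 0, 0, 0, 0, 0, 1]],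
   [[1, 0, 0, 0, 0, 0, 0, 0, 0, 1, 2, 2, 0, 2], [0, 1, 0, 0, 0, 0, 0, 0, 1, 0, 0, 0, 2, 2], [0, 2, 1, 1, 0, 0, 0, 1, 0, 0, 0, 0, 1, 1], [0, 0, 0, 1, 0, 0, 0, 1, 2, 0, 0, 0, 1, 2], [2, 1, 0, 0, 1, 1, 1, 1, 2, 0, 1, 1, 1, 0], [0, 2, 0, 0, 0, 1, 1, 2, 1, 2, 1, 2, 2, 1], [1, 1, 0, 0, 0, 0, 1, 0, 1, 2, 2, 1, 0, 2], [0, 1, 0, 0, 0, 0, 0, 1, 2, 0, 0, 0, 2, 1], [0, 0, 0, 0, 0, 0, 0, 0, 1, 0, 0, 0, 2, 0], [0, 0, 0, 0, 0, 0, 0, 0, 0, 1, 2, 0, 1, 2], [0, 0, 0, 0, 0, 0, 0, 0, 0, 0, 1, 2, 2, 2], [0, 0, 0, 0, 0, 0, 0, 0, 0, 0, 0, 1, 2, 1], [0, 0, 0, 0, 0, 0, 0, 0, 0, 0, 0, 0, 1, 2], [0, 0, 0, 0, 0, 0, 0, 0, 0, 0, 0, 0, 0, 1]],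
   [[1, 0, 0, 0, 0, 0, 0, 0, 0, 0, 0, 2, 2, 0], [0, 1, 0, 0, 0, 0, 0, 0, 1, 0, 0, 0, 2, 2], [0, 2, 1, 1, 0, 0, 0, 1, 0, 0, 0, 0, 1, 1], [0, 2, 0, 1, 0, 0, 0, 0, 0, 0, 0, 0, 2, 1], [2, 0, 0, 0, 1, 0, 0, 0, 0, 1, 0, 2, 1, 0], [0, 0, 0, 0, 0, 1, 1, 0, 0, 2, 1, 2, 1, 2], [0, 0, 0, 0, 0, 0, 1, 0, 0, 0, 1, 2, 0, 2], [0, 1, 0, 0, 0, 0, 0, 1, 2, 0, 0, 0, 2, 1], [0, 0, 0, 0, 0, 0, 0, 0, 1, 0, 0, 0, 0, 2], [0, 0, 0, 0, 0, 0, 0, 0, 0, 1, 2, 0, 1, 2], [0, 0, 0, 0, 0, 0, 0, 0, 0, 0, 1, 0, 0, 1], [0, 0, 0, 0, 0, 0, 0, 0, 0, 0, 0, 1, 0, 0], [0, 0, 0, 0, 0, 0, 0, 0, 0, 0, 0, 0, 1, 2], [0, 0, 0, 0, 0, 0, 0, 0, 0, 0, 0, 0, 0, 1]],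
   [[1, 0, 0, 0, 0, 0, 0, 0, 0, 0, 0, 2, 2, 0], [0, 1, 0, 0, 0, 0, 0, 0, 0, 0, 0, 0, 2, 0], [0, 0, 1, 0, 0, 0, 0, 1, 0, 0, 0, 0, 2, 0], [0, 2, 0, 1, 0, 0, 0, 0, 0, 0, 0, 0, 2, 1], [2, 0, 0, 0, 1, 0, 0, 0, 0, 1, 0, 2, 1, 0], [0, 0, 0, 0, 0, 1, 0, 0, 0, 2, 0, 0, 1, 0], [0, 0, 0, 0, 0, 0, 1, 0, 0, 0, 1, 2, 0, 2], [0, 0, 0, 0, 0, 0, 0, 1, 0, 0, 0, 0, 0, 0], [0, 0, 0, 0, 0, 0, 0, 0, 1, 0, 0, 0, 0, 2], [0, 0, 0, 0, 0, 0, 0, 0, 0, 1, 0, 0, 1, 0], [0, 0, 0, 0, 0, 0, 0, 0, 0, 0, 1, 0, 0, 1], [0, 0, 0, 0, 0, 0, 0, 0, 0, 0, 0, 1, 0, 0], [0, 0, 0, 0, 0, 0, 0, 0, 0, 0, 0, 0, 1, 0], [0, 0, 0, 0, 0, 0, 0, 0, 0, 0, 0, 0, 0, 1]],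
   [[1, 0, 0, 0, 0, 0, 0, 0, 0, 1, 2, 1, 1, 2], [0, 1, 0, 0, 0, 0, 0, 0, 1, 0, 0, 0, 2, 1], [0, 1, 1, 1, 0, 0, 0, 1, 2, 0, 0, 0, 1, 2], [0, 0, 0, 1, 0, 0, 0, 1, 1, 0, 0, 0, 2, 0], [1, 1, 0, 0, 1, 1, 1, 1, 2, 2, 1, 2, 0, 0], [0, 2, 0, 0, 0, 1, 1, 2, 1, 1, 2, 0, 1, 2], [1, 1, 0, 0, 0, 0, 1, 0, 1, 2, 0, 0, 2, 0], [0, 1, 0, 0, 0, 0, 0, 1, 2, 0, 0, 0, 0, 0], [0, 0, 0, 0, 0, 0, 0, 0, 1, 0, 0, 0, 2, 0], [0, 0, 0, 0, 0, 0, 0, 0, 0, 1, 2, 0, 2, 1], [0, 0, 0, 0, 0, 0, 0, 0, 0, 0, 1, 2, 2, 0], [0, 0, 0, 0, 0, 0, 0, 0, 0, 0, 0, 1, 2, 1], [0, 0, 0, 0, 0, 0, 0, 0, 0, 0, 0, 0, 1, 2], [0, 0, 0, 0, 0, 0, 0, 0, 0, 0, 0, 0, 0, 1]],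
   [[1, 0, 0, 0, 0, 0, 0, 0, 0, 0, 0, 1, 2, 1], [0, 1, 0, 0, 0, 0, 0, 0, 1, 0, 0, 0, 2, 1], [0, 1, 1, 1, 0, 0, 0, 1, 2, 0, 0, 0, 1, 2], [0, 2, 0, 1, 0, 0, 0, 0, 2, 0, 0, 0, 2, 0], [1, 0, 0, 0, 1, 0, 0, 0, 0, 1, 2, 2, 2, 1], [0, 0, 0, 0, 0, 1, 1, 0, 0, 1, 2, 0, 1, 2], [0, 0, 0, 0, 0, 0, 1, 0, 0, 0, 2, 2, 0, 2], [0, 1, 0, 0, 0, 0, 0, 1, 2, 0, 0, 0, 0, 0], [0, 0, 0, 0, 0, 0, 0, 0, 1, 0, 0, 0, 0, 2], [0, 0, 0, 0, 0, 0, 0, 0, 0, 1, 2, 0, 2, 1], [0, 0, 0, 0, 0, 0, 0, 0, 0, 0, 1, 0, 0, 2], [0, 0, 0, 0, 0, 0, 0, 0, 0, 0, 0, 1, 0, 0], [0, 0, 0, 0, 0, 0, 0, 0, 0, 0, 0, 0, 1, 2], [0, 0, 0, 0, 0, 0, 0, 0, 0, 0, 0, 0, 0, 1]],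
   [[1, 0, 0, 0, 0, 0, 0, 0, 0, 0, 0, 1, 2, 1], [0, 1, 0, 0, 0, 0, 0, 0, 0, 0, 0, 0, 2, 2], [0, 2, 1, 0, 0, 0, 0, 1, 0, 0, 0, 0, 2, 2], [0, 2, 0, 1, 0, 0, 0, 0, 2, 0, 0, 0, 2, 0], [1, 0, 0, 0, 1, 0, 0, 0, 0, 1, 2, 2, 2, 1], [0, 0, 0, 0, 0, 1, 0, 0, 0, 1, 0, 1, 1, 0], [0, 0, 0, 0, 0, 0, 1, 0, 0, 0, 2, 2, 0, 2], [0, 0, 0, 0, 0, 0, 0, 1, 0, 0, 0, 0, 1, 0], [0, 0, 0, 0, 0, 0, 0, 0, 1, 0, 0, 0, 0, 2], [0, 0, 0, 0, 0, 0, 0, 0, 0, 1, 0, 0, 2, 0], [0, 0, 0, 0, 0, 0, 0, 0, 0, 0, 1, 0, 0, 2], [0, 0, 0, 0, 0, 0, 0, 0, 0, 0, 0, 1, 0, 0], [0, 0, 0, 0, 0, 0, 0, 0, 0, 0, 0, 0, 1, 0], [0, 0, 0, 0, 0, 0, 0, 0, 0, 0, 0, 0, 0, 1]],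
   [[1, 0, 0, 0, 0, 0, 0, 0, 0, 1, 2, 0, 2, 2], [0, 1, 0, 0, 0, 0, 0, 0, 1, 0, 0, 0, 2, 0], [0, 0, 1, 1, 0, 0, 0, 1, 1, 0, 0, 0, 1, 1], [0, 0, 0, 1, 0, 0, 0, 1, 0, 0, 0, 0, 0, 1], [0, 1, 0, 0, 1, 1, 1, 1, 2, 1, 1, 1, 1, 2], [0, 2, 0, 0, 0, 1, 1, 2, 1, 0, 0, 1, 2, 1], [1, 1, 0, 0, 0, 0, 1, 0, 1, 2, 1, 2, 1, 2], [0, 1, 0, 0, 0, 0, 0, 1, 2, 0, 0, 0, 1, 2], [0, 0, 0, 0, 0, 0, 0, 0, 1, 0, 0, 0, 2, 0], [0, 0, 0, 0, 0, 0, 0, 0, 0, 1, 2, 0, 0, 0], [0, 0, 0, 0, 0, 0, 0, 0, 0, 0, 1, 2, 2, 1], [0, 0, 0, 0, 0, 0, 0, 0, 0, 0, 0, 1, 2, 1], [0, 0, 0, 0, 0, 0, 0, 0, 0, 0, 0, 0, 1, 2], [0, 0, 0, 0, 0, 0, 0, 0, 0, 0, 0, 0, 0, 1]],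
   [[1, 0, 0, 0, 0, 0, 0, 0, 0, 0, 0, 0, 2, 2], [0, 1, 0, 0, 0, 0, 0, 0, 1, 0, 0, 0, 2, 0], [0, 0, 1, 1, 0, 0, 0, 1, 1, 0, 0, 0, 1, 1], [0, 2, 0, 1, 0, 0, 0, 0, 1, 0, 0, 0, 2, 2], [0, 0, 0, 0, 1, 0, 0, 0, 0, 1, 1, 0, 0, 0], [0, 0, 0, 0, 0, 1, 1, 0, 0, 0, 0, 1, 0, 0], [0, 0, 0, 0, 0, 0, 1, 0, 0, 0, 0, 2, 0, 0], [0, 1, 0, 0, 0, 0, 0, 1, 2, 0, 0, 0, 1, 2], [0, 0, 0, 0, 0, 0, 0, 0, 1, 0, 0, 0, 0, 2], [0, 0, 0, 0, 0, 0, 0, 0, 0, 1, 2, 0, 0, 0], [0, 0, 0, 0, 0, 0, 0, 0, 0, 0, 1, 0, 0, 0], [0, 0, 0, 0, 0, 0, 0, 0, 0, 0, 0, 1, 0, 0], [0, 0, 0, 0, 0, 0, 0, 0, 0, 0, 0, 0, 1, 2], [0, 0, 0, 0, 0, 0, 0, 0, 0, 0, 0, 0, 0, 1]],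
   [[1, 0, 0, 0, 0, 0, 0, 0, 0, 2, 0, 0, 1, 2], [0, 1, 0, 0, 0, 0, 0, 0, 2, 0, 0, 0, 0, 0], [0, 0, 1, 2, 0, 0, 0, 0, 2, 0, 0, 0, 1, 1], [0, 1, 0, 1, 0, 0, 0, 2, 1, 0, 0, 0, 0, 1], [0, 0, 0, 0, 1, 2, 0, 1, 0, 2, 1, 1, 2, 0], [1, 1, 0, 0, 0, 1, 2, 1, 0, 1, 0, 1, 1, 0], [2, 2, 0, 0, 0, 0, 1, 0, 0, 2, 0, 1, 1, 0], [0, 2, 0, 0, 0, 0, 0, 1, 2, 0, 0, 0, 0, 1], [0, 0, 0, 0, 0, 0, 0, 0, 1, 0, 0, 0, 1, 1], [0, 0, 0, 0, 0, 0, 0, 0, 0, 1, 1, 1, 2, 0], [0, 0, 0, 0, 0, 0, 0, 0, 0, 0, 1, 1, 2, 0], [0, 0, 0, 0, 0, 0, 0, 0, 0, 0, 0, 1, 1, 0], [0, 0, 0, 0, 0, 0, 0, 0, 0, 0, 0, 0, 1, 1], [0, 0, 0, 0, 0, 0, 0, 0, 0, 0, 0, 0, 0, 1]],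
   [[1, 0, 0, 0, 0, 0, 0, 0, 0, 0, 1, 1, 0, 2], [0, 1, 0, 0, 0, 0, 0, 0, 2, 0, 0, 0, 0, 0], [0, 0, 1, 2, 0, 0, 0, 0, 2, 0, 0, 0, 1, 1], [0, 0, 0, 1, 0, 0, 0, 0, 0, 0, 0, 0, 0, 2], [1, 0, 0, 0, 1, 0, 2, 0, 2, 0, 1, 2, 0, 1], [1, 2, 0, 0, 0, 1, 2, 0, 1, 1, 0, 1, 1, 2], [0, 0, 0, 0, 0, 0, 1, 0, 2, 0, 2, 0, 0, 2], [0, 2, 0, 0, 0, 0, 0, 1, 2, 0, 0, 0, 0, 1], [0, 0, 0, 0, 0, 0, 0, 0, 1, 0, 0, 0, 0, 0], [0, 0, 0, 0, 0, 0, 0, 0, 0, 1, 1, 1, 2, 0], [0, 0, 0, 0, 0, 0, 0, 0, 0, 0, 1, 0, 0, 2], [0, 0, 0, 0, 0, 0, 0, 0, 0, 0, 0, 1, 0, 2], [0, 0, 0, 0, 0, 0, 0, 0, 0, 0, 0, 0, 1, 1], [0, 0, 0, 0, 0, 0, 0, 0, 0, 0, 0, 0, 0, 1]],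
   [[1, 0, 0, 0, 0, 0, 0, 0, 0, 0, 1, 1, 0, 2], [0, 1, 0, 0, 0, 0, 0, 0, 0, 0, 0, 0, 0, 0], [0, 0, 1, 0, 0, 0, 0, 0, 2, 0, 0, 0, 1, 0], [0, 0, 0, 1, 0, 0, 0, 0, 0, 0, 0, 0, 0, 2], [1, 0, 0, 0, 1, 0, 2, 0, 2, 0, 1, 2, 0, 1], [1, 2, 0, 0, 0, 1, 0, 0, 0, 1, 2, 1, 1, 1], [0, 0, 0, 0, 0, 0, 1, 0, 2, 0, 2, 0, 0, 2], [0, 0, 0, 0, 0, 0, 0, 1, 0, 0, 0, 0, 0, 1], [0, 0, 0, 0, 0, 0, 0, 0, 1, 0, 0, 0, 0, 0], [0, 0, 0, 0, 0, 0, 0, 0, 0, 1, 0, 1, 2, 1], [0, 0, 0, 0, 0, 0, 0, 0, 0, 0, 1, 0, 0, 2], [0, 0, 0, 0, 0, 0, 0, 0, 0, 0, 0, 1, 0, 2], [0, 0, 0, 0, 0, 0, 0, 0, 0, 0, 0, 0, 1, 0], [0, 0, 0, 0, 0, 0, 0, 0, 0, 0, 0, 0, 0, 1]],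
   [[1, 0, 0, 0, 0, 0, 0, 0, 0, 0, 0, 1, 0, 0], [0, 1, 0, 0, 0, 0, 0, 0, 0, 0, 0, 0, 0, 0], [0, 0, 1, 0, 0, 0, 0, 0, 0, 0, 0, 0, 1, 0], [0, 0, 0, 1, 0, 0, 0, 0, 0, 0, 0, 0, 0, 2], [1, 0, 0, 0, 1, 0, 0, 0, 0, 0, 0, 2, 0, 0], [0, 0, 0, 0, 0, 1, 0, 0, 0, 1, 0, 0, 1, 0], [0, 0, 0, 0, 0, 0, 1, 0, 0, 0, 2, 0, 0, 2], [0, 0, 0, 0, 0, 0, 0, 1, 0, 0, 0, 0, 0, 0], [0, 0, 0, 0, 0, 0, 0, 0, 1, 0, 0, 0, 0, 0], [0, 0, 0, 0, 0, 0, 0, 0, 0, 1, 0, 0, 2, 0], [0, 0, 0, 0, 0, 0, 0, 0, 0, 0, 1, 0, 0, 2], [0, 0, 0, 0, 0, 0, 0, 0, 0, 0, 0, 1, 0, 0], [0, 0, 0, 0, 0, 0, 0, 0, 0, 0, 0, 0, 1, 0], [0, 0, 0, 0, 0, 0, 0, 0, 0, 0, 0, 0, 0, 1]],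
   [[1, 0, 0, 0, 0, 0, 0, 0, 0, 2, 0, 2, 0, 0], [0, 1, 0, 0, 0, 0, 0, 0, 2, 0, 0, 0, 0, 2], [0, 2, 1, 2, 0, 0, 0, 0, 0, 0, 0, 0, 0, 2], [0, 1, 0, 1, 0, 0, 0, 2, 0, 0, 0, 0, 2, 1], [2, 0, 0, 0, 1, 2, 0, 1, 0, 0, 0, 2, 1, 0], [1, 1, 0, 0, 0, 1, 2, 1, 0, 0, 2, 1, 1, 1], [2, 2, 0, 0, 0, 0, 1, 0, 0, 2, 1, 2, 0, 2], [0, 2, 0, 0, 0, 0, 0, 1, 2, 0, 0, 0, 1, 2], [0, 0, 0, 0, 0, 0, 0, 0, 1, 0, 0, 0, 1, 1], [0, 0, 0, 0, 0, 0, 0, 0, 0, 1, 1, 1, 0, 1], [0, 0, 0, 0, 0, 0, 0, 0, 0, 0, 1, 1, 2, 1], [0, 0, 0, 0, 0, 0, 0, 0, 0, 0, 0, 1, 1, 0], [0, 0, 0, 0, 0, 0, 0, 0, 0, 0, 0, 0, 1, 1], [0, 0, 0, 0, 0, 0, 0, 0, 0, 0, 0, 0, 0, 1]],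
   [[1, 0, 0, 0, 0, 0, 0, 0, 0, 0, 1, 0, 0, 1], [0, 1, 0, 0, 0, 0, 0, 0, 2, 0, 0, 0, 0, 2], [0, 2, 1, 2, 0, 0, 0, 0, 0, 0, 0, 0, 0, 2], [0, 0, 0, 1, 0, 0, 0, 0, 2, 0, 0, 0, 0, 0], [0, 0, 0, 0, 1, 0, 2, 0, 2, 0, 2, 0, 0, 0], [1, 2, 0, 0, 0, 1, 2, 0, 1, 0, 2, 1, 0, 2], [0, 0, 0, 0, 0, 0, 1, 0, 2, 0, 0, 0, 0, 0], [0, 2, 0, 0, 0, 0, 0, 1, 2, 0, 0, 0, 1, 2], [0, 0, 0, 0, 0, 0, 0, 0, 1, 0, 0, 0, 0, 0], [0, 0, 0, 0, 0, 0, 0, 0, 0, 1, 1, 1, 0, 1], [0, 0, 0, 0, 0, 0, 0, 0, 0, 0, 1, 0, 0, 0], [0, 0, 0, 0, 0, 0, 0, 0, 0, 0, 0, 1, 0, 2], [0, 0, 0, 0, 0, 0, 0, 0, 0, 0, 0, 0, 1, 1], [0, 0, 0, 0, 0, 0, 0, 0, 0, 0, 0, 0, 0, 1]],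
   [[1, 0, 0, 0, 0, 0, 0, 0, 0, 0, 1, 0, 0, 1], [0, 1, 0, 0, 0, 0, 0, 0, 0, 0, 0, 0, 0, 2], [0, 2, 1, 0, 0, 0, 0, 0, 2, 0, 0, 0, 0, 2], [0, 0, 0, 1, 0, 0, 0, 0, 2, 0, 0, 0, 0, 0], [0, 0, 0, 0, 1, 0, 2, 0, 2, 0, 2, 0, 0, 0], [1, 2, 0, 0, 0, 1, 0, 0, 0, 0, 2, 1, 0, 2], [0, 0, 0, 0, 0, 0, 1, 0, 2, 0, 0, 0, 0, 0], [0, 0, 0, 0, 0, 0, 0, 1, 0, 0, 0, 0, 1, 1], [0, 0, 0, 0, 0, 0, 0, 0, 1, 0, 0, 0, 0, 0], [0, 0, 0, 0, 0, 0, 0, 0, 0, 1, 0, 1, 0, 1], [0, 0, 0, 0, 0, 0, 0, 0, 0, 0, 1, 0, 0, 0], [0, 0, 0, 0, 0, 0, 0, 0, 0, 0, 0, 1, 0, 2], [0, 0, 0, 0, 0, 0, 0, 0, 0, 0, 0, 0, 1, 0], [0, 0, 0, 0, 0, 0, 0, 0, 0, 0, 0, 0, 0, 1]],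
   [[1, 0, 0, 0, 0, 0, 0, 0, 0, 2, 0, 1, 2, 1], [0, 1, 0, 0, 0, 0, 0, 0, 2, 0, 0, 0, 0, 1], [0, 1, 1, 2, 0, 0, 0, 0, 1, 0, 0, 0, 2, 1], [0, 1, 0, 1, 0, 0, 0, 2, 2, 0, 0, 0, 1, 1], [1, 0, 0, 0, 1, 2, 0, 1, 0, 1, 2, 1, 1, 1], [1, 1, 0, 0, 0, 1, 2, 1, 0, 2, 1, 1, 0, 1], [2, 2, 0, 0, 0, 0, 1, 0, 0, 2, 2, 0, 2, 2], [0, 2, 0, 0, 0, 0, 0, 1, 2, 0, 0, 0, 2, 0], [0, 0, 0, 0, 0, 0, 0, 0, 1, 0, 0, 0, 1, 1], [0, 0, 0, 0, 0, 0, 0, 0, 0, 1, 1, 1, 1, 2], [0, 0, 0, 0, 0, 0, 0, 0, 0, 0, 1, 1, 2, 2], [0, 0, 0, 0, 0, 0, 0, 0, 0, 0, 0, 1, 1, 0], [0, 0, 0, 0, 0, 0, 0, 0, 0, 0, 0, 0, 1, 1], [0, 0, 0, 0, 0, 0, 0, 0, 0, 0, 0, 0, 0, 1]],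
   [[1, 0, 0, 0, 0, 0, 0, 0, 0, 0, 1, 2, 0, 0], [0, 1, 0, 0, 0, 0, 0, 0, 2, 0, 0, 0, 0, 1], [0, 1, 1, 2, 0, 0, 0, 0, 1, 0, 0, 0, 2, 1], [0, 0, 0, 1, 0, 0, 0, 0, 1, 0, 0, 0, 0, 1], [2, 0, 0, 0, 1, 0, 2, 0, 2, 0, 0, 2, 0, 2], [1, 2, 0, 0, 0, 1, 2, 0, 1, 2, 1, 1, 1, 1], [0, 0, 0, 0, 0, 0, 1, 0, 2, 0, 1, 0, 0, 2], [0, 2, 0, 0, 0, 0, 0, 1, 2, 0, 0, 0, 2, 0], [0, 0, 0, 0, 0, 0, 0, 0, 1, 0, 0, 0, 0, 0], [0, 0, 0, 0, 0, 0, 0, 0, 0, 1, 1, 1, 1, 2], [0, 0, 0, 0, 0, 0, 0, 0, 0, 0, 1, 0, 0, 1], [0, 0, 0, 0, 0, 0, 0, 0, 0, 0, 0, 1, 0, 2], [0, 0, 0, 0, 0, 0, 0, 0, 0, 0, 0, 0, 1, 1], [0, 0, 0, 0, 0, 0, 0, 0, 0, 0, 0, 0, 0, 1]],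
   [[1, 0, 0, 0, 0, 0, 0, 0, 0, 0, 1, 2, 0, 0], [0, 1, 0, 0, 0, 0, 0, 0, 0, 0, 0, 0, 0, 1], [0, 1, 1, 0, 0, 0, 0, 0, 2, 0, 0, 0, 2, 2], [0, 0, 0, 1, 0, 0, 0, 0, 1, 0, 0, 0, 0, 1], [2, 0, 0, 0, 1, 0, 2, 0, 2, 0, 0, 2, 0, 2], [1, 2, 0, 0, 0, 1, 0, 0, 0, 2, 2, 1, 1, 0], [0, 0, 0, 0, 0, 0, 1, 0, 2, 0, 1, 0, 0, 2], [0, 0, 0, 0, 0, 0, 0, 1, 0, 0, 0, 0, 2, 1], [0, 0, 0, 0, 0, 0, 0, 0, 1, 0, 0, 0, 0, 0], [0, 0, 0, 0, 0, 0, 0, 0, 0, 1, 0, 1, 1, 1], [0, 0, 0, 0, 0, 0, 0, 0, 0, 0, 1, 0, 0, 1], [0, 0, 0, 0, 0, 0, 0, 0, 0, 0, 0, 1, 0, 2], [0, 0, 0, 0, 0, 0, 0, 0, 0, 0, 0, 0, 1, 0], [0, 0, 0, 0, 0, 0, 0, 0, 0, 0, 0, 0, 0, 1]],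
   [[1, 0, 0, 0, 0, 0, 0, 0, 0, 0, 0, 2, 0, 2], [0, 1, 0, 0, 0, 0, 0, 0, 0, 0, 0, 0, 0, 1], [0, 1, 1, 0, 0, 0, 0, 0, 0, 0, 0, 0, 2, 2], [0, 0, 0, 1, 0, 0, 0, 0, 1, 0, 0, 0, 0, 1], [2, 0, 0, 0, 1, 0, 0, 0, 0, 0, 1, 2, 0, 1], [0, 0, 0, 0, 0, 1, 0, 0, 0, 2, 0, 2, 1, 0], [0, 0, 0, 0, 0, 0, 1, 0, 0, 0, 1, 0, 0, 2], [0, 0, 0, 0, 0, 0, 0, 1, 0, 0, 0, 0, 2, 0], [0, 0, 0, 0, 0, 0, 0, 0, 1, 0, 0, 0, 0, 0], [0, 0, 0, 0, 0, 0, 0, 0, 0, 1, 0, 0, 1, 0], [0, 0, 0, 0, 0, 0, 0, 0, 0, 0, 1, 0, 0, 1], [0, 0, 0, 0, 0, 0, 0, 0, 0, 0, 0, 1, 0, 0], [0, 0, 0, 0, 0, 0, 0, 0, 0, 0, 0, 0, 1, 0], [0, 0, 0, 0, 0, 0, 0, 0, 0, 0, 0, 0, 0, 1]],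
   [[1, 0, 0, 0, 0, 0, 0, 0, 0, 2, 1, 2, 2, 1], [0, 1, 0, 0, 0, 0, 0, 0, 2, 0, 0, 0, 1, 2], [0, 2, 1, 2, 0, 0, 0, 2, 1, 0, 0, 0, 2, 2], [0, 2, 0, 1, 0, 0, 0, 2, 1, 0, 0, 0, 0, 1], [2, 1, 0, 0, 1, 2, 2, 1, 2, 1, 2, 2, 2, 1], [2, 0, 0, 0, 0, 1, 2, 1, 1, 1, 0, 1, 0, 2], [2, 2, 0, 0, 0, 0, 1, 0, 2, 2, 2, 1, 2, 0], [0, 2, 0, 0, 0, 0, 0, 1, 2, 0, 0, 0, 2, 1], [0, 0, 0, 0, 0, 0, 0, 0, 1, 0, 0, 0, 1, 2], [0, 0, 0, 0, 0, 0, 0, 0, 0, 1, 1, 2, 2, 0], [0, 0, 0, 0, 0, 0, 0, 0, 0, 0, 1, 1, 2, 2], [0, 0, 0, 0, 0, 0, 0, 0, 0, 0, 0, 1, 1, 2], [0, 0, 0, 0, 0, 0, 0, 0, 0, 0, 0, 0, 1, 1], [0, 0, 0, 0, 0, 0, 0, 0, 0, 0, 0, 0, 0, 1]],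
   [[1, 0, 0, 0, 0, 0, 0, 0, 0, 0, 2, 1, 1, 1], [0, 1, 0, 0, 0, 0, 0, 0, 2, 0, 0, 0, 1, 2], [0, 2, 1, 2, 0, 0, 0, 2, 1, 0, 0, 0, 2, 2], [0, 1, 0, 1, 0, 0, 0, 0, 0, 0, 0, 0, 2, 2], [1, 0, 0, 0, 1, 0, 1, 0, 2, 2, 2, 0, 1, 1], [2, 1, 0, 0, 0, 1, 2, 0, 2, 1, 0, 1, 1, 1], [0, 0, 0, 0, 0, 0, 1, 0, 1, 0, 2, 1, 0, 0], [0, 2, 0, 0, 0, 0, 0, 1, 2, 0, 0, 0, 2, 1], [0, 0, 0, 0, 0, 0, 0, 0, 1, 0, 0, 0, 0, 1], [0, 0, 0, 0, 0, 0, 0, 0, 0, 1, 1, 2, 2, 0], [0, 0, 0, 0, 0, 0, 0, 0, 0, 0, 1, 0, 0, 2], [0, 0, 0, 0, 0, 0, 0, 0, 0, 0, 0, 1, 0, 1], [0, 0, 0, 0, 0, 0, 0, 0, 0, 0, 0, 0, 1, 1], [0, 0, 0, 0, 0, 0, 0, 0, 0, 0, 0, 0, 0, 1]],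
   [[1, 0, 0, 0, 0, 0, 0, 0, 0, 0, 2, 1, 1, 1], [0, 1, 0, 0, 0, 0, 0, 0, 0, 0, 0, 0, 1, 0], [0, 0, 1, 0, 0, 0, 0, 2, 1, 0, 0, 0, 1, 1], [0, 1, 0, 1, 0, 0, 0, 0, 0, 0, 0, 0, 2, 2], [1, 0, 0, 0, 1, 0, 1, 0, 2, 2, 2, 0, 1, 1], [2, 1, 0, 0, 0, 1, 0, 0, 0, 1, 2, 2, 1, 1], [0, 0, 0, 0, 0, 0, 1, 0, 1, 0, 2, 1, 0, 0], [0, 0, 0, 0, 0, 0, 0, 1, 0, 0, 0, 0, 0, 2], [0, 0, 0, 0, 0, 0, 0, 0, 1, 0, 0, 0, 0, 1], [0, 0, 0, 0, 0, 0, 0, 0, 0, 1, 0, 2, 2, 1], [0, 0, 0, 0, 0, 0, 0, 0, 0, 0, 1, 0, 0, 2], [0, 0, 0, 0, 0, 0, 0, 0, 0, 0, 0, 1, 0, 1], [0, 0, 0, 0, 0, 0, 0, 0, 0, 0, 0, 0, 1, 0], [0, 0, 0, 0, 0, 0, 0, 0, 0, 0, 0, 0, 0, 1]],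
   [[1, 0, 0, 0, 0, 0, 0, 0, 0, 0, 0, 1, 1, 0], [0, 1, 0, 0, 0, 0, 0, 0, 0, 0, 0, 0, 1, 0], [0, 0, 1, 0, 0, 0, 0, 2, 0, 0, 0, 0, 1, 0], [0, 1, 0, 1, 0, 0, 0, 0, 0, 0, 0, 0, 2, 2], [1, 0, 0, 0, 1, 0, 0, 0, 0, 2, 0, 2, 1, 0], [0, 0, 0, 0, 0, 1, 0, 0, 0, 1, 0, 0, 1, 0], [0, 0, 0, 0, 0, 0, 1, 0, 0, 0, 2, 1, 0, 2], [0, 0, 0, 0, 0, 0, 0, 1, 0, 0, 0, 0, 0, 0], [0, 0, 0, 0, 0, 0, 0, 0, 1, 0, 0, 0, 0, 1], [0, 0, 0, 0, 0, 0, 0, 0, 0, 1, 0, 0, 2, 0], [0, 0, 0, 0, 0, 0, 0, 0, 0, 0, 1, 0, 0, 2], [0, 0, 0, 0, 0, 0, 0, 0, 0, 0, 0, 1, 0, 0], [0, 0, 0, 0, 0, 0, 0, 0, 0, 0, 0, 0, 1, 0], [0, 0, 0, 0, 0, 0, 0, 0, 0, 0, 0, 0, 0, 1]],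
   [[1, 0, 0, 0, 0, 0, 0, 0, 0, 2, 1, 1, 1, 0], [0, 1, 0, 0, 0, 0, 0, 0, 2, 0, 0, 0, 1, 1], [0, 1, 1, 2, 0, 0, 0, 2, 2, 0, 0, 0, 0, 1], [0, 2, 0, 1, 0, 0, 0, 2, 0, 0, 0, 0, 2, 0], [1, 1, 0, 0, 1, 2, 2, 1, 2, 2, 0, 1, 0, 1], [2, 0, 0, 0, 0, 1, 2, 1, 1, 0, 2, 0, 0, 2], [2, 2, 0, 0, 0, 0, 1, 0, 2, 2, 0, 2, 1, 1], [0, 2, 0, 0, 0, 0, 0, 1, 2, 0, 0, 0, 0, 2], [0, 0, 0, 0, 0, 0, 0, 0, 1, 0, 0, 0, 1, 2], [0, 0, 0, 0, 0, 0, 0, 0, 0, 1, 1, 2, 0, 1], [0, 0, 0, 0, 0, 0, 0, 0, 0, 0, 1, 1, 2, 0], [0, 0, 0, 0, 0, 0, 0, 0, 0, 0, 0, 1, 1, 2], [0, 0, 0, 0, 0, 0, 0, 0, 0, 0, 0, 0, 1, 1], [0, 0, 0, 0, 0, 0, 0, 0, 0, 0, 0, 0, 0, 1]],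
   [[1, 0, 0, 0, 0, 0, 0, 0, 0, 0, 2, 0, 1, 1], [0, 1, 0, 0, 0, 0, 0, 0, 2, 0, 0, 0, 1, 1], [0, 1, 1, 2, 0, 0, 0, 2, 2, 0, 0, 0, 0, 1], [0, 1, 0, 1, 0, 0, 0, 0, 2, 0, 0, 0, 2, 2], [0, 0, 0, 0, 1, 0, 1, 0, 2, 2, 2, 1, 0, 2], [2, 1, 0, 0, 0, 1, 2, 0, 2, 0, 2, 0, 0, 0], [0, 0, 0, 0, 0, 0, 1, 0, 1, 0, 0, 1, 0, 1], [0, 2, 0, 0, 0, 0, 0, 1, 2, 0, 0, 0, 0, 2], [0, 0, 0, 0, 0, 0, 0, 0, 1, 0, 0, 0, 0, 1], [0, 0, 0, 0, 0, 0, 0, 0, 0, 1, 1, 2, 0, 1], [0, 0, 0, 0, 0, 0, 0, 0, 0, 0, 1, 0, 0, 0], [0, 0, 0, 0, 0, 0, 0, 0, 0, 0, 0, 1, 0, 1], [0, 0, 0, 0, 0, 0, 0, 0, 0, 0, 0, 0, 1, 1], [0, 0, 0, 0, 0, 0, 0, 0, 0, 0, 0, 0, 0, 1]],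
   [[1, 0, 0, 0, 0, 0, 0, 0, 0, 0, 2, 0, 1, 1], [0, 1, 0, 0, 0, 0, 0, 0, 0, 0, 0, 0, 1, 2], [0, 2, 1, 0, 0, 0, 0, 2, 1, 0, 0, 0, 2, 0], [0, 1, 0, 1, 0, 0, 0, 0, 2, 0, 0, 0, 2, 2], [0, 0, 0, 0, 1, 0, 1, 0, 2, 2, 2, 1, 0, 2], [2, 1, 0, 0, 0, 1, 0, 0, 0, 0, 2, 1, 0, 1], [0, 0, 0, 0, 0, 0, 1, 0, 1, 0, 0, 1, 0, 1], [0, 0, 0, 0, 0, 0, 0, 1, 0, 0, 0, 0, 1, 2], [0, 0, 0, 0, 0, 0, 0, 0, 1, 0, 0, 0, 0, 1], [0, 0, 0, 0, 0, 0, 0, 0, 0, 1, 0, 2, 0, 1], [0, 0, 0, 0, 0, 0, 0, 0, 0, 0, 1, 0, 0, 0], [0, 0, 0, 0, 0, 0, 0, 0, 0, 0, 0, 1, 0, 1], [0, 0, 0, 0, 0, 0, 0, 0, 0, 0, 0, 0, 1, 0], [0, 0, 0, 0, 0, 0, 0, 0, 0, 0, 0, 0, 0, 1]],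
   [[1, 0, 0, 0, 0, 0, 0, 0, 0, 2, 1, 0, 0, 2], [0, 1, 0, 0, 0, 0, 0, 0, 2, 0, 0, 0, 1, 0], [0, 0, 1, 2, 0, 0, 0, 2, 0, 0, 0, 0, 1, 1], [0, 2, 0, 1, 0, 0, 0, 2, 2, 0, 0, 0, 1, 2], [0, 1, 0, 0, 1, 2, 2, 1, 2, 0, 1, 1, 2, 1], [2, 0, 0, 0, 0, 1, 2, 1, 1, 2, 1, 2, 2, 1], [2, 2, 0, 0, 0, 0, 1, 0, 2, 2, 1, 0, 0, 0], [0, 2, 0, 0, 0, 0, 0, 1, 2, 0, 0, 0, 1, 0], [0, 0, 0, 0, 0, 0, 0, 0, 1, 0, 0, 0, 1, 2], [0, 0, 0, 0, 0, 0, 0, 0, 0, 1, 1, 2, 1, 2], [0, 0, 0, 0, 0, 0, 0, 0, 0, 0, 1, 1, 2, 1], [0, 0, 0, 0, 0, 0, 0, 0, 0, 0, 0, 1, 1, 2], [0, 0, 0, 0, 0, 0, 0, 0, 0, 0, 0, 0, 1, 1], [0, 0, 0, 0, 0, 0, 0, 0, 0, 0, 0, 0, 0, 1]],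
   [[1, 0, 0, 0, 0, 0, 0, 0, 0, 0, 2, 2, 1, 1], [0, 1, 0, 0, 0, 0, 0, 0, 2, 0, 0, 0, 1, 0], [0, 0, 1, 2, 0, 0, 0, 2, 0, 0, 0, 0, 1, 1], [0, 1, 0, 1, 0, 0, 0, 0, 1, 0, 0, 0, 2, 2], [2, 0, 0, 0, 1, 0, 1, 0, 2, 2, 2, 0, 2, 2], [2, 1, 0, 0, 0, 1, 2, 0, 2, 2, 1, 2, 1, 1], [0, 0, 0, 0, 0, 0, 1, 0, 1, 0, 1, 1, 0, 0], [0, 2, 0, 0, 0, 0, 0, 1, 2, 0, 0, 0, 1, 0], [0, 0, 0, 0, 0, 0, 0, 0, 1, 0, 0, 0, 0, 1], [0, 0, 0, 0, 0, 0, 0, 0, 0, 1, 1, 2, 1, 2], [0, 0, 0, 0, 0, 0, 0, 0, 0, 0, 1, 0, 0, 1], [0, 0, 0, 0, 0, 0, 0, 0, 0, 0, 0, 1, 0, 1], [0, 0, 0, 0, 0, 0, 0, 0, 0, 0, 0, 0, 1, 1], [0, 0, 0, 0, 0, 0, 0, 0, 0, 0, 0, 0, 0, 1]],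
   [[1, 0, 0, 0, 0, 0, 0, 0, 0, 0, 2, 2, 1, 1], [0, 1, 0, 0, 0, 0, 0, 0, 0, 0, 0, 0, 1, 1], [0, 1, 1, 0, 0, 0, 0, 2, 1, 0, 0, 0, 0, 0], [0, 1, 0, 1, 0, 0, 0, 0, 1, 0, 0, 0, 2, 2], [2, 0, 0, 0, 1, 0, 1, 0, 2, 2, 2, 0, 2, 2], [2, 1, 0, 0, 0, 1, 0, 0, 0, 2, 2, 0, 1, 1], [0, 0, 0, 0, 0, 0, 1, 0, 1, 0, 1, 1, 0, 0], [0, 0, 0, 0, 0, 0, 0, 1, 0, 0, 0, 0, 2, 2], [0, 0, 0, 0, 0, 0, 0, 0, 1, 0, 0, 0, 0, 1], [0, 0, 0, 0, 0, 0, 0, 0, 0, 1, 0, 2, 1, 1], [0, 0, 0, 0, 0, 0, 0, 0, 0, 0, 1, 0, 0, 1], [0, 0, 0, 0, 0, 0, 0, 0, 0, 0, 0, 1, 0, 1], [0, 0, 0, 0, 0, 0, 0, 0, 0, 0, 0, 0, 1, 0], [0, 0, 0, 0, 0, 0, 0, 0, 0, 0, 0, 0, 0, 1]],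
   [[1, 0, 0, 0, 0, 0, 0, 0, 0, 0, 0, 2, 1, 2], [0, 1, 0, 0, 0, 0, 0, 0, 0, 0, 0, 0, 1, 1], [0, 1, 1, 0, 0, 0, 0, 2, 0, 0, 0, 0, 0, 2], [0, 1, 0, 1, 0, 0, 0, 0, 1, 0, 0, 0, 2, 2], [2, 0, 0, 0, 1, 0, 0, 0, 0, 2, 1, 2, 2, 1], [0, 0, 0, 0, 0, 1, 0, 0, 0, 2, 0, 2, 1, 0], [0, 0, 0, 0, 0, 0, 1, 0, 0, 0, 1, 1, 0, 2], [0, 0, 0, 0, 0, 0, 0, 1, 0, 0, 0, 0, 2, 0], [0, 0, 0, 0, 0, 0, 0, 0, 1, 0, 0, 0, 0, 1], [0, 0, 0, 0, 0, 0, 0, 0, 0, 1, 0, 0, 1, 0], [0, 0, 0, 0, 0, 0, 0, 0, 0, 0, 1, 0, 0, 1], [0, 0, 0, 0, 0, 0, 0, 0, 0, 0, 0, 1, 0, 0], [0, 0, 0, 0, 0, 0, 0, 0, 0, 0, 0, 0, 1, 0], [0, 0, 0, 0, 0, 0, 0, 0, 0, 0, 0, 0, 0, 1]],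
   [[1, 0, 0, 0, 0, 0, 0, 0, 0, 2, 2, 1, 0, 1], [0, 1, 0, 0, 0, 0, 0, 0, 2, 0, 0, 0, 2, 1], [0, 1, 1, 2, 0, 0, 0, 1, 0, 0, 0, 0, 2, 1], [0, 0, 0, 1, 0, 0, 0, 2, 1, 0, 0, 0, 1, 1], [1, 2, 0, 0, 1, 2, 1, 1, 2, 0, 2, 1, 2, 0], [0, 2, 0, 0, 0, 1, 2, 1, 2, 1, 1, 1, 2, 2], [2, 2, 0, 0, 0, 0, 1, 0, 1, 2, 1, 1, 0, 2], [0, 2, 0, 0, 0, 0, 0, 1, 2, 0, 0, 0, 1, 1], [0, 0, 0, 0, 0, 0, 0, 0, 1, 0, 0, 0, 1, 0], [0, 0, 0, 0, 0, 0, 0, 0, 0, 1, 1, 0, 2, 2], [0, 0, 0, 0, 0, 0, 0, 0, 0, 0, 1, 1, 2, 1], [0, 0, 0, 0, 0, 0, 0, 0, 0, 0, 0, 1, 1, 1], [0, 0, 0, 0, 0, 0, 0, 0, 0, 0, 0, 0, 1, 1], [0, 0, 0, 0, 0, 0, 0, 0, 0, 0, 0, 0, 0, 1]],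
   [[1, 0, 0, 0, 0, 0, 0, 0, 0, 0, 0, 1, 2, 0], [0, 1, 0, 0, 0, 0, 0, 0, 2, 0, 0, 0, 2, 1], [0, 1, 1, 2, 0, 0, 0, 1, 0, 0, 0, 0, 2, 1], [0, 2, 0, 1, 0, 0, 0, 0, 0, 0, 0, 0, 2, 2], [1, 0, 0, 0, 1, 0, 0, 0, 0, 1, 0, 2, 2, 0], [0, 0, 0, 0, 0, 1, 2, 0, 0, 1, 1, 1, 1, 1], [0, 0, 0, 0, 0, 0, 1, 0, 0, 0, 2, 2, 0, 2], [0, 2, 0, 0, 0, 0, 0, 1, 2, 0, 0, 0, 1, 1], [0, 0, 0, 0, 0, 0, 0, 0, 1, 0, 0, 0, 0, 2], [0, 0, 0, 0, 0, 0, 0, 0, 0, 1, 1, 0, 2, 2], [0, 0, 0, 0, 0, 0, 0, 0, 0, 0, 1, 0, 0, 2], [0, 0, 0, 0, 0, 0, 0, 0, 0, 0, 0, 1, 0, 0], [0, 0, 0, 0, 0, 0, 0, 0, 0, 0, 0, 0, 1, 1], [0, 0, 0, 0, 0, 0, 0, 0, 0, 0, 0, 0, 0, 1]],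
   [[1, 0, 0, 0, 0, 0, 0, 0, 0, 0, 0, 1, 2, 0], [0, 1, 0, 0, 0, 0, 0, 0, 0, 0, 0, 0, 2, 0], [0, 0, 1, 0, 0, 0, 0, 1, 0, 0, 0, 0, 1, 0], [0, 2, 0, 1, 0, 0, 0, 0, 0, 0, 0, 0, 2, 2], [1, 0, 0, 0, 1, 0, 0, 0, 0, 1, 0, 2, 2, 0], [0, 0, 0, 0, 0, 1, 0, 0, 0, 1, 0, 0, 1, 0], [0, 0, 0, 0, 0, 0, 1, 0, 0, 0, 2, 2, 0, 2], [0, 0, 0, 0, 0, 0, 0, 1, 0, 0, 0, 0, 0, 0], [0, 0, 0, 0, 0, 0, 0, 0, 1, 0, 0, 0, 0, 2], [0, 0, 0, 0, 0, 0, 0, 0, 0, 1, 0, 0, 2, 0], [0, 0, 0, 0, 0, 0, 0, 0, 0, 0, 1, 0, 0, 2], [0, 0, 0, 0, 0, 0, 0, 0, 0, 0, 0, 1, 0, 0], [0, 0, 0, 0, 0, 0, 0, 0, 0, 0, 0, 0, 1, 0], [0, 0, 0, 0, 0, 0, 0, 0, 0, 0, 0, 0, 0, 1]],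
   [[1, 0, 0, 0, 0, 0, 0, 0, 0, 2, 2, 0, 2, 1], [0, 1, 0, 0, 0, 0, 0, 0, 2, 0, 0, 0, 2, 0], [0, 0, 1, 2, 0, 0, 0, 1, 1, 0, 0, 0, 2, 1], [0, 0, 0, 1, 0, 0, 0, 2, 0, 0, 0, 0, 0, 2], [0, 2, 0, 0, 1, 2, 1, 1, 2, 1, 2, 1, 2, 2], [0, 2, 0, 0, 0, 1, 2, 1, 2, 0, 0, 2, 2, 2], [2, 2, 0, 0, 0, 0, 1, 0, 1, 2, 2, 2, 2, 2], [0, 2, 0, 0, 0, 0, 0, 1, 2, 0, 0, 0, 2, 2], [0, 0, 0, 0, 0, 0, 0, 0, 1, 0, 0, 0, 1, 0], [0, 0, 0, 0, 0, 0, 0, 0, 0, 1, 1, 0, 0, 0], [0, 0, 0, 0, 0, 0, 0, 0, 0, 0, 1, 1, 2, 2], [0, 0, 0, 0, 0, 0, 0, 0, 0, 0, 0, 1, 1, 1], [0, 0, 0, 0, 0, 0, 0, 0, 0, 0, 0, 0, 1, 1], [0, 0, 0, 0, 0, 0, 0, 0, 0, 0, 0, 0, 0, 1]],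
   [[1, 0, 0, 0, 0, 0, 0, 0, 0, 0, 0, 0, 2, 1], [0, 1, 0, 0, 0, 0, 0, 0, 2, 0, 0, 0, 2, 0], [0, 0, 1, 2, 0, 0, 0, 1, 1, 0, 0, 0, 2, 1], [0, 2, 0, 1, 0, 0, 0, 0, 2, 0, 0, 0, 2, 1], [0, 0, 0, 0, 1, 0, 0, 0, 0, 1, 2, 0, 0, 0], [0, 0, 0, 0, 0, 1, 2, 0, 0, 0, 0, 2, 0, 0], [0, 0, 0, 0, 0, 0, 1, 0, 0, 0, 0, 2, 0, 0], [0, 2, 0, 0, 0, 0, 0, 1, 2, 0, 0, 0, 2, 2], [0, 0, 0, 0, 0, 0, 0, 0, 1, 0, 0, 0, 0, 2], [0, 0, 0, 0, 0, 0, 0, 0, 0, 1, 1, 0, 0, 0], [0, 0, 0, 0, 0, 0, 0, 0, 0, 0, 1, 0, 0, 0], [0, 0, 0, 0, 0, 0, 0, 0, 0, 0, 0, 1, 0, 0], [0, 0, 0, 0, 0, 0, 0, 0, 0, 0, 0, 0, 1, 1], [0, 0, 0, 0, 0, 0, 0, 0, 0, 0, 0, 0, 0, 1]],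
   [[1, 0, 0, 0, 0, 0, 0, 0, 0, 2, 2, 2, 1, 1], [0, 1, 0, 0, 0, 0, 0, 0, 2, 0, 0, 0, 2, 2], [0, 2, 1, 2, 0, 0, 0, 1, 2, 0, 0, 0, 2, 2], [0, 0, 0, 1, 0, 0, 0, 2, 2, 0, 0, 0, 2, 0], [2, 2, 0, 0, 1, 2, 1, 1, 2, 2, 2, 2, 0, 0], [0, 2, 0, 0, 0, 1, 2, 1, 2, 2, 2, 0, 1, 1], [2, 2, 0, 0, 0, 0, 1, 0, 1, 2, 0, 0, 1, 0], [0, 2, 0, 0, 0, 0, 0, 1, 2, 0, 0, 0, 0, 0], [0, 0, 0, 0, 0, 0, 0, 0, 1, 0, 0, 0, 1, 0], [0, 0, 0, 0, 0, 0, 0, 0, 0, 1, 1, 0, 1, 1], [0, 0, 0, 0, 0, 0, 0, 0, 0, 0, 1, 1, 2, 0], [0, 0, 0, 0, 0, 0, 0, 0, 0, 0, 0, 1, 1, 1], [0, 0, 0, 0, 0, 0, 0, 0, 0, 0, 0, 0, 1, 1], [0, 0, 0, 0, 0, 0, 0, 0, 0, 0, 0, 0, 0, 1]],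
   [[1, 0, 0, 0, 0, 0, 0, 0, 0, 0, 0, 2, 2, 2], [0, 1, 0, 0, 0, 0, 0, 0, 2, 0, 0, 0, 2, 2], [0, 2, 1, 2, 0, 0, 0, 1, 2, 0, 0, 0, 2, 2], [0, 2, 0, 1, 0, 0, 0, 0, 1, 0, 0, 0, 2, 0], [2, 0, 0, 0, 1, 0, 0, 0, 0, 1, 1, 2, 1, 1], [0, 0, 0, 0, 0, 1, 2, 0, 0, 2, 2, 0, 1, 1], [0, 0, 0, 0, 0, 0, 1, 0, 0, 0, 1, 2, 0, 2], [0, 2, 0, 0, 0, 0, 0, 1, 2, 0, 0, 0, 0, 0], [0, 0, 0, 0, 0, 0, 0, 0, 1, 0, 0, 0, 0, 2], [0, 0, 0, 0, 0, 0, 0, 0, 0, 1, 1, 0, 1, 1], [0, 0, 0, 0, 0, 0, 0, 0, 0, 0, 1, 0, 0, 1], [0, 0, 0, 0, 0, 0, 0, 0, 0, 0, 0, 1, 0, 0], [0, 0, 0, 0, 0, 0, 0, 0, 0, 0, 0, 0, 1, 1], [0, 0, 0, 0, 0, 0, 0, 0, 0, 0, 0, 0, 0, 1]],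
   [[1, 0, 0, 0, 0, 0, 0, 0, 0, 0, 0, 2, 2, 2], [0, 1, 0, 0, 0, 0, 0, 0, 0, 0, 0, 0, 2, 1], [0, 1, 1, 0, 0, 0, 0, 1, 0, 0, 0, 0, 1, 2], [0, 2, 0, 1, 0, 0, 0, 0, 1, 0, 0, 0, 2, 0], [2, 0, 0, 0, 1, 0, 0, 0, 0, 1, 1, 2, 1, 1], [0, 0, 0, 0, 0, 1, 0, 0, 0, 2, 0, 2, 1, 0], [0, 0, 0, 0, 0, 0, 1, 0, 0, 0, 1, 2, 0, 2], [0, 0, 0, 0, 0, 0, 0, 1, 0, 0, 0, 0, 2, 0], [0, 0, 0, 0, 0, 0, 0, 0, 1, 0, 0, 0, 0, 2], [0, 0, 0, 0, 0, 0, 0, 0, 0, 1, 0, 0, 1, 0], [0, 0, 0, 0, 0, 0, 0, 0, 0, 0, 1, 0, 0, 1], [0, 0, 0, 0, 0, 0, 0, 0, 0, 0, 0, 1, 0, 0], [0, 0, 0, 0, 0, 0, 0, 0, 0, 0, 0, 0, 1, 0], [0, 0, 0, 0, 0, 0, 0, 0, 0, 0, 0, 0, 0, 1]]]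

/-- their transposes -/
def MATST : List (List (List ℕ)) :=
  [
   [[1, 0, 0, 0, 0, 0, 0, 0, 0, 0, 0, 0, 0, 0], [0, 1, 0, 0, 0, 0, 0, 0, 0, 0, 0, 0, 0, 0], [0, 0, 1, 0, 0, 0, 0, 0, 0, 0, 0, 0, 0, 0], [0, 0, 0, 1, 0, 0, 0, 0, 0, 0, 0, 0, 0, 0], [0, 0, 0, 0, 1, 0, 0, 0, 0, 0, 0, 0, 0, 0], [0, 0, 0, 0, 0, 1, 0, 0, 0, 0, 0, 0, 0, 0], [0, 0, 0, 0, 0, 0, 1, 0, 0, 0, 0, 0, 0, 0], [0, 0, 0, 0, 0, 0, 0, 1, 0, 0, 0, 0, 0, 0], [0, 0, 0, 0, 0, 0, 0, 0, 1, 0, 0, 0, 0, 0], [0, 0, 0, 0, 0, 0, 0, 0, 0, 1, 0, 0, 0, 0], [0, 0, 0, 0, 0, 0, 0, 0, 0, 0, 1, 0, 0, 0], [0, 0, 0, 0, 0, 0, 0, 0, 0, 0, 0, 1, 0, 0], [0, 0, 0, 0, 0, 0, 0, 0, 0, 0, 0, 0, 1, 0], [0, 0,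 0, 0, 0, 0, 0, 0, 0, 0, 0, 0, 0, 1]],
   [[1, 0, 0, 0, 0, 0, 0, 0, 0, 0, 0, 2, 0, 0], [0, 1, 0, 0, 0, 0, 0, 0, 0, 0, 0, 0, 0, 2], [1, 2, 1, 0, 0, 1, 0, 0, 0, 2, 0, 2, 1, 2], [0, 0, 0, 1, 0, 0, 1, 0, 1, 0, 1, 0, 0, 2], [2, 0, 0, 0, 1, 0, 0, 0, 0, 0, 1, 2, 0, 0], [0, 0, 0, 0, 0, 1, 0, 0, 0, 1, 0, 2, 0, 0], [0, 0, 0, 0, 0, 0, 1, 0, 0, 0, 2, 0, 0, 0], [0, 0, 0, 0, 0, 0, 0, 1, 0, 0, 0, 0, 2, 0], [0, 0, 0, 0, 0, 0, 0, 0, 1, 0, 0, 0, 0, 0], [0, 0, 0, 0, 0, 0, 0, 0, 0, 1, 0, 0, 0, 0], [0, 0, 0, 0, 0, 0, 0, 0, 0, 0, 1, 0, 0, 0], [0, 0, 0, 0, 0, 0, 0, 0, 0, 0, 0, 1, 0, 0], [0, 0, 0, 0, 0, 0, 0, 0, 0, 0, 0, 0, 1, 0], [0, 0, 0, 0, 0, 0, 0, 0, 0, 0, 0,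 0, 0, 1]],
   [[1, 0, 0, 0, 0, 0, 0, 0, 0, 0, 0, 0, 0, 0], [0, 1, 0, 0, 0, 0, 0, 0, 0, 0, 0, 0, 0, 2], [1, 2, 1, 0, 0, 0, 0, 0, 0, 0, 0, 0, 0, 2], [0, 0, 0, 1, 0, 0, 0, 0, 1, 0, 0, 0, 0, 0], [0, 0, 0, 0, 1, 0, 0, 0, 0, 0, 1, 0, 0, 0], [0, 0, 0, 0, 0, 1, 0, 0, 0, 0, 0, 2, 0, 0], [0, 0, 0, 0, 0, 0, 1, 0, 0, 0, 0, 0, 0, 0], [0, 0, 0, 0, 0, 0, 0, 1, 0, 0, 0, 0, 2, 0], [0, 0, 0, 0, 0, 0, 0, 0, 1, 0, 0, 0, 0, 0], [0, 0, 0, 0, 0, 0, 0, 0, 0, 1, 0, 0, 0, 0], [0, 0, 0, 0, 0, 0, 0, 0, 0, 0, 1, 0, 0, 0], [0, 0, 0, 0, 0, 0, 0, 0, 0, 0, 0, 1, 0, 0], [0, 0, 0, 0, 0, 0, 0, 0, 0, 0, 0, 0, 1, 0], [0, 0, 0, 0, 0, 0, 0, 0, 0, 0, 0, 0, 0, 1]],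
   [[1, 0, 0, 0, 0, 0, 0, 0, 0, 0, 0, 1, 0, 0], [0, 1, 0, 0, 0, 0, 0, 0, 0, 0, 0, 0, 0, 1], [2, 1, 1, 0, 0, 2, 0, 0, 0, 2, 0, 2, 2, 2], [0, 0, 0, 1, 0, 0, 2, 0, 2, 0, 1, 0, 0, 1], [1, 0, 0, 0, 1, 0, 0, 0, 0, 0, 2, 2, 0, 0], [0, 0, 0, 0, 0, 1, 0, 0, 0, 2, 0, 1, 0, 0], [0, 0, 0, 0, 0, 0, 1, 0, 0, 0, 1, 0, 0, 0], [0, 0, 0, 0, 0, 0, 0, 1, 0, 0, 0, 0, 1, 0], [0, 0, 0, 0, 0, 0, 0, 0, 1, 0, 0, 0, 0, 0], [0, 0, 0, 0, 0, 0, 0, 0, 0, 1, 0, 0, 0, 0], [0, 0, 0, 0, 0, 0, 0, 0, 0, 0, 1, 0, 0, 0], [0, 0, 0, 0, 0, 0, 0, 0, 0, 0, 0, 1, 0, 0], [0, 0, 0, 0, 0, 0, 0, 0, 0, 0, 0, 0, 1, 0], [0, 0, 0, 0, 0, 0, 0, 0, 0, 0, 0, 0, 0, 1]],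
   [[1, 0, 0, 0, 0, 0, 0, 0, 0, 0, 0, 0, 0, 0], [0, 1, 0, 0, 0, 0, 0, 0, 0, 0, 0, 0, 0, 1], [2, 1, 1, 0, 0, 0, 0, 0, 0, 0, 0, 0, 0, 2], [0, 0, 0, 1, 0, 0, 0, 0, 2, 0, 0, 0, 0, 0], [0, 0, 0, 0, 1, 0, 0, 0, 0, 0, 2, 0, 0, 0], [0, 0, 0, 0, 0, 1, 0, 0, 0, 0, 0, 1, 0, 0], [0, 0, 0, 0, 0, 0, 1, 0, 0, 0, 0, 0, 0, 0], [0, 0, 0, 0, 0, 0, 0, 1, 0, 0, 0, 0, 1, 0], [0, 0, 0, 0, 0, 0, 0, 0, 1, 0, 0, 0, 0, 0], [0, 0, 0, 0, 0, 0, 0, 0, 0, 1, 0, 0, 0, 0], [0, 0, 0, 0, 0, 0, 0, 0, 0, 0, 1, 0, 0, 0], [0, 0, 0, 0, 0, 0, 0, 0, 0, 0, 0, 1, 0, 0], [0, 0, 0, 0, 0, 0, 0, 0, 0, 0, 0, 0, 1, 0], [0, 0, 0, 0, 0, 0, 0, 0, 0, 0, 0, 0, 0, 1]],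
   [[1, 0, 0, 0, 0, 0, 0, 0, 0, 0, 1, 0, 0, 0], [0, 1, 0, 0, 0, 0, 0, 0, 0, 0, 2, 0, 1, 0], [0, 0, 1, 0, 2, 0, 1, 1, 1, 2, 0, 2, 0, 2], [1, 1, 0, 1, 0, 0, 0, 0, 0, 0, 0, 0, 2, 0], [0, 0, 0, 0, 1, 0, 1, 0, 0, 1, 0, 2, 0, 0], [1, 0, 0, 0, 0, 1, 0, 0, 0, 0, 2, 0, 0, 0], [0, 0, 0, 0, 0, 0, 1, 0, 0, 0, 0, 2, 0, 0], [0, 0, 0, 0, 0, 0, 0, 1, 0, 2, 0, 2, 0, 2], [0, 0, 0, 0, 0, 0, 0, 0, 1, 0, 0, 0, 0, 2], [0, 0, 0, 0, 0, 0, 0, 0, 0, 1, 0, 2, 0, 0], [0, 0, 0, 0, 0, 0, 0, 0, 0, 0, 1, 0, 0, 0], [0, 0, 0, 0, 0, 0, 0, 0, 0, 0, 0, 1, 0, 0], [0, 0, 0, 0, 0, 0, 0, 0, 0, 0, 0, 0, 1, 0], [0, 0, 0, 0, 0, 0, 0, 0, 0, 0, 0, 0, 0, 1]],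
   [[1, 0, 0, 0, 0, 0, 0, 0, 0, 0, 0, 0, 0, 0], [0, 1, 0, 0, 0, 0, 0, 0, 0, 0, 0, 0, 1, 0], [0, 0, 1, 0, 0, 0, 0, 1, 0, 0, 0, 0, 0, 0], [1, 1, 0, 1, 0, 0, 0, 0, 0, 0, 0, 0, 2, 0], [0, 0, 0, 0, 1, 0, 0, 0, 0, 1, 0, 0, 0, 0], [0, 0, 0, 0, 0, 1, 0, 0, 0, 0, 0, 0, 0, 0], [0, 0, 0, 0, 0, 0, 1, 0, 0, 0, 0, 2, 0, 0], [0, 0, 0, 0, 0, 0, 0, 1, 0, 0, 0, 0, 0, 0], [0, 0, 0, 0, 0, 0, 0, 0, 1, 0, 0, 0, 0, 2], [0, 0, 0, 0, 0, 0, 0, 0, 0, 1, 0, 0, 0, 0], [0, 0, 0, 0, 0, 0, 0, 0, 0, 0, 1, 0, 0, 0], [0, 0, 0, 0, 0, 0, 0, 0, 0, 0, 0, 1, 0, 0], [0, 0, 0, 0, 0, 0, 0, 0, 0, 0, 0, 0, 1, 0], [0, 0, 0, 0, 0, 0, 0, 0, 0, 0, 0, 0, 0, 1]],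
   [[1, 0, 0, 0, 0, 0, 0, 0, 0, 0, 1, 2, 0, 0], [0, 1, 0, 0, 0, 0, 0, 0, 0, 0, 2, 0, 1, 2], [2, 2, 1, 0, 2, 1, 1, 1, 1, 1, 1, 2, 0, 1], [1, 1, 0, 1, 0, 0, 1, 0, 1, 0, 1, 2, 2, 1], [2, 0, 0, 0, 1, 0, 1, 0, 0, 1, 0, 1, 0, 0], [1, 0, 0, 0, 0, 1, 0, 0, 0, 1, 2, 1, 0, 0], [0, 0, 0, 0, 0, 0, 1, 0, 0, 0, 2, 2, 0, 0], [0, 0, 0, 0, 0, 0, 0, 1, 0, 2, 0, 2, 2, 2], [0, 0, 0, 0, 0, 0, 0, 0, 1, 0, 0, 0, 0, 2], [0, 0, 0, 0, 0, 0, 0, 0, 0, 1, 0, 2, 0, 0], [0, 0, 0, 0, 0, 0, 0, 0, 0, 0, 1, 0, 0, 0], [0, 0, 0, 0, 0, 0, 0, 0, 0, 0, 0, 1, 0, 0], [0, 0, 0, 0, 0, 0, 0, 0, 0, 0, 0, 0, 1, 0], [0, 0, 0, 0, 0, 0, 0, 0, 0, 0, 0, 0, 0, 1]],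
   [[1, 0, 0, 0, 0, 0, 0, 0, 0, 0, 0, 2, 0, 0], [0, 1, 0, 0, 0, 0, 0, 0, 0, 0, 0, 0, 1, 2], [1, 2, 1, 0, 0, 1, 0, 1, 0, 2, 0, 2, 0, 2], [1, 1, 0, 1, 0, 0, 1, 0, 1, 0, 1, 2, 2, 1], [2, 0, 0, 0, 1, 0, 0, 0, 0, 1, 1, 2, 0, 0], [0, 0, 0, 0, 0, 1, 0, 0, 0, 1, 0, 2, 0, 0], [0, 0, 0, 0, 0, 0, 1, 0, 0, 0, 2, 2, 0, 0], [0, 0, 0, 0, 0, 0, 0, 1, 0, 0, 0, 0, 2, 0], [0, 0, 0, 0, 0, 0, 0, 0, 1, 0, 0, 0, 0, 2], [0, 0, 0, 0, 0, 0, 0, 0, 0, 1, 0, 0, 0, 0], [0, 0, 0, 0, 0, 0, 0, 0, 0, 0, 1, 0, 0, 0], [0, 0, 0, 0, 0, 0, 0, 0, 0, 0, 0, 1, 0, 0], [0, 0, 0, 0, 0, 0, 0, 0, 0, 0, 0, 0, 1, 0], [0, 0, 0, 0, 0, 0, 0, 0, 0, 0, 0, 0, 0, 1]],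
   [[1, 0, 0, 0, 0, 0, 0, 0, 0, 0, 0, 0, 0, 0], [0, 1, 0, 0, 0, 0, 0, 0, 0, 0, 0, 0, 1, 2], [1, 2, 1, 0, 0, 0, 0, 1, 0, 0, 0, 0, 2, 2], [1, 1, 0, 1, 0, 0, 0, 0, 1, 0, 0, 0, 2, 2], [0, 0, 0, 0, 1, 0, 0, 0, 0, 1, 1, 0, 0, 0], [0, 0, 0, 0, 0, 1, 0, 0, 0, 0, 0, 2, 0, 0], [0, 0, 0, 0, 0, 0, 1, 0, 0, 0, 0, 2, 0, 0], [0, 0, 0, 0, 0, 0, 0, 1, 0, 0, 0, 0, 2, 0], [0, 0, 0, 0, 0, 0, 0, 0, 1, 0, 0, 0, 0, 2], [0, 0, 0, 0, 0, 0, 0, 0, 0, 1, 0, 0, 0, 0], [0, 0, 0, 0, 0, 0, 0, 0, 0, 0, 1, 0, 0, 0], [0, 0, 0, 0, 0, 0, 0, 0, 0, 0, 0, 1, 0, 0], [0, 0, 0, 0, 0, 0, 0, 0, 0, 0, 0, 0, 1, 0], [0, 0, 0, 0, 0, 0, 0, 0, 0, 0, 0, 0, 0, 1]],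
   [[1, 0, 0, 0, 0, 0, 0, 0, 0, 0, 1, 1, 0, 0], [0, 1, 0, 0, 0, 0, 0, 0, 0, 0, 2, 0, 1, 1], [1, 1, 1, 0, 2, 2, 1, 1, 1, 1, 2, 2, 0, 1], [1, 1, 0, 1, 0, 0, 2, 0, 2, 0, 1, 1, 2, 2], [1, 0, 0, 0, 1, 0, 1, 0, 0, 1, 0, 1, 0, 0], [1, 0, 0, 0, 0, 1, 0, 0, 0, 2, 2, 2, 0, 0], [0, 0, 0, 0, 0, 0, 1, 0, 0, 0, 1, 2, 0, 0], [0, 0, 0, 0, 0, 0, 0, 1, 0, 2, 0, 2, 1, 2], [0, 0, 0, 0, 0, 0, 0, 0, 1, 0, 0, 0, 0, 2], [0, 0, 0, 0, 0, 0, 0, 0, 0, 1, 0, 2, 0, 0], [0, 0, 0, 0, 0, 0, 0, 0, 0, 0, 1, 0, 0, 0], [0, 0, 0, 0, 0, 0, 0, 0, 0, 0, 0, 1, 0, 0], [0, 0, 0, 0, 0, 0, 0, 0, 0, 0, 0, 0, 1, 0], [0, 0, 0, 0, 0, 0, 0, 0, 0, 0, 0, 0, 0, 1]],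
   [[1, 0, 0, 0, 0, 0, 0, 0, 0, 0, 0, 1, 0, 0], [0, 1, 0, 0, 0, 0, 0, 0, 0, 0, 0, 0, 1, 1], [2, 1, 1, 0, 0, 2, 0, 1, 0, 2, 0, 2, 0, 2], [1, 1, 0, 1, 0, 0, 2, 0, 2, 0, 1, 1, 2, 2], [1, 0, 0, 0, 1, 0, 0, 0, 0, 1, 2, 2, 0, 0], [0, 0, 0, 0, 0, 1, 0, 0, 0, 2, 0, 1, 0, 0], [0, 0, 0, 0, 0, 0, 1, 0, 0, 0, 1, 2, 0, 0], [0, 0, 0, 0, 0, 0, 0, 1, 0, 0, 0, 0, 1, 0], [0, 0, 0, 0, 0, 0, 0, 0, 1, 0, 0, 0, 0, 2], [0, 0, 0, 0, 0, 0, 0, 0, 0, 1, 0, 0, 0, 0], [0, 0, 0, 0, 0, 0, 0, 0, 0, 0, 1, 0, 0, 0], [0, 0, 0, 0, 0, 0, 0, 0, 0, 0, 0, 1, 0, 0], [0, 0, 0, 0, 0, 0, 0, 0, 0, 0, 0, 0, 1, 0], [0, 0, 0, 0, 0, 0, 0, 0, 0, 0, 0, 0, 0, 1]],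
   [[1, 0, 0, 0, 0, 0, 0, 0, 0, 0, 0, 0, 0, 0], [0, 1, 0, 0, 0, 0, 0, 0, 0, 0, 0, 0, 1, 1], [2, 1, 1, 0, 0, 0, 0, 1, 0, 0, 0, 0, 1, 2], [1, 1, 0, 1, 0, 0, 0, 0, 2, 0, 0, 0, 2, 1], [0, 0, 0, 0, 1, 0, 0, 0, 0, 1, 2, 0, 0, 0], [0, 0, 0, 0, 0, 1, 0, 0, 0, 0, 0, 1, 0, 0], [0, 0, 0, 0, 0, 0, 1, 0, 0, 0, 0, 2, 0, 0], [0, 0, 0, 0, 0, 0, 0, 1, 0, 0, 0, 0, 1, 0], [0, 0, 0, 0, 0, 0, 0, 0, 1, 0, 0, 0, 0, 2], [0, 0, 0, 0, 0, 0, 0, 0, 0, 1, 0, 0, 0, 0], [0, 0, 0, 0, 0, 0, 0, 0, 0, 0, 1, 0, 0, 0], [0, 0, 0, 0, 0, 0, 0, 0, 0, 0, 0, 1, 0, 0], [0, 0, 0, 0, 0, 0, 0, 0, 0, 0, 0, 0, 1, 0], [0, 0, 0, 0, 0, 0, 0, 0, 0, 0, 0, 0, 0, 1]],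
   [[1, 0, 0, 0, 0, 0, 0, 0, 0, 0, 2, 0, 0, 0], [0, 1, 0, 0, 0, 0, 0, 0, 0, 0, 1, 0, 2, 0], [0, 0, 1, 0, 1, 0, 1, 2, 2, 2, 0, 1, 0, 2], [2, 2, 0, 1, 0, 0, 0, 0, 0, 0, 0, 0, 2, 0], [0, 0, 0, 0, 1, 0, 2, 0, 0, 2, 0, 2, 0, 0], [2, 0, 0, 0, 0, 1, 0, 0, 0, 0, 2, 0, 0, 0], [0, 0, 0, 0, 0, 0, 1, 0, 0, 0, 0, 1, 0, 0], [0, 0, 0, 0, 0, 0, 0, 1, 0, 1, 0, 2, 0, 1], [0, 0, 0, 0, 0, 0, 0, 0, 1, 0, 0, 0, 0, 1], [0, 0, 0, 0, 0, 0, 0, 0, 0, 1, 0, 1, 0, 0], [0, 0, 0, 0, 0, 0, 0, 0, 0, 0, 1, 0, 0, 0], [0, 0, 0, 0, 0, 0, 0, 0, 0, 0, 0, 1, 0, 0], [0, 0, 0, 0, 0, 0, 0, 0, 0, 0, 0, 0, 1, 0], [0, 0, 0, 0, 0, 0, 0, 0, 0, 0, 0, 0, 0, 1]],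
   [[1, 0, 0, 0, 0, 0, 0, 0, 0, 0, 0, 0, 0, 0], [0, 1, 0, 0, 0, 0, 0, 0, 0, 0, 0, 0, 2, 0], [0, 0, 1, 0, 0, 0, 0, 2, 0, 0, 0, 0, 0, 0], [2, 2, 0, 1, 0, 0, 0, 0, 0, 0, 0, 0, 2, 0], [0, 0, 0, 0, 1, 0, 0, 0, 0, 2, 0, 0, 0, 0], [0, 0, 0, 0, 0, 1, 0, 0, 0, 0, 0, 0, 0, 0], [0, 0, 0, 0, 0, 0, 1, 0, 0, 0, 0, 1, 0, 0], [0, 0, 0, 0, 0, 0, 0, 1, 0, 0, 0, 0, 0, 0], [0, 0, 0, 0, 0, 0, 0, 0, 1, 0, 0, 0, 0, 1], [0, 0, 0, 0, 0, 0, 0, 0, 0, 1, 0, 0, 0, 0], [0, 0, 0, 0, 0, 0, 0, 0, 0, 0, 1, 0, 0, 0], [0, 0, 0, 0, 0, 0, 0, 0, 0, 0, 0, 1, 0, 0], [0, 0, 0, 0, 0, 0, 0, 0, 0, 0, 0, 0, 1, 0], [0, 0, 0, 0, 0, 0, 0, 0, 0, 0, 0, 0, 0, 1]],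
   [[1, 0, 0, 0, 0, 0, 0, 0, 0, 0, 2, 2, 0, 0], [0, 1, 0, 0, 0, 0, 0, 0, 0, 0, 1, 0, 2, 2], [0, 2, 1, 0, 1, 1, 1, 2, 2, 1, 0, 2, 2, 1], [2, 2, 0, 1, 0, 0, 1, 0, 1, 0, 1, 1, 2, 0], [2, 0, 0, 0, 1, 0, 2, 0, 0, 2, 2, 1, 0, 0], [2, 0, 0, 0, 0, 1, 0, 0, 0, 1, 2, 0, 0, 0], [0, 0, 0, 0, 0, 0, 1, 0, 0, 0, 2, 1, 0, 0], [0, 0, 0, 0, 0, 0, 0, 1, 0, 1, 0, 2, 2, 1], [0, 0, 0, 0, 0, 0, 0, 0, 1, 0, 0, 0, 0, 1], [0, 0, 0, 0, 0, 0, 0, 0, 0, 1, 0, 1, 0, 0], [0, 0, 0, 0, 0, 0, 0, 0, 0, 0, 1, 0, 0, 0], [0, 0, 0, 0, 0, 0, 0, 0, 0, 0, 0, 1, 0, 0], [0, 0, 0, 0, 0, 0, 0, 0, 0, 0, 0, 0, 1, 0], [0, 0, 0, 0, 0, 0, 0, 0, 0, 0, 0, 0, 0, 1]],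
   [[1, 0, 0, 0, 0, 0, 0, 0, 0, 0, 0, 2, 0, 0], [0, 1, 0, 0, 0, 0, 0, 0, 0, 0, 0, 0, 2, 2], [1, 2, 1, 0, 0, 1, 0, 2, 0, 2, 0, 2, 2, 2], [2, 2, 0, 1, 0, 0, 1, 0, 1, 0, 1, 1, 2, 0], [2, 0, 0, 0, 1, 0, 0, 0, 0, 2, 1, 2, 0, 0], [0, 0, 0, 0, 0, 1, 0, 0, 0, 1, 0, 2, 0, 0], [0, 0, 0, 0, 0, 0, 1, 0, 0, 0, 2, 1, 0, 0], [0, 0, 0, 0, 0, 0, 0, 1, 0, 0, 0, 0, 2, 0], [0, 0, 0, 0, 0, 0, 0, 0, 1, 0, 0, 0, 0, 1], [0, 0, 0, 0, 0, 0, 0, 0, 0, 1, 0, 0, 0, 0], [0, 0, 0, 0, 0, 0, 0, 0, 0, 0, 1, 0, 0, 0], [0, 0, 0, 0, 0, 0, 0, 0, 0, 0, 0, 1, 0, 0], [0, 0, 0, 0, 0, 0, 0, 0, 0, 0, 0, 0, 1, 0], [0, 0, 0, 0, 0, 0, 0, 0, 0, 0, 0, 0, 0, 1]],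
   [[1, 0, 0, 0, 0, 0, 0, 0, 0, 0, 0, 0, 0, 0], [0, 1, 0, 0, 0, 0, 0, 0, 0, 0, 0, 0, 2, 2], [1, 2, 1, 0, 0, 0, 0, 2, 0, 0, 0, 0, 1, 2], [2, 2, 0, 1, 0, 0, 0, 0, 1, 0, 0, 0, 2, 1], [0, 0, 0, 0, 1, 0, 0, 0, 0, 2, 1, 0, 0, 0], [0, 0, 0, 0, 0, 1, 0, 0, 0, 0, 0, 2, 0, 0], [0, 0, 0, 0, 0, 0, 1, 0, 0, 0, 0, 1, 0, 0], [0, 0, 0, 0, 0, 0, 0, 1, 0, 0, 0, 0, 2, 0], [0, 0, 0, 0, 0, 0, 0, 0, 1, 0, 0, 0, 0, 1], [0, 0, 0, 0, 0, 0, 0, 0, 0, 1, 0, 0, 0, 0], [0, 0, 0, 0, 0, 0, 0, 0, 0, 0, 1, 0, 0, 0], [0, 0, 0, 0, 0, 0, 0, 0, 0, 0, 0, 1, 0, 0], [0, 0, 0, 0, 0, 0, 0, 0, 0, 0, 0, 0, 1, 0], [0, 0, 0, 0, 0, 0, 0, 0, 0, 0, 0, 0, 0, 1]],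
   [[1, 0, 0, 0, 0, 0, 0, 0, 0, 0, 2, 1, 0, 0], [0, 1, 0, 0, 0, 0, 0, 0, 0, 0, 1, 0, 2, 1], [0, 1, 1, 0, 1, 2, 1, 2, 2, 1, 0, 2, 1, 1], [2, 2, 0, 1, 0, 0, 2, 0, 2, 0, 1, 2, 2, 0], [1, 0, 0, 0, 1, 0, 2, 0, 0, 2, 1, 1, 0, 0], [2, 0, 0, 0, 0, 1, 0, 0, 0, 2, 2, 0, 0, 0], [0, 0, 0, 0, 0, 0, 1, 0, 0, 0, 1, 1, 0, 0], [0, 0, 0, 0, 0, 0, 0, 1, 0, 1, 0, 2, 1, 1], [0, 0, 0, 0, 0, 0, 0, 0, 1, 0, 0, 0, 0, 1], [0, 0, 0, 0, 0, 0, 0, 0, 0, 1, 0, 1, 0, 0], [0, 0, 0, 0, 0, 0, 0, 0, 0, 0, 1, 0, 0, 0], [0, 0, 0, 0, 0, 0, 0, 0, 0, 0, 0, 1, 0, 0], [0, 0, 0, 0, 0, 0, 0, 0, 0, 0, 0, 0, 1, 0], [0, 0, 0, 0, 0, 0, 0, 0, 0, 0, 0, 0, 0, 1]],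
   [[1, 0, 0, 0, 0, 0, 0, 0, 0, 0, 0, 1, 0, 0], [0, 1, 0, 0, 0, 0, 0, 0, 0, 0, 0, 0, 2, 1], [2, 1, 1, 0, 0, 2, 0, 2, 0, 2, 0, 2, 1, 2], [2, 2, 0, 1, 0, 0, 2, 0, 2, 0, 1, 2, 2, 0], [1, 0, 0, 0, 1, 0, 0, 0, 0, 2, 2, 2, 0, 0], [0, 0, 0, 0, 0, 1, 0, 0, 0, 2, 0, 1, 0, 0], [0, 0, 0, 0, 0, 0, 1, 0, 0, 0, 1, 1, 0, 0], [0, 0, 0, 0, 0, 0, 0, 1, 0, 0, 0, 0, 1, 0], [0, 0, 0, 0, 0, 0, 0, 0, 1, 0, 0, 0, 0, 1], [0, 0, 0, 0, 0, 0, 0, 0, 0, 1, 0, 0, 0, 0], [0, 0, 0, 0, 0, 0, 0, 0, 0, 0, 1, 0, 0, 0], [0, 0, 0, 0, 0, 0, 0, 0, 0, 0, 0, 1, 0, 0], [0, 0, 0, 0, 0, 0, 0, 0, 0, 0, 0, 0, 1, 0], [0, 0, 0, 0, 0, 0, 0, 0, 0, 0, 0, 0, 0, 1]],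
   [[1, 0, 0, 0, 0, 0, 0, 0, 0, 0, 0, 0, 0, 0], [0, 1, 0, 0, 0, 0, 0, 0, 0, 0, 0, 0, 2, 1], [2, 1, 1, 0, 0, 0, 0, 2, 0, 0, 0, 0, 2, 2], [2, 2, 0, 1, 0, 0, 0, 0, 2, 0, 0, 0, 2, 2], [0, 0, 0, 0, 1, 0, 0, 0, 0, 2, 2, 0, 0, 0], [0, 0, 0, 0, 0, 1, 0, 0, 0, 0, 0, 1, 0, 0], [0, 0, 0, 0, 0, 0, 1, 0, 0, 0, 0, 1, 0, 0], [0, 0, 0, 0, 0, 0, 0, 1, 0, 0, 0, 0, 1, 0], [0, 0, 0, 0, 0, 0, 0, 0, 1, 0, 0, 0, 0, 1], [0, 0, 0, 0, 0, 0, 0, 0, 0, 1, 0, 0, 0, 0], [0, 0, 0, 0, 0, 0, 0, 0, 0, 0, 1, 0, 0, 0], [0, 0, 0, 0, 0, 0, 0, 0, 0, 0, 0, 1, 0, 0], [0, 0, 0, 0, 0, 0, 0, 0, 0, 0, 0, 0, 1, 0], [0, 0, 0, 0, 0, 0, 0, 0, 0, 0, 0, 0, 0, 1]],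
   [[1, 0, 0, 0, 0, 0, 0, 0, 0, 1, 1, 0, 0, 0], [0, 1, 0, 0, 0, 0, 0, 0, 1, 1, 1, 0, 1, 0], [1, 0, 1, 2, 0, 0, 0, 1, 1, 0, 0, 0, 2, 1], [1, 0, 0, 1, 2, 2, 1, 2, 0, 2, 1, 1, 0, 2], [0, 0, 0, 0, 1, 2, 1, 0, 0, 1, 2, 1, 0, 0], [0, 0, 0, 0, 0, 1, 2, 0, 0, 0, 0, 2, 0, 0], [1, 0, 0, 0, 0, 0, 1, 0, 0, 2, 2, 2, 0, 0], [0, 1, 0, 0, 0, 0, 0, 1, 2, 0, 0, 0, 2, 2], [0, 0, 0, 0, 0, 0, 0, 0, 1, 0, 2, 1, 1, 0], [0, 0, 0, 0, 0, 0, 0, 0, 0, 1, 1, 0, 0, 0], [0, 0, 0, 0, 0, 0, 0, 0, 0, 0, 1, 1, 0, 0], [0, 0, 0, 0, 0, 0, 0, 0, 0, 0, 0, 1, 0, 0], [0, 0, 0, 0, 0, 0, 0, 0, 0, 0, 0, 0, 1, 1], [0, 0, 0, 0, 0, 0, 0, 0, 0, 0, 0, 0, 0, 1]],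
   [[1, 0, 0, 0, 0, 0, 0, 0, 0, 0, 1, 2, 0, 0], [0, 1, 0, 0, 0, 0, 0, 0, 1, 0, 2, 0, 0, 0], [1, 0, 1, 2, 2, 1, 0, 0, 1, 2, 1, 1, 1, 1], [0, 0, 0, 1, 0, 0, 1, 0, 0, 0, 1, 0, 0, 2], [2, 0, 0, 0, 1, 0, 1, 0, 0, 0, 2, 2, 0, 0], [1, 0, 0, 0, 0, 1, 2, 0, 0, 1, 0, 2, 0, 0], [0, 0, 0, 0, 0, 0, 1, 0, 0, 0, 2, 0, 0, 0], [0, 1, 0, 0, 0, 0, 0, 1, 2, 2, 2, 2, 0, 2], [0, 0, 0, 0, 0, 0, 0, 0, 1, 0, 0, 0, 0, 0], [0, 0, 0, 0, 0, 0, 0, 0, 0, 1, 1, 2, 0, 0], [0, 0, 0, 0, 0, 0, 0, 0, 0, 0, 1, 0, 0, 0], [0, 0, 0, 0, 0, 0, 0, 0, 0, 0, 0, 1, 0, 0], [0, 0, 0, 0, 0, 0, 0, 0, 0, 0, 0, 0, 1, 1], [0, 0, 0, 0, 0, 0, 0, 0, 0, 0, 0, 0, 0, 1]],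
   [[1, 0, 0, 0, 0, 0, 0, 0, 0, 0, 1, 2, 0, 0], [0, 1, 0, 0, 0, 0, 0, 0, 0, 0, 2, 0, 0, 0], [1, 0, 1, 0, 2, 1, 1, 0, 1, 2, 2, 1, 1, 0], [0, 0, 0, 1, 0, 0, 1, 0, 0, 0, 1, 0, 0, 2], [2, 0, 0, 0, 1, 0, 1, 0, 0, 0, 2, 2, 0, 0], [1, 0, 0, 0, 0, 1, 0, 0, 0, 1, 2, 2, 0, 0], [0, 0, 0, 0, 0, 0, 1, 0, 0, 0, 2, 0, 0, 0], [0, 0, 0, 0, 0, 0, 0, 1, 0, 2, 0, 2, 0, 2], [0, 0, 0, 0, 0, 0, 0, 0, 1, 0, 0, 0, 0, 0], [0, 0, 0, 0, 0, 0, 0, 0, 0, 1, 0, 2, 0, 0], [0, 0, 0, 0, 0, 0, 0, 0, 0, 0, 1, 0, 0, 0], [0, 0, 0, 0, 0, 0, 0, 0, 0, 0, 0, 1, 0, 0], [0, 0, 0, 0, 0, 0, 0, 0, 0, 0, 0, 0, 1, 0], [0, 0, 0, 0, 0, 0, 0, 0, 0, 0, 0, 0, 0, 1]],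
   [[1, 0, 0, 0, 0, 0, 0, 0, 0, 0, 0, 2, 0, 0], [0, 1, 0, 0, 0, 0, 0, 0, 0, 0, 0, 0, 0, 0], [0, 0, 1, 0, 0, 1, 0, 0, 0, 2, 0, 0, 1, 0], [0, 0, 0, 1, 0, 0, 1, 0, 0, 0, 1, 0, 0, 2], [2, 0, 0, 0, 1, 0, 0, 0, 0, 0, 0, 2, 0, 0], [0, 0, 0, 0, 0, 1, 0, 0, 0, 1, 0, 0, 0, 0], [0, 0, 0, 0, 0, 0, 1, 0, 0, 0, 2, 0, 0, 0], [0, 0, 0, 0, 0, 0, 0, 1, 0, 0, 0, 0, 0, 0], [0, 0, 0, 0, 0, 0, 0, 0, 1, 0, 0, 0, 0, 0], [0, 0, 0, 0, 0, 0, 0, 0, 0, 1, 0, 0, 0, 0], [0, 0, 0, 0, 0, 0, 0, 0, 0, 0, 1, 0, 0, 0], [0, 0, 0, 0, 0, 0, 0, 0, 0, 0, 0, 1, 0, 0], [0, 0, 0, 0, 0, 0, 0, 0, 0, 0, 0, 0, 1, 0], [0, 0, 0, 0, 0, 0, 0, 0, 0, 0, 0, 0, 0, 1]],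
   [[1, 0, 0, 0, 0, 0, 0, 0, 0, 1, 1, 2, 0, 0], [0, 1, 0, 0, 0, 0, 0, 0, 1, 1, 1, 0, 1, 2], [2, 2, 1, 2, 0, 1, 2, 1, 0, 2, 2, 1, 2, 1], [2, 0, 0, 1, 2, 2, 2, 2, 1, 1, 0, 2, 1, 1], [2, 0, 0, 0, 1, 2, 1, 0, 0, 0, 2, 1, 0, 0], [0, 0, 0, 0, 0, 1, 2, 0, 0, 1, 1, 1, 0, 0], [1, 0, 0, 0, 0, 0, 1, 0, 0, 2, 1, 1, 0, 0], [0, 1, 0, 0, 0, 0, 0, 1, 2, 0, 0, 0, 1, 1], [0, 0, 0, 0, 0, 0, 0, 0, 1, 0, 2, 1, 1, 0], [0, 0, 0, 0, 0, 0, 0, 0, 0, 1, 1, 0, 0, 0], [0, 0, 0, 0, 0, 0, 0, 0, 0, 0, 1, 1, 0, 0], [0, 0, 0, 0, 0, 0, 0, 0, 0, 0, 0, 1, 0, 0], [0, 0, 0, 0, 0, 0, 0, 0, 0, 0, 0, 0, 1, 1], [0, 0, 0, 0, 0, 0, 0, 0, 0, 0, 0, 0, 0, 1]],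
   [[1, 0, 0, 0, 0, 0, 0, 0, 0, 0, 1, 1, 0, 0], [0, 1, 0, 0, 0, 0, 0, 0, 1, 0, 2, 0, 0, 2], [0, 2, 1, 2, 2, 2, 2, 0, 0, 2, 2, 2, 2, 1], [0, 0, 0, 1, 0, 0, 2, 0, 1, 0, 1, 0, 0, 1], [1, 0, 0, 0, 1, 0, 1, 0, 0, 0, 2, 2, 0, 0], [1, 0, 0, 0, 0, 1, 2, 0, 0, 2, 1, 0, 0, 0], [0, 0, 0, 0, 0, 0, 1, 0, 0, 0, 1, 0, 0, 0], [0, 1, 0, 0, 0, 0, 0, 1, 2, 2, 2, 2, 2, 1], [0, 0, 0, 0, 0, 0, 0, 0, 1, 0, 0, 0, 0, 0], [0, 0, 0, 0, 0, 0, 0, 0, 0, 1, 1, 2, 0, 0], [0, 0, 0, 0, 0, 0, 0, 0, 0, 0, 1, 0, 0, 0], [0, 0, 0, 0, 0, 0, 0, 0, 0, 0, 0, 1, 0, 0], [0, 0, 0, 0, 0, 0, 0, 0, 0, 0, 0, 0, 1, 1], [0, 0, 0, 0, 0, 0, 0, 0, 0, 0, 0, 0, 0, 1]],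
   [[1, 0, 0, 0, 0, 0, 0, 0, 0, 0, 1, 1, 0, 0], [0, 1, 0, 0, 0, 0, 0, 0, 0, 0, 2, 0, 0, 2], [0, 2, 1, 0, 2, 2, 1, 0, 1, 2, 0, 2, 2, 2], [0, 0, 0, 1, 0, 0, 2, 0, 1, 0, 1, 0, 0, 1], [1, 0, 0, 0, 1, 0, 1, 0, 0, 0, 2, 2, 0, 0], [1, 0, 0, 0, 0, 1, 0, 0, 0, 2, 2, 0, 0, 0], [0, 0, 0, 0, 0, 0, 1, 0, 0, 0, 1, 0, 0, 0], [0, 0, 0, 0, 0, 0, 0, 1, 0, 2, 0, 2, 2, 2], [0, 0, 0, 0, 0, 0, 0, 0, 1, 0, 0, 0, 0, 0], [0, 0, 0, 0, 0, 0, 0, 0, 0, 1, 0, 2, 0, 0], [0, 0, 0, 0, 0, 0, 0, 0, 0, 0, 1, 0, 0, 0], [0, 0, 0, 0, 0, 0, 0, 0, 0, 0, 0, 1, 0, 0], [0, 0, 0, 0, 0, 0, 0, 0, 0, 0, 0, 0, 1, 0], [0, 0, 0, 0, 0, 0, 0, 0, 0, 0, 0, 0, 0, 1]],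
   [[1, 0, 0, 0, 0, 0, 0, 0, 0, 0, 0, 1, 0, 0], [0, 1, 0, 0, 0, 0, 0, 0, 0, 0, 0, 0, 0, 2], [1, 2, 1, 0, 0, 2, 0, 0, 0, 2, 0, 1, 2, 2], [0, 0, 0, 1, 0, 0, 2, 0, 1, 0, 1, 0, 0, 1], [1, 0, 0, 0, 1, 0, 0, 0, 0, 0, 1, 2, 0, 0], [0, 0, 0, 0, 0, 1, 0, 0, 0, 2, 0, 2, 0, 0], [0, 0, 0, 0, 0, 0, 1, 0, 0, 0, 1, 0, 0, 0], [0, 0, 0, 0, 0, 0, 0, 1, 0, 0, 0, 0, 2, 0], [0, 0, 0, 0, 0, 0, 0, 0, 1, 0, 0, 0, 0, 0], [0, 0, 0, 0, 0, 0, 0, 0, 0, 1, 0, 0, 0, 0], [0, 0, 0, 0, 0, 0, 0, 0, 0, 0, 1, 0, 0, 0], [0, 0, 0, 0, 0, 0, 0, 0, 0, 0, 0, 1, 0, 0], [0, 0, 0, 0, 0, 0, 0, 0, 0, 0, 0, 0, 1, 0], [0, 0, 0, 0, 0, 0, 0, 0, 0, 0, 0, 0, 0, 1]],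
   [[1, 0, 0, 0, 0, 0, 0, 0, 0, 1, 1, 1, 0, 0], [0, 1, 0, 0, 0, 0, 0, 0, 1, 1, 1, 0, 1, 1], [0, 1, 1, 2, 0, 2, 1, 1, 2, 2, 2, 0, 2, 2], [0, 0, 0, 1, 2, 2, 0, 2, 2, 0, 1, 2, 2, 0], [1, 0, 0, 0, 1, 2, 1, 0, 0, 2, 2, 2, 0, 0], [0, 0, 0, 0, 0, 1, 2, 0, 0, 2, 2, 0, 0, 0], [1, 0, 0, 0, 0, 0, 1, 0, 0, 2, 0, 0, 0, 0], [0, 1, 0, 0, 0, 0, 0, 1, 2, 0, 0, 0, 0, 0], [0, 0, 0, 0, 0, 0, 0, 0, 1, 0, 2, 1, 1, 0], [0, 0, 0, 0, 0, 0, 0, 0, 0, 1, 1, 0, 0, 0], [0, 0, 0, 0, 0, 0, 0, 0, 0, 0, 1, 1, 0, 0], [0, 0, 0, 0, 0, 0, 0, 0, 0, 0, 0, 1, 0, 0], [0, 0, 0, 0, 0, 0, 0, 0, 0, 0, 0, 0, 1, 1], [0, 0, 0, 0, 0, 0, 0, 0, 0, 0, 0, 0, 0, 1]],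
   [[1, 0, 0, 0, 0, 0, 0, 0, 0, 0, 1, 0, 0, 0], [0, 1, 0, 0, 0, 0, 0, 0, 1, 0, 2, 0, 0, 1], [2, 1, 1, 2, 2, 0, 1, 0, 2, 0, 1, 0, 0, 2], [0, 0, 0, 1, 0, 0, 0, 0, 2, 0, 0, 0, 0, 0], [0, 0, 0, 0, 1, 0, 1, 0, 0, 0, 2, 0, 0, 0], [1, 0, 0, 0, 0, 1, 2, 0, 0, 0, 2, 1, 0, 0], [0, 0, 0, 0, 0, 0, 1, 0, 0, 0, 0, 0, 0, 0], [0, 1, 0, 0, 0, 0, 0, 1, 2, 2, 2, 2, 1, 0], [0, 0, 0, 0, 0, 0, 0, 0, 1, 0, 0, 0, 0, 0], [0, 0, 0, 0, 0, 0, 0, 0, 0, 1, 1, 2, 0, 0], [0, 0, 0, 0, 0, 0, 0, 0, 0, 0, 1, 0, 0, 0], [0, 0, 0, 0, 0, 0, 0, 0, 0, 0, 0, 1, 0, 0], [0, 0, 0, 0, 0, 0, 0, 0, 0, 0, 0, 0, 1, 1], [0, 0, 0, 0, 0, 0, 0, 0, 0, 0, 0, 0, 0, 1]],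
   [[1, 0, 0, 0, 0, 0, 0, 0, 0, 0, 1, 0, 0, 0], [0, 1, 0, 0, 0, 0, 0, 0, 0, 0, 2, 0, 0, 1], [2, 1, 1, 0, 2, 0, 1, 0, 1, 0, 1, 0, 0, 2], [0, 0, 0, 1, 0, 0, 0, 0, 2, 0, 0, 0, 0, 0], [0, 0, 0, 0, 1, 0, 1, 0, 0, 0, 2, 0, 0, 0], [1, 0, 0, 0, 0, 1, 0, 0, 0, 0, 2, 1, 0, 0], [0, 0, 0, 0, 0, 0, 1, 0, 0, 0, 0, 0, 0, 0], [0, 0, 0, 0, 0, 0, 0, 1, 0, 2, 0, 2, 1, 2], [0, 0, 0, 0, 0, 0, 0, 0, 1, 0, 0, 0, 0, 0], [0, 0, 0, 0, 0, 0, 0, 0, 0, 1, 0, 2, 0, 0], [0, 0, 0, 0, 0, 0, 0, 0, 0, 0, 1, 0, 0, 0], [0, 0, 0, 0, 0, 0, 0, 0, 0, 0, 0, 1, 0, 0], [0, 0, 0, 0, 0, 0, 0, 0, 0, 0, 0, 0, 1, 0], [0, 0, 0, 0, 0, 0, 0, 0, 0, 0, 0, 0, 0, 1]],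
   [[1, 0, 0, 0, 0, 0, 0, 0, 0, 1, 2, 1, 0, 0], [0, 1, 0, 0, 0, 0, 0, 0, 1, 1, 0, 2, 2, 1], [2, 1, 1, 2, 2, 1, 0, 2, 1, 0, 1, 1, 2, 2], [2, 1, 0, 1, 2, 2, 1, 2, 1, 1, 0, 1, 0, 1], [1, 0, 0, 0, 1, 2, 2, 0, 0, 1, 2, 2, 0, 0], [1, 0, 0, 0, 0, 1, 2, 0, 0, 1, 0, 1, 0, 0], [1, 0, 0, 0, 0, 0, 1, 0, 0, 2, 2, 1, 0, 0], [0, 1, 0, 0, 0, 0, 0, 1, 2, 2, 2, 2, 2, 1], [0, 0, 0, 0, 0, 0, 0, 0, 1, 0, 2, 1, 1, 2], [0, 0, 0, 0, 0, 0, 0, 0, 0, 1, 1, 2, 0, 0], [0, 0, 0, 0, 0, 0, 0, 0, 0, 0, 1, 1, 0, 0], [0, 0, 0, 0, 0, 0, 0, 0, 0, 0, 0, 1, 0, 0], [0, 0, 0, 0, 0, 0, 0, 0, 0, 0, 0, 0, 1, 1], [0, 0, 0, 0, 0, 0, 0, 0, 0, 0, 0, 0, 0, 1]],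
   [[1, 0, 0, 0, 0, 0, 0, 0, 0, 0, 2, 2, 0, 0], [0, 1, 0, 0, 0, 0, 0, 0, 1, 0, 1, 0, 1, 1], [2, 1, 1, 2, 1, 1, 0, 1, 1, 0, 2, 1, 1, 2], [1, 1, 0, 1, 0, 0, 1, 0, 1, 0, 1, 2, 2, 1], [2, 0, 0, 0, 1, 0, 2, 0, 0, 1, 2, 0, 0, 0], [2, 0, 0, 0, 0, 1, 2, 0, 0, 1, 0, 1, 0, 0], [0, 0, 0, 0, 0, 0, 1, 0, 0, 0, 2, 2, 0, 0], [0, 1, 0, 0, 0, 0, 0, 1, 2, 1, 1, 2, 0, 1], [0, 0, 0, 0, 0, 0, 0, 0, 1, 0, 0, 0, 0, 2], [0, 0, 0, 0, 0, 0, 0, 0, 0, 1, 1, 1, 0, 0], [0, 0, 0, 0, 0, 0, 0, 0, 0, 0, 1, 0, 0, 0], [0, 0, 0, 0, 0, 0, 0, 0, 0, 0, 0, 1, 0, 0], [0, 0, 0, 0, 0, 0, 0, 0, 0, 0, 0, 0, 1, 1], [0, 0, 0, 0, 0, 0, 0, 0, 0, 0, 0, 0, 0, 1]],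
   [[1, 0, 0, 0, 0, 0, 0, 0, 0, 0, 2, 2, 0, 0], [0, 1, 0, 0, 0, 0, 0, 0, 0, 0, 1, 0, 1, 0], [2, 0, 1, 0, 1, 1, 1, 1, 2, 0, 2, 1, 1, 1], [1, 1, 0, 1, 0, 0, 1, 0, 0, 0, 1, 2, 2, 2], [2, 0, 0, 0, 1, 0, 2, 0, 0, 1, 1, 0, 0, 0], [2, 0, 0, 0, 0, 1, 0, 0, 0, 1, 2, 1, 0, 0], [0, 0, 0, 0, 0, 0, 1, 0, 0, 0, 2, 2, 0, 0], [0, 0, 0, 0, 0, 0, 0, 1, 0, 1, 0, 2, 0, 1], [0, 0, 0, 0, 0, 0, 0, 0, 1, 0, 0, 0, 0, 2], [0, 0, 0, 0, 0, 0, 0, 0, 0, 1, 0, 1, 0, 0], [0, 0, 0, 0, 0, 0, 0, 0, 0, 0, 1, 0, 0, 0], [0, 0, 0, 0, 0, 0, 0, 0, 0, 0, 0, 1, 0, 0], [0, 0, 0, 0, 0, 0, 0, 0, 0, 0, 0, 0, 1, 0], [0, 0, 0, 0, 0, 0, 0, 0, 0, 0, 0, 0, 0, 1]],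
   [[1, 0, 0, 0, 0, 0, 0, 0, 0, 0, 0, 2, 0, 0], [0, 1, 0, 0, 0, 0, 0, 0, 0, 0, 0, 0, 1, 0], [0, 0, 1, 0, 0, 1, 0, 1, 0, 2, 0, 0, 1, 0], [1, 1, 0, 1, 0, 0, 1, 0, 0, 0, 1, 2, 2, 2], [2, 0, 0, 0, 1, 0, 0, 0, 0, 1, 0, 2, 0, 0], [0, 0, 0, 0, 0, 1, 0, 0, 0, 1, 0, 0, 0, 0], [0, 0, 0, 0, 0, 0, 1, 0, 0, 0, 2, 2, 0, 0], [0, 0, 0, 0, 0, 0, 0, 1, 0, 0, 0, 0, 0, 0], [0, 0, 0, 0, 0, 0, 0, 0, 1, 0, 0, 0, 0, 2], [0, 0, 0, 0, 0, 0, 0, 0, 0, 1, 0, 0, 0, 0], [0, 0, 0, 0, 0, 0, 0, 0, 0, 0, 1, 0, 0, 0], [0, 0, 0, 0, 0, 0, 0, 0, 0, 0, 0, 1, 0, 0], [0, 0, 0, 0, 0, 0, 0, 0, 0, 0, 0, 0, 1, 0], [0, 0, 0, 0, 0, 0, 0, 0, 0, 0, 0, 0, 0, 1]],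
   [[1, 0, 0, 0, 0, 0, 0, 0, 0, 1, 2, 0, 0, 0], [0, 1, 0, 0, 0, 0, 0, 0, 1, 1, 0, 2, 2, 0], [1, 0, 1, 2, 2, 2, 2, 2, 0, 0, 2, 1, 1, 1], [0, 1, 0, 1, 2, 2, 2, 2, 2, 0, 2, 1, 1, 2], [0, 0, 0, 0, 1, 2, 2, 0, 0, 0, 1, 1, 0, 0], [1, 0, 0, 0, 0, 1, 2, 0, 0, 2, 1, 2, 0, 0], [1, 0, 0, 0, 0, 0, 1, 0, 0, 2, 1, 0, 0, 0], [0, 1, 0, 0, 0, 0, 0, 1, 2, 2, 2, 2, 1, 0], [0, 0, 0, 0, 0, 0, 0, 0, 1, 0, 2, 1, 1, 2], [0, 0, 0, 0, 0, 0, 0, 0, 0, 1, 1, 2, 0, 0], [0, 0, 0, 0, 0, 0, 0, 0, 0, 0, 1, 1, 0, 0], [0, 0, 0, 0, 0, 0, 0, 0, 0, 0, 0, 1, 0, 0], [0, 0, 0, 0, 0, 0, 0, 0, 0, 0, 0, 0, 1, 1], [0, 0, 0, 0, 0, 0, 0, 0, 0, 0, 0, 0, 0, 1]],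
   [[1, 0, 0, 0, 0, 0, 0, 0, 0, 0, 2, 1, 0, 0], [0, 1, 0, 0, 0, 0, 0, 0, 1, 0, 1, 0, 1, 0], [2, 0, 1, 2, 1, 2, 2, 1, 0, 0, 2, 2, 1, 1], [1, 1, 0, 1, 0, 0, 2, 0, 2, 0, 1, 1, 2, 2], [1, 0, 0, 0, 1, 0, 2, 0, 0, 1, 1, 0, 0, 0], [2, 0, 0, 0, 0, 1, 2, 0, 0, 2, 1, 1, 0, 0], [0, 0, 0, 0, 0, 0, 1, 0, 0, 0, 1, 2, 0, 0], [0, 1, 0, 0, 0, 0, 0, 1, 2, 1, 1, 2, 2, 0], [0, 0, 0, 0, 0, 0, 0, 0, 1, 0, 0, 0, 0, 2], [0, 0, 0, 0, 0, 0, 0, 0, 0, 1, 1, 1, 0, 0], [0, 0, 0, 0, 0, 0, 0, 0, 0, 0, 1, 0, 0, 0], [0, 0, 0, 0, 0, 0, 0, 0, 0, 0, 0, 1, 0, 0], [0, 0, 0, 0, 0, 0, 0, 0, 0, 0, 0, 0, 1, 1], [0, 0, 0, 0, 0, 0, 0, 0, 0, 0, 0, 0, 0, 1]],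
   [[1, 0, 0, 0, 0, 0, 0, 0, 0, 0, 2, 1, 0, 0], [0, 1, 0, 0, 0, 0, 0, 0, 0, 0, 1, 0, 1, 2], [2, 2, 1, 0, 1, 2, 1, 1, 2, 0, 2, 2, 1, 0], [1, 1, 0, 1, 0, 0, 2, 0, 1, 0, 1, 1, 2, 0], [1, 0, 0, 0, 1, 0, 2, 0, 0, 1, 0, 0, 0, 0], [2, 0, 0, 0, 0, 1, 0, 0, 0, 2, 2, 1, 0, 0], [0, 0, 0, 0, 0, 0, 1, 0, 0, 0, 1, 2, 0, 0], [0, 0, 0, 0, 0, 0, 0, 1, 0, 1, 0, 2, 2, 1], [0, 0, 0, 0, 0, 0, 0, 0, 1, 0, 0, 0, 0, 2], [0, 0, 0, 0, 0, 0, 0, 0, 0, 1, 0, 1, 0, 0], [0, 0, 0, 0, 0, 0, 0, 0, 0, 0, 1, 0, 0, 0], [0, 0, 0, 0, 0, 0, 0, 0, 0, 0, 0, 1, 0, 0], [0, 0, 0, 0, 0, 0, 0, 0, 0, 0, 0, 0, 1, 0], [0, 0, 0, 0, 0, 0, 0, 0, 0, 0, 0, 0, 0, 1]],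
   [[1, 0, 0, 0, 0, 0, 0, 0, 0, 0, 0, 1, 0, 0], [0, 1, 0, 0, 0, 0, 0, 0, 0, 0, 0, 0, 1, 2], [1, 2, 1, 0, 0, 2, 0, 1, 0, 2, 0, 1, 1, 2], [1, 1, 0, 1, 0, 0, 2, 0, 1, 0, 1, 1, 2, 0], [1, 0, 0, 0, 1, 0, 0, 0, 0, 1, 1, 2, 0, 0], [0, 0, 0, 0, 0, 1, 0, 0, 0, 2, 0, 2, 0, 0], [0, 0, 0, 0, 0, 0, 1, 0, 0, 0, 1, 2, 0, 0], [0, 0, 0, 0, 0, 0, 0, 1, 0, 0, 0, 0, 2, 0], [0, 0, 0, 0, 0, 0, 0, 0, 1, 0, 0, 0, 0, 2], [0, 0, 0, 0, 0, 0, 0, 0, 0, 1, 0, 0, 0, 0], [0, 0, 0, 0, 0, 0, 0, 0, 0, 0, 1, 0, 0, 0], [0, 0, 0, 0, 0, 0, 0, 0, 0, 0, 0, 1, 0, 0], [0, 0, 0, 0, 0, 0, 0, 0, 0, 0, 0, 0, 1, 0], [0, 0, 0, 0, 0, 0, 0, 0, 0, 0, 0, 0, 0, 1]],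
   [[1, 0, 0, 0, 0, 0, 0, 0, 0, 1, 2, 2, 0, 0], [0, 1, 0, 0, 0, 0, 0, 0, 1, 1, 0, 2, 2, 2], [0, 2, 1, 2, 2, 0, 1, 2, 2, 1, 1, 1, 0, 1], [1, 1, 0, 1, 2, 2, 0, 2, 0, 2, 0, 0, 2, 0], [2, 0, 0, 0, 1, 2, 2, 0, 0, 2, 0, 1, 0, 0], [1, 0, 0, 0, 0, 1, 2, 0, 0, 0, 2, 0, 0, 0], [1, 0, 0, 0, 0, 0, 1, 0, 0, 2, 0, 2, 0, 0], [0, 1, 0, 0, 0, 0, 0, 1, 2, 2, 2, 2, 0, 2], [0, 0, 0, 0, 0, 0, 0, 0, 1, 0, 2, 1, 1, 2], [0, 0, 0, 0, 0, 0, 0, 0, 0, 1, 1, 2, 0, 0], [0, 0, 0, 0, 0, 0, 0, 0, 0, 0, 1, 1, 0, 0], [0, 0, 0, 0, 0, 0, 0, 0, 0, 0, 0, 1, 0, 0], [0, 0, 0, 0, 0, 0, 0, 0, 0, 0, 0, 0, 1, 1], [0, 0, 0, 0, 0, 0, 0, 0, 0, 0, 0, 0, 0, 1]],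
   [[1, 0, 0, 0, 0, 0, 0, 0, 0, 0, 2, 0, 0, 0], [0, 1, 0, 0, 0, 0, 0, 0, 1, 0, 1, 0, 1, 2], [2, 2, 1, 2, 1, 0, 1, 1, 2, 1, 0, 2, 1, 1], [1, 1, 0, 1, 0, 0, 0, 0, 0, 0, 0, 0, 2, 0], [0, 0, 0, 0, 1, 0, 2, 0, 0, 1, 0, 1, 0, 0], [2, 0, 0, 0, 0, 1, 2, 0, 0, 0, 2, 1, 0, 0], [0, 0, 0, 0, 0, 0, 1, 0, 0, 0, 0, 2, 0, 0], [0, 1, 0, 0, 0, 0, 0, 1, 2, 1, 1, 2, 1, 2], [0, 0, 0, 0, 0, 0, 0, 0, 1, 0, 0, 0, 0, 2], [0, 0, 0, 0, 0, 0, 0, 0, 0, 1, 1, 1, 0, 0], [0, 0, 0, 0, 0, 0, 0, 0, 0, 0, 1, 0, 0, 0], [0, 0, 0, 0, 0, 0, 0, 0, 0, 0, 0, 1, 0, 0], [0, 0, 0, 0, 0, 0, 0, 0, 0, 0, 0, 0, 1, 1], [0, 0, 0, 0, 0, 0, 0, 0, 0, 0, 0, 0, 0, 1]],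
   [[1, 0, 0, 0, 0, 0, 0, 0, 0, 0, 2, 0, 0, 0], [0, 1, 0, 0, 0, 0, 0, 0, 0, 0, 1, 0, 1, 1], [2, 1, 1, 0, 1, 0, 1, 1, 2, 1, 2, 2, 1, 0], [1, 1, 0, 1, 0, 0, 0, 0, 2, 0, 0, 0, 2, 1], [0, 0, 0, 0, 1, 0, 2, 0, 0, 1, 2, 1, 0, 0], [2, 0, 0, 0, 0, 1, 0, 0, 0, 0, 2, 1, 0, 0], [0, 0, 0, 0, 0, 0, 1, 0, 0, 0, 0, 2, 0, 0], [0, 0, 0, 0, 0, 0, 0, 1, 0, 1, 0, 2, 1, 1], [0, 0, 0, 0, 0, 0, 0, 0, 1, 0, 0, 0, 0, 2], [0, 0, 0, 0, 0, 0, 0, 0, 0, 1, 0, 1, 0, 0], [0, 0, 0, 0, 0, 0, 0, 0, 0, 0, 1, 0, 0, 0], [0, 0, 0, 0, 0, 0, 0, 0, 0, 0, 0, 1, 0, 0], [0, 0, 0, 0, 0, 0, 0, 0, 0, 0, 0, 0, 1, 0], [0, 0, 0, 0, 0, 0, 0, 0, 0, 0, 0, 0, 0, 1]],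
   [[1, 0, 0, 0, 0, 0, 0, 0, 0, 1, 0, 2, 0, 0], [0, 1, 0, 0, 0, 0, 0, 0, 1, 1, 2, 1, 0, 2], [2, 2, 1, 2, 1, 2, 2, 0, 1, 2, 1, 0, 2, 1], [0, 2, 0, 1, 2, 2, 1, 2, 2, 0, 2, 1, 1, 1], [2, 0, 0, 0, 1, 2, 0, 0, 0, 1, 2, 1, 0, 0], [2, 0, 0, 0, 0, 1, 2, 0, 0, 2, 1, 1, 0, 0], [1, 0, 0, 0, 0, 0, 1, 0, 0, 2, 2, 0, 0, 0], [0, 1, 0, 0, 0, 0, 0, 1, 2, 1, 1, 2, 2, 0], [0, 0, 0, 0, 0, 0, 0, 0, 1, 0, 2, 1, 1, 1], [0, 0, 0, 0, 0, 0, 0, 0, 0, 1, 1, 1, 0, 0], [0, 0, 0, 0, 0, 0, 0, 0, 0, 0, 1, 1, 0, 0], [0, 0, 0, 0, 0, 0, 0, 0, 0, 0, 0, 1, 0, 0], [0, 0, 0, 0, 0, 0, 0, 0, 0, 0, 0, 0, 1, 1], [0, 0, 0, 0, 0, 0, 0, 0, 0, 0, 0, 0, 0, 1]],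
   [[1, 0, 0, 0, 0, 0, 0, 0, 0, 0, 0, 2, 0, 0], [0, 1, 0, 0, 0, 0, 0, 0, 1, 0, 0, 0, 2, 2], [0, 2, 1, 2, 0, 1, 2, 2, 1, 2, 2, 0, 1, 1], [2, 2, 0, 1, 0, 0, 1, 0, 2, 0, 1, 1, 2, 1], [2, 0, 0, 0, 1, 0, 0, 0, 0, 2, 2, 2, 0, 0], [0, 0, 0, 0, 0, 1, 2, 0, 0, 1, 1, 0, 0, 0], [0, 0, 0, 0, 0, 0, 1, 0, 0, 0, 2, 1, 0, 0], [0, 1, 0, 0, 0, 0, 0, 1, 2, 0, 0, 0, 0, 0], [0, 0, 0, 0, 0, 0, 0, 0, 1, 0, 0, 0, 0, 1], [0, 0, 0, 0, 0, 0, 0, 0, 0, 1, 1, 0, 0, 0], [0, 0, 0, 0, 0, 0, 0, 0, 0, 0, 1, 0, 0, 0], [0, 0, 0, 0, 0, 0, 0, 0, 0, 0, 0, 1, 0, 0], [0, 0, 0, 0, 0, 0, 0, 0, 0, 0, 0, 0, 1, 1], [0, 0, 0, 0, 0, 0, 0, 0, 0, 0, 0, 0, 0, 1]],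
   [[1, 0, 0, 0, 0, 0, 0, 0, 0, 0, 0, 2, 0, 0], [0, 1, 0, 0, 0, 0, 0, 0, 0, 0, 0, 0, 2, 0], [0, 0, 1, 0, 0, 1, 0, 2, 0, 2, 0, 0, 1, 0], [2, 2, 0, 1, 0, 0, 1, 0, 0, 0, 1, 1, 2, 2], [2, 0, 0, 0, 1, 0, 0, 0, 0, 2, 0, 2, 0, 0], [0, 0, 0, 0, 0, 1, 0, 0, 0, 1, 0, 0, 0, 0], [0, 0, 0, 0, 0, 0, 1, 0, 0, 0, 2, 1, 0, 0], [0, 0, 0, 0, 0, 0, 0, 1, 0, 0, 0, 0, 0, 0], [0, 0, 0, 0, 0, 0, 0, 0, 1, 0, 0, 0, 0, 1], [0, 0, 0, 0, 0, 0, 0, 0, 0, 1, 0, 0, 0, 0], [0, 0, 0, 0, 0, 0, 0, 0, 0, 0, 1, 0, 0, 0], [0, 0, 0, 0, 0, 0, 0, 0, 0, 0, 0, 1, 0, 0], [0, 0, 0, 0, 0, 0, 0, 0, 0, 0, 0, 0, 1, 0], [0, 0, 0, 0, 0, 0, 0, 0, 0, 0, 0, 0, 0, 1]],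
   [[1, 0, 0, 0, 0, 0, 0, 0, 0, 1, 0, 1, 0, 0], [0, 1, 0, 0, 0, 0, 0, 0, 1, 1, 2, 1, 0, 1], [2, 1, 1, 2, 1, 0, 1, 0, 0, 0, 2, 0, 0, 2], [1, 2, 0, 1, 2, 2, 2, 2, 0, 2, 1, 0, 2, 1], [1, 0, 0, 0, 1, 2, 0, 0, 0, 0, 0, 2, 0, 0], [2, 0, 0, 0, 0, 1, 2, 0, 0, 0, 2, 1, 0, 0], [1, 0, 0, 0, 0, 0, 1, 0, 0, 2, 1, 2, 0, 0], [0, 1, 0, 0, 0, 0, 0, 1, 2, 1, 1, 2, 1, 2], [0, 0, 0, 0, 0, 0, 0, 0, 1, 0, 2, 1, 1, 1], [0, 0, 0, 0, 0, 0, 0, 0, 0, 1, 1, 1, 0, 0], [0, 0, 0, 0, 0, 0, 0, 0, 0, 0, 1, 1, 0, 0], [0, 0, 0, 0, 0, 0, 0, 0, 0, 0, 0, 1, 0, 0], [0, 0, 0, 0, 0, 0, 0, 0, 0, 0, 0, 0, 1, 1], [0, 0, 0, 0, 0, 0, 0, 0, 0, 0, 0, 0, 0, 1]],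
   [[1, 0, 0, 0, 0, 0, 0, 0, 0, 0, 0, 1, 0, 0], [0, 1, 0, 0, 0, 0, 0, 0, 1, 0, 0, 0, 2, 1], [1, 1, 1, 2, 0, 2, 1, 2, 0, 2, 2, 1, 0, 2], [2, 2, 0, 1, 0, 0, 2, 0, 0, 0, 1, 2, 2, 1], [1, 0, 0, 0, 1, 0, 0, 0, 0, 2, 0, 2, 0, 0], [0, 0, 0, 0, 0, 1, 2, 0, 0, 2, 2, 2, 0, 0], [0, 0, 0, 0, 0, 0, 1, 0, 0, 0, 1, 1, 0, 0], [0, 1, 0, 0, 0, 0, 0, 1, 2, 0, 0, 0, 2, 2], [0, 0, 0, 0, 0, 0, 0, 0, 1, 0, 0, 0, 0, 1], [0, 0, 0, 0, 0, 0, 0, 0, 0, 1, 1, 0, 0, 0], [0, 0, 0, 0, 0, 0, 0, 0, 0, 0, 1, 0, 0, 0], [0, 0, 0, 0, 0, 0, 0, 0, 0, 0, 0, 1, 0, 0], [0, 0, 0, 0, 0, 0, 0, 0, 0, 0, 0, 0, 1, 1], [0, 0, 0, 0, 0, 0, 0, 0, 0, 0, 0, 0, 0, 1]],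
   [[1, 0, 0, 0, 0, 0, 0, 0, 0, 0, 0, 1, 0, 0], [0, 1, 0, 0, 0, 0, 0, 0, 0, 0, 0, 0, 2, 2], [1, 2, 1, 0, 0, 2, 0, 2, 0, 2, 0, 1, 0, 2], [2, 2, 0, 1, 0, 0, 2, 0, 1, 0, 1, 2, 2, 2], [1, 0, 0, 0, 1, 0, 0, 0, 0, 2, 1, 2, 0, 0], [0, 0, 0, 0, 0, 1, 0, 0, 0, 2, 0, 2, 0, 0], [0, 0, 0, 0, 0, 0, 1, 0, 0, 0, 1, 1, 0, 0], [0, 0, 0, 0, 0, 0, 0, 1, 0, 0, 0, 0, 2, 0], [0, 0, 0, 0, 0, 0, 0, 0, 1, 0, 0, 0, 0, 1], [0, 0, 0, 0, 0, 0, 0, 0, 0, 1, 0, 0, 0, 0], [0, 0, 0, 0, 0, 0, 0, 0, 0, 0, 1, 0, 0, 0], [0, 0, 0, 0, 0, 0, 0, 0, 0, 0, 0, 1, 0, 0], [0, 0, 0, 0, 0, 0, 0, 0, 0, 0, 0, 0, 1, 0], [0, 0, 0, 0, 0, 0, 0, 0, 0, 0, 0, 0, 0, 1]],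
   [[1, 0, 0, 0, 0, 0, 0, 0, 0, 1, 0, 0, 0, 0], [0, 1, 0, 0, 0, 0, 0, 0, 1, 1, 2, 1, 0, 0], [2, 0, 1, 2, 1, 1, 0, 0, 2, 2, 1, 2, 1, 1], [2, 2, 0, 1, 2, 2, 0, 2, 1, 1, 2, 1, 0, 1], [0, 0, 0, 0, 1, 2, 0, 0, 0, 2, 1, 1, 0, 0], [2, 0, 0, 0, 0, 1, 2, 0, 0, 1, 0, 1, 0, 0], [1, 0, 0, 0, 0, 0, 1, 0, 0, 2, 0, 1, 0, 0], [0, 1, 0, 0, 0, 0, 0, 1, 2, 1, 1, 2, 0, 1], [0, 0, 0, 0, 0, 0, 0, 0, 1, 0, 2, 1, 1, 1], [0, 0, 0, 0, 0, 0, 0, 0, 0, 1, 1, 1, 0, 0], [0, 0, 0, 0, 0, 0, 0, 0, 0, 0, 1, 1, 0, 0], [0, 0, 0, 0, 0, 0, 0, 0, 0, 0, 0, 1, 0, 0], [0, 0, 0, 0, 0, 0, 0, 0, 0, 0, 0, 0, 1, 1], [0, 0, 0, 0, 0, 0, 0, 0, 0, 0, 0, 0, 0, 1]],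
   [[1, 0, 0, 0, 0, 0, 0, 0, 0, 0, 0, 0, 0, 0], [0, 1, 0, 0, 0, 0, 0, 0, 1, 0, 0, 0, 2, 0], [2, 0, 1, 2, 0, 0, 0, 2, 2, 0, 0, 0, 2, 1], [2, 2, 0, 1, 0, 0, 0, 0, 1, 0, 0, 0, 2, 1], [0, 0, 0, 0, 1, 0, 0, 0, 0, 2, 1, 0, 0, 0], [0, 0, 0, 0, 0, 1, 2, 0, 0, 0, 0, 1, 0, 0], [0, 0, 0, 0, 0, 0, 1, 0, 0, 0, 0, 1, 0, 0], [0, 1, 0, 0, 0, 0, 0, 1, 2, 0, 0, 0, 1, 1], [0, 0, 0, 0, 0, 0, 0, 0, 1, 0, 0, 0, 0, 1], [0, 0, 0, 0, 0, 0, 0, 0, 0, 1, 1, 0, 0, 0], [0, 0, 0, 0, 0, 0, 0, 0, 0, 0, 1, 0, 0, 0], [0, 0, 0, 0, 0, 0, 0, 0, 0, 0, 0, 1, 0, 0], [0, 0, 0, 0, 0, 0, 0, 0, 0, 0, 0, 0, 1, 1], [0, 0, 0, 0, 0, 0, 0, 0, 0, 0, 0, 0, 0, 1]],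
   [[1, 0, 0, 0, 0, 0, 0, 0, 0, 2, 1, 0, 0, 0], [0, 1, 0, 0, 0, 0, 0, 0, 2, 2, 1, 0, 1, 0], [2, 0, 1, 1, 0, 0, 0, 1, 1, 0, 0, 0, 1, 1], [1, 0, 0, 1, 1, 2, 2, 1, 0, 1, 1, 2, 0, 1], [0, 0, 0, 0, 1, 1, 1, 0, 0, 1, 1, 1, 0, 0], [0, 0, 0, 0, 0, 1, 1, 0, 0, 0, 0, 1, 0, 0], [2, 0, 0, 0, 0, 0, 1, 0, 0, 2, 1, 2, 0, 0], [0, 2, 0, 0, 0, 0, 0, 1, 2, 0, 0, 0, 1, 2], [0, 0, 0, 0, 0, 0, 0, 0, 1, 0, 1, 1, 2, 0], [0, 0, 0, 0, 0, 0, 0, 0, 0, 1, 2, 0, 0, 0], [0, 0, 0, 0, 0, 0, 0, 0, 0, 0, 1, 2, 0, 0], [0, 0, 0, 0, 0, 0, 0, 0, 0, 0, 0, 1, 0, 0], [0, 0, 0, 0, 0, 0, 0, 0, 0, 0, 0, 0, 1, 2], [0, 0, 0, 0, 0, 0, 0, 0, 0, 0, 0, 0, 0, 1]],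
   [[1, 0, 0, 0, 0, 0, 0, 0, 0, 0, 1, 1, 0, 0], [0, 1, 0, 0, 0, 0, 0, 0, 2, 0, 2, 0, 0, 0], [2, 0, 1, 1, 2, 2, 0, 0, 1, 2, 2, 1, 2, 1], [0, 0, 0, 1, 0, 0, 2, 0, 0, 0, 1, 0, 0, 1], [1, 0, 0, 0, 1, 0, 1, 0, 0, 0, 1, 2, 0, 0], [1, 0, 0, 0, 0, 1, 1, 0, 0, 2, 0, 1, 0, 0], [0, 0, 0, 0, 0, 0, 1, 0, 0, 0, 1, 0, 0, 0], [0, 2, 0, 0, 0, 0, 0, 1, 2, 2, 1, 2, 0, 2], [0, 0, 0, 0, 0, 0, 0, 0, 1, 0, 0, 0, 0, 0], [0, 0, 0, 0, 0, 0, 0, 0, 0, 1, 2, 2, 0, 0], [0, 0, 0, 0, 0, 0, 0, 0, 0, 0, 1, 0, 0, 0], [0, 0, 0, 0, 0, 0, 0, 0, 0, 0, 0, 1, 0, 0], [0, 0, 0, 0, 0, 0, 0, 0, 0, 0, 0, 0, 1, 2], [0, 0, 0, 0, 0, 0, 0, 0, 0, 0, 0, 0, 0, 1]],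
   [[1, 0, 0, 0, 0, 0, 0, 0, 0, 0, 1, 1, 0, 0], [0, 1, 0, 0, 0, 0, 0, 0, 0, 0, 2, 0, 0, 0], [2, 0, 1, 0, 2, 2, 1, 0, 1, 2, 1, 1, 2, 0], [0, 0, 0, 1, 0, 0, 2, 0, 0, 0, 1, 0, 0, 1], [1, 0, 0, 0, 1, 0, 1, 0, 0, 0, 1, 2, 0, 0], [1, 0, 0, 0, 0, 1, 0, 0, 0, 2, 2, 1, 0, 0], [0, 0, 0, 0, 0, 0, 1, 0, 0, 0, 1, 0, 0, 0], [0, 0, 0, 0, 0, 0, 0, 1, 0, 2, 0, 2, 0, 2], [0, 0, 0, 0, 0, 0, 0, 0, 1, 0, 0, 0, 0, 0], [0, 0, 0, 0, 0, 0, 0, 0, 0, 1, 0, 2, 0, 0], [0, 0, 0, 0, 0, 0, 0, 0, 0, 0, 1, 0, 0, 0], [0, 0, 0, 0, 0, 0, 0, 0, 0, 0, 0, 1, 0, 0], [0, 0, 0, 0, 0, 0, 0, 0, 0, 0, 0, 0, 1, 0], [0, 0, 0, 0, 0, 0, 0, 0, 0, 0, 0, 0, 0, 1]],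
   [[1, 0, 0, 0, 0, 0, 0, 0, 0, 0, 0, 1, 0, 0], [0, 1, 0, 0, 0, 0, 0, 0, 0, 0, 0, 0, 0, 0], [0, 0, 1, 0, 0, 2, 0, 0, 0, 2, 0, 0, 2, 0], [0, 0, 0, 1, 0, 0, 2, 0, 0, 0, 1, 0, 0, 1], [1, 0, 0, 0, 1, 0, 0, 0, 0, 0, 0, 2, 0, 0], [0, 0, 0, 0, 0, 1, 0, 0, 0, 2, 0, 0, 0, 0], [0, 0, 0, 0, 0, 0, 1, 0, 0, 0, 1, 0, 0, 0], [0, 0, 0, 0, 0, 0, 0, 1, 0, 0, 0, 0, 0, 0], [0, 0, 0, 0, 0, 0, 0, 0, 1, 0, 0, 0, 0, 0], [0, 0, 0, 0, 0, 0, 0, 0, 0, 1, 0, 0, 0, 0], [0, 0, 0, 0, 0, 0, 0, 0, 0, 0, 1, 0, 0, 0], [0, 0, 0, 0, 0, 0, 0, 0, 0, 0, 0, 1, 0, 0], [0, 0, 0, 0, 0, 0, 0, 0, 0, 0, 0, 0, 1, 0], [0, 0, 0, 0, 0, 0, 0, 0, 0, 0, 0, 0, 0, 1]],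
   [[1, 0, 0, 0, 0, 0, 0, 0, 0, 2, 1, 2, 0, 0], [0, 1, 0, 0, 0, 0, 0, 0, 2, 2, 1, 0, 1, 2], [0, 2, 1, 1, 0, 1, 1, 1, 2, 2, 1, 0, 1, 2], [0, 0, 0, 1, 1, 2, 0, 1, 1, 0, 1, 1, 2, 0], [2, 0, 0, 0, 1, 1, 1, 0, 0, 2, 1, 2, 0, 0], [0, 0, 0, 0, 0, 1, 1, 0, 0, 1, 2, 0, 0, 0], [2, 0, 0, 0, 0, 0, 1, 0, 0, 2, 0, 0, 0, 0], [0, 2, 0, 0, 0, 0, 0, 1, 2, 0, 0, 0, 0, 0], [0, 0, 0, 0, 0, 0, 0, 0, 1, 0, 1, 1, 2, 0], [0, 0, 0, 0, 0, 0, 0, 0, 0, 1, 2, 0, 0, 0], [0, 0, 0, 0, 0, 0, 0, 0, 0, 0, 1, 2, 0, 0], [0, 0, 0, 0, 0, 0, 0, 0, 0, 0, 0, 1, 0, 0], [0, 0, 0, 0, 0, 0, 0, 0, 0, 0, 0, 0, 1, 2], [0, 0, 0, 0, 0, 0, 0, 0, 0, 0, 0, 0, 0, 1]],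
   [[1, 0, 0, 0, 0, 0, 0, 0, 0, 0, 1, 0, 0, 0], [0, 1, 0, 0, 0, 0, 0, 0, 2, 0, 2, 0, 0, 2], [1, 2, 1, 1, 2, 0, 1, 0, 2, 0, 2, 0, 0, 2], [0, 0, 0, 1, 0, 0, 0, 0, 1, 0, 0, 0, 0, 0], [0, 0, 0, 0, 1, 0, 1, 0, 0, 0, 1, 0, 0, 0], [1, 0, 0, 0, 0, 1, 1, 0, 0, 0, 2, 2, 0, 0], [0, 0, 0, 0, 0, 0, 1, 0, 0, 0, 0, 0, 0, 0], [0, 2, 0, 0, 0, 0, 0, 1, 2, 2, 1, 2, 2, 0], [0, 0, 0, 0, 0, 0, 0, 0, 1, 0, 0, 0, 0, 0], [0, 0, 0, 0, 0, 0, 0, 0, 0, 1, 2, 2, 0, 0], [0, 0, 0, 0, 0, 0, 0, 0, 0, 0, 1, 0, 0, 0], [0, 0, 0, 0, 0, 0, 0, 0, 0, 0, 0, 1, 0, 0], [0, 0, 0, 0, 0, 0, 0, 0, 0, 0, 0, 0, 1, 2], [0, 0, 0, 0, 0, 0, 0, 0, 0, 0, 0, 0, 0, 1]],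
   [[1, 0, 0, 0, 0, 0, 0, 0, 0, 0, 1, 0, 0, 0], [0, 1, 0, 0, 0, 0, 0, 0, 0, 0, 2, 0, 0, 2], [1, 2, 1, 0, 2, 0, 1, 0, 1, 0, 2, 0, 0, 2], [0, 0, 0, 1, 0, 0, 0, 0, 1, 0, 0, 0, 0, 0], [0, 0, 0, 0, 1, 0, 1, 0, 0, 0, 1, 0, 0, 0], [1, 0, 0, 0, 0, 1, 0, 0, 0, 0, 2, 2, 0, 0], [0, 0, 0, 0, 0, 0, 1, 0, 0, 0, 0, 0, 0, 0], [0, 0, 0, 0, 0, 0, 0, 1, 0, 2, 0, 2, 2, 2], [0, 0, 0, 0, 0, 0, 0, 0, 1, 0, 0, 0, 0, 0], [0, 0, 0, 0, 0, 0, 0, 0, 0, 1, 0, 2, 0, 0], [0, 0, 0, 0, 0, 0, 0, 0, 0, 0, 1, 0, 0, 0], [0, 0, 0, 0, 0, 0, 0, 0, 0, 0, 0, 1, 0, 0], [0, 0, 0, 0, 0, 0, 0, 0, 0, 0, 0, 0, 1, 0], [0, 0, 0, 0, 0, 0, 0, 0, 0, 0, 0, 0, 0, 1]],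
   [[1, 0, 0, 0, 0, 0, 0, 0, 0, 2, 1, 1, 0, 0], [0, 1, 0, 0, 0, 0, 0, 0, 2, 2, 1, 0, 1, 1], [1, 1, 1, 1, 0, 2, 2, 1, 0, 2, 1, 1, 1, 1], [2, 0, 0, 1, 1, 2, 1, 1, 2, 2, 0, 1, 1, 2], [1, 0, 0, 0, 1, 1, 1, 0, 0, 0, 1, 1, 0, 0], [0, 0, 0, 0, 0, 1, 1, 0, 0, 2, 1, 2, 0, 0], [2, 0, 0, 0, 0, 0, 1, 0, 0, 2, 2, 1, 0, 0], [0, 2, 0, 0, 0, 0, 0, 1, 2, 0, 0, 0, 2, 1], [0, 0, 0, 0, 0, 0, 0, 0, 1, 0, 1, 1, 2, 0], [0, 0, 0, 0, 0, 0, 0, 0, 0, 1, 2, 0, 0, 0], [0, 0, 0, 0, 0, 0, 0, 0, 0, 0, 1, 2, 0, 0], [0, 0, 0, 0, 0, 0, 0, 0, 0, 0, 0, 1, 0, 0], [0, 0, 0, 0, 0, 0, 0, 0, 0, 0, 0, 0, 1, 2], [0, 0, 0, 0, 0, 0, 0, 0, 0, 0, 0, 0, 0, 1]],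
   [[1, 0, 0, 0, 0, 0, 0, 0, 0, 0, 1, 2, 0, 0], [0, 1, 0, 0, 0, 0, 0, 0, 2, 0, 2, 0, 0, 1], [0, 1, 1, 1, 2, 1, 2, 0, 0, 2, 1, 2, 1, 1], [0, 0, 0, 1, 0, 0, 1, 0, 2, 0, 1, 0, 0, 2], [2, 0, 0, 0, 1, 0, 1, 0, 0, 0, 1, 2, 0, 0], [1, 0, 0, 0, 0, 1, 1, 0, 0, 1, 1, 0, 0, 0], [0, 0, 0, 0, 0, 0, 1, 0, 0, 0, 2, 0, 0, 0], [0, 2, 0, 0, 0, 0, 0, 1, 2, 2, 1, 2, 1, 1], [0, 0, 0, 0, 0, 0, 0, 0, 1, 0, 0, 0, 0, 0], [0, 0, 0, 0, 0, 0, 0, 0, 0, 1, 2, 2, 0, 0], [0, 0, 0, 0, 0, 0, 0, 0, 0, 0, 1, 0, 0, 0], [0, 0, 0, 0, 0, 0, 0, 0, 0, 0, 0, 1, 0, 0], [0, 0, 0, 0, 0, 0, 0, 0, 0, 0, 0, 0, 1, 2], [0, 0, 0, 0, 0, 0, 0, 0, 0, 0, 0, 0, 0, 1]],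
   [[1, 0, 0, 0, 0, 0, 0, 0, 0, 0, 1, 2, 0, 0], [0, 1, 0, 0, 0, 0, 0, 0, 0, 0, 2, 0, 0, 1], [0, 1, 1, 0, 2, 1, 1, 0, 1, 2, 0, 2, 1, 2], [0, 0, 0, 1, 0, 0, 1, 0, 2, 0, 1, 0, 0, 2], [2, 0, 0, 0, 1, 0, 1, 0, 0, 0, 1, 2, 0, 0], [1, 0, 0, 0, 0, 1, 0, 0, 0, 1, 2, 0, 0, 0], [0, 0, 0, 0, 0, 0, 1, 0, 0, 0, 2, 0, 0, 0], [0, 0, 0, 0, 0, 0, 0, 1, 0, 2, 0, 2, 1, 2], [0, 0, 0, 0, 0, 0, 0, 0, 1, 0, 0, 0, 0, 0], [0, 0, 0, 0, 0, 0, 0, 0, 0, 1, 0, 2, 0, 0], [0, 0, 0, 0, 0, 0, 0, 0, 0, 0, 1, 0, 0, 0], [0, 0, 0, 0, 0, 0, 0, 0, 0, 0, 0, 1, 0, 0], [0, 0, 0, 0, 0, 0, 0, 0, 0, 0, 0, 0, 1, 0], [0, 0, 0, 0, 0, 0, 0, 0, 0, 0, 0, 0, 0, 1]],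
   [[1, 0, 0, 0, 0, 0, 0, 0, 0, 0, 0, 2, 0, 0], [0, 1, 0, 0, 0, 0, 0, 0, 0, 0, 0, 0, 0, 1], [2, 1, 1, 0, 0, 1, 0, 0, 0, 2, 0, 1, 1, 2], [0, 0, 0, 1, 0, 0, 1, 0, 2, 0, 1, 0, 0, 2], [2, 0, 0, 0, 1, 0, 0, 0, 0, 0, 2, 2, 0, 0], [0, 0, 0, 0, 0, 1, 0, 0, 0, 1, 0, 1, 0, 0], [0, 0, 0, 0, 0, 0, 1, 0, 0, 0, 2, 0, 0, 0], [0, 0, 0, 0, 0, 0, 0, 1, 0, 0, 0, 0, 1, 0], [0, 0, 0, 0, 0, 0, 0, 0, 1, 0, 0, 0, 0, 0], [0, 0, 0, 0, 0, 0, 0, 0, 0, 1, 0, 0, 0, 0], [0, 0, 0, 0, 0, 0, 0, 0, 0, 0, 1, 0, 0, 0], [0, 0, 0, 0, 0, 0, 0, 0, 0, 0, 0, 1, 0, 0], [0, 0, 0, 0, 0, 0, 0, 0, 0, 0, 0, 0, 1, 0], [0, 0, 0, 0, 0, 0, 0, 0, 0, 0, 0, 0, 0, 1]],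
   [[1, 0, 0, 0, 0, 0, 0, 0, 0, 2, 2, 2, 0, 0], [0, 1, 0, 0, 0, 0, 0, 0, 2, 2, 0, 1, 2, 2], [1, 2, 1, 1, 2, 2, 0, 2, 1, 0, 2, 1, 1, 2], [2, 1, 0, 1, 1, 2, 2, 1, 2, 2, 0, 2, 0, 2], [2, 0, 0, 0, 1, 1, 2, 0, 0, 1, 1, 2, 0, 0], [1, 0, 0, 0, 0, 1, 1, 0, 0, 2, 0, 2, 0, 0], [2, 0, 0, 0, 0, 0, 1, 0, 0, 2, 1, 1, 0, 0], [0, 2, 0, 0, 0, 0, 0, 1, 2, 2, 1, 2, 1, 1], [0, 0, 0, 0, 0, 0, 0, 0, 1, 0, 1, 1, 2, 2], [0, 0, 0, 0, 0, 0, 0, 0, 0, 1, 2, 2, 0, 0], [0, 0, 0, 0, 0, 0, 0, 0, 0, 0, 1, 2, 0, 0], [0, 0, 0, 0, 0, 0, 0, 0, 0, 0, 0, 1, 0, 0], [0, 0, 0, 0, 0, 0, 0, 0, 0, 0, 0, 0, 1, 2], [0, 0, 0, 0, 0, 0, 0, 0, 0, 0, 0, 0, 0, 1]],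
   [[1, 0, 0, 0, 0, 0, 0, 0, 0, 0, 2, 1, 0, 0], [0, 1, 0, 0, 0, 0, 0, 0, 2, 0, 1, 0, 1, 2], [1, 2, 1, 1, 1, 2, 0, 1, 1, 0, 1, 1, 2, 2], [1, 1, 0, 1, 0, 0, 2, 0, 2, 0, 1, 1, 2, 2], [1, 0, 0, 0, 1, 0, 2, 0, 0, 1, 1, 0, 0, 0], [2, 0, 0, 0, 0, 1, 1, 0, 0, 2, 0, 2, 0, 0], [0, 0, 0, 0, 0, 0, 1, 0, 0, 0, 1, 2, 0, 0], [0, 2, 0, 0, 0, 0, 0, 1, 2, 1, 2, 2, 0, 1], [0, 0, 0, 0, 0, 0, 0, 0, 1, 0, 0, 0, 0, 2], [0, 0, 0, 0, 0, 0, 0, 0, 0, 1, 2, 1, 0, 0], [0, 0, 0, 0, 0, 0, 0, 0, 0, 0, 1, 0, 0, 0], [0, 0, 0, 0, 0, 0, 0, 0, 0, 0, 0, 1, 0, 0], [0, 0, 0, 0, 0, 0, 0, 0, 0, 0, 0, 0, 1, 2], [0, 0, 0, 0, 0, 0, 0, 0, 0, 0, 0, 0, 0, 1]],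
   [[1, 0, 0, 0, 0, 0, 0, 0, 0, 0, 2, 1, 0, 0], [0, 1, 0, 0, 0, 0, 0, 0, 0, 0, 1, 0, 1, 0], [1, 0, 1, 0, 1, 2, 1, 1, 2, 0, 1, 1, 2, 1], [1, 1, 0, 1, 0, 0, 2, 0, 0, 0, 1, 1, 2, 1], [1, 0, 0, 0, 1, 0, 2, 0, 0, 1, 2, 0, 0, 0], [2, 0, 0, 0, 0, 1, 0, 0, 0, 2, 2, 2, 0, 0], [0, 0, 0, 0, 0, 0, 1, 0, 0, 0, 1, 2, 0, 0], [0, 0, 0, 0, 0, 0, 0, 1, 0, 1, 0, 2, 0, 1], [0, 0, 0, 0, 0, 0, 0, 0, 1, 0, 0, 0, 0, 2], [0, 0, 0, 0, 0, 0, 0, 0, 0, 1, 0, 1, 0, 0], [0, 0, 0, 0, 0, 0, 0, 0, 0, 0, 1, 0, 0, 0], [0, 0, 0, 0, 0, 0, 0, 0, 0, 0, 0, 1, 0, 0], [0, 0, 0, 0, 0, 0, 0, 0, 0, 0, 0, 0, 1, 0], [0, 0, 0, 0, 0, 0, 0, 0, 0, 0, 0, 0, 0, 1]],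
   [[1, 0, 0, 0, 0, 0, 0, 0, 0, 0, 0, 1, 0, 0], [0, 1, 0, 0, 0, 0, 0, 0, 0, 0, 0, 0, 1, 0], [0, 0, 1, 0, 0, 2, 0, 1, 0, 2, 0, 0, 2, 0], [1, 1, 0, 1, 0, 0, 2, 0, 0, 0, 1, 1, 2, 1], [1, 0, 0, 0, 1, 0, 0, 0, 0, 1, 0, 2, 0, 0], [0, 0, 0, 0, 0, 1, 0, 0, 0, 2, 0, 0, 0, 0], [0, 0, 0, 0, 0, 0, 1, 0, 0, 0, 1, 2, 0, 0], [0, 0, 0, 0, 0, 0, 0, 1, 0, 0, 0, 0, 0, 0], [0, 0, 0, 0, 0, 0, 0, 0, 1, 0, 0, 0, 0, 2], [0, 0, 0, 0, 0, 0, 0, 0, 0, 1, 0, 0, 0, 0], [0, 0, 0, 0, 0, 0, 0, 0, 0, 0, 1, 0, 0, 0], [0, 0, 0, 0, 0, 0, 0, 0, 0, 0, 0, 1, 0, 0], [0, 0, 0, 0, 0, 0, 0, 0, 0, 0, 0, 0, 1, 0], [0, 0, 0, 0, 0, 0, 0, 0, 0, 0, 0, 0, 0, 1]],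
   [[1, 0, 0, 0, 0, 0, 0, 0, 0, 2, 2, 1, 0, 0], [0, 1, 0, 0, 0, 0, 0, 0, 2, 2, 0, 1, 2, 1], [0, 1, 1, 1, 2, 0, 1, 2, 2, 1, 2, 1, 0, 1], [1, 1, 0, 1, 1, 2, 0, 1, 0, 1, 0, 0, 2, 0], [1, 0, 0, 0, 1, 1, 2, 0, 0, 2, 0, 1, 0, 0], [1, 0, 0, 0, 0, 1, 1, 0, 0, 0, 2, 0, 0, 0], [2, 0, 0, 0, 0, 0, 1, 0, 0, 2, 0, 2, 0, 0], [0, 2, 0, 0, 0, 0, 0, 1, 2, 2, 1, 2, 0, 2], [0, 0, 0, 0, 0, 0, 0, 0, 1, 0, 1, 1, 2, 2], [0, 0, 0, 0, 0, 0, 0, 0, 0, 1, 2, 2, 0, 0], [0, 0, 0, 0, 0, 0, 0, 0, 0, 0, 1, 2, 0, 0], [0, 0, 0, 0, 0, 0, 0, 0, 0, 0, 0, 1, 0, 0], [0, 0, 0, 0, 0, 0, 0, 0, 0, 0, 0, 0, 1, 2], [0, 0, 0, 0, 0, 0, 0, 0, 0, 0, 0, 0, 0, 1]],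
   [[1, 0, 0, 0, 0, 0, 0, 0, 0, 0, 2, 0, 0, 0], [0, 1, 0, 0, 0, 0, 0, 0, 2, 0, 1, 0, 1, 1], [1, 1, 1, 1, 1, 0, 1, 1, 2, 1, 0, 2, 2, 1], [1, 1, 0, 1, 0, 0, 0, 0, 0, 0, 0, 0, 2, 0], [0, 0, 0, 0, 1, 0, 2, 0, 0, 1, 0, 1, 0, 0], [2, 0, 0, 0, 0, 1, 1, 0, 0, 0, 2, 2, 0, 0], [0, 0, 0, 0, 0, 0, 1, 0, 0, 0, 0, 2, 0, 0], [0, 2, 0, 0, 0, 0, 0, 1, 2, 1, 2, 2, 2, 2], [0, 0, 0, 0, 0, 0, 0, 0, 1, 0, 0, 0, 0, 2], [0, 0, 0, 0, 0, 0, 0, 0, 0, 1, 2, 1, 0, 0], [0, 0, 0, 0, 0, 0, 0, 0, 0, 0, 1, 0, 0, 0], [0, 0, 0, 0, 0, 0, 0, 0, 0, 0, 0, 1, 0, 0], [0, 0, 0, 0, 0, 0, 0, 0, 0, 0, 0, 0, 1, 2], [0, 0, 0, 0, 0, 0, 0, 0, 0, 0, 0, 0, 0, 1]],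
   [[1, 0, 0, 0, 0, 0, 0, 0, 0, 0, 2, 0, 0, 0], [0, 1, 0, 0, 0, 0, 0, 0, 0, 0, 1, 0, 1, 2], [1, 2, 1, 0, 1, 0, 1, 1, 2, 1, 1, 2, 2, 0], [1, 1, 0, 1, 0, 0, 0, 0, 1, 0, 0, 0, 2, 2], [0, 0, 0, 0, 1, 0, 2, 0, 0, 1, 1, 1, 0, 0], [2, 0, 0, 0, 0, 1, 0, 0, 0, 0, 2, 2, 0, 0], [0, 0, 0, 0, 0, 0, 1, 0, 0, 0, 0, 2, 0, 0], [0, 0, 0, 0, 0, 0, 0, 1, 0, 1, 0, 2, 2, 1], [0, 0, 0, 0, 0, 0, 0, 0, 1, 0, 0, 0, 0, 2], [0, 0, 0, 0, 0, 0, 0, 0, 0, 1, 0, 1, 0, 0], [0, 0, 0, 0, 0, 0, 0, 0, 0, 0, 1, 0, 0, 0], [0, 0, 0, 0, 0, 0, 0, 0, 0, 0, 0, 1, 0, 0], [0, 0, 0, 0, 0, 0, 0, 0, 0, 0, 0, 0, 1, 0], [0, 0, 0, 0, 0, 0, 0, 0, 0, 0, 0, 0, 0, 1]],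
   [[1, 0, 0, 0, 0, 0, 0, 0, 0, 2, 2, 0, 0, 0], [0, 1, 0, 0, 0, 0, 0, 0, 2, 2, 0, 1, 2, 0], [2, 0, 1, 1, 2, 1, 2, 2, 0, 0, 1, 1, 2, 1], [0, 1, 0, 1, 1, 2, 1, 1, 1, 0, 2, 2, 1, 1], [0, 0, 0, 0, 1, 1, 2, 0, 0, 0, 2, 1, 0, 0], [1, 0, 0, 0, 0, 1, 1, 0, 0, 1, 1, 1, 0, 0], [2, 0, 0, 0, 0, 0, 1, 0, 0, 2, 2, 0, 0, 0], [0, 2, 0, 0, 0, 0, 0, 1, 2, 2, 1, 2, 2, 0], [0, 0, 0, 0, 0, 0, 0, 0, 1, 0, 1, 1, 2, 2], [0, 0, 0, 0, 0, 0, 0, 0, 0, 1, 2, 2, 0, 0], [0, 0, 0, 0, 0, 0, 0, 0, 0, 0, 1, 2, 0, 0], [0, 0, 0, 0, 0, 0, 0, 0, 0, 0, 0, 1, 0, 0], [0, 0, 0, 0, 0, 0, 0, 0, 0, 0, 0, 0, 1, 2], [0, 0, 0, 0, 0, 0, 0, 0, 0, 0, 0, 0, 0, 1]],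
   [[1, 0, 0, 0, 0, 0, 0, 0, 0, 0, 2, 2, 0, 0], [0, 1, 0, 0, 0, 0, 0, 0, 2, 0, 1, 0, 1, 0], [1, 0, 1, 1, 1, 1, 2, 1, 0, 0, 1, 2, 2, 1], [1, 1, 0, 1, 0, 0, 1, 0, 1, 0, 1, 2, 2, 1], [2, 0, 0, 0, 1, 0, 2, 0, 0, 1, 2, 0, 0, 0], [2, 0, 0, 0, 0, 1, 1, 0, 0, 1, 1, 2, 0, 0], [0, 0, 0, 0, 0, 0, 1, 0, 0, 0, 2, 2, 0, 0], [0, 2, 0, 0, 0, 0, 0, 1, 2, 1, 2, 2, 1, 0], [0, 0, 0, 0, 0, 0, 0, 0, 1, 0, 0, 0, 0, 2], [0, 0, 0, 0, 0, 0, 0, 0, 0, 1, 2, 1, 0, 0], [0, 0, 0, 0, 0, 0, 0, 0, 0, 0, 1, 0, 0, 0], [0, 0, 0, 0, 0, 0, 0, 0, 0, 0, 0, 1, 0, 0], [0, 0, 0, 0, 0, 0, 0, 0, 0, 0, 0, 0, 1, 2], [0, 0, 0, 0, 0, 0, 0, 0, 0, 0, 0, 0, 0, 1]],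
   [[1, 0, 0, 0, 0, 0, 0, 0, 0, 0, 2, 2, 0, 0], [0, 1, 0, 0, 0, 0, 0, 0, 0, 0, 1, 0, 1, 1], [1, 1, 1, 0, 1, 1, 1, 1, 2, 0, 1, 2, 2, 0], [1, 1, 0, 1, 0, 0, 1, 0, 2, 0, 1, 2, 2, 0], [2, 0, 0, 0, 1, 0, 2, 0, 0, 1, 0, 0, 0, 0], [2, 0, 0, 0, 0, 1, 0, 0, 0, 1, 2, 2, 0, 0], [0, 0, 0, 0, 0, 0, 1, 0, 0, 0, 2, 2, 0, 0], [0, 0, 0, 0, 0, 0, 0, 1, 0, 1, 0, 2, 1, 1], [0, 0, 0, 0, 0, 0, 0, 0, 1, 0, 0, 0, 0, 2], [0, 0, 0, 0, 0, 0, 0, 0, 0, 1, 0, 1, 0, 0], [0, 0, 0, 0, 0, 0, 0, 0, 0, 0, 1, 0, 0, 0], [0, 0, 0, 0, 0, 0, 0, 0, 0, 0, 0, 1, 0, 0], [0, 0, 0, 0, 0, 0, 0, 0, 0, 0, 0, 0, 1, 0], [0, 0, 0, 0, 0, 0, 0, 0, 0, 0, 0, 0, 0, 1]],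
   [[1, 0, 0, 0, 0, 0, 0, 0, 0, 0, 0, 2, 0, 0], [0, 1, 0, 0, 0, 0, 0, 0, 0, 0, 0, 0, 1, 1], [2, 1, 1, 0, 0, 1, 0, 1, 0, 2, 0, 1, 2, 2], [1, 1, 0, 1, 0, 0, 1, 0, 2, 0, 1, 2, 2, 0], [2, 0, 0, 0, 1, 0, 0, 0, 0, 1, 2, 2, 0, 0], [0, 0, 0, 0, 0, 1, 0, 0, 0, 1, 0, 1, 0, 0], [0, 0, 0, 0, 0, 0, 1, 0, 0, 0, 2, 2, 0, 0], [0, 0, 0, 0, 0, 0, 0, 1, 0, 0, 0, 0, 1, 0], [0, 0, 0, 0, 0, 0, 0, 0, 1, 0, 0, 0, 0, 2], [0, 0, 0, 0, 0, 0, 0, 0, 0, 1, 0, 0, 0, 0], [0, 0, 0, 0, 0, 0, 0, 0, 0, 0, 1, 0, 0, 0], [0, 0, 0, 0, 0, 0, 0, 0, 0, 0, 0, 1, 0, 0], [0, 0, 0, 0, 0, 0, 0, 0, 0, 0, 0, 0, 1, 0], [0, 0, 0, 0, 0, 0, 0, 0, 0, 0, 0, 0, 0, 1]],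
   [[1, 0, 0, 0, 0, 0, 0, 0, 0, 2, 0, 1, 0, 0], [0, 1, 0, 0, 0, 0, 0, 0, 2, 2, 2, 2, 0, 1], [1, 1, 1, 1, 1, 1, 2, 0, 1, 2, 2, 0, 1, 1], [0, 2, 0, 1, 1, 2, 2, 1, 1, 0, 2, 2, 1, 2], [1, 0, 0, 0, 1, 1, 0, 0, 0, 1, 1, 1, 0, 0], [2, 0, 0, 0, 0, 1, 1, 0, 0, 1, 1, 2, 0, 0], [2, 0, 0, 0, 0, 0, 1, 0, 0, 2, 1, 0, 0, 0], [0, 2, 0, 0, 0, 0, 0, 1, 2, 1, 2, 2, 1, 0], [0, 0, 0, 0, 0, 0, 0, 0, 1, 0, 1, 1, 2, 1], [0, 0, 0, 0, 0, 0, 0, 0, 0, 1, 2, 1, 0, 0], [0, 0, 0, 0, 0, 0, 0, 0, 0, 0, 1, 2, 0, 0], [0, 0, 0, 0, 0, 0, 0, 0, 0, 0, 0, 1, 0, 0], [0, 0, 0, 0, 0, 0, 0, 0, 0, 0, 0, 0, 1, 2], [0, 0, 0, 0, 0, 0, 0, 0, 0, 0, 0, 0, 0, 1]],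
   [[1, 0, 0, 0, 0, 0, 0, 0, 0, 0, 0, 1, 0, 0], [0, 1, 0, 0, 0, 0, 0, 0, 2, 0, 0, 0, 2, 1], [0, 1, 1, 1, 0, 2, 2, 2, 1, 2, 1, 0, 2, 1], [2, 2, 0, 1, 0, 0, 2, 0, 1, 0, 1, 2, 2, 2], [1, 0, 0, 0, 1, 0, 0, 0, 0, 2, 1, 2, 0, 0], [0, 0, 0, 0, 0, 1, 1, 0, 0, 2, 1, 0, 0, 0], [0, 0, 0, 0, 0, 0, 1, 0, 0, 0, 1, 1, 0, 0], [0, 2, 0, 0, 0, 0, 0, 1, 2, 0, 0, 0, 0, 0], [0, 0, 0, 0, 0, 0, 0, 0, 1, 0, 0, 0, 0, 1], [0, 0, 0, 0, 0, 0, 0, 0, 0, 1, 2, 0, 0, 0], [0, 0, 0, 0, 0, 0, 0, 0, 0, 0, 1, 0, 0, 0], [0, 0, 0, 0, 0, 0, 0, 0, 0, 0, 0, 1, 0, 0], [0, 0, 0, 0, 0, 0, 0, 0, 0, 0, 0, 0, 1, 2], [0, 0, 0, 0, 0, 0, 0, 0, 0, 0, 0, 0, 0, 1]],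
   [[1, 0, 0, 0, 0, 0, 0, 0, 0, 0, 0, 1, 0, 0], [0, 1, 0, 0, 0, 0, 0, 0, 0, 0, 0, 0, 2, 0], [0, 0, 1, 0, 0, 2, 0, 2, 0, 2, 0, 0, 2, 0], [2, 2, 0, 1, 0, 0, 2, 0, 0, 0, 1, 2, 2, 1], [1, 0, 0, 0, 1, 0, 0, 0, 0, 2, 0, 2, 0, 0], [0, 0, 0, 0, 0, 1, 0, 0, 0, 2, 0, 0, 0, 0], [0, 0, 0, 0, 0, 0, 1, 0, 0, 0, 1, 1, 0, 0], [0, 0, 0, 0, 0, 0, 0, 1, 0, 0, 0, 0, 0, 0], [0, 0, 0, 0, 0, 0, 0, 0, 1, 0, 0, 0, 0, 1], [0, 0, 0, 0, 0, 0, 0, 0, 0, 1, 0, 0, 0, 0], [0, 0, 0, 0, 0, 0, 0, 0, 0, 0, 1, 0, 0, 0], [0, 0, 0, 0, 0, 0, 0, 0, 0, 0, 0, 1, 0, 0], [0, 0, 0, 0, 0, 0, 0, 0, 0, 0, 0, 0, 1, 0], [0, 0, 0, 0, 0, 0, 0, 0, 0, 0, 0, 0, 0, 1]],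
   [[1, 0, 0, 0, 0, 0, 0, 0, 0, 2, 0, 0, 0, 0], [0, 1, 0, 0, 0, 0, 0, 0, 2, 2, 2, 2, 0, 0], [1, 0, 1, 1, 1, 2, 0, 0, 2, 2, 2, 2, 2, 1], [2, 2, 0, 1, 1, 2, 0, 1, 2, 2, 2, 2, 0, 2], [0, 0, 0, 0, 1, 1, 0, 0, 0, 2, 2, 1, 0, 0], [2, 0, 0, 0, 0, 1, 1, 0, 0, 2, 0, 2, 0, 0], [2, 0, 0, 0, 0, 0, 1, 0, 0, 2, 0, 1, 0, 0], [0, 2, 0, 0, 0, 0, 0, 1, 2, 1, 2, 2, 0, 1], [0, 0, 0, 0, 0, 0, 0, 0, 1, 0, 1, 1, 2, 1], [0, 0, 0, 0, 0, 0, 0, 0, 0, 1, 2, 1, 0, 0], [0, 0, 0, 0, 0, 0, 0, 0, 0, 0, 1, 2, 0, 0], [0, 0, 0, 0, 0, 0, 0, 0, 0, 0, 0, 1, 0, 0], [0, 0, 0, 0, 0, 0, 0, 0, 0, 0, 0, 0, 1, 2], [0, 0, 0, 0, 0, 0, 0, 0, 0, 0, 0, 0, 0, 1]],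
   [[1, 0, 0, 0, 0, 0, 0, 0, 0, 0, 0, 0, 0, 0], [0, 1, 0, 0, 0, 0, 0, 0, 2, 0, 0, 0, 2, 0], [1, 0, 1, 1, 0, 0, 0, 2, 2, 0, 0, 0, 1, 1], [2, 2, 0, 1, 0, 0, 0, 0, 2, 0, 0, 0, 2, 2], [0, 0, 0, 0, 1, 0, 0, 0, 0, 2, 2, 0, 0, 0], [0, 0, 0, 0, 0, 1, 1, 0, 0, 0, 0, 2, 0, 0], [0, 0, 0, 0, 0, 0, 1, 0, 0, 0, 0, 1, 0, 0], [0, 2, 0, 0, 0, 0, 0, 1, 2, 0, 0, 0, 2, 1], [0, 0, 0, 0, 0, 0, 0, 0, 1, 0, 0, 0, 0, 1], [0, 0, 0, 0, 0, 0, 0, 0, 0, 1, 2, 0, 0, 0], [0, 0, 0, 0, 0, 0, 0, 0, 0, 0, 1, 0, 0, 0], [0, 0, 0, 0, 0, 0, 0, 0, 0, 0, 0, 1, 0, 0], [0, 0, 0, 0, 0, 0, 0, 0, 0, 0, 0, 0, 1, 2], [0, 0, 0, 0, 0, 0, 0, 0, 0, 0, 0, 0, 0, 1]],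
   [[1, 0, 0, 0, 0, 0, 0, 0, 0, 2, 0, 2, 0, 0], [0, 1, 0, 0, 0, 0, 0, 0, 2, 2, 2, 2, 0, 2], [1, 2, 1, 1, 1, 0, 1, 0, 0, 0, 1, 0, 0, 2], [1, 2, 0, 1, 1, 2, 1, 1, 0, 1, 1, 0, 2, 2], [2, 0, 0, 0, 1, 1, 0, 0, 0, 0, 0, 2, 0, 0], [2, 0, 0, 0, 0, 1, 1, 0, 0, 0, 2, 2, 0, 0], [2, 0, 0, 0, 0, 0, 1, 0, 0, 2, 2, 2, 0, 0], [0, 2, 0, 0, 0, 0, 0, 1, 2, 1, 2, 2, 2, 2], [0, 0, 0, 0, 0, 0, 0, 0, 1, 0, 1, 1, 2, 1], [0, 0, 0, 0, 0, 0, 0, 0, 0, 1, 2, 1, 0, 0], [0, 0, 0, 0, 0, 0, 0, 0, 0, 0, 1, 2, 0, 0], [0, 0, 0, 0, 0, 0, 0, 0, 0, 0, 0, 1, 0, 0], [0, 0, 0, 0, 0, 0, 0, 0, 0, 0, 0, 0, 1, 2], [0, 0, 0, 0, 0, 0, 0, 0, 0, 0, 0, 0, 0, 1]],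
   [[1, 0, 0, 0, 0, 0, 0, 0, 0, 0, 0, 2, 0, 0], [0, 1, 0, 0, 0, 0, 0, 0, 2, 0, 0, 0, 2, 2], [2, 2, 1, 1, 0, 1, 1, 2, 0, 2, 1, 1, 0, 2], [2, 2, 0, 1, 0, 0, 1, 0, 0, 0, 1, 1, 2, 2], [2, 0, 0, 0, 1, 0, 0, 0, 0, 2, 0, 2, 0, 0], [0, 0, 0, 0, 0, 1, 1, 0, 0, 1, 2, 1, 0, 0], [0, 0, 0, 0, 0, 0, 1, 0, 0, 0, 2, 1, 0, 0], [0, 2, 0, 0, 0, 0, 0, 1, 2, 0, 0, 0, 1, 2], [0, 0, 0, 0, 0, 0, 0, 0, 1, 0, 0, 0, 0, 1], [0, 0, 0, 0, 0, 0, 0, 0, 0, 1, 2, 0, 0, 0], [0, 0, 0, 0, 0, 0, 0, 0, 0, 0, 1, 0, 0, 0], [0, 0, 0, 0, 0, 0, 0, 0, 0, 0, 0, 1, 0, 0], [0, 0, 0, 0, 0, 0, 0, 0, 0, 0, 0, 0, 1, 2], [0, 0, 0, 0, 0, 0, 0, 0, 0, 0, 0, 0, 0, 1]],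
   [[1, 0, 0, 0, 0, 0, 0, 0, 0, 0, 0, 2, 0, 0], [0, 1, 0, 0, 0, 0, 0, 0, 0, 0, 0, 0, 2, 1], [2, 1, 1, 0, 0, 1, 0, 2, 0, 2, 0, 1, 0, 2], [2, 2, 0, 1, 0, 0, 1, 0, 2, 0, 1, 1, 2, 1], [2, 0, 0, 0, 1, 0, 0, 0, 0, 2, 2, 2, 0, 0], [0, 0, 0, 0, 0, 1, 0, 0, 0, 1, 0, 1, 0, 0], [0, 0, 0, 0, 0, 0, 1, 0, 0, 0, 2, 1, 0, 0], [0, 0, 0, 0, 0, 0, 0, 1, 0, 0, 0, 0, 1, 0], [0, 0, 0, 0, 0, 0, 0, 0, 1, 0, 0, 0, 0, 1], [0, 0, 0, 0, 0, 0, 0, 0, 0, 1, 0, 0, 0, 0], [0, 0, 0, 0, 0, 0, 0, 0, 0, 0, 1, 0, 0, 0], [0, 0, 0, 0, 0, 0, 0, 0, 0, 0, 0, 1, 0, 0], [0, 0, 0, 0, 0, 0, 0, 0, 0, 0, 0, 0, 1, 0], [0, 0, 0, 0, 0, 0, 0, 0, 0, 0, 0, 0, 0, 1]],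
   [[1, 0, 0, 0, 2, 0, 0, 0, 0, 0, 0, 0, 0, 0], [0, 1, 2, 0, 0, 0, 0, 0, 0, 0, 0, 0, 0, 0], [0, 0, 1, 0, 0, 0, 0, 0, 0, 0, 0, 0, 0, 0], [0, 0, 0, 1, 0, 0, 0, 0, 0, 0, 0, 0, 0, 0], [0, 0, 0, 0, 1, 0, 0, 0, 0, 0, 0, 0, 0, 0], [0, 0, 0, 0, 0, 1, 0, 0, 0, 0, 0, 0, 0, 0], [0, 0, 0, 0, 0, 0, 1, 0, 0, 0, 0, 0, 0, 0], [0, 0, 0, 0, 0, 0, 0, 1, 0, 0, 0, 0, 0, 0], [0, 0, 0, 2, 0, 0, 0, 0, 1, 0, 0, 0, 0, 0], [0, 0, 0, 0, 0, 2, 0, 0, 0, 1, 0, 0, 0, 0], [0, 0, 0, 0, 2, 0, 1, 0, 0, 0, 1, 0, 0, 0], [2, 0, 0, 0, 2, 1, 0, 0, 0, 0, 0, 1, 0, 0], [0, 0, 2, 0, 0, 1, 0, 1, 0, 1, 0, 0, 1, 0], [1, 2, 2, 1, 2, 0, 2, 0, 0, 0, 1, 0, 0, 1]],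
   [[1, 0, 0, 0, 0, 0, 0, 0, 0, 0, 0, 0, 0, 0], [0, 1, 2, 0, 0, 0, 0, 0, 0, 0, 0, 0, 0, 0], [0, 0, 1, 0, 0, 0, 0, 0, 0, 0, 0, 0, 0, 0], [0, 0, 0, 1, 0, 0, 0, 0, 0, 0, 0, 0, 0, 0], [0, 0, 0, 0, 1, 0, 0, 0, 0, 0, 0, 0, 0, 0], [0, 0, 0, 0, 0, 1, 0, 0, 0, 0, 0, 0, 0, 0], [0, 0, 0, 0, 0, 0, 1, 0, 0, 0, 0, 0, 0, 0], [0, 0, 0, 0, 0, 0, 0, 1, 0, 0, 0, 0, 0, 0], [0, 0, 0, 2, 0, 0, 0, 0, 1, 0, 0, 0, 0, 0], [0, 0, 0, 0, 0, 0, 0, 0, 0, 1, 0, 0, 0, 0], [0, 0, 0, 0, 2, 0, 0, 0, 0, 0, 1, 0, 0, 0], [0, 0, 0, 0, 0, 1, 0, 0, 0, 0, 0, 1, 0, 0], [0, 0, 0, 0, 0, 0, 0, 1, 0, 0, 0, 0, 1, 0], [1, 2, 2, 0, 0, 0, 0, 0, 0, 0, 0, 0, 0, 1]],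
   [[1, 0, 0, 0, 1, 0, 0, 0, 0, 0, 0, 0, 0, 0], [0, 1, 1, 0, 0, 0, 0, 0, 0, 0, 0, 0, 0, 0], [0, 0, 1, 0, 0, 0, 0, 0, 0, 0, 0, 0, 0, 0], [0, 0, 0, 1, 0, 0, 0, 0, 0, 0, 0, 0, 0, 0], [0, 0, 0, 0, 1, 0, 0, 0, 0, 0, 0, 0, 0, 0], [0, 0, 0, 0, 0, 1, 0, 0, 0, 0, 0, 0, 0, 0], [0, 0, 0, 0, 0, 0, 1, 0, 0, 0, 0, 0, 0, 0], [0, 0, 0, 0, 0, 0, 0, 1, 0, 0, 0, 0, 0, 0], [0, 0, 0, 1, 0, 0, 0, 0, 1, 0, 0, 0, 0, 0], [0, 0, 0, 0, 0, 1, 0, 0, 0, 1, 0, 0, 0, 0], [0, 0, 0, 0, 1, 0, 2, 0, 0, 0, 1, 0, 0, 0], [1, 0, 0, 0, 2, 2, 0, 0, 0, 0, 0, 1, 0, 0], [0, 0, 1, 0, 0, 1, 0, 2, 0, 2, 0, 0, 1, 0], [2, 1, 2, 2, 2, 0, 2, 0, 0, 0, 2, 0, 0, 1]],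
   [[1, 0, 0, 0, 0, 0, 0, 0, 0, 0, 0, 0, 0, 0], [0, 1, 1, 0, 0, 0, 0, 0, 0, 0, 0, 0, 0, 0], [0, 0, 1, 0, 0, 0, 0, 0, 0, 0, 0, 0, 0, 0], [0, 0, 0, 1, 0, 0, 0, 0, 0, 0, 0, 0, 0, 0], [0, 0, 0, 0, 1, 0, 0, 0, 0, 0, 0, 0, 0, 0], [0, 0, 0, 0, 0, 1, 0, 0, 0, 0, 0, 0, 0, 0], [0, 0, 0, 0, 0, 0, 1, 0, 0, 0, 0, 0, 0, 0], [0, 0, 0, 0, 0, 0, 0, 1, 0, 0, 0, 0, 0, 0], [0, 0, 0, 1, 0, 0, 0, 0, 1, 0, 0, 0, 0, 0], [0, 0, 0, 0, 0, 0, 0, 0, 0, 1, 0, 0, 0, 0], [0, 0, 0, 0, 1, 0, 0, 0, 0, 0, 1, 0, 0, 0], [0, 0, 0, 0, 0, 2, 0, 0, 0, 0, 0, 1, 0, 0], [0, 0, 0, 0, 0, 0, 0, 2, 0, 0, 0, 0, 1, 0], [2, 1, 2, 0, 0, 0, 0, 0, 0, 0, 0, 0, 0, 1]],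
   [[1, 0, 0, 0, 0, 1, 0, 0, 0, 0, 0, 0, 0, 0], [0, 1, 0, 1, 0, 2, 0, 0, 0, 0, 0, 0, 0, 0], [0, 0, 1, 0, 0, 0, 0, 0, 0, 0, 0, 0, 0, 0], [0, 0, 0, 1, 0, 0, 0, 0, 0, 0, 0, 0, 0, 0], [0, 0, 0, 0, 1, 0, 0, 0, 0, 0, 0, 0, 0, 0], [0, 0, 0, 0, 0, 1, 0, 0, 0, 0, 0, 0, 0, 0], [0, 0, 0, 0, 2, 0, 1, 0, 0, 0, 0, 0, 0, 0], [0, 0, 2, 0, 0, 0, 0, 1, 0, 0, 0, 0, 0, 0], [0, 0, 2, 0, 2, 0, 2, 0, 1, 0, 0, 0, 0, 0], [0, 0, 0, 0, 2, 0, 0, 0, 0, 1, 0, 0, 0, 0], [1, 0, 0, 0, 0, 2, 0, 0, 0, 0, 1, 0, 0, 0], [0, 0, 0, 0, 2, 0, 1, 0, 0, 1, 0, 1, 0, 0], [1, 1, 0, 2, 0, 0, 0, 0, 0, 0, 0, 0, 1, 0], [0, 0, 2, 0, 2, 0, 2, 1, 1, 1, 0, 2, 0, 1]],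
   [[1, 0, 0, 0, 0, 0, 0, 0, 0, 0, 0, 0, 0, 0], [0, 1, 0, 1, 0, 0, 0, 0, 0, 0, 0, 0, 0, 0], [0, 0, 1, 0, 0, 0, 0, 0, 0, 0, 0, 0, 0, 0], [0, 0, 0, 1, 0, 0, 0, 0, 0, 0, 0, 0, 0, 0], [0, 0, 0, 0, 1, 0, 0, 0, 0, 0, 0, 0, 0, 0], [0, 0, 0, 0, 0, 1, 0, 0, 0, 0, 0, 0, 0, 0], [0, 0, 0, 0, 0, 0, 1, 0, 0, 0, 0, 0, 0, 0], [0, 0, 2, 0, 0, 0, 0, 1, 0, 0, 0, 0, 0, 0], [0, 0, 0, 0, 0, 0, 0, 0, 1, 0, 0, 0, 0, 0], [0, 0, 0, 0, 2, 0, 0, 0, 0, 1, 0, 0, 0, 0], [0, 0, 0, 0, 0, 0, 0, 0, 0, 0, 1, 0, 0, 0], [0, 0, 0, 0, 0, 0, 1, 0, 0, 0, 0, 1, 0, 0], [1, 1, 0, 2, 0, 0, 0, 0, 0, 0, 0, 0, 1, 0], [0, 0, 0, 0, 0, 0, 0, 0, 1, 0, 0, 0, 0, 1]],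
   [[1, 0, 0, 0, 2, 1, 0, 0, 0, 0, 0, 0, 0, 0], [0, 1, 2, 1, 0, 2, 0, 0, 0, 0, 0, 0, 0, 0], [0, 0, 1, 0, 0, 0, 0, 0, 0, 0, 0, 0, 0, 0], [0, 0, 0, 1, 0, 0, 0, 0, 0, 0, 0, 0, 0, 0], [0, 0, 0, 0, 1, 0, 0, 0, 0, 0, 0, 0, 0, 0], [0, 0, 0, 0, 0, 1, 0, 0, 0, 0, 0, 0, 0, 0], [0, 0, 0, 0, 2, 0, 1, 0, 0, 0, 0, 0, 0, 0], [0, 0, 2, 0, 0, 0, 0, 1, 0, 0, 0, 0, 0, 0], [0, 0, 2, 2, 2, 0, 2, 0, 1, 0, 0, 0, 0, 0], [0, 0, 0, 0, 2, 2, 0, 0, 0, 1, 0, 0, 0, 0], [1, 0, 0, 0, 1, 2, 1, 0, 0, 0, 1, 0, 0, 0], [2, 0, 0, 0, 1, 0, 1, 0, 0, 1, 0, 1, 0, 0], [1, 1, 1, 2, 2, 1, 0, 1, 0, 1, 0, 0, 1, 0], [2, 2, 1, 0, 2, 1, 1, 1, 1, 1, 1, 2, 0, 1]],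
   [[1, 0, 0, 0, 2, 0, 0, 0, 0, 0, 0, 0, 0, 0], [0, 1, 2, 1, 0, 0, 0, 0, 0, 0, 0, 0, 0, 0], [0, 0, 1, 0, 0, 0, 0, 0, 0, 0, 0, 0, 0, 0], [0, 0, 0, 1, 0, 0, 0, 0, 0, 0, 0, 0, 0, 0], [0, 0, 0, 0, 1, 0, 0, 0, 0, 0, 0, 0, 0, 0], [0, 0, 0, 0, 0, 1, 0, 0, 0, 0, 0, 0, 0, 0], [0, 0, 0, 0, 0, 0, 1, 0, 0, 0, 0, 0, 0, 0], [0, 0, 2, 0, 0, 0, 0, 1, 0, 0, 0, 0, 0, 0], [0, 0, 0, 2, 0, 0, 0, 0, 1, 0, 0, 0, 0, 0], [0, 0, 0, 0, 2, 2, 0, 0, 0, 1, 0, 0, 0, 0], [0, 0, 0, 0, 2, 0, 1, 0, 0, 0, 1, 0, 0, 0], [2, 0, 0, 0, 2, 1, 1, 0, 0, 0, 0, 1, 0, 0], [1, 1, 1, 2, 2, 1, 0, 1, 0, 1, 0, 0, 1, 0], [1, 2, 2, 0, 2, 0, 2, 0, 1, 0, 1, 0, 0, 1]],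
   [[1, 0, 0, 0, 0, 0, 0, 0, 0, 0, 0, 0, 0, 0], [0, 1, 2, 1, 0, 0, 0, 0, 0, 0, 0, 0, 0, 0], [0, 0, 1, 0, 0, 0, 0, 0, 0, 0, 0, 0, 0, 0], [0, 0, 0, 1, 0, 0, 0, 0, 0, 0, 0, 0, 0, 0], [0, 0, 0, 0, 1, 0, 0, 0, 0, 0, 0, 0, 0, 0], [0, 0, 0, 0, 0, 1, 0, 0, 0, 0, 0, 0, 0, 0], [0, 0, 0, 0, 0, 0, 1, 0, 0, 0, 0, 0, 0, 0], [0, 0, 2, 0, 0, 0, 0, 1, 0, 0, 0, 0, 0, 0], [0, 0, 0, 2, 0, 0, 0, 0, 1, 0, 0, 0, 0, 0], [0, 0, 0, 0, 2, 0, 0, 0, 0, 1, 0, 0, 0, 0], [0, 0, 0, 0, 2, 0, 0, 0, 0, 0, 1, 0, 0, 0], [0, 0, 0, 0, 0, 1, 1, 0, 0, 0, 0, 1, 0, 0], [1, 1, 2, 2, 0, 0, 0, 1, 0, 0, 0, 0, 1, 0], [1, 2, 2, 2, 0, 0, 0, 0, 1, 0, 0, 0, 0, 1]],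
   [[1, 0, 0, 0, 1, 1, 0, 0, 0, 0, 0, 0, 0, 0], [0, 1, 1, 1, 0, 2, 0, 0, 0, 0, 0, 0, 0, 0], [0, 0, 1, 0, 0, 0, 0, 0, 0, 0, 0, 0, 0, 0], [0, 0, 0, 1, 0, 0, 0, 0, 0, 0, 0, 0, 0, 0], [0, 0, 0, 0, 1, 0, 0, 0, 0, 0, 0, 0, 0, 0], [0, 0, 0, 0, 0, 1, 0, 0, 0, 0, 0, 0, 0, 0], [0, 0, 0, 0, 2, 0, 1, 0, 0, 0, 0, 0, 0, 0], [0, 0, 2, 0, 0, 0, 0, 1, 0, 0, 0, 0, 0, 0], [0, 0, 2, 1, 2, 0, 2, 0, 1, 0, 0, 0, 0, 0], [0, 0, 0, 0, 2, 1, 0, 0, 0, 1, 0, 0, 0, 0], [1, 0, 0, 0, 2, 2, 2, 0, 0, 0, 1, 0, 0, 0], [1, 0, 0, 0, 1, 0, 1, 0, 0, 1, 0, 1, 0, 0], [1, 1, 2, 2, 1, 1, 0, 2, 0, 2, 0, 0, 1, 0], [1, 1, 1, 0, 2, 2, 1, 1, 1, 1, 2, 2, 0, 1]],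
   [[1, 0, 0, 0, 1, 0, 0, 0, 0, 0, 0, 0, 0, 0], [0, 1, 1, 1, 0, 0, 0, 0, 0, 0, 0, 0, 0, 0], [0, 0, 1, 0, 0, 0, 0, 0, 0, 0, 0, 0, 0, 0], [0, 0, 0, 1, 0, 0, 0, 0, 0, 0, 0, 0, 0, 0], [0, 0, 0, 0, 1, 0, 0, 0, 0, 0, 0, 0, 0, 0], [0, 0, 0, 0, 0, 1, 0, 0, 0, 0, 0, 0, 0, 0], [0, 0, 0, 0, 0, 0, 1, 0, 0, 0, 0, 0, 0, 0], [0, 0, 2, 0, 0, 0, 0, 1, 0, 0, 0, 0, 0, 0], [0, 0, 0, 1, 0, 0, 0, 0, 1, 0, 0, 0, 0, 0], [0, 0, 0, 0, 2, 1, 0, 0, 0, 1, 0, 0, 0, 0], [0, 0, 0, 0, 1, 0, 2, 0, 0, 0, 1, 0, 0, 0], [1, 0, 0, 0, 2, 2, 1, 0, 0, 0, 0, 1, 0, 0], [1, 1, 2, 2, 1, 1, 0, 2, 0, 2, 0, 0, 1, 0], [2, 1, 2, 0, 2, 0, 2, 0, 1, 0, 2, 0, 0, 1]],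
   [[1, 0, 0, 0, 0, 0, 0, 0, 0, 0, 0, 0, 0, 0], [0, 1, 1, 1, 0, 0, 0, 0, 0, 0, 0, 0, 0, 0], [0, 0, 1, 0, 0, 0, 0, 0, 0, 0, 0, 0, 0, 0], [0, 0, 0, 1, 0, 0, 0, 0, 0, 0, 0, 0, 0, 0], [0, 0, 0, 0, 1, 0, 0, 0, 0, 0, 0, 0, 0, 0], [0, 0, 0, 0, 0, 1, 0, 0, 0, 0, 0, 0, 0, 0], [0, 0, 0, 0, 0, 0, 1, 0, 0, 0, 0, 0, 0, 0], [0, 0, 2, 0, 0, 0, 0, 1, 0, 0, 0, 0, 0, 0], [0, 0, 0, 1, 0, 0, 0, 0, 1, 0, 0, 0, 0, 0], [0, 0, 0, 0, 2, 0, 0, 0, 0, 1, 0, 0, 0, 0], [0, 0, 0, 0, 1, 0, 0, 0, 0, 0, 1, 0, 0, 0], [0, 0, 0, 0, 0, 2, 1, 0, 0, 0, 0, 1, 0, 0], [1, 1, 1, 2, 0, 0, 0, 2, 0, 0, 0, 0, 1, 0], [2, 1, 2, 1, 0, 0, 0, 0, 1, 0, 0, 0, 0, 1]],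
   [[1, 0, 0, 0, 0, 2, 0, 0, 0, 0, 0, 0, 0, 0], [0, 1, 0, 2, 0, 1, 0, 0, 0, 0, 0, 0, 0, 0], [0, 0, 1, 0, 0, 0, 0, 0, 0, 0, 0, 0, 0, 0], [0, 0, 0, 1, 0, 0, 0, 0, 0, 0, 0, 0, 0, 0], [0, 0, 0, 0, 1, 0, 0, 0, 0, 0, 0, 0, 0, 0], [0, 0, 0, 0, 0, 1, 0, 0, 0, 0, 0, 0, 0, 0], [0, 0, 0, 0, 1, 0, 1, 0, 0, 0, 0, 0, 0, 0], [0, 0, 1, 0, 0, 0, 0, 1, 0, 0, 0, 0, 0, 0], [0, 0, 1, 0, 2, 0, 1, 0, 1, 0, 0, 0, 0, 0], [0, 0, 0, 0, 1, 0, 0, 0, 0, 1, 0, 0, 0, 0], [2, 0, 0, 0, 0, 2, 0, 0, 0, 0, 1, 0, 0, 0], [0, 0, 0, 0, 2, 0, 2, 0, 0, 2, 0, 1, 0, 0], [2, 2, 0, 2, 0, 0, 0, 0, 0, 0, 0, 0, 1, 0], [0, 0, 2, 0, 1, 0, 2, 2, 2, 1, 0, 1, 0, 1]],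
   [[1, 0, 0, 0, 0, 0, 0, 0, 0, 0, 0, 0, 0, 0], [0, 1, 0, 2, 0, 0, 0, 0, 0, 0, 0, 0, 0, 0], [0, 0, 1, 0, 0, 0, 0, 0, 0, 0, 0, 0, 0, 0], [0, 0, 0, 1, 0, 0, 0, 0, 0, 0, 0, 0, 0, 0], [0, 0, 0, 0, 1, 0, 0, 0, 0, 0, 0, 0, 0, 0], [0, 0, 0, 0, 0, 1, 0, 0, 0, 0, 0, 0, 0, 0], [0, 0, 0, 0, 0, 0, 1, 0, 0, 0, 0, 0, 0, 0], [0, 0, 1, 0, 0, 0, 0, 1, 0, 0, 0, 0, 0, 0], [0, 0, 0, 0, 0, 0, 0, 0, 1, 0, 0, 0, 0, 0], [0, 0, 0, 0, 1, 0, 0, 0, 0, 1, 0, 0, 0, 0], [0, 0, 0, 0, 0, 0, 0, 0, 0, 0, 1, 0, 0, 0], [0, 0, 0, 0, 0, 0, 2, 0, 0, 0, 0, 1, 0, 0], [2, 2, 0, 2, 0, 0, 0, 0, 0, 0, 0, 0, 1, 0], [0, 0, 0, 0, 0, 0, 0, 0, 2, 0, 0, 0, 0, 1]],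
   [[1, 0, 0, 0, 2, 2, 0, 0, 0, 0, 0, 0, 0, 0], [0, 1, 2, 2, 0, 1, 0, 0, 0, 0, 0, 0, 0, 0], [0, 0, 1, 0, 0, 0, 0, 0, 0, 0, 0, 0, 0, 0], [0, 0, 0, 1, 0, 0, 0, 0, 0, 0, 0, 0, 0, 0], [0, 0, 0, 0, 1, 0, 0, 0, 0, 0, 0, 0, 0, 0], [0, 0, 0, 0, 0, 1, 0, 0, 0, 0, 0, 0, 0, 0], [0, 0, 0, 0, 1, 0, 1, 0, 0, 0, 0, 0, 0, 0], [0, 0, 1, 0, 0, 0, 0, 1, 0, 0, 0, 0, 0, 0], [0, 0, 1, 2, 2, 0, 1, 0, 1, 0, 0, 0, 0, 0], [0, 0, 0, 0, 1, 2, 0, 0, 0, 1, 0, 0, 0, 0], [2, 0, 0, 0, 0, 2, 1, 0, 0, 0, 1, 0, 0, 0], [2, 0, 0, 0, 1, 2, 2, 0, 0, 2, 0, 1, 0, 0], [2, 2, 0, 2, 1, 1, 0, 1, 0, 1, 0, 0, 1, 0], [0, 2, 1, 2, 2, 0, 1, 2, 2, 1, 1, 1, 0, 1]],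
   [[1, 0, 0, 0, 2, 0, 0, 0, 0, 0, 0, 0, 0, 0], [0, 1, 2, 2, 0, 0, 0, 0, 0, 0, 0, 0, 0, 0], [0, 0, 1, 0, 0, 0, 0, 0, 0, 0, 0, 0, 0, 0], [0, 0, 0, 1, 0, 0, 0, 0, 0, 0, 0, 0, 0, 0], [0, 0, 0, 0, 1, 0, 0, 0, 0, 0, 0, 0, 0, 0], [0, 0, 0, 0, 0, 1, 0, 0, 0, 0, 0, 0, 0, 0], [0, 0, 0, 0, 0, 0, 1, 0, 0, 0, 0, 0, 0, 0], [0, 0, 1, 0, 0, 0, 0, 1, 0, 0, 0, 0, 0, 0], [0, 0, 0, 2, 0, 0, 0, 0, 1, 0, 0, 0, 0, 0], [0, 0, 0, 0, 1, 2, 0, 0, 0, 1, 0, 0, 0, 0], [0, 0, 0, 0, 2, 0, 1, 0, 0, 0, 1, 0, 0, 0], [2, 0, 0, 0, 2, 1, 2, 0, 0, 0, 0, 1, 0, 0], [2, 2, 0, 2, 1, 1, 0, 1, 0, 1, 0, 0, 1, 0], [1, 2, 2, 2, 2, 0, 2, 0, 2, 0, 1, 0, 0, 1]],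
   [[1, 0, 0, 0, 0, 0, 0, 0, 0, 0, 0, 0, 0, 0], [0, 1, 2, 2, 0, 0, 0, 0, 0, 0, 0, 0, 0, 0], [0, 0, 1, 0, 0, 0, 0, 0, 0, 0, 0, 0, 0, 0], [0, 0, 0, 1, 0, 0, 0, 0, 0, 0, 0, 0, 0, 0], [0, 0, 0, 0, 1, 0, 0, 0, 0, 0, 0, 0, 0, 0], [0, 0, 0, 0, 0, 1, 0, 0, 0, 0, 0, 0, 0, 0], [0, 0, 0, 0, 0, 0, 1, 0, 0, 0, 0, 0, 0, 0], [0, 0, 1, 0, 0, 0, 0, 1, 0, 0, 0, 0, 0, 0], [0, 0, 0, 2, 0, 0, 0, 0, 1, 0, 0, 0, 0, 0], [0, 0, 0, 0, 1, 0, 0, 0, 0, 1, 0, 0, 0, 0], [0, 0, 0, 0, 2, 0, 0, 0, 0, 0, 1, 0, 0, 0], [0, 0, 0, 0, 0, 1, 2, 0, 0, 0, 0, 1, 0, 0], [2, 2, 1, 2, 0, 0, 0, 1, 0, 0, 0, 0, 1, 0], [1, 2, 2, 1, 0, 0, 0, 0, 2, 0, 0, 0, 0, 1]],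
   [[1, 0, 0, 0, 1, 2, 0, 0, 0, 0, 0, 0, 0, 0], [0, 1, 1, 2, 0, 1, 0, 0, 0, 0, 0, 0, 0, 0], [0, 0, 1, 0, 0, 0, 0, 0, 0, 0, 0, 0, 0, 0], [0, 0, 0, 1, 0, 0, 0, 0, 0, 0, 0, 0, 0, 0], [0, 0, 0, 0, 1, 0, 0, 0, 0, 0, 0, 0, 0, 0], [0, 0, 0, 0, 0, 1, 0, 0, 0, 0, 0, 0, 0, 0], [0, 0, 0, 0, 1, 0, 1, 0, 0, 0, 0, 0, 0, 0], [0, 0, 1, 0, 0, 0, 0, 1, 0, 0, 0, 0, 0, 0], [0, 0, 1, 1, 2, 0, 1, 0, 1, 0, 0, 0, 0, 0], [0, 0, 0, 0, 1, 1, 0, 0, 0, 1, 0, 0, 0, 0], [2, 0, 0, 0, 0, 2, 2, 0, 0, 0, 1, 0, 0, 0], [1, 0, 0, 0, 1, 1, 2, 0, 0, 2, 0, 1, 0, 0], [2, 2, 0, 2, 2, 1, 0, 2, 0, 2, 0, 0, 1, 0], [0, 1, 1, 1, 2, 0, 1, 2, 2, 1, 2, 1, 0, 1]],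
   [[1, 0, 0, 0, 1, 0, 0, 0, 0, 0, 0, 0, 0, 0], [0, 1, 1, 2, 0, 0, 0, 0, 0, 0, 0, 0, 0, 0], [0, 0, 1, 0, 0, 0, 0, 0, 0, 0, 0, 0, 0, 0], [0, 0, 0, 1, 0, 0, 0, 0, 0, 0, 0, 0, 0, 0], [0, 0, 0, 0, 1, 0, 0, 0, 0, 0, 0, 0, 0, 0], [0, 0, 0, 0, 0, 1, 0, 0, 0, 0, 0, 0, 0, 0], [0, 0, 0, 0, 0, 0, 1, 0, 0, 0, 0, 0, 0, 0], [0, 0, 1, 0, 0, 0, 0, 1, 0, 0, 0, 0, 0, 0], [0, 0, 0, 1, 0, 0, 0, 0, 1, 0, 0, 0, 0, 0], [0, 0, 0, 0, 1, 1, 0, 0, 0, 1, 0, 0, 0, 0], [0, 0, 0, 0, 1, 0, 2, 0, 0, 0, 1, 0, 0, 0], [1, 0, 0, 0, 2, 2, 2, 0, 0, 0, 0, 1, 0, 0], [2, 2, 0, 2, 2, 1, 0, 2, 0, 2, 0, 0, 1, 0], [2, 1, 2, 1, 2, 0, 2, 0, 2, 0, 2, 0, 0, 1]],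
   [[1, 0, 0, 0, 0, 0, 0, 0, 0, 0, 0, 0, 0, 0], [0, 1, 1, 2, 0, 0, 0, 0, 0, 0, 0, 0, 0, 0], [0, 0, 1, 0, 0, 0, 0, 0, 0, 0, 0, 0, 0, 0], [0, 0, 0, 1, 0, 0, 0, 0, 0, 0, 0, 0, 0, 0], [0, 0, 0, 0, 1, 0, 0, 0, 0, 0, 0, 0, 0, 0], [0, 0, 0, 0, 0, 1, 0, 0, 0, 0, 0, 0, 0, 0], [0, 0, 0, 0, 0, 0, 1, 0, 0, 0, 0, 0, 0, 0], [0, 0, 1, 0, 0, 0, 0, 1, 0, 0, 0, 0, 0, 0], [0, 0, 0, 1, 0, 0, 0, 0, 1, 0, 0, 0, 0, 0], [0, 0, 0, 0, 1, 0, 0, 0, 0, 1, 0, 0, 0, 0], [0, 0, 0, 0, 1, 0, 0, 0, 0, 0, 1, 0, 0, 0], [0, 0, 0, 0, 0, 2, 2, 0, 0, 0, 0, 1, 0, 0], [2, 2, 2, 2, 0, 0, 0, 2, 0, 0, 0, 0, 1, 0], [2, 1, 2, 2, 0, 0, 0, 0, 2, 0, 0, 0, 0, 1]],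
   [[1, 0, 0, 0, 0, 1, 1, 0, 0, 0, 0, 0, 0, 0], [0, 1, 0, 1, 0, 1, 1, 1, 0, 0, 0, 0, 0, 0], [0, 0, 1, 0, 0, 0, 0, 0, 0, 0, 0, 0, 0, 0], [0, 0, 1, 1, 0, 0, 0, 0, 0, 0, 0, 0, 0, 0], [0, 0, 0, 0, 1, 0, 0, 0, 0, 0, 0, 0, 0, 0], [0, 0, 0, 0, 1, 1, 0, 0, 0, 0, 0, 0, 0, 0], [0, 0, 0, 0, 0, 1, 1, 0, 0, 0, 0, 0, 0, 0], [0, 0, 0, 1, 1, 2, 0, 1, 0, 0, 0, 0, 0, 0], [0, 1, 2, 2, 0, 0, 0, 2, 1, 0, 0, 0, 0, 0], [1, 0, 0, 0, 2, 2, 2, 0, 0, 1, 0, 0, 0, 0], [0, 0, 0, 0, 2, 0, 0, 0, 0, 2, 1, 0, 0, 0], [0, 0, 0, 0, 1, 2, 1, 0, 0, 1, 2, 1, 0, 0], [1, 0, 2, 0, 1, 1, 2, 0, 2, 1, 2, 2, 1, 0], [1, 0, 1, 2, 0, 0, 0, 1, 1, 0, 0, 0, 2, 1]],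
   [[1, 0, 0, 0, 2, 1, 0, 0, 0, 0, 0, 0, 0, 0], [0, 1, 0, 0, 0, 2, 0, 1, 0, 0, 0, 0, 0, 0], [0, 0, 1, 0, 0, 0, 0, 0, 0, 0, 0, 0, 0, 0], [0, 0, 1, 1, 0, 0, 0, 0, 0, 0, 0, 0, 0, 0], [0, 0, 0, 0, 1, 0, 0, 0, 0, 0, 0, 0, 0, 0], [0, 0, 0, 0, 0, 1, 0, 0, 0, 0, 0, 0, 0, 0], [0, 0, 0, 0, 2, 1, 1, 0, 0, 0, 0, 0, 0, 0], [0, 0, 0, 0, 0, 0, 0, 1, 0, 0, 0, 0, 0, 0], [0, 1, 2, 0, 2, 2, 2, 2, 1, 0, 0, 0, 0, 0], [0, 0, 0, 0, 0, 2, 0, 0, 0, 1, 0, 0, 0, 0], [1, 0, 0, 0, 2, 0, 1, 0, 0, 2, 1, 0, 0, 0], [2, 0, 0, 0, 2, 2, 0, 0, 0, 1, 0, 1, 0, 0], [0, 0, 2, 0, 0, 1, 0, 0, 0, 1, 0, 0, 1, 0], [1, 0, 1, 1, 1, 1, 2, 1, 0, 0, 1, 2, 2, 1]],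
   [[1, 0, 0, 0, 2, 1, 0, 0, 0, 0, 0, 0, 0, 0], [0, 1, 0, 0, 0, 2, 0, 0, 0, 0, 0, 0, 0, 0], [0, 0, 1, 0, 0, 0, 0, 0, 0, 0, 0, 0, 0, 0], [0, 0, 0, 1, 0, 0, 0, 0, 0, 0, 0, 0, 0, 0], [0, 0, 0, 0, 1, 0, 0, 0, 0, 0, 0, 0, 0, 0], [0, 0, 0, 0, 0, 1, 0, 0, 0, 0, 0, 0, 0, 0], [0, 0, 0, 0, 2, 0, 1, 0, 0, 0, 0, 0, 0, 0], [0, 0, 0, 0, 0, 0, 0, 1, 0, 0, 0, 0, 0, 0], [0, 0, 2, 0, 2, 0, 2, 0, 1, 0, 0, 0, 0, 0], [0, 0, 0, 0, 0, 2, 0, 0, 0, 1, 0, 0, 0, 0], [1, 0, 0, 0, 2, 2, 1, 0, 0, 0, 1, 0, 0, 0], [2, 0, 0, 0, 2, 2, 0, 0, 0, 1, 0, 1, 0, 0], [0, 0, 2, 0, 0, 1, 0, 0, 0, 1, 0, 0, 1, 0], [1, 0, 0, 1, 1, 2, 2, 1, 0, 1, 1, 2, 0, 1]],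
   [[1, 0, 0, 0, 2, 0, 0, 0, 0, 0, 0, 0, 0, 0], [0, 1, 0, 0, 0, 0, 0, 0, 0, 0, 0, 0, 0, 0], [0, 0, 1, 0, 0, 0, 0, 0, 0, 0, 0, 0, 0, 0], [0, 0, 0, 1, 0, 0, 0, 0, 0, 0, 0, 0, 0, 0], [0, 0, 0, 0, 1, 0, 0, 0, 0, 0, 0, 0, 0, 0], [0, 0, 0, 0, 0, 1, 0, 0, 0, 0, 0, 0, 0, 0], [0, 0, 0, 0, 0, 0, 1, 0, 0, 0, 0, 0, 0, 0], [0, 0, 0, 0, 0, 0, 0, 1, 0, 0, 0, 0, 0, 0], [0, 0, 0, 0, 0, 0, 0, 0, 1, 0, 0, 0, 0, 0], [0, 0, 0, 0, 0, 2, 0, 0, 0, 1, 0, 0, 0, 0], [0, 0, 0, 0, 0, 0, 1, 0, 0, 0, 1, 0, 0, 0], [2, 0, 0, 0, 2, 0, 0, 0, 0, 0, 0, 1, 0, 0], [0, 0, 2, 0, 0, 1, 0, 0, 0, 1, 0, 0, 1, 0], [0, 0, 0, 1, 0, 0, 2, 0, 0, 0, 1, 0, 0, 1]],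
   [[1, 0, 0, 0, 2, 1, 1, 0, 0, 0, 0, 0, 0, 0], [0, 1, 2, 1, 0, 1, 1, 1, 0, 0, 0, 0, 0, 0], [0, 0, 1, 0, 0, 0, 0, 0, 0, 0, 0, 0, 0, 0], [0, 0, 1, 1, 0, 0, 0, 0, 0, 0, 0, 0, 0, 0], [0, 0, 0, 0, 1, 0, 0, 0, 0, 0, 0, 0, 0, 0], [0, 0, 0, 0, 1, 1, 0, 0, 0, 0, 0, 0, 0, 0], [0, 0, 0, 0, 0, 1, 1, 0, 0, 0, 0, 0, 0, 0], [0, 0, 0, 1, 1, 2, 0, 1, 0, 0, 0, 0, 0, 0], [0, 1, 1, 1, 0, 0, 0, 2, 1, 0, 0, 0, 0, 0], [1, 0, 0, 0, 1, 1, 2, 0, 0, 1, 0, 0, 0, 0], [0, 0, 0, 0, 1, 1, 1, 0, 0, 2, 1, 0, 0, 0], [2, 0, 0, 0, 1, 2, 0, 0, 0, 1, 2, 1, 0, 0], [2, 0, 1, 1, 2, 0, 1, 1, 2, 2, 2, 2, 1, 0], [2, 2, 1, 2, 1, 2, 2, 0, 1, 2, 1, 0, 2, 1]],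
   [[1, 0, 0, 0, 1, 1, 0, 0, 0, 0, 0, 0, 0, 0], [0, 1, 2, 0, 0, 2, 0, 1, 0, 0, 0, 0, 0, 0], [0, 0, 1, 0, 0, 0, 0, 0, 0, 0, 0, 0, 0, 0], [0, 0, 1, 1, 0, 0, 0, 0, 0, 0, 0, 0, 0, 0], [0, 0, 0, 0, 1, 0, 0, 0, 0, 0, 0, 0, 0, 0], [0, 0, 0, 0, 0, 1, 0, 0, 0, 0, 0, 0, 0, 0], [0, 0, 0, 0, 2, 1, 1, 0, 0, 0, 0, 0, 0, 0], [0, 0, 0, 0, 0, 0, 0, 1, 0, 0, 0, 0, 0, 0], [0, 1, 1, 2, 2, 2, 2, 2, 1, 0, 0, 0, 0, 0], [0, 0, 0, 0, 0, 1, 0, 0, 0, 1, 0, 0, 0, 0], [1, 0, 0, 0, 0, 1, 2, 0, 0, 2, 1, 0, 0, 0], [1, 0, 0, 0, 2, 2, 0, 0, 0, 1, 0, 1, 0, 0], [0, 0, 1, 0, 0, 1, 0, 1, 0, 2, 0, 0, 1, 0], [0, 2, 1, 2, 2, 2, 2, 0, 0, 2, 2, 2, 2, 1]],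
   [[1, 0, 0, 0, 1, 1, 0, 0, 0, 0, 0, 0, 0, 0], [0, 1, 2, 0, 0, 2, 0, 0, 0, 0, 0, 0, 0, 0], [0, 0, 1, 0, 0, 0, 0, 0, 0, 0, 0, 0, 0, 0], [0, 0, 0, 1, 0, 0, 0, 0, 0, 0, 0, 0, 0, 0], [0, 0, 0, 0, 1, 0, 0, 0, 0, 0, 0, 0, 0, 0], [0, 0, 0, 0, 0, 1, 0, 0, 0, 0, 0, 0, 0, 0], [0, 0, 0, 0, 2, 0, 1, 0, 0, 0, 0, 0, 0, 0], [0, 0, 0, 0, 0, 0, 0, 1, 0, 0, 0, 0, 0, 0], [0, 0, 2, 2, 2, 0, 2, 0, 1, 0, 0, 0, 0, 0], [0, 0, 0, 0, 0, 1, 0, 0, 0, 1, 0, 0, 0, 0], [1, 0, 0, 0, 0, 2, 2, 0, 0, 0, 1, 0, 0, 0], [1, 0, 0, 0, 2, 2, 0, 0, 0, 1, 0, 1, 0, 0], [0, 0, 1, 0, 0, 1, 0, 1, 0, 2, 0, 0, 1, 0], [0, 2, 2, 2, 2, 0, 2, 1, 0, 1, 2, 2, 0, 1]],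
   [[1, 0, 0, 0, 1, 0, 0, 0, 0, 0, 0, 0, 0, 0], [0, 1, 2, 0, 0, 0, 0, 0, 0, 0, 0, 0, 0, 0], [0, 0, 1, 0, 0, 0, 0, 0, 0, 0, 0, 0, 0, 0], [0, 0, 0, 1, 0, 0, 0, 0, 0, 0, 0, 0, 0, 0], [0, 0, 0, 0, 1, 0, 0, 0, 0, 0, 0, 0, 0, 0], [0, 0, 0, 0, 0, 1, 0, 0, 0, 0, 0, 0, 0, 0], [0, 0, 0, 0, 0, 0, 1, 0, 0, 0, 0, 0, 0, 0], [0, 0, 0, 0, 0, 0, 0, 1, 0, 0, 0, 0, 0, 0], [0, 0, 0, 2, 0, 0, 0, 0, 1, 0, 0, 0, 0, 0], [0, 0, 0, 0, 0, 1, 0, 0, 0, 1, 0, 0, 0, 0], [0, 0, 0, 0, 2, 0, 2, 0, 0, 0, 1, 0, 0, 0], [1, 0, 0, 0, 2, 1, 0, 0, 0, 0, 0, 1, 0, 0], [0, 0, 1, 0, 0, 1, 0, 1, 0, 2, 0, 0, 1, 0], [1, 2, 2, 2, 1, 0, 2, 0, 0, 0, 2, 0, 0, 1]],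
   [[1, 0, 0, 0, 1, 1, 1, 0, 0, 0, 0, 0, 0, 0], [0, 1, 1, 1, 0, 1, 1, 1, 0, 0, 0, 0, 0, 0], [0, 0, 1, 0, 0, 0, 0, 0, 0, 0, 0, 0, 0, 0], [0, 0, 1, 1, 0, 0, 0, 0, 0, 0, 0, 0, 0, 0], [0, 0, 0, 0, 1, 0, 0, 0, 0, 0, 0, 0, 0, 0], [0, 0, 0, 0, 1, 1, 0, 0, 0, 0, 0, 0, 0, 0], [0, 0, 0, 0, 0, 1, 1, 0, 0, 0, 0, 0, 0, 0], [0, 0, 0, 1, 1, 2, 0, 1, 0, 0, 0, 0, 0, 0], [0, 1, 0, 0, 0, 0, 0, 2, 1, 0, 0, 0, 0, 0], [1, 0, 0, 0, 0, 0, 2, 0, 0, 1, 0, 0, 0, 0], [0, 0, 0, 0, 0, 2, 2, 0, 0, 2, 1, 0, 0, 0], [1, 0, 0, 0, 2, 2, 2, 0, 0, 1, 2, 1, 0, 0], [0, 0, 0, 2, 2, 1, 0, 2, 2, 0, 2, 2, 1, 0], [0, 1, 2, 2, 0, 2, 2, 2, 1, 1, 2, 0, 2, 1]],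
   [[1, 0, 0, 0, 0, 1, 0, 0, 0, 0, 0, 0, 0, 0], [0, 1, 1, 0, 0, 2, 0, 1, 0, 0, 0, 0, 0, 0], [0, 0, 1, 0, 0, 0, 0, 0, 0, 0, 0, 0, 0, 0], [0, 0, 1, 1, 0, 0, 0, 0, 0, 0, 0, 0, 0, 0], [0, 0, 0, 0, 1, 0, 0, 0, 0, 0, 0, 0, 0, 0], [0, 0, 0, 0, 0, 1, 0, 0, 0, 0, 0, 0, 0, 0], [0, 0, 0, 0, 2, 1, 1, 0, 0, 0, 0, 0, 0, 0], [0, 0, 0, 0, 0, 0, 0, 1, 0, 0, 0, 0, 0, 0], [0, 1, 0, 1, 2, 2, 2, 2, 1, 0, 0, 0, 0, 0], [0, 0, 0, 0, 0, 0, 0, 0, 0, 1, 0, 0, 0, 0], [1, 0, 0, 0, 1, 2, 0, 0, 0, 2, 1, 0, 0, 0], [0, 0, 0, 0, 0, 2, 0, 0, 0, 1, 0, 1, 0, 0], [0, 0, 0, 0, 0, 0, 0, 2, 0, 0, 0, 0, 1, 0], [2, 1, 2, 0, 0, 1, 0, 2, 0, 1, 0, 2, 2, 1]],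
   [[1, 0, 0, 0, 0, 1, 0, 0, 0, 0, 0, 0, 0, 0], [0, 1, 1, 0, 0, 2, 0, 0, 0, 0, 0, 0, 0, 0], [0, 0, 1, 0, 0, 0, 0, 0, 0, 0, 0, 0, 0, 0], [0, 0, 0, 1, 0, 0, 0, 0, 0, 0, 0, 0, 0, 0], [0, 0, 0, 0, 1, 0, 0, 0, 0, 0, 0, 0, 0, 0], [0, 0, 0, 0, 0, 1, 0, 0, 0, 0, 0, 0, 0, 0], [0, 0, 0, 0, 2, 0, 1, 0, 0, 0, 0, 0, 0, 0], [0, 0, 0, 0, 0, 0, 0, 1, 0, 0, 0, 0, 0, 0], [0, 0, 2, 1, 2, 0, 2, 0, 1, 0, 0, 0, 0, 0], [0, 0, 0, 0, 0, 0, 0, 0, 0, 1, 0, 0, 0, 0], [1, 0, 0, 0, 1, 2, 0, 0, 0, 0, 1, 0, 0, 0], [0, 0, 0, 0, 0, 2, 0, 0, 0, 1, 0, 1, 0, 0], [0, 0, 0, 0, 0, 0, 0, 2, 0, 0, 0, 0, 1, 0], [2, 1, 2, 0, 0, 1, 0, 1, 0, 1, 0, 2, 0, 1]],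
   [[1, 0, 0, 0, 1, 2, 1, 0, 0, 0, 0, 0, 0, 0], [0, 1, 1, 2, 2, 0, 1, 1, 0, 0, 0, 0, 0, 0], [0, 0, 1, 0, 0, 0, 0, 0, 0, 0, 0, 0, 0, 0], [0, 0, 1, 1, 0, 0, 0, 0, 0, 0, 0, 0, 0, 0], [0, 0, 0, 0, 1, 0, 0, 0, 0, 0, 0, 0, 0, 0], [0, 0, 0, 0, 1, 1, 0, 0, 0, 0, 0, 0, 0, 0], [0, 0, 0, 0, 2, 1, 1, 0, 0, 0, 0, 0, 0, 0], [0, 0, 2, 1, 1, 2, 0, 1, 0, 0, 0, 0, 0, 0], [0, 1, 1, 2, 2, 2, 2, 2, 1, 0, 0, 0, 0, 0], [1, 0, 0, 0, 1, 2, 2, 0, 0, 1, 0, 0, 0, 0], [1, 0, 0, 0, 1, 0, 1, 0, 0, 2, 1, 0, 0, 0], [1, 0, 0, 0, 2, 2, 1, 0, 0, 2, 2, 1, 0, 0], [2, 1, 1, 0, 1, 0, 1, 1, 2, 1, 2, 2, 1, 0], [2, 1, 2, 2, 1, 1, 0, 1, 2, 0, 1, 2, 2, 1]],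
   [[1, 0, 0, 0, 2, 2, 0, 0, 0, 0, 0, 0, 0, 0], [0, 1, 1, 1, 0, 1, 0, 1, 0, 0, 0, 0, 0, 0], [0, 0, 1, 0, 0, 0, 0, 0, 0, 0, 0, 0, 0, 0], [0, 0, 1, 1, 0, 0, 0, 0, 0, 0, 0, 0, 0, 0], [0, 0, 0, 0, 1, 0, 0, 0, 0, 0, 0, 0, 0, 0], [0, 0, 0, 0, 0, 1, 0, 0, 0, 0, 0, 0, 0, 0], [0, 0, 0, 0, 1, 1, 1, 0, 0, 0, 0, 0, 0, 0], [0, 0, 2, 0, 0, 0, 0, 1, 0, 0, 0, 0, 0, 0], [0, 1, 1, 0, 2, 1, 1, 2, 1, 0, 0, 0, 0, 0], [0, 0, 0, 0, 2, 2, 0, 0, 0, 1, 0, 0, 0, 0], [2, 0, 0, 0, 1, 0, 1, 0, 0, 2, 1, 0, 0, 0], [2, 0, 0, 0, 0, 2, 1, 0, 0, 2, 0, 1, 0, 0], [1, 1, 1, 2, 2, 1, 0, 1, 0, 1, 0, 0, 1, 0], [2, 1, 2, 1, 1, 2, 0, 1, 1, 0, 1, 1, 2, 1]],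
   [[1, 0, 0, 0, 2, 2, 0, 0, 0, 0, 0, 0, 0, 0], [0, 1, 0, 1, 0, 1, 0, 0, 0, 0, 0, 0, 0, 0], [0, 0, 1, 0, 0, 0, 0, 0, 0, 0, 0, 0, 0, 0], [0, 0, 0, 1, 0, 0, 0, 0, 0, 0, 0, 0, 0, 0], [0, 0, 0, 0, 1, 0, 0, 0, 0, 0, 0, 0, 0, 0], [0, 0, 0, 0, 0, 1, 0, 0, 0, 0, 0, 0, 0, 0], [0, 0, 0, 0, 1, 0, 1, 0, 0, 0, 0, 0, 0, 0], [0, 0, 2, 0, 0, 0, 0, 1, 0, 0, 0, 0, 0, 0], [0, 0, 1, 0, 2, 0, 1, 0, 1, 0, 0, 0, 0, 0], [0, 0, 0, 0, 2, 2, 0, 0, 0, 1, 0, 0, 0, 0], [2, 0, 0, 0, 1, 2, 1, 0, 0, 0, 1, 0, 0, 0], [2, 0, 0, 0, 0, 1, 1, 0, 0, 2, 0, 1, 0, 0], [1, 1, 2, 2, 2, 1, 0, 0, 0, 1, 0, 0, 1, 0], [2, 0, 1, 1, 1, 2, 0, 2, 1, 1, 1, 1, 0, 1]],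
   [[1, 0, 0, 0, 2, 0, 0, 0, 0, 0, 0, 0, 0, 0], [0, 1, 0, 1, 0, 0, 0, 0, 0, 0, 0, 0, 0, 0], [0, 0, 1, 0, 0, 0, 0, 0, 0, 0, 0, 0, 0, 0], [0, 0, 0, 1, 0, 0, 0, 0, 0, 0, 0, 0, 0, 0], [0, 0, 0, 0, 1, 0, 0, 0, 0, 0, 0, 0, 0, 0], [0, 0, 0, 0, 0, 1, 0, 0, 0, 0, 0, 0, 0, 0], [0, 0, 0, 0, 0, 0, 1, 0, 0, 0, 0, 0, 0, 0], [0, 0, 2, 0, 0, 0, 0, 1, 0, 0, 0, 0, 0, 0], [0, 0, 0, 0, 0, 0, 0, 0, 1, 0, 0, 0, 0, 0], [0, 0, 0, 0, 2, 2, 0, 0, 0, 1, 0, 0, 0, 0], [0, 0, 0, 0, 0, 0, 1, 0, 0, 0, 1, 0, 0, 0], [2, 0, 0, 0, 2, 0, 1, 0, 0, 0, 0, 1, 0, 0], [1, 1, 2, 2, 2, 1, 0, 0, 0, 1, 0, 0, 1, 0], [0, 0, 0, 1, 0, 0, 2, 0, 1, 0, 1, 0, 0, 1]],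
   [[1, 0, 0, 0, 0, 2, 1, 0, 0, 0, 0, 0, 0, 0], [0, 1, 0, 2, 2, 0, 1, 1, 0, 0, 0, 0, 0, 0], [0, 0, 1, 0, 0, 0, 0, 0, 0, 0, 0, 0, 0, 0], [0, 0, 1, 1, 0, 0, 0, 0, 0, 0, 0, 0, 0, 0], [0, 0, 0, 0, 1, 0, 0, 0, 0, 0, 0, 0, 0, 0], [0, 0, 0, 0, 1, 1, 0, 0, 0, 0, 0, 0, 0, 0], [0, 0, 0, 0, 2, 1, 1, 0, 0, 0, 0, 0, 0, 0], [0, 0, 2, 1, 1, 2, 0, 1, 0, 0, 0, 0, 0, 0], [0, 1, 0, 1, 2, 2, 2, 2, 1, 0, 0, 0, 0, 0], [1, 0, 0, 0, 0, 1, 2, 0, 0, 1, 0, 0, 0, 0], [1, 0, 0, 0, 2, 1, 2, 0, 0, 2, 1, 0, 0, 0], [0, 0, 0, 0, 1, 1, 0, 0, 0, 2, 2, 1, 0, 0], [0, 1, 2, 1, 1, 2, 0, 2, 2, 2, 2, 2, 1, 0], [1, 0, 1, 1, 1, 2, 0, 0, 2, 2, 2, 2, 2, 1]],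
   [[1, 0, 0, 0, 1, 2, 0, 0, 0, 0, 0, 0, 0, 0], [0, 1, 0, 1, 0, 1, 0, 1, 0, 0, 0, 0, 0, 0], [0, 0, 1, 0, 0, 0, 0, 0, 0, 0, 0, 0, 0, 0], [0, 0, 1, 1, 0, 0, 0, 0, 0, 0, 0, 0, 0, 0], [0, 0, 0, 0, 1, 0, 0, 0, 0, 0, 0, 0, 0, 0], [0, 0, 0, 0, 0, 1, 0, 0, 0, 0, 0, 0, 0, 0], [0, 0, 0, 0, 1, 1, 1, 0, 0, 0, 0, 0, 0, 0], [0, 0, 2, 0, 0, 0, 0, 1, 0, 0, 0, 0, 0, 0], [0, 1, 0, 2, 2, 1, 1, 2, 1, 0, 0, 0, 0, 0], [0, 0, 0, 0, 2, 1, 0, 0, 0, 1, 0, 0, 0, 0], [2, 0, 0, 0, 1, 1, 2, 0, 0, 2, 1, 0, 0, 0], [1, 0, 0, 0, 0, 1, 1, 0, 0, 2, 0, 1, 0, 0], [1, 1, 2, 2, 1, 1, 0, 2, 0, 2, 0, 0, 1, 0], [2, 0, 1, 1, 2, 2, 0, 0, 1, 2, 2, 1, 2, 1]],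
   [[1, 0, 0, 0, 1, 2, 0, 0, 0, 0, 0, 0, 0, 0], [0, 1, 2, 1, 0, 1, 0, 0, 0, 0, 0, 0, 0, 0], [0, 0, 1, 0, 0, 0, 0, 0, 0, 0, 0, 0, 0, 0], [0, 0, 0, 1, 0, 0, 0, 0, 0, 0, 0, 0, 0, 0], [0, 0, 0, 0, 1, 0, 0, 0, 0, 0, 0, 0, 0, 0], [0, 0, 0, 0, 0, 1, 0, 0, 0, 0, 0, 0, 0, 0], [0, 0, 0, 0, 1, 0, 1, 0, 0, 0, 0, 0, 0, 0], [0, 0, 2, 0, 0, 0, 0, 1, 0, 0, 0, 0, 0, 0], [0, 0, 1, 2, 2, 0, 1, 0, 1, 0, 0, 0, 0, 0], [0, 0, 0, 0, 2, 1, 0, 0, 0, 1, 0, 0, 0, 0], [2, 0, 0, 0, 1, 2, 2, 0, 0, 0, 1, 0, 0, 0], [1, 0, 0, 0, 0, 0, 1, 0, 0, 2, 0, 1, 0, 0], [1, 1, 0, 2, 1, 1, 0, 1, 0, 2, 0, 0, 1, 0], [2, 2, 0, 1, 2, 2, 0, 2, 1, 1, 2, 1, 0, 1]],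
   [[1, 0, 0, 0, 1, 0, 0, 0, 0, 0, 0, 0, 0, 0], [0, 1, 2, 1, 0, 0, 0, 0, 0, 0, 0, 0, 0, 0], [0, 0, 1, 0, 0, 0, 0, 0, 0, 0, 0, 0, 0, 0], [0, 0, 0, 1, 0, 0, 0, 0, 0, 0, 0, 0, 0, 0], [0, 0, 0, 0, 1, 0, 0, 0, 0, 0, 0, 0, 0, 0], [0, 0, 0, 0, 0, 1, 0, 0, 0, 0, 0, 0, 0, 0], [0, 0, 0, 0, 0, 0, 1, 0, 0, 0, 0, 0, 0, 0], [0, 0, 2, 0, 0, 0, 0, 1, 0, 0, 0, 0, 0, 0], [0, 0, 0, 2, 0, 0, 0, 0, 1, 0, 0, 0, 0, 0], [0, 0, 0, 0, 2, 1, 0, 0, 0, 1, 0, 0, 0, 0], [0, 0, 0, 0, 2, 0, 2, 0, 0, 0, 1, 0, 0, 0], [1, 0, 0, 0, 2, 1, 1, 0, 0, 0, 0, 1, 0, 0], [1, 1, 0, 2, 1, 1, 0, 1, 0, 2, 0, 0, 1, 0], [1, 2, 2, 1, 1, 0, 2, 0, 1, 0, 2, 0, 0, 1]],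
   [[1, 0, 0, 0, 2, 2, 1, 0, 0, 0, 0, 0, 0, 0], [0, 1, 2, 2, 2, 0, 1, 1, 0, 0, 0, 0, 0, 0], [0, 0, 1, 0, 0, 0, 0, 0, 0, 0, 0, 0, 0, 0], [0, 0, 1, 1, 0, 0, 0, 0, 0, 0, 0, 0, 0, 0], [0, 0, 0, 0, 1, 0, 0, 0, 0, 0, 0, 0, 0, 0], [0, 0, 0, 0, 1, 1, 0, 0, 0, 0, 0, 0, 0, 0], [0, 0, 0, 0, 2, 1, 1, 0, 0, 0, 0, 0, 0, 0], [0, 0, 2, 1, 1, 2, 0, 1, 0, 0, 0, 0, 0, 0], [0, 1, 2, 0, 2, 2, 2, 2, 1, 0, 0, 0, 0, 0], [1, 0, 0, 0, 2, 0, 2, 0, 0, 1, 0, 0, 0, 0], [1, 0, 0, 0, 0, 2, 0, 0, 0, 2, 1, 0, 0, 0], [2, 0, 0, 0, 1, 0, 2, 0, 0, 2, 2, 1, 0, 0], [1, 1, 0, 2, 0, 0, 2, 0, 2, 0, 2, 2, 1, 0], [0, 2, 1, 0, 1, 1, 1, 2, 2, 1, 0, 2, 2, 1]],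
   [[1, 0, 0, 0, 0, 2, 0, 0, 0, 0, 0, 0, 0, 0], [0, 1, 2, 1, 0, 1, 0, 1, 0, 0, 0, 0, 0, 0], [0, 0, 1, 0, 0, 0, 0, 0, 0, 0, 0, 0, 0, 0], [0, 0, 1, 1, 0, 0, 0, 0, 0, 0, 0, 0, 0, 0], [0, 0, 0, 0, 1, 0, 0, 0, 0, 0, 0, 0, 0, 0], [0, 0, 0, 0, 0, 1, 0, 0, 0, 0, 0, 0, 0, 0], [0, 0, 0, 0, 1, 1, 1, 0, 0, 0, 0, 0, 0, 0], [0, 0, 2, 0, 0, 0, 0, 1, 0, 0, 0, 0, 0, 0], [0, 1, 2, 1, 2, 1, 1, 2, 1, 0, 0, 0, 0, 0], [0, 0, 0, 0, 2, 0, 0, 0, 0, 1, 0, 0, 0, 0], [2, 0, 0, 0, 1, 2, 0, 0, 0, 2, 1, 0, 0, 0], [0, 0, 0, 0, 1, 0, 1, 0, 0, 2, 0, 1, 0, 0], [1, 1, 0, 2, 0, 0, 0, 0, 0, 0, 0, 0, 1, 0], [2, 2, 1, 1, 2, 0, 1, 2, 1, 1, 0, 1, 2, 1]],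
   [[1, 0, 0, 0, 0, 2, 0, 0, 0, 0, 0, 0, 0, 0], [0, 1, 1, 1, 0, 1, 0, 0, 0, 0, 0, 0, 0, 0], [0, 0, 1, 0, 0, 0, 0, 0, 0, 0, 0, 0, 0, 0], [0, 0, 0, 1, 0, 0, 0, 0, 0, 0, 0, 0, 0, 0], [0, 0, 0, 0, 1, 0, 0, 0, 0, 0, 0, 0, 0, 0], [0, 0, 0, 0, 0, 1, 0, 0, 0, 0, 0, 0, 0, 0], [0, 0, 0, 0, 1, 0, 1, 0, 0, 0, 0, 0, 0, 0], [0, 0, 2, 0, 0, 0, 0, 1, 0, 0, 0, 0, 0, 0], [0, 0, 1, 1, 2, 0, 1, 0, 1, 0, 0, 0, 0, 0], [0, 0, 0, 0, 2, 0, 0, 0, 0, 1, 0, 0, 0, 0], [2, 0, 0, 0, 1, 2, 0, 0, 0, 0, 1, 0, 0, 0], [0, 0, 0, 0, 1, 2, 1, 0, 0, 2, 0, 1, 0, 0], [1, 1, 1, 2, 0, 0, 0, 2, 0, 0, 0, 0, 1, 0], [2, 1, 0, 1, 2, 2, 1, 2, 1, 1, 0, 1, 0, 1]],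
   [[1, 0, 0, 0, 2, 0, 1, 0, 0, 0, 0, 0, 0, 0], [0, 1, 2, 0, 1, 2, 1, 1, 0, 0, 0, 0, 0, 0], [0, 0, 1, 0, 0, 0, 0, 0, 0, 0, 0, 0, 0, 0], [0, 0, 1, 1, 0, 0, 0, 0, 0, 0, 0, 0, 0, 0], [0, 0, 0, 0, 1, 0, 0, 0, 0, 0, 0, 0, 0, 0], [0, 0, 0, 0, 1, 1, 0, 0, 0, 0, 0, 0, 0, 0], [0, 0, 0, 0, 1, 1, 1, 0, 0, 0, 0, 0, 0, 0], [0, 0, 1, 1, 1, 2, 0, 1, 0, 0, 0, 0, 0, 0], [0, 1, 0, 2, 2, 1, 1, 2, 1, 0, 0, 0, 0, 0], [1, 0, 0, 0, 0, 2, 2, 0, 0, 1, 0, 0, 0, 0], [2, 0, 0, 0, 1, 1, 2, 0, 0, 2, 1, 0, 0, 0], [2, 0, 0, 0, 1, 2, 1, 0, 0, 0, 2, 1, 0, 0], [0, 2, 1, 1, 1, 2, 0, 2, 2, 1, 2, 2, 1, 0], [2, 2, 1, 2, 0, 1, 2, 1, 0, 2, 2, 1, 2, 1]],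
   [[1, 0, 0, 0, 2, 0, 0, 0, 0, 0, 0, 0, 0, 0], [0, 1, 2, 2, 0, 0, 0, 1, 0, 0, 0, 0, 0, 0], [0, 0, 1, 0, 0, 0, 0, 0, 0, 0, 0, 0, 0, 0], [0, 0, 1, 1, 0, 0, 0, 0, 0, 0, 0, 0, 0, 0], [0, 0, 0, 0, 1, 0, 0, 0, 0, 0, 0, 0, 0, 0], [0, 0, 0, 0, 0, 1, 0, 0, 0, 0, 0, 0, 0, 0], [0, 0, 0, 0, 0, 1, 1, 0, 0, 0, 0, 0, 0, 0], [0, 0, 1, 0, 0, 0, 0, 1, 0, 0, 0, 0, 0, 0], [0, 1, 0, 0, 0, 0, 0, 2, 1, 0, 0, 0, 0, 0], [0, 0, 0, 0, 1, 2, 0, 0, 0, 1, 0, 0, 0, 0], [0, 0, 0, 0, 0, 1, 1, 0, 0, 2, 1, 0, 0, 0], [2, 0, 0, 0, 2, 2, 2, 0, 0, 0, 0, 1, 0, 0], [2, 2, 1, 2, 1, 1, 0, 2, 0, 1, 0, 0, 1, 0], [0, 2, 1, 1, 0, 2, 2, 1, 2, 2, 1, 0, 2, 1]],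
   [[1, 0, 0, 0, 2, 0, 0, 0, 0, 0, 0, 0, 0, 0], [0, 1, 0, 2, 0, 0, 0, 0, 0, 0, 0, 0, 0, 0], [0, 0, 1, 0, 0, 0, 0, 0, 0, 0, 0, 0, 0, 0], [0, 0, 0, 1, 0, 0, 0, 0, 0, 0, 0, 0, 0, 0], [0, 0, 0, 0, 1, 0, 0, 0, 0, 0, 0, 0, 0, 0], [0, 0, 0, 0, 0, 1, 0, 0, 0, 0, 0, 0, 0, 0], [0, 0, 0, 0, 0, 0, 1, 0, 0, 0, 0, 0, 0, 0], [0, 0, 1, 0, 0, 0, 0, 1, 0, 0, 0, 0, 0, 0], [0, 0, 0, 0, 0, 0, 0, 0, 1, 0, 0, 0, 0, 0], [0, 0, 0, 0, 1, 2, 0, 0, 0, 1, 0, 0, 0, 0], [0, 0, 0, 0, 0, 0, 1, 0, 0, 0, 1, 0, 0, 0], [2, 0, 0, 0, 2, 0, 2, 0, 0, 0, 0, 1, 0, 0], [2, 2, 2, 2, 1, 1, 0, 0, 0, 1, 0, 0, 1, 0], [0, 0, 0, 1, 0, 0, 2, 0, 2, 0, 1, 0, 0, 1]],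
   [[1, 0, 0, 0, 1, 0, 1, 0, 0, 0, 0, 0, 0, 0], [0, 1, 1, 0, 1, 2, 1, 1, 0, 0, 0, 0, 0, 0], [0, 0, 1, 0, 0, 0, 0, 0, 0, 0, 0, 0, 0, 0], [0, 0, 1, 1, 0, 0, 0, 0, 0, 0, 0, 0, 0, 0], [0, 0, 0, 0, 1, 0, 0, 0, 0, 0, 0, 0, 0, 0], [0, 0, 0, 0, 1, 1, 0, 0, 0, 0, 0, 0, 0, 0], [0, 0, 0, 0, 1, 1, 1, 0, 0, 0, 0, 0, 0, 0], [0, 0, 1, 1, 1, 2, 0, 1, 0, 0, 0, 0, 0, 0], [0, 1, 2, 1, 2, 1, 1, 2, 1, 0, 0, 0, 0, 0], [1, 0, 0, 0, 2, 1, 2, 0, 0, 1, 0, 0, 0, 0], [2, 0, 0, 0, 1, 2, 0, 0, 0, 2, 1, 0, 0, 0], [1, 0, 0, 0, 2, 0, 0, 0, 0, 0, 2, 1, 0, 0], [1, 2, 1, 2, 0, 1, 2, 0, 2, 2, 2, 2, 1, 0], [2, 1, 2, 0, 0, 2, 0, 0, 0, 1, 0, 1, 2, 1]],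
   [[1, 0, 0, 0, 1, 0, 0, 0, 0, 0, 0, 0, 0, 0], [0, 1, 1, 2, 0, 0, 0, 1, 0, 0, 0, 0, 0, 0], [0, 0, 1, 0, 0, 0, 0, 0, 0, 0, 0, 0, 0, 0], [0, 0, 1, 1, 0, 0, 0, 0, 0, 0, 0, 0, 0, 0], [0, 0, 0, 0, 1, 0, 0, 0, 0, 0, 0, 0, 0, 0], [0, 0, 0, 0, 0, 1, 0, 0, 0, 0, 0, 0, 0, 0], [0, 0, 0, 0, 0, 1, 1, 0, 0, 0, 0, 0, 0, 0], [0, 0, 1, 0, 0, 0, 0, 1, 0, 0, 0, 0, 0, 0], [0, 1, 2, 2, 0, 0, 0, 2, 1, 0, 0, 0, 0, 0], [0, 0, 0, 0, 1, 1, 0, 0, 0, 1, 0, 0, 0, 0], [0, 0, 0, 0, 2, 2, 2, 0, 0, 2, 1, 0, 0, 0], [1, 0, 0, 0, 2, 0, 2, 0, 0, 0, 0, 1, 0, 0], [2, 2, 1, 2, 2, 1, 0, 0, 0, 2, 0, 0, 1, 0], [1, 1, 2, 0, 1, 2, 2, 0, 2, 1, 2, 0, 2, 1]],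
   [[1, 0, 0, 0, 1, 0, 0, 0, 0, 0, 0, 0, 0, 0], [0, 1, 2, 2, 0, 0, 0, 0, 0, 0, 0, 0, 0, 0], [0, 0, 1, 0, 0, 0, 0, 0, 0, 0, 0, 0, 0, 0], [0, 0, 0, 1, 0, 0, 0, 0, 0, 0, 0, 0, 0, 0], [0, 0, 0, 0, 1, 0, 0, 0, 0, 0, 0, 0, 0, 0], [0, 0, 0, 0, 0, 1, 0, 0, 0, 0, 0, 0, 0, 0], [0, 0, 0, 0, 0, 0, 1, 0, 0, 0, 0, 0, 0, 0], [0, 0, 1, 0, 0, 0, 0, 1, 0, 0, 0, 0, 0, 0], [0, 0, 0, 2, 0, 0, 0, 0, 1, 0, 0, 0, 0, 0], [0, 0, 0, 0, 1, 1, 0, 0, 0, 1, 0, 0, 0, 0], [0, 0, 0, 0, 2, 0, 2, 0, 0, 0, 1, 0, 0, 0], [1, 0, 0, 0, 2, 1, 2, 0, 0, 0, 0, 1, 0, 0], [2, 2, 2, 2, 2, 1, 0, 1, 0, 2, 0, 0, 1, 0], [1, 2, 2, 0, 1, 0, 2, 0, 2, 0, 2, 0, 0, 1]],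
   [[1, 0, 0, 0, 0, 0, 1, 0, 0, 0, 0, 0, 0, 0], [0, 1, 0, 0, 1, 2, 1, 1, 0, 0, 0, 0, 0, 0], [0, 0, 1, 0, 0, 0, 0, 0, 0, 0, 0, 0, 0, 0], [0, 0, 1, 1, 0, 0, 0, 0, 0, 0, 0, 0, 0, 0], [0, 0, 0, 0, 1, 0, 0, 0, 0, 0, 0, 0, 0, 0], [0, 0, 0, 0, 1, 1, 0, 0, 0, 0, 0, 0, 0, 0], [0, 0, 0, 0, 1, 1, 1, 0, 0, 0, 0, 0, 0, 0], [0, 0, 1, 1, 1, 2, 0, 1, 0, 0, 0, 0, 0, 0], [0, 1, 1, 0, 2, 1, 1, 2, 1, 0, 0, 0, 0, 0], [1, 0, 0, 0, 1, 0, 2, 0, 0, 1, 0, 0, 0, 0], [2, 0, 0, 0, 1, 0, 1, 0, 0, 2, 1, 0, 0, 0], [0, 0, 0, 0, 1, 1, 2, 0, 0, 0, 2, 1, 0, 0], [2, 2, 1, 0, 1, 2, 1, 1, 2, 0, 2, 2, 1, 0], [2, 0, 1, 1, 2, 1, 2, 2, 0, 0, 1, 1, 2, 1]],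
   [[1, 0, 0, 0, 0, 0, 0, 0, 0, 0, 0, 0, 0, 0], [0, 1, 0, 2, 0, 0, 0, 1, 0, 0, 0, 0, 0, 0], [0, 0, 1, 0, 0, 0, 0, 0, 0, 0, 0, 0, 0, 0], [0, 0, 1, 1, 0, 0, 0, 0, 0, 0, 0, 0, 0, 0], [0, 0, 0, 0, 1, 0, 0, 0, 0, 0, 0, 0, 0, 0], [0, 0, 0, 0, 0, 1, 0, 0, 0, 0, 0, 0, 0, 0], [0, 0, 0, 0, 0, 1, 1, 0, 0, 0, 0, 0, 0, 0], [0, 0, 1, 0, 0, 0, 0, 1, 0, 0, 0, 0, 0, 0], [0, 1, 1, 1, 0, 0, 0, 2, 1, 0, 0, 0, 0, 0], [0, 0, 0, 0, 1, 0, 0, 0, 0, 1, 0, 0, 0, 0], [0, 0, 0, 0, 1, 0, 0, 0, 0, 2, 1, 0, 0, 0], [0, 0, 0, 0, 0, 1, 2, 0, 0, 0, 0, 1, 0, 0], [2, 2, 1, 2, 0, 0, 0, 1, 0, 0, 0, 0, 1, 0], [2, 0, 1, 2, 0, 0, 0, 2, 2, 0, 0, 0, 2, 1]],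
   [[1, 0, 0, 0, 0, 1, 2, 0, 0, 0, 0, 0, 0, 0], [0, 1, 0, 1, 0, 1, 2, 2, 0, 0, 0, 0, 0, 0], [0, 0, 1, 0, 0, 0, 0, 0, 0, 0, 0, 0, 0, 0], [0, 0, 2, 1, 0, 0, 0, 0, 0, 0, 0, 0, 0, 0], [0, 0, 0, 0, 1, 0, 0, 0, 0, 0, 0, 0, 0, 0], [0, 0, 0, 0, 2, 1, 0, 0, 0, 0, 0, 0, 0, 0], [0, 0, 0, 0, 0, 2, 1, 0, 0, 0, 0, 0, 0, 0], [0, 0, 0, 2, 1, 1, 0, 1, 0, 0, 0, 0, 0, 0], [0, 2, 2, 1, 0, 0, 0, 2, 1, 0, 0, 0, 0, 0], [2, 0, 0, 0, 2, 1, 2, 0, 0, 1, 0, 0, 0, 0], [0, 0, 0, 0, 1, 0, 0, 0, 0, 1, 1, 0, 0, 0], [0, 0, 0, 0, 1, 1, 1, 0, 0, 1, 1, 1, 0, 0], [1, 0, 1, 0, 2, 1, 1, 0, 1, 2, 2, 1, 1, 0], [2, 0, 1, 1, 0, 0, 0, 1, 1, 0, 0, 0, 1, 1]],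
   [[1, 0, 0, 0, 1, 1, 0, 0, 0, 0, 0, 0, 0, 0], [0, 1, 0, 0, 0, 2, 0, 2, 0, 0, 0, 0, 0, 0], [0, 0, 1, 0, 0, 0, 0, 0, 0, 0, 0, 0, 0, 0], [0, 0, 2, 1, 0, 0, 0, 0, 0, 0, 0, 0, 0, 0], [0, 0, 0, 0, 1, 0, 0, 0, 0, 0, 0, 0, 0, 0], [0, 0, 0, 0, 0, 1, 0, 0, 0, 0, 0, 0, 0, 0], [0, 0, 0, 0, 2, 2, 1, 0, 0, 0, 0, 0, 0, 0], [0, 0, 0, 0, 0, 0, 0, 1, 0, 0, 0, 0, 0, 0], [0, 2, 2, 0, 2, 1, 2, 2, 1, 0, 0, 0, 0, 0], [0, 0, 0, 0, 0, 1, 0, 0, 0, 1, 0, 0, 0, 0], [1, 0, 0, 0, 1, 0, 2, 0, 0, 1, 1, 0, 0, 0], [1, 0, 0, 0, 2, 1, 0, 0, 0, 1, 0, 1, 0, 0], [0, 0, 1, 0, 0, 1, 0, 0, 0, 2, 0, 0, 1, 0], [2, 0, 1, 2, 1, 2, 2, 1, 0, 0, 2, 2, 1, 1]],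
   [[1, 0, 0, 0, 1, 1, 0, 0, 0, 0, 0, 0, 0, 0], [0, 1, 0, 0, 0, 2, 0, 0, 0, 0, 0, 0, 0, 0], [0, 0, 1, 0, 0, 0, 0, 0, 0, 0, 0, 0, 0, 0], [0, 0, 0, 1, 0, 0, 0, 0, 0, 0, 0, 0, 0, 0], [0, 0, 0, 0, 1, 0, 0, 0, 0, 0, 0, 0, 0, 0], [0, 0, 0, 0, 0, 1, 0, 0, 0, 0, 0, 0, 0, 0], [0, 0, 0, 0, 2, 0, 1, 0, 0, 0, 0, 0, 0, 0], [0, 0, 0, 0, 0, 0, 0, 1, 0, 0, 0, 0, 0, 0], [0, 0, 2, 0, 2, 0, 2, 0, 1, 0, 0, 0, 0, 0], [0, 0, 0, 0, 0, 1, 0, 0, 0, 1, 0, 0, 0, 0], [1, 0, 0, 0, 1, 2, 2, 0, 0, 0, 1, 0, 0, 0], [1, 0, 0, 0, 2, 1, 0, 0, 0, 1, 0, 1, 0, 0], [0, 0, 1, 0, 0, 1, 0, 0, 0, 2, 0, 0, 1, 0], [2, 0, 0, 2, 1, 1, 2, 1, 0, 1, 2, 2, 0, 1]],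
   [[1, 0, 0, 0, 1, 0, 0, 0, 0, 0, 0, 0, 0, 0], [0, 1, 0, 0, 0, 0, 0, 0, 0, 0, 0, 0, 0, 0], [0, 0, 1, 0, 0, 0, 0, 0, 0, 0, 0, 0, 0, 0], [0, 0, 0, 1, 0, 0, 0, 0, 0, 0, 0, 0, 0, 0], [0, 0, 0, 0, 1, 0, 0, 0, 0, 0, 0, 0, 0, 0], [0, 0, 0, 0, 0, 1, 0, 0, 0, 0, 0, 0, 0, 0], [0, 0, 0, 0, 0, 0, 1, 0, 0, 0, 0, 0, 0, 0], [0, 0, 0, 0, 0, 0, 0, 1, 0, 0, 0, 0, 0, 0], [0, 0, 0, 0, 0, 0, 0, 0, 1, 0, 0, 0, 0, 0], [0, 0, 0, 0, 0, 1, 0, 0, 0, 1, 0, 0, 0, 0], [0, 0, 0, 0, 0, 0, 2, 0, 0, 0, 1, 0, 0, 0], [1, 0, 0, 0, 2, 0, 0, 0, 0, 0, 0, 1, 0, 0], [0, 0, 1, 0, 0, 1, 0, 0, 0, 2, 0, 0, 1, 0], [0, 0, 0, 2, 0, 0, 2, 0, 0, 0, 2, 0, 0, 1]],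
   [[1, 0, 0, 0, 2, 1, 2, 0, 0, 0, 0, 0, 0, 0], [0, 1, 2, 1, 0, 1, 2, 2, 0, 0, 0, 0, 0, 0], [0, 0, 1, 0, 0, 0, 0, 0, 0, 0, 0, 0, 0, 0], [0, 0, 2, 1, 0, 0, 0, 0, 0, 0, 0, 0, 0, 0], [0, 0, 0, 0, 1, 0, 0, 0, 0, 0, 0, 0, 0, 0], [0, 0, 0, 0, 2, 1, 0, 0, 0, 0, 0, 0, 0, 0], [0, 0, 0, 0, 0, 2, 1, 0, 0, 0, 0, 0, 0, 0], [0, 0, 0, 2, 1, 1, 0, 1, 0, 0, 0, 0, 0, 0], [0, 2, 0, 0, 0, 0, 0, 2, 1, 0, 0, 0, 0, 0], [2, 0, 0, 0, 0, 0, 2, 0, 0, 1, 0, 0, 0, 0], [0, 0, 0, 0, 0, 2, 1, 0, 0, 1, 1, 0, 0, 0], [2, 0, 0, 0, 2, 1, 2, 0, 0, 1, 1, 1, 0, 0], [0, 0, 0, 2, 1, 1, 0, 1, 1, 0, 2, 1, 1, 0], [0, 2, 2, 1, 0, 1, 2, 2, 1, 1, 1, 0, 1, 1]],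
   [[1, 0, 0, 0, 0, 1, 0, 0, 0, 0, 0, 0, 0, 0], [0, 1, 2, 0, 0, 2, 0, 2, 0, 0, 0, 0, 0, 0], [0, 0, 1, 0, 0, 0, 0, 0, 0, 0, 0, 0, 0, 0], [0, 0, 2, 1, 0, 0, 0, 0, 0, 0, 0, 0, 0, 0], [0, 0, 0, 0, 1, 0, 0, 0, 0, 0, 0, 0, 0, 0], [0, 0, 0, 0, 0, 1, 0, 0, 0, 0, 0, 0, 0, 0], [0, 0, 0, 0, 2, 2, 1, 0, 0, 0, 0, 0, 0, 0], [0, 0, 0, 0, 0, 0, 0, 1, 0, 0, 0, 0, 0, 0], [0, 2, 0, 2, 2, 1, 2, 2, 1, 0, 0, 0, 0, 0], [0, 0, 0, 0, 0, 0, 0, 0, 0, 1, 0, 0, 0, 0], [1, 0, 0, 0, 2, 2, 0, 0, 0, 1, 1, 0, 0, 0], [0, 0, 0, 0, 0, 1, 0, 0, 0, 1, 0, 1, 0, 0], [0, 0, 0, 0, 0, 0, 0, 1, 0, 0, 0, 0, 1, 0], [1, 2, 2, 0, 0, 2, 0, 2, 0, 1, 0, 2, 1, 1]],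
   [[1, 0, 0, 0, 0, 1, 0, 0, 0, 0, 0, 0, 0, 0], [0, 1, 2, 0, 0, 2, 0, 0, 0, 0, 0, 0, 0, 0], [0, 0, 1, 0, 0, 0, 0, 0, 0, 0, 0, 0, 0, 0], [0, 0, 0, 1, 0, 0, 0, 0, 0, 0, 0, 0, 0, 0], [0, 0, 0, 0, 1, 0, 0, 0, 0, 0, 0, 0, 0, 0], [0, 0, 0, 0, 0, 1, 0, 0, 0, 0, 0, 0, 0, 0], [0, 0, 0, 0, 2, 0, 1, 0, 0, 0, 0, 0, 0, 0], [0, 0, 0, 0, 0, 0, 0, 1, 0, 0, 0, 0, 0, 0], [0, 0, 2, 2, 2, 0, 2, 0, 1, 0, 0, 0, 0, 0], [0, 0, 0, 0, 0, 0, 0, 0, 0, 1, 0, 0, 0, 0], [1, 0, 0, 0, 2, 2, 0, 0, 0, 0, 1, 0, 0, 0], [0, 0, 0, 0, 0, 1, 0, 0, 0, 1, 0, 1, 0, 0], [0, 0, 0, 0, 0, 0, 0, 1, 0, 0, 0, 0, 1, 0], [1, 2, 2, 0, 0, 2, 0, 1, 0, 1, 0, 2, 0, 1]],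
   [[1, 0, 0, 0, 1, 1, 2, 0, 0, 0, 0, 0, 0, 0], [0, 1, 1, 1, 0, 1, 2, 2, 0, 0, 0, 0, 0, 0], [0, 0, 1, 0, 0, 0, 0, 0, 0, 0, 0, 0, 0, 0], [0, 0, 2, 1, 0, 0, 0, 0, 0, 0, 0, 0, 0, 0], [0, 0, 0, 0, 1, 0, 0, 0, 0, 0, 0, 0, 0, 0], [0, 0, 0, 0, 2, 1, 0, 0, 0, 0, 0, 0, 0, 0], [0, 0, 0, 0, 0, 2, 1, 0, 0, 0, 0, 0, 0, 0], [0, 0, 0, 2, 1, 1, 0, 1, 0, 0, 0, 0, 0, 0], [0, 2, 1, 2, 0, 0, 0, 2, 1, 0, 0, 0, 0, 0], [2, 0, 0, 0, 1, 2, 2, 0, 0, 1, 0, 0, 0, 0], [0, 0, 0, 0, 2, 1, 2, 0, 0, 1, 1, 0, 0, 0], [1, 0, 0, 0, 1, 1, 0, 0, 0, 1, 1, 1, 0, 0], [2, 0, 2, 1, 1, 0, 2, 2, 1, 1, 2, 1, 1, 0], [1, 1, 1, 1, 1, 1, 2, 0, 1, 2, 2, 0, 1, 1]],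
   [[1, 0, 0, 0, 2, 1, 0, 0, 0, 0, 0, 0, 0, 0], [0, 1, 1, 0, 0, 2, 0, 2, 0, 0, 0, 0, 0, 0], [0, 0, 1, 0, 0, 0, 0, 0, 0, 0, 0, 0, 0, 0], [0, 0, 2, 1, 0, 0, 0, 0, 0, 0, 0, 0, 0, 0], [0, 0, 0, 0, 1, 0, 0, 0, 0, 0, 0, 0, 0, 0], [0, 0, 0, 0, 0, 1, 0, 0, 0, 0, 0, 0, 0, 0], [0, 0, 0, 0, 2, 2, 1, 0, 0, 0, 0, 0, 0, 0], [0, 0, 0, 0, 0, 0, 0, 1, 0, 0, 0, 0, 0, 0], [0, 2, 1, 1, 2, 1, 2, 2, 1, 0, 0, 0, 0, 0], [0, 0, 0, 0, 0, 2, 0, 0, 0, 1, 0, 0, 0, 0], [1, 0, 0, 0, 0, 1, 1, 0, 0, 1, 1, 0, 0, 0], [2, 0, 0, 0, 2, 1, 0, 0, 0, 1, 0, 1, 0, 0], [0, 0, 2, 0, 0, 1, 0, 2, 0, 1, 0, 0, 1, 0], [0, 1, 1, 1, 2, 1, 2, 0, 0, 2, 1, 2, 1, 1]],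
   [[1, 0, 0, 0, 2, 1, 0, 0, 0, 0, 0, 0, 0, 0], [0, 1, 1, 0, 0, 2, 0, 0, 0, 0, 0, 0, 0, 0], [0, 0, 1, 0, 0, 0, 0, 0, 0, 0, 0, 0, 0, 0], [0, 0, 0, 1, 0, 0, 0, 0, 0, 0, 0, 0, 0, 0], [0, 0, 0, 0, 1, 0, 0, 0, 0, 0, 0, 0, 0, 0], [0, 0, 0, 0, 0, 1, 0, 0, 0, 0, 0, 0, 0, 0], [0, 0, 0, 0, 2, 0, 1, 0, 0, 0, 0, 0, 0, 0], [0, 0, 0, 0, 0, 0, 0, 1, 0, 0, 0, 0, 0, 0], [0, 0, 2, 1, 2, 0, 2, 0, 1, 0, 0, 0, 0, 0], [0, 0, 0, 0, 0, 2, 0, 0, 0, 1, 0, 0, 0, 0], [1, 0, 0, 0, 0, 2, 1, 0, 0, 0, 1, 0, 0, 0], [2, 0, 0, 0, 2, 1, 0, 0, 0, 1, 0, 1, 0, 0], [0, 0, 2, 0, 0, 1, 0, 2, 0, 1, 0, 0, 1, 0], [0, 1, 2, 1, 2, 0, 2, 1, 0, 1, 1, 2, 0, 1]],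
   [[1, 0, 0, 0, 2, 0, 0, 0, 0, 0, 0, 0, 0, 0], [0, 1, 1, 0, 0, 0, 0, 0, 0, 0, 0, 0, 0, 0], [0, 0, 1, 0, 0, 0, 0, 0, 0, 0, 0, 0, 0, 0], [0, 0, 0, 1, 0, 0, 0, 0, 0, 0, 0, 0, 0, 0], [0, 0, 0, 0, 1, 0, 0, 0, 0, 0, 0, 0, 0, 0], [0, 0, 0, 0, 0, 1, 0, 0, 0, 0, 0, 0, 0, 0], [0, 0, 0, 0, 0, 0, 1, 0, 0, 0, 0, 0, 0, 0], [0, 0, 0, 0, 0, 0, 0, 1, 0, 0, 0, 0, 0, 0], [0, 0, 0, 1, 0, 0, 0, 0, 1, 0, 0, 0, 0, 0], [0, 0, 0, 0, 0, 2, 0, 0, 0, 1, 0, 0, 0, 0], [0, 0, 0, 0, 1, 0, 1, 0, 0, 0, 1, 0, 0, 0], [2, 0, 0, 0, 2, 2, 0, 0, 0, 0, 0, 1, 0, 0], [0, 0, 2, 0, 0, 1, 0, 2, 0, 1, 0, 0, 1, 0], [2, 1, 2, 1, 1, 0, 2, 0, 0, 0, 1, 0, 0, 1]],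
   [[1, 0, 0, 0, 2, 2, 2, 0, 0, 0, 0, 0, 0, 0], [0, 1, 2, 2, 1, 0, 2, 2, 0, 0, 0, 0, 0, 0], [0, 0, 1, 0, 0, 0, 0, 0, 0, 0, 0, 0, 0, 0], [0, 0, 2, 1, 0, 0, 0, 0, 0, 0, 0, 0, 0, 0], [0, 0, 0, 0, 1, 0, 0, 0, 0, 0, 0, 0, 0, 0], [0, 0, 0, 0, 2, 1, 0, 0, 0, 0, 0, 0, 0, 0], [0, 0, 0, 0, 2, 2, 1, 0, 0, 0, 0, 0, 0, 0], [0, 0, 2, 2, 1, 1, 0, 1, 0, 0, 0, 0, 0, 0], [0, 2, 1, 1, 2, 1, 2, 2, 1, 0, 0, 0, 0, 0], [2, 0, 0, 0, 1, 1, 2, 0, 0, 1, 0, 0, 0, 0], [1, 0, 0, 0, 2, 0, 2, 0, 0, 1, 1, 0, 0, 0], [2, 0, 0, 0, 2, 1, 1, 0, 0, 2, 1, 1, 0, 0], [2, 1, 2, 0, 2, 0, 2, 2, 1, 2, 2, 1, 1, 0], [1, 2, 2, 1, 1, 2, 0, 1, 2, 0, 2, 2, 1, 1]],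
   [[1, 0, 0, 0, 1, 2, 0, 0, 0, 0, 0, 0, 0, 0], [0, 1, 2, 1, 0, 1, 0, 2, 0, 0, 0, 0, 0, 0], [0, 0, 1, 0, 0, 0, 0, 0, 0, 0, 0, 0, 0, 0], [0, 0, 2, 1, 0, 0, 0, 0, 0, 0, 0, 0, 0, 0], [0, 0, 0, 0, 1, 0, 0, 0, 0, 0, 0, 0, 0, 0], [0, 0, 0, 0, 0, 1, 0, 0, 0, 0, 0, 0, 0, 0], [0, 0, 0, 0, 1, 2, 1, 0, 0, 0, 0, 0, 0, 0], [0, 0, 2, 0, 0, 0, 0, 1, 0, 0, 0, 0, 0, 0], [0, 2, 1, 0, 2, 2, 1, 2, 1, 0, 0, 0, 0, 0], [0, 0, 0, 0, 2, 1, 0, 0, 0, 1, 0, 0, 0, 0], [2, 0, 0, 0, 2, 0, 2, 0, 0, 1, 1, 0, 0, 0], [1, 0, 0, 0, 0, 1, 1, 0, 0, 2, 0, 1, 0, 0], [1, 1, 2, 2, 1, 1, 0, 2, 0, 2, 0, 0, 1, 0], [1, 2, 2, 2, 1, 1, 0, 1, 1, 0, 2, 1, 1, 1]],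
   [[1, 0, 0, 0, 1, 2, 0, 0, 0, 0, 0, 0, 0, 0], [0, 1, 0, 1, 0, 1, 0, 0, 0, 0, 0, 0, 0, 0], [0, 0, 1, 0, 0, 0, 0, 0, 0, 0, 0, 0, 0, 0], [0, 0, 0, 1, 0, 0, 0, 0, 0, 0, 0, 0, 0, 0], [0, 0, 0, 0, 1, 0, 0, 0, 0, 0, 0, 0, 0, 0], [0, 0, 0, 0, 0, 1, 0, 0, 0, 0, 0, 0, 0, 0], [0, 0, 0, 0, 1, 0, 1, 0, 0, 0, 0, 0, 0, 0], [0, 0, 2, 0, 0, 0, 0, 1, 0, 0, 0, 0, 0, 0], [0, 0, 1, 0, 2, 0, 1, 0, 1, 0, 0, 0, 0, 0], [0, 0, 0, 0, 2, 1, 0, 0, 0, 1, 0, 0, 0, 0], [2, 0, 0, 0, 2, 2, 2, 0, 0, 0, 1, 0, 0, 0], [1, 0, 0, 0, 0, 2, 1, 0, 0, 2, 0, 1, 0, 0], [1, 1, 1, 2, 1, 1, 0, 0, 0, 2, 0, 0, 1, 0], [1, 0, 1, 2, 1, 1, 0, 2, 1, 1, 2, 1, 0, 1]],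
   [[1, 0, 0, 0, 1, 0, 0, 0, 0, 0, 0, 0, 0, 0], [0, 1, 0, 1, 0, 0, 0, 0, 0, 0, 0, 0, 0, 0], [0, 0, 1, 0, 0, 0, 0, 0, 0, 0, 0, 0, 0, 0], [0, 0, 0, 1, 0, 0, 0, 0, 0, 0, 0, 0, 0, 0], [0, 0, 0, 0, 1, 0, 0, 0, 0, 0, 0, 0, 0, 0], [0, 0, 0, 0, 0, 1, 0, 0, 0, 0, 0, 0, 0, 0], [0, 0, 0, 0, 0, 0, 1, 0, 0, 0, 0, 0, 0, 0], [0, 0, 2, 0, 0, 0, 0, 1, 0, 0, 0, 0, 0, 0], [0, 0, 0, 0, 0, 0, 0, 0, 1, 0, 0, 0, 0, 0], [0, 0, 0, 0, 2, 1, 0, 0, 0, 1, 0, 0, 0, 0], [0, 0, 0, 0, 0, 0, 2, 0, 0, 0, 1, 0, 0, 0], [1, 0, 0, 0, 2, 0, 1, 0, 0, 0, 0, 1, 0, 0], [1, 1, 1, 2, 1, 1, 0, 0, 0, 2, 0, 0, 1, 0], [0, 0, 0, 2, 0, 0, 2, 0, 1, 0, 2, 0, 0, 1]],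
   [[1, 0, 0, 0, 1, 2, 2, 0, 0, 0, 0, 0, 0, 0], [0, 1, 1, 2, 1, 0, 2, 2, 0, 0, 0, 0, 0, 0], [0, 0, 1, 0, 0, 0, 0, 0, 0, 0, 0, 0, 0, 0], [0, 0, 2, 1, 0, 0, 0, 0, 0, 0, 0, 0, 0, 0], [0, 0, 0, 0, 1, 0, 0, 0, 0, 0, 0, 0, 0, 0], [0, 0, 0, 0, 2, 1, 0, 0, 0, 0, 0, 0, 0, 0], [0, 0, 0, 0, 2, 2, 1, 0, 0, 0, 0, 0, 0, 0], [0, 0, 2, 2, 1, 1, 0, 1, 0, 0, 0, 0, 0, 0], [0, 2, 2, 0, 2, 1, 2, 2, 1, 0, 0, 0, 0, 0], [2, 0, 0, 0, 2, 0, 2, 0, 0, 1, 0, 0, 0, 0], [1, 0, 0, 0, 0, 2, 0, 0, 0, 1, 1, 0, 0, 0], [1, 0, 0, 0, 1, 0, 2, 0, 0, 2, 1, 1, 0, 0], [1, 1, 0, 2, 0, 0, 1, 0, 1, 0, 2, 1, 1, 0], [0, 1, 1, 0, 1, 2, 1, 2, 2, 1, 0, 2, 1, 1]],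
   [[1, 0, 0, 0, 0, 2, 0, 0, 0, 0, 0, 0, 0, 0], [0, 1, 1, 1, 0, 1, 0, 2, 0, 0, 0, 0, 0, 0], [0, 0, 1, 0, 0, 0, 0, 0, 0, 0, 0, 0, 0, 0], [0, 0, 2, 1, 0, 0, 0, 0, 0, 0, 0, 0, 0, 0], [0, 0, 0, 0, 1, 0, 0, 0, 0, 0, 0, 0, 0, 0], [0, 0, 0, 0, 0, 1, 0, 0, 0, 0, 0, 0, 0, 0], [0, 0, 0, 0, 1, 2, 1, 0, 0, 0, 0, 0, 0, 0], [0, 0, 2, 0, 0, 0, 0, 1, 0, 0, 0, 0, 0, 0], [0, 2, 2, 2, 2, 2, 1, 2, 1, 0, 0, 0, 0, 0], [0, 0, 0, 0, 2, 0, 0, 0, 0, 1, 0, 0, 0, 0], [2, 0, 0, 0, 2, 2, 0, 0, 0, 1, 1, 0, 0, 0], [0, 0, 0, 0, 1, 0, 1, 0, 0, 2, 0, 1, 0, 0], [1, 1, 0, 2, 0, 0, 0, 0, 0, 0, 0, 0, 1, 0], [1, 1, 1, 2, 2, 0, 1, 2, 1, 1, 0, 1, 1, 1]],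
   [[1, 0, 0, 0, 0, 2, 0, 0, 0, 0, 0, 0, 0, 0], [0, 1, 2, 1, 0, 1, 0, 0, 0, 0, 0, 0, 0, 0], [0, 0, 1, 0, 0, 0, 0, 0, 0, 0, 0, 0, 0, 0], [0, 0, 0, 1, 0, 0, 0, 0, 0, 0, 0, 0, 0, 0], [0, 0, 0, 0, 1, 0, 0, 0, 0, 0, 0, 0, 0, 0], [0, 0, 0, 0, 0, 1, 0, 0, 0, 0, 0, 0, 0, 0], [0, 0, 0, 0, 1, 0, 1, 0, 0, 0, 0, 0, 0, 0], [0, 0, 2, 0, 0, 0, 0, 1, 0, 0, 0, 0, 0, 0], [0, 0, 1, 2, 2, 0, 1, 0, 1, 0, 0, 0, 0, 0], [0, 0, 0, 0, 2, 0, 0, 0, 0, 1, 0, 0, 0, 0], [2, 0, 0, 0, 2, 2, 0, 0, 0, 0, 1, 0, 0, 0], [0, 0, 0, 0, 1, 1, 1, 0, 0, 2, 0, 1, 0, 0], [1, 1, 2, 2, 0, 0, 0, 1, 0, 0, 0, 0, 1, 0], [1, 2, 0, 2, 2, 1, 1, 2, 1, 1, 0, 1, 0, 1]],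
   [[1, 0, 0, 0, 0, 2, 2, 0, 0, 0, 0, 0, 0, 0], [0, 1, 0, 2, 1, 0, 2, 2, 0, 0, 0, 0, 0, 0], [0, 0, 1, 0, 0, 0, 0, 0, 0, 0, 0, 0, 0, 0], [0, 0, 2, 1, 0, 0, 0, 0, 0, 0, 0, 0, 0, 0], [0, 0, 0, 0, 1, 0, 0, 0, 0, 0, 0, 0, 0, 0], [0, 0, 0, 0, 2, 1, 0, 0, 0, 0, 0, 0, 0, 0], [0, 0, 0, 0, 2, 2, 1, 0, 0, 0, 0, 0, 0, 0], [0, 0, 2, 2, 1, 1, 0, 1, 0, 0, 0, 0, 0, 0], [0, 2, 0, 2, 2, 1, 2, 2, 1, 0, 0, 0, 0, 0], [2, 0, 0, 0, 0, 2, 2, 0, 0, 1, 0, 0, 0, 0], [1, 0, 0, 0, 1, 1, 1, 0, 0, 1, 1, 0, 0, 0], [0, 0, 0, 0, 1, 2, 0, 0, 0, 2, 1, 1, 0, 0], [0, 1, 1, 1, 2, 2, 0, 1, 1, 1, 2, 1, 1, 0], [2, 0, 1, 2, 1, 1, 0, 0, 2, 2, 1, 2, 1, 1]],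
   [[1, 0, 0, 0, 2, 2, 0, 0, 0, 0, 0, 0, 0, 0], [0, 1, 0, 1, 0, 1, 0, 2, 0, 0, 0, 0, 0, 0], [0, 0, 1, 0, 0, 0, 0, 0, 0, 0, 0, 0, 0, 0], [0, 0, 2, 1, 0, 0, 0, 0, 0, 0, 0, 0, 0, 0], [0, 0, 0, 0, 1, 0, 0, 0, 0, 0, 0, 0, 0, 0], [0, 0, 0, 0, 0, 1, 0, 0, 0, 0, 0, 0, 0, 0], [0, 0, 0, 0, 1, 2, 1, 0, 0, 0, 0, 0, 0, 0], [0, 0, 2, 0, 0, 0, 0, 1, 0, 0, 0, 0, 0, 0], [0, 2, 0, 1, 2, 2, 1, 2, 1, 0, 0, 0, 0, 0], [0, 0, 0, 0, 2, 2, 0, 0, 0, 1, 0, 0, 0, 0], [2, 0, 0, 0, 2, 1, 1, 0, 0, 1, 1, 0, 0, 0], [2, 0, 0, 0, 0, 2, 1, 0, 0, 2, 0, 1, 0, 0], [1, 1, 1, 2, 2, 1, 0, 1, 0, 1, 0, 0, 1, 0], [1, 0, 1, 2, 2, 1, 0, 0, 1, 2, 1, 1, 1, 1]],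
   [[1, 0, 0, 0, 2, 2, 0, 0, 0, 0, 0, 0, 0, 0], [0, 1, 1, 1, 0, 1, 0, 0, 0, 0, 0, 0, 0, 0], [0, 0, 1, 0, 0, 0, 0, 0, 0, 0, 0, 0, 0, 0], [0, 0, 0, 1, 0, 0, 0, 0, 0, 0, 0, 0, 0, 0], [0, 0, 0, 0, 1, 0, 0, 0, 0, 0, 0, 0, 0, 0], [0, 0, 0, 0, 0, 1, 0, 0, 0, 0, 0, 0, 0, 0], [0, 0, 0, 0, 1, 0, 1, 0, 0, 0, 0, 0, 0, 0], [0, 0, 2, 0, 0, 0, 0, 1, 0, 0, 0, 0, 0, 0], [0, 0, 1, 1, 2, 0, 1, 0, 1, 0, 0, 0, 0, 0], [0, 0, 0, 0, 2, 2, 0, 0, 0, 1, 0, 0, 0, 0], [2, 0, 0, 0, 2, 2, 1, 0, 0, 0, 1, 0, 0, 0], [2, 0, 0, 0, 0, 0, 1, 0, 0, 2, 0, 1, 0, 0], [1, 1, 0, 2, 2, 1, 0, 2, 0, 1, 0, 0, 1, 0], [1, 1, 0, 2, 2, 1, 0, 2, 1, 1, 1, 1, 0, 1]],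
   [[1, 0, 0, 0, 2, 0, 0, 0, 0, 0, 0, 0, 0, 0], [0, 1, 1, 1, 0, 0, 0, 0, 0, 0, 0, 0, 0, 0], [0, 0, 1, 0, 0, 0, 0, 0, 0, 0, 0, 0, 0, 0], [0, 0, 0, 1, 0, 0, 0, 0, 0, 0, 0, 0, 0, 0], [0, 0, 0, 0, 1, 0, 0, 0, 0, 0, 0, 0, 0, 0], [0, 0, 0, 0, 0, 1, 0, 0, 0, 0, 0, 0, 0, 0], [0, 0, 0, 0, 0, 0, 1, 0, 0, 0, 0, 0, 0, 0], [0, 0, 2, 0, 0, 0, 0, 1, 0, 0, 0, 0, 0, 0], [0, 0, 0, 1, 0, 0, 0, 0, 1, 0, 0, 0, 0, 0], [0, 0, 0, 0, 2, 2, 0, 0, 0, 1, 0, 0, 0, 0], [0, 0, 0, 0, 1, 0, 1, 0, 0, 0, 1, 0, 0, 0], [2, 0, 0, 0, 2, 2, 1, 0, 0, 0, 0, 1, 0, 0], [1, 1, 0, 2, 2, 1, 0, 2, 0, 1, 0, 0, 1, 0], [2, 1, 2, 2, 1, 0, 2, 0, 1, 0, 1, 0, 0, 1]],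
   [[1, 0, 0, 0, 1, 0, 2, 0, 0, 0, 0, 0, 0, 0], [0, 1, 1, 0, 2, 2, 2, 2, 0, 0, 0, 0, 0, 0], [0, 0, 1, 0, 0, 0, 0, 0, 0, 0, 0, 0, 0, 0], [0, 0, 2, 1, 0, 0, 0, 0, 0, 0, 0, 0, 0, 0], [0, 0, 0, 0, 1, 0, 0, 0, 0, 0, 0, 0, 0, 0], [0, 0, 0, 0, 2, 1, 0, 0, 0, 0, 0, 0, 0, 0], [0, 0, 0, 0, 1, 2, 1, 0, 0, 0, 0, 0, 0, 0], [0, 0, 1, 2, 1, 1, 0, 1, 0, 0, 0, 0, 0, 0], [0, 2, 0, 1, 2, 2, 1, 2, 1, 0, 0, 0, 0, 0], [2, 0, 0, 0, 0, 1, 2, 0, 0, 1, 0, 0, 0, 0], [2, 0, 0, 0, 2, 1, 1, 0, 0, 1, 1, 0, 0, 0], [1, 0, 0, 0, 1, 1, 1, 0, 0, 0, 1, 1, 0, 0], [0, 2, 2, 1, 2, 2, 0, 1, 1, 2, 2, 1, 1, 0], [1, 1, 1, 1, 0, 2, 2, 1, 0, 2, 1, 1, 1, 1]],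
   [[1, 0, 0, 0, 1, 0, 0, 0, 0, 0, 0, 0, 0, 0], [0, 1, 1, 2, 0, 0, 0, 2, 0, 0, 0, 0, 0, 0], [0, 0, 1, 0, 0, 0, 0, 0, 0, 0, 0, 0, 0, 0], [0, 0, 2, 1, 0, 0, 0, 0, 0, 0, 0, 0, 0, 0], [0, 0, 0, 0, 1, 0, 0, 0, 0, 0, 0, 0, 0, 0], [0, 0, 0, 0, 0, 1, 0, 0, 0, 0, 0, 0, 0, 0], [0, 0, 0, 0, 0, 2, 1, 0, 0, 0, 0, 0, 0, 0], [0, 0, 1, 0, 0, 0, 0, 1, 0, 0, 0, 0, 0, 0], [0, 2, 0, 0, 0, 0, 0, 2, 1, 0, 0, 0, 0, 0], [0, 0, 0, 0, 1, 1, 0, 0, 0, 1, 0, 0, 0, 0], [0, 0, 0, 0, 0, 1, 2, 0, 0, 1, 1, 0, 0, 0], [1, 0, 0, 0, 2, 1, 2, 0, 0, 0, 0, 1, 0, 0], [2, 2, 2, 2, 2, 1, 0, 1, 0, 2, 0, 0, 1, 0], [0, 1, 1, 2, 0, 1, 2, 1, 2, 2, 2, 0, 1, 1]],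
   [[1, 0, 0, 0, 1, 0, 0, 0, 0, 0, 0, 0, 0, 0], [0, 1, 0, 2, 0, 0, 0, 0, 0, 0, 0, 0, 0, 0], [0, 0, 1, 0, 0, 0, 0, 0, 0, 0, 0, 0, 0, 0], [0, 0, 0, 1, 0, 0, 0, 0, 0, 0, 0, 0, 0, 0], [0, 0, 0, 0, 1, 0, 0, 0, 0, 0, 0, 0, 0, 0], [0, 0, 0, 0, 0, 1, 0, 0, 0, 0, 0, 0, 0, 0], [0, 0, 0, 0, 0, 0, 1, 0, 0, 0, 0, 0, 0, 0], [0, 0, 1, 0, 0, 0, 0, 1, 0, 0, 0, 0, 0, 0], [0, 0, 0, 0, 0, 0, 0, 0, 1, 0, 0, 0, 0, 0], [0, 0, 0, 0, 1, 1, 0, 0, 0, 1, 0, 0, 0, 0], [0, 0, 0, 0, 0, 0, 2, 0, 0, 0, 1, 0, 0, 0], [1, 0, 0, 0, 2, 0, 2, 0, 0, 0, 0, 1, 0, 0], [2, 2, 1, 2, 2, 1, 0, 0, 0, 2, 0, 0, 1, 0], [0, 0, 0, 2, 0, 0, 2, 0, 2, 0, 2, 0, 0, 1]],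
   [[1, 0, 0, 0, 0, 0, 2, 0, 0, 0, 0, 0, 0, 0], [0, 1, 0, 0, 2, 2, 2, 2, 0, 0, 0, 0, 0, 0], [0, 0, 1, 0, 0, 0, 0, 0, 0, 0, 0, 0, 0, 0], [0, 0, 2, 1, 0, 0, 0, 0, 0, 0, 0, 0, 0, 0], [0, 0, 0, 0, 1, 0, 0, 0, 0, 0, 0, 0, 0, 0], [0, 0, 0, 0, 2, 1, 0, 0, 0, 0, 0, 0, 0, 0], [0, 0, 0, 0, 1, 2, 1, 0, 0, 0, 0, 0, 0, 0], [0, 0, 1, 2, 1, 1, 0, 1, 0, 0, 0, 0, 0, 0], [0, 2, 1, 0, 2, 2, 1, 2, 1, 0, 0, 0, 0, 0], [2, 0, 0, 0, 1, 0, 2, 0, 0, 1, 0, 0, 0, 0], [2, 0, 0, 0, 2, 0, 2, 0, 0, 1, 1, 0, 0, 0], [0, 0, 0, 0, 1, 2, 2, 0, 0, 0, 1, 1, 0, 0], [2, 2, 2, 0, 2, 2, 2, 2, 1, 0, 2, 1, 1, 0], [1, 0, 1, 2, 2, 2, 2, 2, 0, 0, 2, 1, 1, 1]],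
   [[1, 0, 0, 0, 0, 0, 0, 0, 0, 0, 0, 0, 0, 0], [0, 1, 0, 2, 0, 0, 0, 2, 0, 0, 0, 0, 0, 0], [0, 0, 1, 0, 0, 0, 0, 0, 0, 0, 0, 0, 0, 0], [0, 0, 2, 1, 0, 0, 0, 0, 0, 0, 0, 0, 0, 0], [0, 0, 0, 0, 1, 0, 0, 0, 0, 0, 0, 0, 0, 0], [0, 0, 0, 0, 0, 1, 0, 0, 0, 0, 0, 0, 0, 0], [0, 0, 0, 0, 0, 2, 1, 0, 0, 0, 0, 0, 0, 0], [0, 0, 1, 0, 0, 0, 0, 1, 0, 0, 0, 0, 0, 0], [0, 2, 1, 2, 0, 0, 0, 2, 1, 0, 0, 0, 0, 0], [0, 0, 0, 0, 1, 0, 0, 0, 0, 1, 0, 0, 0, 0], [0, 0, 0, 0, 2, 0, 0, 0, 0, 1, 1, 0, 0, 0], [0, 0, 0, 0, 0, 2, 2, 0, 0, 0, 0, 1, 0, 0], [2, 2, 2, 2, 0, 0, 0, 2, 0, 0, 0, 0, 1, 0], [1, 0, 1, 1, 0, 0, 0, 2, 2, 0, 0, 0, 1, 1]],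
   [[1, 0, 0, 0, 2, 0, 2, 0, 0, 0, 0, 0, 0, 0], [0, 1, 2, 0, 2, 2, 2, 2, 0, 0, 0, 0, 0, 0], [0, 0, 1, 0, 0, 0, 0, 0, 0, 0, 0, 0, 0, 0], [0, 0, 2, 1, 0, 0, 0, 0, 0, 0, 0, 0, 0, 0], [0, 0, 0, 0, 1, 0, 0, 0, 0, 0, 0, 0, 0, 0], [0, 0, 0, 0, 2, 1, 0, 0, 0, 0, 0, 0, 0, 0], [0, 0, 0, 0, 1, 2, 1, 0, 0, 0, 0, 0, 0, 0], [0, 0, 1, 2, 1, 1, 0, 1, 0, 0, 0, 0, 0, 0], [0, 2, 2, 2, 2, 2, 1, 2, 1, 0, 0, 0, 0, 0], [2, 0, 0, 0, 2, 2, 2, 0, 0, 1, 0, 0, 0, 0], [2, 0, 0, 0, 2, 2, 0, 0, 0, 1, 1, 0, 0, 0], [2, 0, 0, 0, 2, 0, 0, 0, 0, 0, 1, 1, 0, 0], [1, 2, 2, 2, 0, 1, 1, 0, 1, 1, 2, 1, 1, 0], [1, 2, 2, 0, 0, 1, 0, 0, 0, 1, 0, 1, 1, 1]],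
   [[1, 0, 0, 0, 2, 0, 0, 0, 0, 0, 0, 0, 0, 0], [0, 1, 2, 2, 0, 0, 0, 2, 0, 0, 0, 0, 0, 0], [0, 0, 1, 0, 0, 0, 0, 0, 0, 0, 0, 0, 0, 0], [0, 0, 2, 1, 0, 0, 0, 0, 0, 0, 0, 0, 0, 0], [0, 0, 0, 0, 1, 0, 0, 0, 0, 0, 0, 0, 0, 0], [0, 0, 0, 0, 0, 1, 0, 0, 0, 0, 0, 0, 0, 0], [0, 0, 0, 0, 0, 2, 1, 0, 0, 0, 0, 0, 0, 0], [0, 0, 1, 0, 0, 0, 0, 1, 0, 0, 0, 0, 0, 0], [0, 2, 2, 1, 0, 0, 0, 2, 1, 0, 0, 0, 0, 0], [0, 0, 0, 0, 1, 2, 0, 0, 0, 1, 0, 0, 0, 0], [0, 0, 0, 0, 1, 2, 1, 0, 0, 1, 1, 0, 0, 0], [2, 0, 0, 0, 2, 0, 2, 0, 0, 0, 0, 1, 0, 0], [2, 2, 2, 2, 1, 1, 0, 0, 0, 1, 0, 0, 1, 0], [2, 2, 2, 0, 1, 1, 2, 0, 2, 1, 1, 0, 1, 1]],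
   [[1, 0, 0, 0, 2, 0, 0, 0, 0, 0, 0, 0, 0, 0], [0, 1, 1, 2, 0, 0, 0, 0, 0, 0, 0, 0, 0, 0], [0, 0, 1, 0, 0, 0, 0, 0, 0, 0, 0, 0, 0, 0], [0, 0, 0, 1, 0, 0, 0, 0, 0, 0, 0, 0, 0, 0], [0, 0, 0, 0, 1, 0, 0, 0, 0, 0, 0, 0, 0, 0], [0, 0, 0, 0, 0, 1, 0, 0, 0, 0, 0, 0, 0, 0], [0, 0, 0, 0, 0, 0, 1, 0, 0, 0, 0, 0, 0, 0], [0, 0, 1, 0, 0, 0, 0, 1, 0, 0, 0, 0, 0, 0], [0, 0, 0, 1, 0, 0, 0, 0, 1, 0, 0, 0, 0, 0], [0, 0, 0, 0, 1, 2, 0, 0, 0, 1, 0, 0, 0, 0], [0, 0, 0, 0, 1, 0, 1, 0, 0, 0, 1, 0, 0, 0], [2, 0, 0, 0, 2, 2, 2, 0, 0, 0, 0, 1, 0, 0], [2, 2, 1, 2, 1, 1, 0, 2, 0, 1, 0, 0, 1, 0], [2, 1, 2, 0, 1, 0, 2, 0, 2, 0, 1, 0, 0, 1]]]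

/-- for each of the 54 words, the positions in `MATS` of the products of its suffixes -/
def PWi : List (List ℕ) :=
  [[0, 0, 0, 0, 0, 0], [1, 1, 1, 1, 2, 2], [3, 3, 3, 3, 4, 4], [5, 5, 5, 6, 6, 0], [7, 7, 7, 8, 9, 2], [10, 10, 10, 11, 12, 4], [13, 13, 13, 14, 14, 0], [15, 15, 15, 16, 17, 2], [18, 18, 18, 19, 20, 4], [21, 22, 23, 24, 0, 0], [25, 26, 27, 28, 2, 2], [29, 30, 31, 4, 4, 4], [32, 33, 34, 35, 6, 0], [36, 37, 38, 39, 9, 2], [40, 41, 42, 12, 12, 4], [43, 44, 45, 45, 14, 0], [46, 47, 48, 48, 17, 2], [49, 50, 20, 20, 20, 4], [51, 52, 53, 54, 0, 0], [55, 56, 57, 2, 2, 2], [58, 59, 60, 61, 4, 4], [62, 63, 64, 65, 6, 0], [66, 67, 68,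 9, 9, 2], [69, 70, 71, 72, 12, 4], [73, 74, 75, 75, 14, 0], [76, 77, 17, 17, 17, 2], [78, 79, 80, 80, 20, 4], [0, 0, 0, 0, 0, 0], [81, 81, 81, 81, 82, 82], [83, 83, 83, 83, 84, 84], [85, 85, 85, 86, 86, 0], [87, 87, 87, 88, 89, 82], [90, 90, 90, 91, 92, 84], [93, 93, 93, 94, 94, 0], [95, 95, 95, 96, 97, 82], [98, 98, 98, 99, 100, 84], [101, 102, 103, 104, 0, 0], [105, 106, 107, 108, 82, 82], [109, 110, 111, 84, 84, 84], [112, 113, 114, 115, 86, 0], [116, 117, 118, 119, 89, 82], [120, 121, 122, 92, 92, 84], [123, 124, 125, 125, 94, 0], [126, 127, 128, 128, 97, 82], [129, 130, 100, 100, 100, 84], [131, 132, 133, 134, 0, 0], [135, 136, 137, 82,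 82, 82], [138, 139, 140, 141, 84, 84], [142, 143, 144, 145, 86, 0], [146, 147, 148, 89, 89, 82], [149, 150, 151, 152, 92, 84], [153, 154, 155, 155, 94, 0], [156, 157, 97, 97, 97, 82], [158, 159, 160, 160, 100, 84]]

/-- position of the identity matrix in `MATS` -/
def idPos : ℕ :=
  0

/-- index of the inverse of each of the 54 generators -/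
def invIdx : List ℕ :=
  [0, 2, 1, 6, 8, 7, 3, 5, 4, 25, 24, 26, 21, 23, 22, 20, 19, 18, 17, 16, 15, 12, 14, 13, 10, 9, 11, 0, 29, 28, 33, 35, 34, 30, 32, 31, 52, 51, 53, 48, 50, 49, 47, 46, 45, 44, 43, 42, 39, 41, 40, 37, 36, 38]

/-- words in the 54 generators of the images of the four matrices -/
def wordsY : List (List ℕ) :=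
  [[4, 33, 2], [7, 30, 2], [41, 1], [50]]

/-- codes of the 63 nonzero vectors of `F₈²` -/
def codesA : List ℕ :=
  [1, 51, 53, 52, 54, 16, 50, 48, 49, 12, 18, 20, 19, 11, 55, 35, 29, 46, 13, 14, 8, 3, 22, 17, 23, 36, 6, 10, 9, 15, 33, 63, 39, 32, 37, 27, 30, 26, 59, 43, 47, 44, 61, 21, 56, 41, 34, 57, 31, 58, 62, 38, 24, 28, 42, 25, 60, 45, 40, 2, 5, 7, 4]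

/-- the 84 vectors of `F₃¹⁴`: digits -/
def ptsB : List (List ℕ) :=
  [[1, 2, 1, 0, 2, 2, 2, 1, 2, 2, 0, 2, 1, 0], [0, 1, 1, 0, 2, 0, 2, 1, 2, 0, 0, 2, 1, 0], [0, 2, 1, 0, 1, 2, 2, 2, 0, 2, 0, 0, 0, 2], [1, 0, 1, 2, 2, 0, 2, 2, 1, 2, 2, 2, 0, 1], [2, 2, 1, 1, 2, 0, 2, 2, 2, 0, 0, 2, 1, 0], [2, 0, 1, 1, 0, 1, 2, 1, 2, 1, 0, 2, 1, 0], [1, 1, 1, 1, 0, 0, 1, 1, 1, 2, 0, 1, 1, 0], [2, 0, 1, 0, 2, 1, 2, 1, 2, 2, 0, 2, 1, 1], [0, 1, 1, 0, 1, 0, 2, 2, 0, 0, 2, 2, 2, 2], [0, 2, 1, 2, 2, 1, 1, 2, 0, 1, 1, 1, 2, 1], [1, 1, 2, 1, 0, 0, 2, 2, 2, 1, 0, 2, 1, 0], [1, 0, 1, 0, 0, 1, 1, 0, 1, 0, 0, 1, 1, 0], [2, 2, 1, 0, 0, 2, 1, 0, 1, 0, 2, 1, 2, 2], [0,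 1, 1, 2, 1, 1, 1, 0, 1, 0, 1, 0, 2, 1], [2, 0, 0, 2, 2, 0, 0, 2, 0, 2, 2, 0, 0, 2], [0, 2, 0, 2, 1, 0, 0, 1, 2, 1, 0, 1, 0, 2], [1, 2, 0, 2, 0, 2, 2, 0, 2, 2, 0, 0, 1, 2], [0, 2, 1, 2, 1, 0, 2, 0, 2, 1, 0, 2, 1, 0], [0, 2, 1, 1, 0, 2, 0, 1, 0, 1, 2, 1, 1, 1], [0, 2, 0, 2, 2, 0, 0, 2, 1, 2, 0, 2, 0, 1], [0, 0, 0, 2, 0, 2, 2, 0, 2, 2, 2, 1, 0, 1], [1, 1, 0, 2, 2, 0, 0, 2, 2, 2, 0, 2, 2, 1], [1, 1, 1, 1, 2, 1, 0, 2, 0, 2, 1, 0, 0, 2], [0, 0, 1, 1, 1, 0, 2, 0, 0, 2, 0, 1, 2, 1], [0, 0, 0, 2, 2, 0, 2, 2, 2, 2, 0, 2, 1, 0], [0, 1, 2, 0, 1, 0, 1, 2, 1, 0, 0, 1, 1, 0], [1, 2, 2, 0, 1, 2, 1, 2, 1, 1, 0, 1, 1, 0], [2, 2, 2, 1, 1, 0, 1, 1, 1, 0, 0, 1,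 1, 0], [1, 2, 0, 2, 1, 0, 1, 1, 0, 1, 1, 0, 1, 0], [0, 0, 1, 0, 1, 1, 2, 2, 0, 2, 1, 0, 1, 0], [2, 1, 1, 2, 2, 2, 0, 2, 2, 1, 1, 0, 1, 2], [1, 2, 2, 2, 0, 2, 1, 2, 2, 0, 1, 2, 1, 1], [0, 1, 0, 2, 2, 0, 1, 2, 0, 2, 0, 1, 1, 1], [0, 2, 2, 1, 2, 1, 0, 0, 2, 2, 0, 1, 0, 1], [0, 1, 1, 0, 0, 0, 1, 0, 1, 1, 1, 2, 0, 2], [0, 0, 1, 2, 1, 2, 0, 0, 0, 0, 0, 0, 0, 0], [0, 2, 2, 2, 1, 1, 2, 1, 0, 2, 1, 2, 2, 2], [1, 0, 0, 2, 1, 0, 2, 1, 2, 1, 2, 0, 2, 2], [0, 1, 2, 0, 2, 0, 1, 1, 0, 0, 2, 1, 2, 1], [0, 2, 2, 1, 0, 2, 0, 2, 0, 2, 2, 2, 1, 2], [0, 0, 2, 2, 2, 2, 0, 0, 0, 0, 0, 0, 0, 0], [2, 1, 0, 2, 0, 2, 2, 0, 2, 2, 0, 2, 1, 0], [0, 0, 0, 2, 1, 0, 1, 1,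 1, 1, 0, 1, 1, 0], [0, 0, 1, 2, 0, 1, 0, 1, 2, 0, 2, 0, 1, 2], [2, 1, 0, 2, 0, 2, 1, 0, 1, 1, 0, 1, 1, 0], [2, 1, 2, 2, 0, 0, 2, 2, 0, 2, 1, 0, 1, 0], [1, 2, 1, 2, 0, 2, 2, 1, 1, 0, 1, 1, 1, 2], [0, 0, 1, 1, 2, 2, 1, 2, 1, 2, 1, 1, 2, 2], [0, 0, 0, 2, 0, 2, 1, 0, 1, 1, 2, 2, 0, 2], [1, 0, 0, 2, 2, 0, 1, 2, 1, 2, 2, 0, 2, 1], [0, 0, 2, 1, 1, 2, 2, 1, 2, 1, 1, 2, 2, 1], [1, 2, 0, 2, 2, 0, 2, 2, 0, 2, 1, 0, 1, 0], [1, 2, 0, 2, 0, 2, 1, 0, 1, 1, 0, 0, 1, 1], [1, 0, 2, 2, 1, 0, 1, 1, 2, 1, 2, 1, 0, 2], [2, 2, 0, 2, 1, 0, 2, 1, 1, 1, 0, 0, 2, 1], [2, 1, 0, 2, 1, 0, 1, 1, 2, 1, 1, 1, 0, 2], [0, 2, 1, 1, 1, 1, 0, 0, 1, 1, 0, 2, 0, 2], [0, 1, 2, 1,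 2, 2, 2, 0, 1, 2, 2, 1, 1, 2], [2, 0, 2, 0, 1, 1, 1, 2, 1, 1, 0, 1, 1, 2], [2, 1, 1, 2, 0, 0, 1, 1, 0, 1, 1, 0, 1, 0], [1, 0, 2, 0, 0, 1, 2, 0, 2, 0, 0, 2, 1, 0], [0, 0, 2, 2, 0, 1, 0, 2, 1, 0, 2, 0, 1, 1], [0, 2, 2, 0, 2, 2, 1, 1, 0, 1, 0, 0, 0, 1], [2, 1, 0, 2, 2, 0, 2, 2, 1, 2, 1, 2, 0, 1], [2, 0, 0, 2, 1, 0, 0, 1, 0, 1, 2, 0, 0, 1], [2, 2, 0, 2, 2, 0, 1, 2, 2, 2, 0, 0, 2, 2], [1, 2, 0, 2, 0, 2, 0, 0, 0, 0, 1, 0, 1, 0], [0, 2, 2, 2, 2, 0, 1, 0, 1, 2, 0, 1, 1, 0], [1, 1, 2, 1, 1, 1, 0, 1, 0, 1, 1, 0, 0, 1], [2, 0, 2, 1, 0, 1, 1, 2, 1, 2, 0, 1, 1, 0], [0, 0, 0, 0, 0, 0, 0, 0, 0, 0, 1, 0, 1, 0], [0, 0, 2, 1, 2, 0, 1, 0, 0, 1, 0, 2, 2, 2],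 [0, 1, 0, 2, 1, 0, 2, 1, 0, 1, 0, 2, 1, 2], [0, 0, 2, 0, 2, 1, 1, 1, 0, 1, 1, 0, 1, 0], [2, 1, 2, 2, 1, 2, 0, 1, 1, 2, 1, 0, 1, 1], [0, 1, 1, 1, 1, 2, 1, 0, 2, 1, 2, 2, 1, 1], [0, 0, 0, 0, 0, 0, 0, 0, 0, 0, 1, 1, 1, 1], [0, 1, 2, 0, 0, 0, 2, 0, 2, 2, 1, 1, 0, 1], [0, 0, 0, 2, 0, 2, 0, 0, 0, 0, 0, 0, 0, 0], [0, 1, 2, 2, 2, 1, 2, 0, 2, 0, 1, 0, 2, 2], [0, 0, 0, 0, 0, 0, 0, 0, 0, 0, 1, 2, 1, 2], [2, 1, 0, 2, 0, 2, 0, 0, 0, 0, 1, 0, 1, 0], [1, 1, 0, 2, 1, 0, 0, 1, 1, 1, 0, 1, 2, 2], [2, 2, 2, 0, 0, 2, 2, 0, 2, 0, 2, 2, 2, 1]]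

/-- codes (base 3) of the 84 vectors of `F₃¹⁴` -/
def codesB : List ℕ :=
  [942532, 902676, 3234426, 2118700, 904895, 922466, 757471, 2536607, 4729845, 2918661, 924421, 716131, 4554566, 2723934, 3350702, 3400926, 3774580, 920148, 2443407, 1999140, 1944054, 3068581, 3291880, 2875293, 944271, 720354, 740527, 718199, 613231, 636021, 3817031, 2557897, 2347599, 1824414, 3628974, 630, 4708284, 4406212, 2955549, 4236756, 720, 940226, 737883, 3853800, 736106, 635765, 3967045, 4539438, 3688551, 2826550, 3107610, 635911, 2153284, 3519766, 2687237, 3460703, 3569550, 4063413, 3928925, 613157, 900577, 2255112, 1617594, 2059646, 1734428, 4309343, 591037,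 755484, 1675615, 759908, 590490, 4626441, 4097847, 613512, 2233571, 2632296, 2361960, 1884486, 540, 4325637, 4133430, 591035, 4457245, 3144689]

/-- tables of the four matrices on the 63 vectors -/
def permA : List (List ℕ) :=
  [
   [0, 2, 1, 6, 7, 10, 3, 4, 14, 18, 5, 22, 23, 27, 8, 32, 36, 39, 9, 29, 28, 21, 11, 12, 43, 33, 26, 13, 20, 19, 34, 44, 15, 25, 30, 52, 16, 55, 56, 17, 54, 45, 49, 24, 31, 41, 51, 50, 53, 42, 47, 46, 35, 48, 40, 37, 38, 58, 57, 59, 60, 61, 62],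
   [0, 3, 6, 1, 8, 11, 2, 14, 4, 19, 22, 5, 24, 28, 7, 33, 35, 40, 29, 9, 27, 21, 10, 43, 12, 32, 26, 20, 13, 18, 46, 49, 25, 15, 51, 16, 52, 53, 50, 54, 17, 57, 44, 23, 42, 58, 30, 56, 55, 31, 38, 34, 36, 37, 39, 48, 47, 41, 45, 59, 60, 61, 62],
   [0, 4, 7, 8, 1, 12, 14, 2, 3, 20, 23, 24, 5, 29, 6, 34, 37, 41, 28, 27, 9, 21, 43, 10, 11, 46, 26, 19, 18, 13, 32, 50, 30, 51, 15, 53, 55, 16, 49, 45, 57, 17, 56, 22, 47, 39, 25, 44, 52, 38, 31, 33, 48, 35, 58, 36, 42, 40, 54, 59, 60, 61, 62],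
   [1, 5, 0, 6, 9, 13, 15, 16, 17, 21, 2, 25, 26, 30, 31, 35, 38, 39, 7, 42, 41, 18, 37, 44, 45, 47, 23, 10, 48, 19, 34, 12, 3, 22, 27, 54, 4, 55, 56, 14, 52, 43, 57, 24, 8, 28, 58, 59, 60, 29, 33, 61, 32, 20, 62, 11, 36, 51, 49, 50, 53, 46, 40]]

/-- tables of the 54 generators on the 84 vectors -/
def permG : List (List ℕ) :=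
  [
   [0, 1, 2, 3, 4, 5, 6, 7, 8, 9, 10, 11, 12, 13, 14, 15, 16, 17, 18, 19, 20, 21, 22, 23, 24, 25, 26, 27, 28, 29, 30, 31, 32, 33, 34, 35, 36, 37, 38, 39, 40, 41, 42, 43, 44, 45, 46, 47, 48, 49, 50, 51, 52, 53, 54, 55, 56, 57, 58, 59, 60, 61, 62, 63, 64, 65, 66, 67, 68, 69, 70, 71, 72, 73, 74, 75, 76, 77, 78, 79, 80, 81, 82, 83],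
   [1, 7, 8, 9, 22, 18, 5, 0, 29, 30, 39, 12, 34, 35, 24, 54, 52, 13, 6, 51, 48, 63, 47, 56, 49, 26, 58, 50, 15, 2, 3, 61, 21, 71, 11, 17, 53, 42, 62, 69, 79, 44, 64, 46, 81, 31, 59, 4, 78, 14, 68, 65, 66, 74, 28, 82, 75, 33, 25, 43, 77, 45, 73, 32, 37, 19, 16, 40, 27, 10, 70, 57, 55, 38, 36, 23, 76, 83, 20, 67, 80, 41, 72, 60],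
   [7, 0, 29, 30, 47, 6, 18, 1, 2, 3, 69, 34, 11, 17, 49, 28, 66, 35, 5, 65, 78, 32, 4, 75, 14, 58, 25, 68, 54, 8, 9, 45, 63, 57, 12, 13, 74, 64, 73, 10, 67, 81, 37, 59, 41, 61, 43, 22, 20, 24, 27, 19, 16, 36, 15, 72, 23, 71, 26, 46, 83, 31, 38, 21, 42, 51, 52, 79, 50, 39, 70, 33, 82, 62, 53, 56, 76, 60, 48, 40, 80, 44, 55, 77],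
   [2, 8, 12, 17, 23, 22, 4, 29, 34, 13, 27, 7, 0, 43, 51, 55, 41, 59, 47, 63, 16, 24, 56, 6, 65, 38, 62, 71, 72, 11, 35, 74, 14, 69, 1, 46, 79, 15, 77, 50, 31, 20, 54, 9, 48, 53, 30, 75, 52, 19, 57, 32, 44, 67, 82, 37, 5, 39, 73, 3, 58, 36, 83, 49, 28, 21, 81, 45, 33, 68, 70, 10, 64, 60, 40, 18, 76, 25, 66, 61, 80, 78, 42, 26],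
   [8, 29, 34, 13, 56, 47, 22, 2, 11, 35, 50, 0, 1, 46, 65, 82, 44, 43, 4, 32, 52, 49, 75, 5, 19, 62, 73, 57, 55, 12, 17, 36, 24, 10, 7, 59, 67, 54, 83, 68, 61, 48, 28, 30, 78, 74, 3, 23, 66, 51, 33, 21, 81, 40, 72, 42, 18, 69, 38, 9, 25, 53, 60, 14, 15, 63, 41, 31, 71, 27, 70, 39, 37, 77, 79, 6, 76, 26, 16, 45, 80, 20, 64, 58],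
   [29, 2, 11, 35, 75, 4, 47, 8, 12, 17, 68, 1, 7, 59, 19, 72, 81, 46, 22, 21, 66, 14, 23, 18, 51, 73, 38, 33, 82, 34, 13, 53, 49, 39, 0, 43, 40, 28, 60, 27, 45, 78, 15, 3, 20, 36, 9, 56, 16, 65, 71, 63, 41, 79, 55, 64, 6, 10, 62, 30, 26, 74, 77, 24, 54, 32, 44, 61, 57, 50, 70, 69, 42, 83, 67, 5, 76, 58, 52, 31, 80, 48, 37, 25],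
   [12, 34, 0, 59, 6, 56, 23, 11, 1, 43, 71, 29, 2, 9, 32, 37, 20, 3, 75, 49, 41, 65, 5, 4, 21, 77, 83, 10, 64, 7, 46, 40, 51, 68, 8, 30, 61, 55, 25, 57, 74, 16, 82, 13, 52, 67, 35, 18, 44, 63, 39, 14, 48, 45, 42, 15, 22, 50, 60, 17, 73, 79, 26, 19, 72, 24, 78, 53, 69, 33, 70, 27, 28, 58, 31, 47, 76, 38, 81, 36, 80, 66, 54, 62],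
   [34, 11, 1, 43, 5, 75, 56, 12, 7, 46, 57, 2, 8, 30, 21, 42, 48, 9, 23, 14, 44, 19, 18, 22, 63, 83, 60, 39, 37, 0, 59, 79, 65, 27, 29, 3, 45, 82, 26, 33, 36, 52, 72, 35, 66, 40, 17, 6, 81, 32, 69, 24, 78, 31, 64, 54, 47, 68, 77, 13, 38, 67, 58, 51, 55, 49, 20, 74, 10, 71, 70, 50, 15, 25, 61, 4, 76, 62, 41, 53, 80, 16, 28, 73],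
   [11, 12, 7, 46, 18, 23, 75, 34, 0, 59, 33, 8, 29, 3, 63, 64, 78, 30, 56, 24, 81, 51, 6, 47, 32, 60, 77, 69, 42, 1, 43, 67, 19, 50, 2, 9, 31, 72, 58, 71, 53, 66, 55, 17, 16, 79, 13, 5, 41, 21, 10, 49, 20, 61, 37, 28, 4, 27, 83, 35, 62, 40, 25, 65, 82, 14, 48, 36, 39, 57, 70, 68, 54, 26, 45, 22, 76, 73, 44, 74, 80, 52, 15, 38],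
   [3, 9, 13, 18, 8, 1, 0, 30, 35, 6, 40, 43, 46, 22, 52, 14, 54, 4, 7, 44, 37, 48, 29, 11, 66, 50, 68, 61, 49, 17, 5, 25, 20, 36, 59, 47, 73, 63, 33, 79, 60, 72, 32, 75, 55, 58, 23, 2, 42, 16, 45, 81, 28, 38, 24, 65, 12, 74, 27, 56, 69, 26, 71, 78, 21, 41, 15, 83, 31, 67, 76, 53, 51, 57, 62, 34, 80, 10, 64, 77, 70, 82, 19, 39],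
   [9, 30, 35, 6, 29, 7, 1, 3, 17, 5, 79, 46, 59, 47, 66, 24, 28, 22, 0, 81, 42, 78, 2, 12, 16, 68, 27, 45, 14, 13, 18, 26, 48, 53, 43, 4, 38, 32, 71, 67, 77, 55, 21, 23, 82, 25, 56, 8, 64, 52, 31, 41, 15, 62, 49, 19, 34, 36, 50, 75, 10, 58, 57, 20, 63, 44, 54, 60, 61, 40, 76, 74, 65, 33, 73, 11, 80, 39, 37, 83, 70, 72, 51, 69],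
   [30, 3, 17, 5, 2, 0, 7, 9, 13, 18, 67, 59, 43, 4, 16, 49, 15, 47, 1, 41, 64, 20, 8, 34, 52, 27, 50, 31, 24, 35, 6, 58, 78, 74, 46, 22, 62, 21, 57, 40, 83, 82, 63, 56, 72, 26, 75, 29, 37, 66, 61, 44, 54, 73, 14, 51, 11, 53, 68, 23, 39, 25, 33, 48, 32, 81, 28, 77, 45, 79, 76, 36, 19, 71, 38, 12, 80, 69, 42, 60, 70, 55, 65, 10],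
   [13, 35, 46, 4, 11, 29, 8, 17, 59, 22, 61, 30, 3, 75, 81, 65, 72, 56, 2, 78, 54, 66, 12, 0, 41, 33, 71, 53, 51, 43, 47, 62, 52, 67, 9, 23, 77, 14, 10, 45, 25, 37, 24, 6, 42, 38, 5, 34, 28, 44, 74, 20, 55, 83, 19, 63, 1, 79, 57, 18, 27, 73, 39, 16, 49, 48, 82, 58, 36, 31, 76, 40, 21, 69, 60, 7, 80, 50, 15, 26, 70, 64, 32, 68],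
   [35, 17, 59, 22, 12, 2, 29, 13, 43, 47, 45, 3, 9, 23, 41, 19, 55, 75, 8, 20, 28, 16, 34, 1, 44, 71, 57, 74, 65, 46, 4, 73, 66, 40, 30, 56, 83, 24, 39, 31, 26, 42, 49, 5, 64, 62, 18, 11, 15, 81, 36, 48, 82, 60, 51, 32, 7, 67, 33, 6, 50, 38, 69, 52, 14, 78, 72, 25, 53, 61, 76, 79, 63, 10, 77, 0, 80, 68, 54, 58, 70, 37, 21, 27],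
   [17, 13, 43, 47, 34, 8, 2, 35, 46, 4, 31, 9, 30, 56, 44, 51, 82, 23, 29, 48, 15, 52, 11, 7, 81, 57, 33, 36, 19, 59, 22, 38, 16, 79, 3, 75, 60, 49, 69, 61, 58, 64, 14, 18, 37, 73, 6, 12, 54, 41, 53, 78, 72, 77, 65, 21, 0, 40, 71, 5, 68, 62, 10, 66, 24, 20, 55, 26, 74, 45, 76, 67, 32, 39, 83, 1, 80, 27, 28, 25, 70, 42, 63, 50],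
   [46, 59, 3, 56, 0, 12, 11, 43, 9, 75, 53, 17, 13, 6, 20, 63, 37, 18, 34, 16, 72, 41, 1, 8, 48, 10, 39, 40, 21, 30, 23, 60, 81, 31, 35, 5, 26, 65, 50, 74, 62, 54, 19, 22, 28, 83, 47, 7, 55, 78, 79, 52, 42, 58, 32, 14, 29, 45, 69, 4, 57, 77, 68, 44, 51, 66, 64, 38, 67, 36, 76, 61, 49, 27, 25, 2, 80, 33, 82, 73, 70, 15, 24, 71],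
   [59, 43, 9, 75, 1, 34, 12, 46, 30, 23, 74, 13, 35, 5, 48, 32, 42, 6, 11, 52, 55, 44, 7, 29, 78, 39, 69, 79, 63, 3, 56, 77, 41, 61, 17, 18, 58, 19, 68, 36, 73, 28, 51, 47, 15, 60, 4, 0, 82, 20, 67, 66, 64, 25, 21, 24, 2, 31, 10, 22, 33, 83, 27, 81, 65, 16, 37, 62, 40, 53, 76, 45, 14, 50, 26, 8, 80, 71, 72, 38, 70, 54, 49, 57],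
   [43, 46, 30, 23, 7, 11, 34, 59, 3, 56, 36, 35, 17, 18, 78, 21, 64, 5, 12, 66, 82, 81, 0, 2, 20, 69, 10, 67, 32, 9, 75, 83, 44, 45, 13, 6, 25, 51, 27, 53, 38, 15, 65, 4, 54, 77, 22, 1, 72, 48, 40, 16, 37, 26, 63, 49, 8, 61, 39, 47, 71, 60, 50, 41, 19, 52, 42, 73, 79, 74, 76, 31, 24, 68, 58, 29, 80, 57, 55, 62, 70, 28, 14, 33],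
   [22, 47, 23, 8, 43, 17, 35, 4, 56, 29, 26, 5, 18, 34, 82, 41, 51, 12, 13, 64, 24, 15, 46, 3, 72, 36, 53, 38, 81, 75, 2, 71, 28, 83, 6, 11, 10, 52, 40, 58, 50, 63, 66, 0, 32, 33, 1, 59, 49, 55, 62, 37, 65, 39, 44, 78, 9, 77, 74, 7, 61, 57, 79, 54, 16, 42, 19, 27, 73, 25, 80, 60, 48, 67, 69, 30, 70, 45, 14, 68, 76, 21, 20, 31],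
   [47, 4, 56, 29, 46, 13, 17, 22, 75, 2, 58, 18, 6, 11, 72, 44, 65, 34, 35, 37, 49, 54, 59, 9, 55, 53, 74, 62, 41, 23, 8, 57, 15, 60, 5, 12, 39, 66, 79, 25, 68, 32, 16, 1, 21, 71, 7, 43, 14, 82, 73, 42, 19, 69, 81, 20, 30, 83, 36, 0, 45, 33, 67, 28, 52, 64, 51, 50, 38, 26, 80, 77, 78, 40, 10, 3, 70, 31, 24, 27, 76, 63, 48, 61],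
   [4, 22, 75, 2, 59, 35, 13, 47, 23, 8, 25, 6, 5, 12, 55, 81, 19, 11, 17, 42, 14, 28, 43, 30, 82, 74, 36, 73, 44, 56, 29, 33, 54, 77, 18, 34, 69, 16, 67, 26, 27, 21, 52, 7, 63, 57, 0, 46, 24, 72, 38, 64, 51, 10, 41, 48, 3, 60, 53, 1, 31, 71, 40, 15, 66, 37, 65, 68, 62, 58, 80, 83, 20, 79, 39, 9, 70, 61, 49, 50, 76, 32, 78, 45],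
   [23, 56, 18, 12, 3, 46, 43, 75, 6, 34, 38, 4, 22, 0, 37, 78, 63, 7, 59, 54, 51, 72, 9, 35, 42, 40, 79, 60, 48, 5, 11, 69, 82, 25, 47, 1, 68, 41, 45, 62, 71, 24, 44, 29, 49, 39, 2, 30, 65, 64, 77, 28, 32, 27, 20, 52, 17, 58, 67, 8, 74, 10, 31, 55, 81, 15, 21, 33, 83, 73, 80, 26, 16, 61, 50, 13, 70, 36, 19, 57, 76, 14, 66, 53],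
   [56, 75, 6, 34, 9, 59, 46, 23, 5, 11, 62, 22, 47, 1, 42, 20, 32, 0, 43, 28, 65, 55, 30, 17, 64, 79, 67, 77, 78, 18, 12, 10, 72, 26, 4, 7, 27, 44, 31, 73, 57, 49, 81, 2, 14, 69, 8, 3, 19, 37, 83, 15, 21, 50, 48, 66, 13, 25, 40, 29, 36, 39, 61, 82, 41, 54, 63, 71, 60, 38, 80, 58, 52, 45, 68, 35, 70, 53, 51, 33, 76, 24, 16, 74],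
   [75, 23, 5, 11, 30, 43, 59, 56, 18, 12, 73, 47, 4, 7, 64, 48, 21, 1, 46, 15, 19, 82, 3, 13, 37, 67, 40, 83, 20, 6, 34, 39, 55, 58, 22, 0, 50, 81, 61, 38, 33, 14, 41, 8, 24, 10, 29, 9, 51, 42, 60, 54, 63, 68, 78, 16, 35, 26, 79, 2, 53, 69, 45, 72, 44, 28, 32, 57, 77, 62, 80, 25, 66, 31, 27, 17, 70, 74, 65, 71, 76, 49, 52, 36],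
   [18, 6, 22, 7, 35, 9, 3, 5, 47, 0, 60, 75, 23, 29, 28, 52, 24, 8, 30, 55, 63, 42, 17, 43, 15, 45, 31, 26, 16, 4, 1, 50, 37, 73, 56, 2, 57, 78, 36, 77, 69, 51, 20, 34, 65, 27, 11, 13, 32, 54, 58, 82, 49, 33, 66, 41, 46, 62, 61, 12, 67, 68, 53, 64, 48, 72, 14, 39, 25, 83, 80, 38, 81, 74, 71, 59, 70, 40, 21, 10, 76, 19, 44, 79],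
   [6, 5, 47, 0, 17, 30, 9, 18, 4, 1, 77, 23, 56, 2, 15, 66, 49, 29, 3, 82, 32, 64, 13, 46, 54, 31, 61, 58, 52, 22, 7, 68, 42, 38, 75, 8, 33, 20, 53, 83, 10, 65, 48, 11, 19, 50, 12, 35, 21, 28, 25, 72, 14, 71, 16, 44, 59, 73, 45, 34, 40, 27, 74, 37, 78, 55, 24, 69, 26, 60, 80, 62, 41, 36, 57, 43, 70, 79, 63, 39, 76, 51, 81, 67],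
   [5, 18, 4, 1, 13, 3, 30, 6, 22, 7, 83, 56, 75, 8, 54, 16, 14, 2, 9, 72, 21, 37, 35, 59, 28, 61, 45, 25, 66, 47, 0, 27, 64, 62, 23, 29, 71, 48, 74, 60, 39, 19, 78, 12, 51, 68, 34, 17, 63, 15, 26, 55, 24, 57, 52, 81, 43, 38, 31, 11, 79, 50, 36, 42, 20, 82, 49, 10, 58, 77, 80, 73, 44, 53, 33, 46, 70, 67, 32, 69, 76, 65, 41, 40],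
   [0, 1, 2, 3, 4, 5, 6, 7, 8, 9, 10, 11, 12, 13, 14, 15, 16, 17, 18, 19, 20, 21, 22, 23, 24, 25, 26, 27, 28, 29, 30, 31, 32, 33, 34, 35, 36, 37, 38, 39, 40, 41, 42, 43, 44, 45, 46, 47, 48, 49, 50, 51, 52, 53, 54, 55, 56, 57, 58, 59, 60, 61, 62, 63, 64, 65, 66, 67, 68, 69, 70, 71, 72, 73, 74, 75, 76, 77, 78, 79, 80, 81, 82, 83],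
   [4, 10, 14, 19, 17, 24, 25, 31, 36, 38, 41, 42, 47, 49, 22, 53, 43, 0, 32, 63, 33, 50, 2, 9, 60, 44, 67, 26, 51, 70, 16, 75, 76, 77, 56, 35, 71, 79, 23, 80, 40, 1, 69, 30, 6, 81, 58, 82, 34, 54, 83, 66, 74, 55, 13, 15, 48, 46, 57, 45, 5, 52, 68, 3, 62, 37, 28, 27, 64, 11, 73, 8, 39, 29, 61, 7, 18, 20, 78, 65, 72, 59, 12, 21],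
   [17, 41, 22, 63, 0, 60, 44, 75, 71, 23, 1, 69, 82, 54, 2, 55, 30, 4, 76, 3, 77, 83, 14, 38, 5, 6, 27, 67, 66, 73, 43, 7, 18, 20, 48, 35, 8, 65, 9, 72, 40, 10, 11, 16, 25, 59, 57, 12, 56, 13, 21, 28, 61, 15, 49, 53, 34, 58, 46, 81, 24, 74, 64, 19, 68, 79, 51, 26, 62, 42, 29, 36, 80, 70, 52, 31, 32, 33, 78, 37, 39, 45, 47, 50],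
   [5, 0, 15, 20, 24, 1, 27, 32, 37, 13, 4, 44, 8, 50, 53, 56, 58, 60, 61, 33, 64, 23, 55, 54, 10, 26, 69, 42, 73, 45, 46, 76, 52, 62, 22, 35, 79, 12, 49, 43, 40, 17, 6, 57, 67, 51, 80, 36, 14, 83, 9, 29, 7, 48, 21, 34, 2, 39, 72, 28, 41, 75, 19, 77, 3, 82, 70, 11, 63, 25, 81, 65, 16, 59, 31, 18, 74, 68, 78, 47, 30, 66, 71, 38],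
   [24, 4, 53, 33, 60, 10, 26, 76, 79, 49, 17, 6, 36, 83, 55, 48, 57, 5, 52, 77, 62, 9, 15, 13, 41, 67, 11, 69, 29, 81, 58, 18, 74, 68, 2, 35, 65, 47, 54, 30, 40, 0, 25, 46, 27, 66, 72, 71, 22, 21, 38, 70, 31, 34, 50, 56, 14, 80, 39, 51, 1, 7, 63, 20, 19, 12, 73, 42, 3, 44, 59, 37, 43, 45, 75, 32, 61, 64, 78, 82, 16, 28, 8, 23],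
   [60, 17, 55, 77, 5, 41, 67, 18, 65, 54, 0, 25, 71, 21, 15, 34, 46, 24, 74, 20, 68, 38, 53, 49, 1, 27, 42, 11, 70, 59, 57, 32, 61, 64, 14, 35, 37, 82, 13, 16, 40, 4, 44, 58, 26, 28, 39, 8, 2, 50, 23, 73, 75, 56, 83, 48, 22, 72, 80, 66, 10, 31, 3, 33, 63, 47, 29, 69, 19, 6, 45, 79, 30, 81, 7, 76, 52, 62, 78, 12, 43, 51, 36, 9],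
   [1, 5, 56, 64, 10, 0, 42, 52, 12, 50, 24, 67, 37, 9, 48, 2, 72, 41, 75, 62, 3, 54, 34, 21, 4, 69, 25, 6, 59, 51, 80, 74, 7, 19, 55, 35, 47, 8, 83, 57, 40, 60, 27, 39, 11, 29, 30, 79, 53, 38, 13, 45, 32, 14, 23, 22, 15, 43, 16, 73, 17, 18, 33, 68, 20, 71, 81, 44, 77, 26, 66, 82, 58, 28, 76, 61, 31, 63, 78, 36, 46, 70, 65, 49],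
   [10, 24, 48, 62, 41, 4, 69, 74, 47, 83, 60, 27, 79, 38, 34, 14, 39, 1, 7, 68, 19, 13, 56, 50, 17, 11, 44, 25, 45, 66, 72, 61, 31, 63, 15, 35, 82, 36, 21, 46, 40, 5, 26, 80, 42, 70, 16, 65, 55, 23, 49, 81, 76, 22, 9, 2, 53, 30, 43, 29, 0, 32, 77, 64, 33, 8, 59, 6, 20, 67, 28, 12, 57, 51, 18, 52, 75, 3, 78, 71, 58, 73, 37, 54],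
   [41, 60, 34, 68, 1, 17, 11, 61, 82, 21, 5, 26, 65, 23, 56, 22, 80, 10, 31, 64, 63, 49, 48, 83, 0, 42, 6, 44, 81, 28, 39, 52, 75, 3, 53, 35, 12, 71, 50, 58, 40, 24, 67, 72, 69, 73, 43, 37, 15, 9, 54, 59, 18, 2, 38, 14, 55, 16, 30, 70, 4, 76, 20, 62, 77, 36, 45, 25, 33, 27, 51, 47, 46, 66, 32, 74, 7, 19, 78, 8, 57, 29, 79, 13],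
   [6, 11, 16, 21, 25, 26, 28, 33, 22, 31, 42, 45, 48, 18, 43, 57, 8, 44, 62, 50, 9, 61, 30, 7, 67, 51, 70, 29, 17, 24, 71, 77, 68, 38, 39, 78, 2, 15, 75, 12, 35, 69, 81, 36, 66, 41, 37, 34, 72, 32, 52, 0, 3, 46, 76, 58, 80, 65, 79, 10, 27, 63, 54, 83, 49, 55, 4, 73, 13, 59, 60, 14, 82, 5, 19, 20, 64, 23, 40, 53, 47, 1, 56, 74],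
   [25, 42, 43, 50, 44, 67, 51, 77, 2, 75, 69, 81, 34, 32, 30, 46, 36, 6, 68, 83, 38, 52, 16, 31, 27, 66, 73, 70, 0, 60, 8, 20, 64, 23, 80, 78, 14, 53, 7, 47, 35, 11, 59, 71, 28, 1, 79, 56, 39, 76, 74, 4, 19, 58, 18, 57, 72, 37, 65, 41, 26, 3, 13, 21, 54, 15, 17, 29, 49, 45, 5, 22, 12, 24, 63, 33, 62, 9, 40, 55, 82, 10, 48, 61],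
   [44, 69, 30, 83, 6, 27, 66, 20, 14, 7, 11, 59, 56, 76, 16, 58, 71, 25, 64, 21, 23, 74, 43, 75, 26, 28, 29, 73, 4, 5, 36, 33, 62, 9, 72, 78, 22, 55, 31, 82, 35, 42, 45, 8, 51, 10, 65, 48, 80, 18, 61, 17, 63, 57, 32, 46, 39, 79, 37, 1, 67, 19, 49, 50, 13, 53, 0, 70, 54, 81, 24, 2, 47, 60, 3, 77, 68, 38, 40, 15, 12, 41, 34, 52],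
   [26, 6, 57, 9, 67, 11, 29, 68, 15, 18, 25, 66, 22, 52, 46, 80, 79, 27, 63, 38, 49, 7, 58, 76, 42, 70, 59, 81, 5, 41, 37, 64, 3, 54, 30, 78, 53, 48, 32, 36, 35, 44, 28, 65, 73, 0, 47, 2, 43, 74, 31, 24, 33, 72, 61, 39, 16, 12, 82, 17, 69, 20, 50, 23, 21, 56, 60, 45, 83, 51, 1, 55, 8, 10, 77, 62, 19, 13, 40, 34, 71, 4, 14, 75],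
   [67, 25, 46, 38, 27, 42, 70, 64, 53, 32, 44, 28, 2, 74, 58, 72, 65, 26, 3, 23, 54, 31, 57, 18, 69, 73, 45, 59, 24, 1, 79, 62, 19, 13, 16, 78, 55, 34, 76, 71, 35, 6, 51, 37, 29, 4, 82, 14, 30, 61, 75, 60, 77, 39, 52, 80, 43, 47, 12, 0, 11, 33, 83, 9, 50, 48, 5, 81, 21, 66, 10, 15, 36, 41, 20, 68, 63, 49, 40, 56, 8, 17, 22, 7],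
   [27, 44, 58, 23, 26, 69, 73, 62, 55, 76, 6, 51, 14, 61, 57, 39, 37, 67, 19, 9, 13, 75, 46, 32, 11, 29, 81, 45, 60, 10, 65, 68, 63, 49, 43, 78, 15, 56, 18, 8, 35, 25, 66, 79, 70, 17, 12, 22, 16, 52, 7, 5, 20, 80, 74, 72, 30, 82, 47, 4, 42, 77, 21, 38, 83, 34, 24, 59, 50, 28, 41, 53, 71, 1, 33, 64, 3, 54, 40, 48, 36, 0, 2, 31],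
   [11, 26, 80, 49, 42, 6, 81, 3, 48, 52, 67, 73, 15, 31, 72, 16, 82, 69, 20, 54, 21, 76, 39, 61, 25, 59, 51, 28, 10, 0, 47, 19, 33, 50, 58, 78, 34, 22, 74, 65, 35, 27, 29, 12, 45, 24, 71, 53, 46, 75, 18, 41, 68, 43, 7, 30, 57, 36, 8, 5, 44, 62, 38, 13, 9, 14, 1, 66, 23, 70, 4, 56, 79, 17, 64, 63, 77, 83, 40, 2, 37, 60, 55, 32],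
   [42, 67, 72, 54, 69, 25, 59, 19, 34, 74, 27, 29, 53, 75, 39, 43, 12, 11, 33, 13, 50, 18, 80, 52, 44, 45, 66, 51, 41, 4, 82, 63, 77, 83, 57, 78, 56, 2, 61, 37, 35, 26, 70, 47, 81, 60, 8, 55, 58, 7, 32, 1, 64, 30, 31, 16, 46, 71, 36, 24, 6, 68, 23, 49, 38, 22, 10, 28, 9, 73, 17, 48, 65, 0, 62, 3, 20, 21, 40, 14, 79, 5, 15, 76],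
   [69, 27, 39, 13, 11, 44, 45, 63, 56, 61, 26, 70, 55, 7, 80, 30, 47, 42, 77, 49, 83, 32, 72, 74, 6, 81, 28, 66, 1, 17, 12, 3, 20, 21, 46, 78, 48, 14, 52, 79, 35, 67, 73, 82, 59, 5, 36, 15, 57, 31, 76, 10, 62, 16, 75, 43, 58, 8, 71, 60, 25, 64, 9, 54, 23, 2, 41, 51, 38, 29, 0, 34, 37, 4, 68, 19, 33, 50, 40, 22, 65, 24, 53, 18],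
   [70, 28, 65, 31, 73, 45, 24, 13, 57, 62, 51, 4, 30, 3, 37, 47, 53, 29, 83, 75, 32, 33, 79, 64, 81, 60, 10, 1, 26, 69, 15, 49, 21, 76, 71, 40, 46, 72, 68, 2, 78, 66, 17, 55, 5, 6, 34, 16, 36, 19, 77, 67, 38, 82, 63, 12, 8, 48, 56, 44, 59, 9, 52, 7, 61, 80, 27, 41, 74, 0, 11, 58, 22, 42, 23, 54, 50, 18, 35, 39, 14, 25, 43, 20],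
   [73, 51, 37, 75, 29, 81, 60, 49, 46, 68, 66, 17, 16, 19, 79, 82, 55, 70, 21, 7, 76, 77, 65, 62, 59, 5, 41, 10, 67, 11, 53, 54, 50, 18, 8, 40, 58, 39, 64, 14, 78, 28, 0, 15, 24, 25, 56, 43, 71, 63, 20, 27, 23, 12, 3, 47, 36, 34, 48, 6, 45, 38, 74, 31, 52, 72, 26, 1, 61, 4, 42, 57, 2, 69, 9, 13, 83, 32, 35, 80, 22, 44, 30, 33],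
   [29, 66, 79, 7, 70, 59, 5, 54, 58, 64, 28, 0, 43, 63, 65, 12, 15, 73, 50, 31, 18, 20, 37, 68, 45, 24, 1, 41, 27, 42, 55, 13, 83, 32, 36, 40, 57, 80, 62, 22, 78, 51, 4, 53, 60, 44, 48, 30, 8, 3, 33, 26, 9, 47, 19, 82, 71, 56, 34, 25, 81, 23, 61, 75, 74, 39, 67, 10, 52, 17, 69, 46, 14, 11, 38, 49, 21, 76, 35, 72, 2, 6, 16, 77],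
   [45, 70, 47, 32, 81, 28, 1, 21, 72, 3, 73, 5, 57, 77, 82, 8, 56, 59, 9, 76, 61, 64, 12, 63, 51, 10, 0, 17, 42, 6, 34, 50, 38, 52, 79, 40, 39, 30, 19, 55, 78, 29, 24, 48, 41, 67, 14, 46, 37, 20, 62, 69, 13, 36, 33, 71, 65, 2, 22, 26, 66, 54, 75, 18, 31, 43, 11, 4, 7, 60, 25, 80, 53, 44, 49, 83, 23, 74, 35, 16, 15, 27, 58, 68],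
   [81, 73, 82, 76, 59, 51, 10, 50, 39, 19, 29, 24, 46, 20, 12, 36, 48, 45, 38, 18, 52, 62, 47, 3, 66, 41, 4, 0, 69, 25, 56, 83, 23, 74, 65, 40, 80, 16, 63, 15, 78, 70, 60, 34, 1, 27, 22, 58, 79, 33, 68, 11, 49, 71, 77, 8, 37, 14, 2, 67, 28, 13, 7, 32, 75, 30, 42, 17, 31, 5, 44, 72, 55, 6, 54, 21, 9, 61, 35, 43, 53, 26, 57, 64],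
   [59, 29, 12, 18, 45, 66, 41, 83, 80, 63, 70, 60, 58, 33, 47, 71, 34, 81, 23, 32, 74, 68, 82, 19, 28, 1, 17, 4, 11, 44, 48, 21, 9, 61, 37, 40, 72, 43, 3, 53, 78, 73, 5, 56, 10, 26, 2, 57, 65, 77, 64, 42, 54, 8, 20, 36, 79, 22, 14, 27, 51, 49, 31, 76, 7, 16, 69, 0, 75, 24, 6, 39, 15, 25, 13, 50, 38, 52, 35, 30, 55, 67, 46, 62],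
   [28, 45, 8, 61, 51, 70, 17, 38, 30, 77, 81, 41, 72, 62, 36, 65, 22, 66, 54, 52, 31, 63, 71, 33, 73, 0, 60, 24, 44, 67, 14, 23, 13, 75, 12, 40, 16, 57, 20, 48, 78, 59, 1, 2, 4, 69, 15, 39, 82, 68, 3, 6, 21, 37, 64, 79, 47, 55, 53, 42, 29, 83, 76, 74, 32, 58, 25, 5, 18, 10, 27, 43, 56, 26, 50, 9, 49, 7, 35, 46, 34, 11, 80, 19],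
   [51, 81, 36, 52, 66, 73, 0, 23, 16, 20, 59, 1, 39, 68, 71, 37, 2, 28, 13, 74, 75, 3, 8, 77, 29, 4, 5, 60, 6, 27, 22, 9, 49, 7, 47, 40, 43, 46, 33, 34, 78, 45, 10, 14, 17, 11, 53, 80, 12, 64, 19, 25, 50, 79, 62, 65, 82, 15, 55, 69, 70, 21, 18, 61, 76, 57, 44, 24, 32, 41, 26, 30, 48, 67, 83, 38, 54, 31, 35, 58, 56, 42, 72, 63],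
   [66, 59, 71, 74, 28, 29, 4, 9, 43, 33, 45, 10, 80, 64, 8, 79, 14, 51, 49, 61, 7, 19, 36, 20, 70, 17, 24, 5, 25, 26, 2, 38, 54, 31, 82, 40, 30, 58, 77, 56, 78, 81, 41, 22, 0, 42, 55, 72, 47, 62, 63, 44, 83, 65, 68, 37, 12, 53, 15, 11, 73, 50, 32, 52, 18, 46, 6, 60, 76, 1, 67, 16, 34, 27, 21, 23, 13, 75, 35, 57, 48, 69, 39, 3]]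

/-- tables of the four words on the 84 vectors -/
def permY : List (List ℕ) :=
  [
   [81, 29, 21, 80, 45, 28, 6, 47, 18, 15, 73, 42, 31, 48, 83, 9, 20, 59, 8, 39, 16, 2, 50, 53, 66, 44, 27, 26, 5, 1, 33, 12, 71, 30, 54, 35, 76, 52, 55, 19, 78, 70, 11, 77, 25, 4, 68, 7, 13, 56, 22, 60, 37, 23, 34, 38, 49, 64, 62, 17, 51, 79, 58, 72, 57, 74, 24, 67, 46, 69, 41, 32, 63, 10, 65, 82, 36, 43, 40, 61, 3, 0, 75, 14],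
   [65, 75, 40, 17, 45, 39, 67, 34, 42, 44, 83, 18, 66, 38, 73, 25, 70, 3, 11, 28, 41, 78, 63, 23, 31, 15, 60, 51, 19, 82, 30, 24, 62, 33, 7, 69, 79, 43, 13, 5, 2, 20, 8, 37, 9, 4, 68, 54, 55, 57, 72, 27, 77, 53, 47, 48, 64, 49, 71, 80, 26, 76, 32, 22, 56, 0, 12, 6, 46, 35, 16, 58, 50, 14, 81, 1, 61, 52, 21, 36, 59, 74, 29, 10],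
   [44, 62, 55, 76, 46, 19, 69, 27, 10, 65, 8, 14, 43, 78, 11, 74, 20, 61, 73, 5, 16, 38, 22, 30, 52, 81, 47, 7, 39, 58, 23, 77, 75, 53, 51, 67, 80, 66, 21, 28, 48, 70, 83, 12, 0, 68, 4, 26, 40, 57, 50, 34, 24, 33, 60, 2, 64, 49, 29, 79, 54, 17, 1, 63, 56, 9, 37, 35, 45, 6, 41, 82, 72, 18, 15, 32, 3, 31, 13, 59, 36, 25, 71, 42],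
   [59, 29, 12, 18, 45, 66, 41, 83, 80, 63, 70, 60, 58, 33, 47, 71, 34, 81, 23, 32, 74, 68, 82, 19, 28, 1, 17, 4, 11, 44, 48, 21, 9, 61, 37, 40, 72, 43, 3, 53, 78, 73, 5, 56, 10, 26, 2, 57, 65, 77, 64, 42, 54, 8, 20, 36, 79, 22, 14, 27, 51, 49, 31, 76, 7, 16, 69, 0, 75, 24, 6, 39, 15, 25, 13, 50, 38, 52, 35, 30, 55, 67, 46, 62]]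

/-- the four vectors of `F₃¹⁴` related to each vector of `F₈²` -/
def relL : List (List ℕ) :=
  [[16, 20, 41, 70], [6, 34, 73, 74], [6, 10, 54, 65], [7, 14, 67, 81], [15, 18, 51, 69], [13, 25, 37, 41], [0, 47, 67, 83], [8, 9, 60, 69], [11, 25, 27, 35], [23, 24, 42, 71], [44, 48, 52, 70], [15, 20, 38, 43], [66, 70, 78, 81], [1, 33, 43, 73], [26, 35, 42, 44], [0, 57, 59, 62], [24, 51, 63, 80], [1, 4, 40, 60], [11, 32, 53, 66], [8, 23, 31, 58], [30, 52, 82, 83], [5, 19, 28, 39], [9, 16, 55, 77], [0, 24, 40, 41], [12, 16, 21, 74], [3, 56, 71, 74], [6, 35, 67, 69], [10, 29, 30, 77], [14, 33, 37, 75], [12, 18, 53, 62], [25, 29, 56, 61], [5, 10,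 17, 40], [17, 58, 64, 81], [32, 49, 65, 80], [1, 44, 49, 79], [22, 27, 31, 59], [3, 60, 66, 72], [34, 36, 52, 63], [28, 42, 55, 76], [29, 45, 51, 78], [2, 26, 45, 75], [46, 48, 54, 62], [14, 19, 21, 80], [2, 20, 31, 65], [28, 59, 73, 78], [13, 34, 58, 68], [15, 64, 76, 82], [13, 18, 39, 79], [43, 47, 50, 61], [2, 3, 39, 83], [8, 19, 48, 61], [9, 36, 57, 75], [12, 17, 26, 50], [7, 22, 77, 79], [4, 21, 27, 82], [37, 54, 72, 76], [5, 11, 36, 38], [32, 47, 55, 68], [7, 38, 46, 71], [23, 30, 33, 53], [49, 56, 57, 64], [22, 50, 63, 72], [4, 45, 46, 68]]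

/-- the three vectors of `F₈²` related to each vector of `F₃¹⁴` -/
def TL : List (List ℕ) :=
  [[6, 15, 23], [13, 17, 34], [40, 43, 49], [25, 36, 49], [17, 54, 62], [21, 31, 56], [1, 2, 26], [3, 53, 58], [7, 19, 50], [7, 22, 51], [2, 27, 31], [8, 18, 56], [24, 29, 52], [5, 45, 47], [3, 28, 42], [4, 11, 46], [0, 22, 24], [31, 32, 52], [4, 29, 47], [21, 42, 50], [0, 11, 43], [24, 42, 54], [35, 53, 61], [9, 19, 59], [9, 16, 23], [5, 8, 30], [14, 40, 52], [8, 35, 54], [21, 38, 44], [27, 30, 39], [20, 27, 59], [19, 35, 43], [18, 33, 57], [13, 28, 59], [1, 37, 45], [8, 14, 26], [37, 51, 56], [5, 28, 55], [11, 56, 58], [21, 47, 49], [17, 23, 31],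 [0, 5, 23], [9, 14, 38], [11, 13, 48], [10, 14, 34], [39, 40, 62], [41, 58, 62], [6, 48, 57], [10, 41, 50], [33, 34, 60], [48, 52, 61], [4, 16, 39], [10, 20, 37], [18, 29, 59], [2, 41, 55], [22, 38, 57], [25, 30, 60], [15, 51, 60], [19, 32, 45], [15, 35, 44], [7, 17, 36], [30, 48, 50], [15, 29, 41], [16, 37, 61], [32, 46, 60], [2, 33, 43], [12, 18, 36], [3, 6, 26], [45, 57, 62], [4, 7, 26], [0, 10, 12], [9, 25, 58], [36, 55, 61], [1, 13, 44], [1, 24, 25], [28, 40, 51], [38, 46, 55], [22, 27, 53], [12, 39, 44], [34, 47, 53], [16, 33, 42], [3, 12, 32], [20, 46, 54], [6, 20, 49]]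

/-- generators of level 0 of the chain -/
def idxA0 : List ℕ :=
  [0, 1, 2, 3]

/-- generators of level 1 of the chain -/
def idxA1 : List ℕ :=
  [0, 1, 2]

/-- bottom of the chain -/
def idxA2 : List ℕ :=
  []

/-- transversal words of level 0 -/
def wordsA0 : List (List ℕ) :=
  [[], [3], [0, 3], [1, 3], [2, 3], [3, 3], [1, 0, 3], [2, 0, 3], [2, 1, 3], [3, 2, 3], [0, 3, 3], [1, 3, 3], [2, 3, 3], [3, 3, 3], [2, 1, 0, 3], [3, 1, 0, 3], [3, 2, 0, 3], [3, 2, 1, 3], [0, 3, 2, 3], [1, 3, 2, 3], [2, 3, 2, 3], [3, 3, 2, 3], [1, 0, 3, 3], [2, 0, 3, 3], [2, 1, 3, 3], [3, 1, 3, 3], [3, 2, 3, 3], [0, 3, 3, 3], [1, 3, 3, 3], [2, 3, 3, 3], [3, 3, 3, 3],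 [3, 2, 1, 0, 3], [0, 3, 1, 0, 3], [1, 3, 1, 0, 3], [2, 3, 1, 0, 3], [3, 3, 1, 0, 3], [0, 3, 2, 0, 3], [2, 3, 2, 0, 3], [3, 3, 2, 0, 3], [0, 3, 2, 1, 3], [1, 3, 2, 1, 3], [2, 3, 2, 1, 3], [3, 1, 3, 2, 3], [2, 1, 0, 3, 3], [3, 2, 0, 3, 3], [3, 2, 1, 3, 3], [2, 3, 1, 3, 3], [3, 3, 1, 3, 3], [3, 1, 3, 3, 3], [1, 3, 2, 1, 0, 3], [2, 3, 2, 1, 0, 3], [2, 1, 3, 1, 0, 3], [0, 3, 3, 1, 0, 3], [2, 3, 3, 1, 0, 3], [3, 3, 3, 1, 0, 3], [2, 0, 3, 2, 0, 3], [0, 3, 3, 2, 0, 3], [2, 1, 3, 2, 1, 3], [1, 3, 2, 1, 3, 3], [3, 3, 3, 1, 3, 3], [3, 3, 1, 3, 3, 3], [3, 2, 1, 3, 1, 0, 3], [3, 3, 3, 3, 1, 0, 3]]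

/-- transversal words of level 1 -/
def wordsA1 : List (List ℕ) :=
  [[], [0], [1], [2], [1, 0], [2, 0], [2, 1], [2, 1, 0]]

/-- indices of fourteen of the 84 vectors forming a basis -/
def colsB : List ℕ :=
  [0, 1, 2, 3, 4, 5, 6, 7, 8, 9, 10, 11, 12, 14]

/-- inverse of the matrix of that basis: rows of digits -/
def pinvB : List (List ℕ) :=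
  [[2, 1, 0, 2, 2, 1, 0, 2, 2, 1, 0, 0, 1, 0], [1, 1, 0, 1, 0, 1, 2, 1, 2, 2, 2, 0, 0, 2], [0, 0, 0, 0, 0, 0, 2, 0, 0, 0, 0, 1, 0, 0], [1, 0, 1, 0, 0, 1, 2, 1, 1, 0, 1, 1, 2, 0], [0, 1, 0, 1, 2, 0, 2, 2, 2, 1, 1, 1, 1, 2], [2, 0, 2, 2, 2, 1, 0, 0, 2, 1, 0, 0, 2, 2], [1, 2, 1, 2, 1, 2, 1, 0, 2, 1, 2, 2, 0, 2], [1, 0, 1, 0, 0, 1, 1, 1, 1, 0, 0, 2, 2, 1], [2, 0, 1, 0, 0, 1, 1, 2, 2, 1, 2, 1, 1, 2], [1, 0, 0, 0, 0, 0, 2, 1, 0, 1, 1, 1, 2, 2], [1, 0, 0, 1, 2, 1, 1, 0, 1, 0, 2, 2, 0, 0], [0, 1, 2, 1, 2, 1, 1, 1, 2, 0, 2, 0, 1, 0], [2, 0, 2, 1, 2, 1, 2, 1, 0, 1, 0, 2, 0, 2], [2, 0, 2, 2, 1, 0, 0, 0, 0, 2, 0, 0, 2, 1]]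

/-- the generator number `w` lies in `t ^ k N` -/
def membK : List ℕ :=
  [0, 0, 0, 2, 2, 2, 1, 1, 1, 1, 1, 1, 0, 0, 0, 2, 2, 2, 1, 1, 1, 0, 0, 0, 2, 2, 2, 0, 0, 0, 2, 2, 2, 1, 1, 1, 1, 1, 1, 0, 0, 0, 2, 2, 2, 1, 1, 1, 0, 0, 0, 2, 2, 2]

/-- words in the four generators of `N` for `t ^ (-k) g_w` -/
def membW : List (List ℕ) :=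
  [[], [0, 3, 3, 2, 0], [2, 3, 3], [3, 3, 2, 0, 3, 1, 0], [2, 3, 1, 3, 3, 1, 0], [2, 0, 3, 2, 0, 3, 0], [1, 3, 3, 1, 3, 2, 0], [3, 2, 0, 3, 3, 3], [3, 2, 0, 3, 2], [], [0, 3, 3, 2, 0], [2, 3, 3], [2, 0, 3, 2, 0, 3, 0], [3, 3, 2, 0, 3, 1, 0], [2, 3, 1, 3, 3, 1, 0], [1, 3, 3, 1, 3, 2, 0], [3, 2, 0, 3, 3, 3], [3, 2, 0, 3, 2], [2, 0, 3, 2, 0, 3, 0], [3, 3, 2, 0, 3, 1, 0], [2, 3, 1, 3, 3, 1, 0], [3, 2, 0, 3, 2], [1, 3, 3, 1, 3, 2, 0], [3, 2, 0, 3, 3, 3], [], [0, 3, 3, 2, 0], [2, 3, 3], [], [3, 3, 3], [0, 3, 3, 3, 0], [3, 1, 3, 3, 3, 3, 3, 1], [2, 1, 3, 1, 0, 3, 0], [3, 3, 3, 3, 2, 0], [3, 3, 2, 3, 3, 1], [2, 3, 2, 3, 2, 0], [3, 2, 3, 2, 0, 3, 0],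 [3, 2, 1, 3, 2, 0], [3, 3, 3, 1, 3, 3, 1], [3, 2, 3, 2, 3], [3, 3, 3, 3, 3], [0, 3, 0], [3, 3], [0, 3, 2, 1, 3, 1, 0], [3, 3, 3, 1, 3, 2], [2, 0, 3, 1, 0], [3, 2, 3, 2], [0, 3, 3, 2, 1], [2, 3, 2, 3, 2, 0, 3], [3, 3, 3, 3], [0, 3, 3, 0], [3], [1, 3, 2, 1, 3, 1], [2, 1, 3, 1], [0, 3, 2, 0, 3, 1]]

/-- words in the four generators of `N` for their conjugates under `t` -/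
def conjW : List (List ℕ) :=
  [[2, 3, 3, 3, 2, 0], [3, 1, 3, 3, 1], [3, 0], [0, 3, 2, 1]]

/-- words in the four generators of `N` for their conjugates under `t⁻¹` -/
def conjW2 : List (List ℕ) :=
  [[1, 3, 3, 3, 1, 0], [2, 1, 3, 2, 1, 0], [2, 0, 3, 3, 2], [0, 3, 2, 3, 2]]

end Cfsg.Agent.Lib.Helper62.R3L28Data
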