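import Mathlib
import Cfsg.Prelude.Def_LieTwisted
import Cfsg.Agent.Lib.Helper62.GraphIso3
import Cfsg.Agent.Lib.Helper62.NatLin
import Cfsg.Agent.Lib.Helper62.F8
import Cfsg.Agent.Lib.Helper62.R3L28Data

/-!
# `²G₂(3)`: the 54 generators as explicit matrices (helper62)

The 54 generating words of `²G₂(3) = twistedG2 (ZMod 3) 1` as explicit matrices, through checked
partial products computed on lists of digits.
-/

set_option autoImplicit false

namespace Cfsg.Agent.Lib.Helper62.R3L28

open Matrix Cfsg.Agent.Lib.Helper62 Cfsg.Agent.Lib.Helper62.GraphIso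
  Cfsg.Agent.Lib.Helper62.NatLin Cfsg.Agent.Lib.Helper62.R3L28Data

/-- `²G₂(3)` -/
abbrev GG : Type := ↥(Cfsg.Lie.twistedG2 (ZMod 3) 1)
/-- vectors of `F₃¹⁴` -/
abbrev VB : Type := Idx → ZMod 3

/-- entries of the root elements -/
def xE (r : Fin 12) (c : ZMod 3) (i j : Idx) : ZMod 3 := Cfsg.Lie.chevG2.xMat (ZMod 3) r c i j

/-- entries of a list of rows of digits -/
def eX (R : List (List ℕ)) (i j : Idx) : ZMod 3 := ((nthD (nthD R (ix i) []) (ix j) 0 : ℕ) : ZMod 3)

set_option maxRecDepth 100000 in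
theorem xE_eq : ∀ r : Fin 12, ∀ c : ZMod 3, ∀ i j : Idx,
    xE r c i j = eX (nthD LX (3 * r.val + c.val) []) i j := by
  decide +kernel

/-- rows of a root element -/
def letterR (p : ℕ × ZMod 3) : List (List ℕ) := nthD LX (3 * p.1 + p.2.val) []

/-- a root element as a literal matrix -/
def letter (p : ℕ × ZMod 3) : Matrix Idx Idx (ZMod 3) := matP 3 (letterR p)

theorem x_eq_letter (r : ℕ) (hr : r < 12) (c : ZMod 3) :
    Cfsg.Lie.chevG2.x (ZMod 3) r c = letter (r, c) := by
  unfold Cfsg.Lie.ChevalleyDatum.x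
  rw [dif_pos (show r < Cfsg.Lie.chevG2.nroots from hr)]
  refine Matrix.ext (fun (i j : Idx) => ?_)
  exact xE_eq ⟨r, hr⟩ c i j

/-- the parameters of the word number `w` -/
def tOf (w : ℕ) : ZMod 3 := ((w / 9 % 3 : ℕ) : ZMod 3)
/-- the parameters of the word number `w` -/
def uOf (w : ℕ) : ZMod 3 := ((w / 3 % 3 : ℕ) : ZMod 3)
/-- the parameters of the word number `w` -/
def vOf (w : ℕ) : ZMod 3 := ((w % 3 : ℕ) : ZMod 3)

/-- the 54 generating words -/
def wordOf (w : ℕ) : List (ℕ × ZMod 3) :=
  if w < 27 then Cfsg.Lie.reeWordU 1 (tOf w) (uOf w) (vOf w)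
  else Cfsg.Lie.reeWordV 1 (tOf w) (uOf w) (vOf w)

theorem wordOf_mem (w : ℕ) : wordOf w ∈ Cfsg.Lie.g2Words (ZMod 3) 1 := by
  unfold wordOf
  split_ifs
  · exact ⟨_, _, _, Or.inl rfl⟩
  · exact ⟨_, _, _, Or.inr rfl⟩

set_option maxRecDepth 100000 in
theorem wordOf_surj : ∀ t u v : ZMod 3,
    wordOf (9 * t.val + 3 * u.val + v.val) = Cfsg.Lie.reeWordU 1 t u v ∧
    wordOf (27 + 9 * t.val + 3 * u.val + v.val) = Cfsg.Lie.reeWordV 1 t u v ∧
    27 + 9 * t.val + 3 * u.val + v.val < 54 := by
  decide +kernel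

/-- check of the products of the suffixes, on lists of digits -/
def chainL : List (List (List ℕ)) → List (List (List ℕ)) → List (List (List ℕ)) → Bool
  | [x], [q], [_] => x == q
  | x :: xs, q :: q' :: qs, qt :: qt' :: qts =>
    mulOK 3 x q' q qt' qt && chainL xs (q' :: qs) (qt' :: qts)
  | _, _, _ => false

theorem prod_of_chainL (xs qs qts : List (List (List ℕ))) (h : chainL xs qs qts = true) :
    (xs.map (matP 3)).prod = matP 3 (qs.headD []) := by
  induction xs generalizing qs qts with
  | nil => simp [chainL] at h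
  | cons x xs ih =>
    match xs, qs, qts, h, ih with
    | [], [q], [_], h, _ =>
      simp only [chainL, beq_iff_eq] at h
      simp [h]
    | y :: ys, q :: q' :: qs, qt :: qt' :: qts, h, ih =>
      simp only [chainL, Bool.and_eq_true] at h
      have h2 := ih (q' :: qs) (qt' :: qts) h.2
      have h1 := matP_mul_of_mulOK 3 x q' q qt' qt h.1
      rw [List.map_cons, List.prod_cons, h2]
      simpa using h1
    | [], [], _, h, _ => simp [chainL] at h
    | [], [_], [], h, _ => simp [chainL] at h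
    | [], [_], _ :: _ :: _, h, _ => simp [chainL] at h
    | [], _ :: _ :: _, [], h, _ => simp [chainL] at h
    | [], _ :: _ :: _, [_], h, _ => simp [chainL] at h
    | [], _ :: _ :: _, _ :: _ :: _, h, _ => simp [chainL] at h
    | _ :: _, [], _, h, _ => simp [chainL] at h
    | _ :: _, [_], _, h, _ => simp [chainL] at h
    | _ :: _, _ :: _ :: _, [], h, _ => simp [chainL] at h
    | _ :: _, _ :: _ :: _, [_], h, _ => simp [chainL] at h

/-- rows of the generator number `w` -/
def gR (w : ℕ) : List (List ℕ) := nthD MATS (nthD (nthD PWi w []) 0 0) []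

/-- columns of the generator number `w` -/
def gRt (w : ℕ) : List (List ℕ) := nthD MATST (nthD (nthD PWi w []) 0 0) []

/-- the matrix of the generator number `w` -/
def gM (w : ℕ) : Matrix Idx Idx (ZMod 3) := matP 3 (gR w)

/-- check of the partial products of the word number `w` -/
def chk (w : ℕ) : Bool :=
  (wordOf w).all (fun p => decide (p.1 < 12)) &&
  (chainL ((wordOf w).map letterR) ((nthD PWi w []).map (fun k => nthD MATS k []))
    ((nthD PWi w []).map (fun k => nthD MATST k [])) && decide (nthD PWi w [] ≠ []))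


set_option maxRecDepth 100000 in
theorem chk_all : ∀ w < 54, chk w = true := by
  decide +kernel

theorem headD_map_ne_nil {α β : Type*} (l : List α) (f : α → β) (d : β) (d' : α) (h : l ≠ []) :
    (l.map f).headD d = f (nthD l 0 d') := by
  cases l with
  | nil => exact absurd rfl h
  | cons a l => rfl

theorem wordMat_eq (w : ℕ) (hw : w < 54) :
    Cfsg.Lie.chevG2.wordMat (ZMod 3) (wordOf w) = gM w := by
  have h := chk_all w hw
  unfold chk at h
  simp only [Bool.and_eq_true, List.all_eq_true, decide_eq_true_eq] at h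
  obtain ⟨h1, h2, h3⟩ := h
  have e1 : (wordOf w).map (fun p => Cfsg.Lie.chevG2.x (ZMod 3) p.1 p.2)
      = ((wordOf w).map letterR).map (matP 3) := by
    rw [List.map_map]
    apply List.map_congr_left
    intro p hp
    exact x_eq_letter p.1 (h1 p hp) p.2
  have e2 := prod_of_chainL _ _ _ h2
  rw [headD_map_ne_nil _ (fun k => nthD MATS k []) [] 0 h3] at e2
  have e3 : Cfsg.Lie.chevG2.wordMat (ZMod 3) (wordOf w)
      = (((wordOf w).map letterR).map (matP 3)).prod := by
    unfold Cfsg.Lie.ChevalleyDatum.wordMat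
    exact congrArg List.prod e1
  rw [e3]
  exact e2

set_option maxRecDepth 100000 in
theorem idR_eq : ∀ i j : Idx, eX (nthD MATS idPos []) i j = if i = j then 1 else 0 := by
  decide +kernel

theorem matP_idR : matP 3 (nthD MATS idPos []) = 1 := by
  refine Matrix.ext (fun (i j : Idx) => ?_)
  have h2 : (1 : Matrix Idx Idx (ZMod 3)) i j = if i = j then 1 else 0 := Matrix.one_apply
  exact (idR_eq i j).trans h2.symm

set_option maxRecDepth 100000 in
theorem inv_chk : ∀ w < 54, mulOK 3 (gR w) (gR (nthD invIdx w 0)) (nthD MATS idPos [])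
    (gRt (nthD invIdx w 0)) (nthD MATS idPos []) = true := by
  decide +kernel

theorem gM_mul_inv (w : ℕ) (hw : w < 54) : gM w * gM (nthD invIdx w 0) = 1 := by
  have h := matP_mul_of_mulOK 3 _ _ _ _ _ (inv_chk w hw)
  rw [matP_idR] at h
  exact h

/-- the generator number `w` as an invertible matrix -/
def uG (w : Fin 54) : GL Idx (ZMod 3) :=
  ⟨gM w.val, gM (nthD invIdx w.val 0), gM_mul_inv w.val w.2,
    mul_eq_one_comm.mp (gM_mul_inv w.val w.2)⟩

/-- the generator number `w` in `²G₂(3)` -/
def gG (w : Fin 54) : GG :=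
  ⟨uG w, Subgroup.subset_closure ⟨wordOf w.val, wordOf_mem w.val, (wordMat_eq w.val w.2).symm⟩⟩

/-- the 54 generators -/
def gensG : List GG := (List.finRange 54).map gG

theorem gensG_length : gensG.length = 54 := by simp [gensG]

theorem nthD_gensG (w : ℕ) (hw : w < 54) : nthD gensG w 1 = gG ⟨w, hw⟩ :=
  nthD_map_finRange 54 gG w hw 1

/-- the matrix of an element of `²G₂(3)` -/
def matOf (g : GG) : Matrix Idx Idx (ZMod 3) := g.val.val

/-- `²G₂(3)` acts on `F₃¹⁴` -/
instance actB : MulAction GG VB where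
  smul y v := matOf y *ᵥ v
  one_smul v := Matrix.one_mulVec v
  mul_smul x y v := (Matrix.mulVec_mulVec v (matOf x) (matOf y)).symm

theorem smulB_def (y : GG) (v : VB) : y • v = matOf y *ᵥ v := rfl

/-- the 84 vectors -/
def ptB (j : ℕ) : VB := vecP 3 (nthD ptsB j [])

/-- code of a vector of `F₃¹⁴` -/
def encB (v : VB) : ℕ := ∑ k : Idx, (v k).val * 3 ^ ix k

set_option maxRecDepth 100000 in
theorem tblG_chk : ∀ w < 54, rowsOK (gR w) = true ∧ ∀ j < 84,
    mulVecL 3 (gR w) (nthD ptsB j []) = nthD ptsB (tbl permG w j) [] ∧ tbl permG w j < 84 := by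
  decide +kernel

theorem tableG : TableOK gensG ptB 84 permG := by
  intro w hw j hj
  have hw' : w < 54 := by rwa [gensG_length] at hw
  rw [nthD_gensG w hw']
  obtain ⟨h1, h2⟩ := tblG_chk w hw'
  obtain ⟨h3, h4⟩ := h2 j hj
  refine ⟨?_, h4⟩
  show gM w *ᵥ ptB j = ptB (tbl permG w j)
  unfold gM ptB
  rw [matP_mulVec 3 _ _ h1, h3]

set_option maxRecDepth 100000 in
theorem encB_ok : ∀ j < 84, encB (ptB j) = nthD codesB j 0 := by decide +kernel

set_option maxRecDepth 100000 in
theorem codesB_nodup : codesB.Nodup := by decide +kernel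

theorem ptB_inj : ∀ i < 84, ∀ j < 84, ptB i = ptB j → i = j :=
  pt_inj_of_codes ptB encB codesB 84 rfl codesB_nodup encB_ok

/-! ### The 84 vectors span -/

/-- fourteen of the vectors as columns -/
def PB : Matrix Idx Idx (ZMod 3) := fun i k => ptB (nthD colsB (ix k) 0) i

set_option maxRecDepth 100000 in
theorem PB_mul : PB * matP 3 pinvB = 1 := by decide +kernel

set_option maxRecDepth 100000 in
theorem colsB_lt : ∀ k : Idx, nthD colsB (ix k) 0 < 84 := by decide +kernel

theorem faithB (g : GG) (h : ∀ j < 84, g • ptB j = ptB j) : g = 1 := by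
  have hMP : matOf g * PB = PB := by
    apply Matrix.ext
    intro i k
    have h1 : (matOf g *ᵥ ptB (nthD colsB (ix k) 0)) i = ptB (nthD colsB (ix k) 0) i :=
      congrFun (h (nthD colsB (ix k) 0) (colsB_lt k)) i
    exact h1
  have hM : matOf g = 1 := by
    calc matOf g = matOf g * (PB * matP 3 pinvB) := by rw [PB_mul, mul_one]
      _ = (matOf g * PB) * matP 3 pinvB := by rw [mul_assoc]
      _ = 1 := by rw [hMP, PB_mul]
  exact Subtype.ext (Units.ext hM)

theorem word_eq (w w' : List ℕ) (hw : ∀ s ∈ w, s < 54) (hw' : ∀ s ∈ w', s < 54)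
    (h : ∀ j < 84, wordAct permG w j = wordAct permG w' j) :
    evalWord gensG w = evalWord gensG w' :=
  evalWord_eq_of_wordAct_eq tableG faithB w w' (by rwa [gensG_length])
    (by rwa [gensG_length]) h

end Cfsg.Agent.Lib.Helper62.R3L28
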