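import Mathlib
import Cfsg.Agent.Lib.Helper62.R3L28

/-!
# `SL₂(8)` and `²G₂(3)`: the graph subgroup, chain, relation and kernels (helper62)
-/

set_option autoImplicit false

namespace Cfsg.Agent.Lib.Helper62.R3L28

open Matrix Cfsg.Agent.Lib.Helper62 Cfsg.Agent.Lib.Helper62.GraphIso
  Cfsg.Agent.Lib.Helper62.NatLin Cfsg.Agent.Lib.Helper62.R3L28Data

/-- `SL₂(8)` over the concrete field `F8` -/
abbrev SLA : Type := Matrix.SpecialLinearGroup (Fin 2) F8
/-- vectors of `F₈²` -/
abbrev VA : Type := Fin 2 → F8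

/-- matrix over `F8` from its rows -/
def mA (L : List (List ℕ)) : Matrix (Fin 2) (Fin 2) F8 :=
  fun i j => F8.ofCode (nthD (nthD L i.val []) j.val 0)

set_option maxRecDepth 100000 in
theorem detOK : ∀ s < 4, (mA (nthD LA s [])).det = 1 := by
  decide +kernel

/-- the generators of `SL₂(8)` -/
def gA (s : Fin 4) : SLA := ⟨mA (nthD LA s.val []), detOK s.val s.2⟩

/-- their images in `²G₂(3)` -/
def gY (s : Fin 4) : GG := evalWord gensG (nthD wordsY s.val [])

/-- the generating pairs -/
def gensD : List (SLA × GG) := (List.finRange 4).map (fun s => (gA s, gY s))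

/-- `SL₂(8)` acts on `F₈²` -/
instance actA : MulAction SLA VA where
  smul x v := x.val *ᵥ v
  one_smul v := Matrix.one_mulVec v
  mul_smul x y v := (Matrix.mulVec_mulVec v x.val y.val).symm

theorem smulA_def (x : SLA) (v : VA) : x • v = x.val *ᵥ v := rfl

/-- vector of `F₈²` from its code -/
def vA (c : ℕ) : VA := fun k => F8.ofCode ((c / 8 ^ k.val) % 8)

/-- the 63 nonzero vectors -/
def ptA (i : ℕ) : VA := vA (nthD codesA i 0)

/-- code of a vector of `F₈²` -/
def encA (v : VA) : ℕ := F8.code (v 0) + 8 * F8.code (v 1)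

set_option maxRecDepth 100000 in
theorem tblA_ok : ∀ s < 4, ∀ i < 63,
    mA (nthD LA s []) *ᵥ ptA i = ptA (tbl permA s i) ∧ tbl permA s i < 63 := by
  decide +kernel

set_option maxRecDepth 100000 in
theorem permY_ok : ∀ s < 4, ∀ j < 84, tbl permY s j = wordAct permG (nthD wordsY s []) j := by
  decide +kernel

set_option maxRecDepth 100000 in
theorem wordsY_lt : ∀ s < 4, ∀ k ∈ nthD wordsY s [], k < 54 := by
  decide +kernel

theorem gensD_length : gensD.length = 4 := by simp [gensD]

theorem nthD_gensD (s : ℕ) (hs : s < 4) : nthD gensD s 1 = (gA ⟨s, hs⟩, gY ⟨s, hs⟩) :=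
  nthD_map_finRange 4 (fun s => (gA s, gY s)) s hs 1

/-- the components in `SL₂(8)` -/
def gensA : List SLA := gensD.map Prod.fst

/-- the components in `²G₂(3)` -/
def gensY : List GG := gensD.map Prod.snd

theorem gensA_length : gensA.length = 4 := by simp [gensA, gensD]
theorem gensY_length : gensY.length = 4 := by simp [gensY, gensD]

theorem tableA : TableOK gensA ptA 63 permA := by
  intro s hs i hi
  have hs' : s < 4 := by rwa [gensA_length] at hs
  have h1 : nthD gensA s 1 = (nthD gensD s 1).1 := nthD_map Prod.fst gensD s 1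
  rw [h1, nthD_gensD s hs']
  exact tblA_ok s hs' i hi

theorem tableY : TableOK gensY ptB 84 permY := by
  intro s hs j hj
  have hs' : s < 4 := by rwa [gensY_length] at hs
  have h1 : nthD gensY s 1 = (nthD gensD s 1).2 := nthD_map Prod.snd gensD s 1
  rw [h1, nthD_gensD s hs', permY_ok s hs' j hj]
  exact wordAct_spec tableG _ (fun k hk => by rw [gensG_length]; exact wordsY_lt s hs' k hk) j hj

set_option maxRecDepth 100000 in
theorem encA_ok : ∀ i < 63, encA (ptA i) = nthD codesA i 0 := by decide +kernel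

set_option maxRecDepth 100000 in
theorem codesA_nodup : codesA.Nodup := by decide +kernel

theorem ptA_inj : ∀ i < 63, ∀ j < 63, ptA i = ptA j → i = j :=
  pt_inj_of_codes ptA encA codesA 63 rfl codesA_nodup encA_ok

/-! ### Lower bound for the projection to `SL₂(8)` -/

set_option maxRecDepth 100000 in
theorem levelA0 :
    63 * Nat.card (genGroup (sub gensA idxA1)) ≤ Nat.card (genGroup (sub gensA idxA0)) :=
  card_ge_level tableA ptA_inj idxA0 idxA1 0 (by norm_num) wordsA0
    (by rw [gensA_length]; decide) (by decide) (by decide +kernel) (by decide +kernel)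
    (by decide +kernel)

set_option maxRecDepth 100000 in
theorem levelA1 :
    8 * Nat.card (genGroup (sub gensA idxA2)) ≤ Nat.card (genGroup (sub gensA idxA1)) :=
  card_ge_level tableA ptA_inj idxA1 idxA2 20 (by norm_num) wordsA1
    (by rw [gensA_length]; decide) (by decide) (by decide +kernel) (by decide +kernel)
    (by decide +kernel)

theorem card_genA : 504 ≤ Nat.card (genGroup gensA) := by
  have h0 := levelA0
  have h1 := levelA1
  have h4 : Nat.card (genGroup (sub gensA idxA2)) = 1 := card_genGroup_sub_nil gensA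
  have h5 := Subgroup.card_le_of_le (genGroup_sub_le gensA idxA0)
  omega

/-! ### The invariant relation -/

set_option maxRecDepth 100000 in
theorem rel_lt : ∀ i < 63, ∀ j ∈ nthD relL i [], j < 84 := by decide +kernel

set_option maxRecDepth 100000 in
theorem rel_chk : ∀ s < 4, ∀ i < 63, ∀ j ∈ nthD relL i [],
    tbl permY s j ∈ nthD relL (tbl permA s i) [] := by decide +kernel

theorem relInv_D : ∀ d ∈ genGroup gensD, RelInv ptA ptB 63 relL d :=
  relInv_of_mem gensD ptA ptB 63 84 permA permY tableA tableY relL rel_lt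
    (by rw [gensD_length]; exact rel_chk)

/-! ### The kernels are trivial -/

set_option maxRecDepth 100000 in
theorem sepB_ok : ∀ j < 84, nthD TL j [] ≠ [] ∧
    (∀ i ∈ nthD TL j [], i < 63 ∧ j ∈ nthD relL i []) ∧
    ∀ j' < 84, (∀ i ∈ nthD TL j [], j' ∈ nthD relL i []) → j' = j := by
  decide +kernel

set_option maxRecDepth 100000 in
theorem sepA_ok : ∀ i < 63, nthD relL i [] ≠ [] ∧
    ∀ i' < 63, (∀ j ∈ nthD relL i [], j ∈ nthD relL i' []) → i' = i := by
  decide +kernel

theorem kerG_trivial (y : GG) (hy : ((1 : SLA), y) ∈ genGroup gensD) : y = 1 := by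
  apply faithB
  intro j hj
  obtain ⟨h1, h2, h3⟩ := sepB_ok j hj
  exact snd_fixed_of_sep (relInv_D _ hy) rfl ptA_inj ptB_inj rel_lt j (nthD TL j []) h2 h1 h3

set_option maxRecDepth 100000 in
theorem ptA_spec : ptA 0 = ![1, 0] ∧ ptA 20 = ![0, 1] := by decide +kernel

theorem eq_one_of_fix2 (M : Matrix (Fin 2) (Fin 2) F8) (h0 : M *ᵥ ![1, 0] = ![1, 0])
    (h1 : M *ᵥ ![0, 1] = ![0, 1]) : M = 1 := by
  have c0 : ∀ i, M i 0 = (![1, 0] : Fin 2 → F8) i := fun i => by
    rw [← h0]; simp [mulVec, dotProduct, Fin.sum_univ_two]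
  have c1 : ∀ i, M i 1 = (![0, 1] : Fin 2 → F8) i := fun i => by
    rw [← h1]; simp [mulVec, dotProduct, Fin.sum_univ_two]
  apply Matrix.ext
  intro i j
  fin_cases i <;> fin_cases j
  · simpa using c0 0
  · simpa using c1 0
  · simpa using c0 1
  · simpa using c1 1

theorem kerA_trivial (x : SLA) (hx : (x, (1 : GG)) ∈ genGroup gensD) : x = 1 := by
  have hfix : ∀ i < 63, x • ptA i = ptA i := by
    intro i hi
    obtain ⟨h1, h2⟩ := sepA_ok i hi
    exact fst_fixed_of_sep (relInv_D _ hx) rfl ptA_inj ptB_inj rel_lt i hi h1 h2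
  obtain ⟨p0, p1⟩ := ptA_spec
  have s0 := hfix 0 (by norm_num)
  have s1 := hfix 20 (by norm_num)
  rw [p0, smulA_def] at s0
  rw [p1, smulA_def] at s1
  exact Subtype.ext (eq_one_of_fix2 x.val s0 s1)

end Cfsg.Agent.Lib.Helper62.R3L28
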