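import Mathlib
import Cfsg.Agent.Lib.Helper62.R3L28A
import Cfsg.Agent.Lib.Helper45.SLCard
import Cfsg.Agent.Lib.Helper46.ClassicalEmb

/-!
# `²G₂(3)′ ≅ SL₂(8)` over the concrete fields (helper62)
-/

set_option autoImplicit false

namespace Cfsg.Agent.Lib.Helper62.R3L28

open Matrix Cfsg.Agent.Lib.Helper62 Cfsg.Agent.Lib.Helper62.GraphIso
  Cfsg.Agent.Lib.Helper62.NatLin Cfsg.Agent.Lib.Helper62.R3L28Data

/-- a word in the four generators of `N` as a word in the 54 generators -/
def expand (u : List ℕ) : List ℕ := u.flatMap (fun k => nthD wordsY k [])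

theorem gensY_eq : gensY = wordsY.map (evalWord gensG) := rfl

theorem evalWord_gensY (u : List ℕ) : evalWord gensY u = evalWord gensG (expand u) := by
  rw [gensY_eq]
  exact evalWord_words gensG wordsY u

/-- the element `t` generating `²G₂(3)` modulo `N` -/
def tG : GG := gG 9

/-- its inverse -/
def tI : GG := gG 25

theorem evalWord_single (w : ℕ) (hw : w < 54) : evalWord gensG [w] = gG ⟨w, hw⟩ := by
  rw [evalWord_cons, evalWord_nil, mul_one, nthD_gensG w hw]

theorem evalWord_replicate {G : Type*} [Group G] (gens : List G) (s k : ℕ) :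
    evalWord gens (List.replicate k s) = nthD gens s 1 ^ k := by
  induction k with
  | zero => simp [evalWord]
  | succ k ih => rw [List.replicate_succ, evalWord_cons, ih, pow_succ']

set_option maxRecDepth 100000 in
theorem tinv_chk : ∀ j < 84, wordAct permG [9, 25] j = wordAct permG [] j := by decide +kernel

theorem tI_eq : tI = tG⁻¹ := by
  have h := word_eq [9, 25] [] (by decide) (by decide) tinv_chk
  rw [evalWord_cons, evalWord_single 25 (by norm_num), nthD_gensG 9 (by norm_num),
    evalWord_nil] at h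
  exact eq_inv_of_mul_eq_one_right h

set_option maxRecDepth 100000 in
theorem conj_chk : ∀ s < 4, (∀ k ∈ expand (nthD conjW s []), k < 54) ∧
    ∀ j < 84, wordAct permG ([9] ++ nthD wordsY s [] ++ [25]) j
      = wordAct permG (expand (nthD conjW s [])) j := by decide +kernel

set_option maxRecDepth 100000 in
theorem conj_chk2 : ∀ s < 4, (∀ k ∈ expand (nthD conjW2 s []), k < 54) ∧
    ∀ j < 84, wordAct permG ([25] ++ nthD wordsY s [] ++ [9]) j
      = wordAct permG (expand (nthD conjW2 s [])) j := by decide +kernel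

set_option maxRecDepth 100000 in
theorem memb_chk : ∀ w < 54, (∀ k ∈ expand (nthD membW w []), k < 54) ∧
    ∀ j < 84, wordAct permG [w] j
      = wordAct permG (List.replicate (nthD membK w 0) 9 ++ expand (nthD membW w [])) j := by
  decide +kernel

theorem conj_gen_aux (a b : ℕ) (ha : a < 54) (hb : b < 54) (cw : List (List ℕ))
    (hc : ∀ s < 4, (∀ k ∈ expand (nthD cw s []), k < 54) ∧
      ∀ j < 84, wordAct permG ([a] ++ nthD wordsY s [] ++ [b]) j
        = wordAct permG (expand (nthD cw s [])) j)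
    (y : GG) (hy : y ∈ gensY) : gG ⟨a, ha⟩ * y * gG ⟨b, hb⟩ ∈ genGroup gensY := by
  obtain ⟨s, hs, rfl⟩ := exists_nthD_of_mem gensY 1 y hy
  have hs' : s < 4 := by rwa [gensY_length] at hs
  have h1 : nthD gensY s 1 = (nthD gensD s 1).2 := nthD_map Prod.snd gensD s 1
  obtain ⟨c1, c2⟩ := hc s hs'
  have h2 : gG ⟨a, ha⟩ * nthD gensY s 1 * gG ⟨b, hb⟩
      = evalWord gensG ([a] ++ nthD wordsY s [] ++ [b]) := by
    rw [evalWord_append, evalWord_append, evalWord_single a ha, evalWord_single b hb, h1,
      nthD_gensD s hs']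
    rfl
  rw [h2, word_eq _ _ _ c1 c2, ← evalWord_gensY]
  · exact evalWord_mem_genGroup gensY _
  · intro k hk
    simp only [List.mem_append, List.mem_singleton] at hk
    rcases hk with (rfl | hk) | rfl
    · exact ha
    · exact wordsY_lt s hs' k hk
    · exact hb

theorem conj_all : ∀ n ∈ genGroup gensY, tG * n * tG⁻¹ ∈ genGroup gensY := by
  apply conj_mem_of_gens'
  intro y hy
  rw [← tI_eq]
  exact conj_gen_aux 9 25 (by norm_num) (by norm_num) conjW conj_chk y hy

theorem conj_all' : ∀ n ∈ genGroup gensY, tG⁻¹ * n * tG ∈ genGroup gensY := by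
  intro n hn
  have h := conj_mem_of_gens' gensY tG⁻¹ (by
    intro y hy
    rw [inv_inv, ← tI_eq]
    exact conj_gen_aux 25 9 (by norm_num) (by norm_num) conjW2 conj_chk2 y hy) n hn
  rwa [inv_inv] at h

theorem gG_mem (w : ℕ) (hw : w < 54) :
    ∃ k : ℕ, ∃ n ∈ genGroup gensY, gG ⟨w, hw⟩ = tG ^ k * n := by
  obtain ⟨c1, c2⟩ := memb_chk w hw
  refine ⟨nthD membK w 0, evalWord gensY (nthD membW w []), evalWord_mem_genGroup gensY _, ?_⟩
  rw [← evalWord_single w hw, evalWord_gensY]
  have h := word_eq [w] (List.replicate (nthD membK w 0) 9 ++ expand (nthD membW w []))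
    (by simpa using hw) (by
      intro k hk
      rcases List.mem_append.mp hk with hk | hk
      · rw [(List.mem_replicate.mp hk).2]; norm_num
      · exact c1 k hk) c2
  rw [h, evalWord_append, evalWord_replicate, nthD_gensG 9 (by norm_num)]
  rfl

theorem comm_le : commutator GG ≤ genGroup gensY := by
  apply commutator_le_of_cyclic_cert (genGroup gensY) _ Subgroup.closure_closure_coe_preimage tG
    conj_all conj_all'
  rintro x ⟨word, ⟨t, u, v, hword⟩, hx⟩
  obtain ⟨h1, h2, h3⟩ := wordOf_surj t u v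
  rcases hword with rfl | rfl
  · have hw : 9 * t.val + 3 * u.val + v.val < 54 := by omega
    have hx1 : x = gG ⟨9 * t.val + 3 * u.val + v.val, hw⟩ := by
      apply Subtype.ext
      apply Units.ext
      rw [hx, ← h1]
      exact wordMat_eq _ hw
    rw [hx1]
    exact gG_mem _ hw
  · have hx1 : x = gG ⟨27 + 9 * t.val + 3 * u.val + v.val, h3⟩ := by
      apply Subtype.ext
      apply Units.ext
      rw [hx, ← h2]
      exact wordMat_eq _ h3
    rw [hx1]
    exact gG_mem _ h3

/-! ### The order, perfectness and centre of `SL₂(8)` -/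

theorem card_SLA : Nat.card SLA = 504 := by
  rw [Cfsg.Agent.Lib.Helper45.card_SL2, F8.card_eq]
  norm_num

theorem perfect_SLA : commutator SLA = ⊤ :=
  Cfsg.Agent.Lib.Helper46.sl2_perfect (F := F8) (by rw [F8.card_eq]; norm_num)

theorem f8_sq : ∀ r : F8, r ^ 2 = 1 → r = 1 := by decide +kernel

theorem center_SLA : Subgroup.center SLA = ⊥ := by
  rw [Subgroup.eq_bot_iff_forall]
  intro A hA
  rw [Matrix.SpecialLinearGroup.mem_center_iff] at hA
  obtain ⟨r, hr, hA⟩ := hA
  have hr' : r ^ 2 = 1 := by simpa using hr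
  have h1 := f8_sq r hr'
  apply Subtype.ext
  rw [← hA, h1]
  simp

/-- `²G₂(3)′ ≅ SL₂(8)` -/
theorem exists_iso_SL : Nonempty (↥(commutator GG) ≃* SLA) := by
  apply exists_commutator_equiv (genGroup gensD)
  · rw [map_genGroup, card_SLA]
    exact card_genA
  · exact kerA_trivial
  · exact kerG_trivial
  · exact perfect_SLA
  · rw [map_genGroup]
    exact comm_le

/-- `²G₂(3)′ ≅ PSL₂(8)` over the concrete field -/
theorem exists_iso_concrete :
    Nonempty (↥(commutator GG) ≃* Matrix.ProjectiveSpecialLinearGroup (Fin 2) F8) := by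
  obtain ⟨e⟩ := exists_iso_SL
  have e2 : SLA ⧸ Subgroup.center SLA ≃* SLA ⧸ (⊥ : Subgroup SLA) :=
    QuotientGroup.quotientMulEquivOfEq center_SLA
  exact ⟨e.trans (e2.trans QuotientGroup.quotientBot).symm⟩

theorem card_commutator : Nat.card ↥(commutator GG) = 504 := by
  obtain ⟨e⟩ := exists_iso_SL
  rw [Nat.card_congr e.toEquiv, card_SLA]

end Cfsg.Agent.Lib.Helper62.R3L28
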