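import Mathlib

/-!
# K-Ree2-T (keystone 115204, pack Ree2, architect helper76)

Perfect group, abelian Sylow `p`-subgroup `P`: no nontrivial element of `P` is fixed by `N(P)` (transfer + Burnside fusion).
-/

set_option autoImplicit false

namespace Cfsg.Agent.Lib.Helper62.Ree2

open Subgroup MonoidHom
open scoped IsMulCommutative

theorem sylow_fixed_eq_one {G : Type*} [Group G] [Finite G] (hperf : commutator G = ⊤) {p : ℕ}
    [Fact p.Prime] (P : Sylow p G) (hP : ∀ x ∈ P, ∀ y ∈ P, x * y = y * x) (z : G) (hz : z ∈ P)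
    (hfix : ∀ n ∈ Subgroup.normalizer ((P : Subgroup G) : Set G), n * z * n⁻¹ = z) : z = 1 := by
  have hcomm : IsMulCommutative (P : Subgroup G) := ⟨⟨fun a b => Subtype.ext (hP a a.2 b b.2)⟩⟩
  have hcomm' : IsMulCommutative P := hcomm
  have key : ∀ (k : ℕ) (g₀ : G), g₀⁻¹ * z ^ k * g₀ ∈ (P : Subgroup G) →
      g₀⁻¹ * z ^ k * g₀ = z ^ k := by
    intro k g₀ h
    obtain ⟨n, hn, h'⟩ := P.conj_eq_normalizer_conj_of_mem (z ^ k) g₀ (P.pow_mem hz k) h
    rw [h']
    have h1 : n⁻¹ * z * (n⁻¹)⁻¹ = z := hfix n⁻¹ (Subgroup.inv_mem _ hn)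
    have h2 := conj_pow (a := n⁻¹) (b := z) (i := k)
    rw [h1, inv_inv] at h2
    exact h2.symm
  have htr := transfer_eq_pow (MonoidHom.id ↥(P : Subgroup G)) z key
  have hker : transfer (MonoidHom.id ↥(P : Subgroup G)) z = 1 := by
    have hzc : z ∈ commutator G := by rw [hperf]; trivial
    exact MonoidHom.mem_ker.mp (Abelianization.commutator_subset_ker _ hzc)
  rw [hker] at htr
  have h2 : z ^ (P : Subgroup G).index = 1 := by
    have := congrArg Subtype.val htr
    simpa using this.symm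
  have h3 : orderOf z ∣ (P : Subgroup G).index := orderOf_dvd_of_pow_eq_one h2
  have h4 : orderOf z ∣ Nat.card (P : Subgroup G) := by
    have := orderOf_dvd_natCard (⟨z, hz⟩ : (P : Subgroup G))
    rwa [Subgroup.orderOf_mk] at this
  have hcop : Nat.Coprime (Nat.card (P : Subgroup G)) (P : Subgroup G).index := P.card_coprime_index
  have h5 : orderOf z = 1 := (hcop.coprime_dvd_left h4).eq_one_of_dvd h3
  exact orderOf_eq_one_iff.mp h5

end Cfsg.Agent.Lib.Helper62.Ree2
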