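import Mathlib
import Cfsg.Agent.Lib.Helper95.Ru.Defs

/-!
# K-S0459-C1 (keystone 45903): tables are permutations (soundness of the table vocabulary of helper95's Ru pack)
-/

set_option autoImplicit false

namespace Cfsg.Agent.Lib.Helper62.RuKey

open Cfsg.Agent.Lib.Helper95.Ru

theorem allBelow_spec {p : Nat → Bool} {n : Nat} (h : allBelow p n = true) : ∀ x, x < n → p x = true := by
  induction n with
  | zero => intro x hx; omega
  | succ n ih =>
    simp only [allBelow, Bool.and_eq_true] at h
    intro x hx
    rcases Nat.lt_succ_iff_lt_or_eq.mp hx with hlt | rfl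
    · exact ih h.2 x hlt
    · exact h.1

theorem validPair_spec {T Ti : Nat} (h : validPair T Ti = true) (x : Nat) (hx : x < 4060) :
    tb T x < 4060 ∧ tb Ti (tb T x) = x ∧ tb Ti x < 4060 ∧ tb T (tb Ti x) = x := by
  have h1 := allBelow_spec h x hx
  simp only [Bool.and_eq_true, Nat.blt_eq] at h1
  exact ⟨h1.1.1, Nat.eq_of_beq_eq_true h1.1.2, h1.2.1, Nat.eq_of_beq_eq_true h1.2.2⟩

/-- The permutation with table `T` (`toFun x := ⟨tb T x, _⟩`, `invFun x := ⟨tb Ti x, _⟩`). -/
noncomputable def mkPerm (T Ti : Nat) (h : validPair T Ti = true) : P where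
  toFun x := ⟨tb T x.val, (validPair_spec h x.val x.isLt).1⟩
  invFun x := ⟨tb Ti x.val, (validPair_spec h x.val x.isLt).2.2.1⟩
  left_inv x := Fin.ext (validPair_spec h x.val x.isLt).2.1
  right_inv x := Fin.ext (validPair_spec h x.val x.isLt).2.2.2

theorem rep_mkPerm (T Ti : Nat) (h : validPair T Ti = true) : Rep T (mkPerm T Ti h) :=
  fun _ => rfl

theorem rep_mkPerm_inv (T Ti : Nat) (h : validPair T Ti = true) : Rep Ti (mkPerm T Ti h)⁻¹ :=
  fun _ => rfl

set_option maxRecDepth 100000 in
theorem tId_check : allBelow (fun x => Nat.beq (tb tId x) x) 4060 = true := by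
  decide +kernel

/-- The identity table represents `1`. -/
theorem rep_tId : Rep tId 1 := by
  intro x
  have h := Nat.eq_of_beq_eq_true (allBelow_spec tId_check x.val x.isLt)
  rw [h]
  rfl

theorem rep_ext {T : Nat} {g g' : P} (h : Rep T g) (h' : Rep T g') : g = g' :=
  Equiv.ext fun x => Fin.ext ((h x).trans (h' x).symm)

/-- Product of a list of permutations, first element applied first. -/
def prodP (gs : List P) : P := gs.foldl (fun acc g => g * acc) 1

theorem evalT_rep_aux {w : List Nat} {gs : List P} (h : List.Forall₂ Rep w gs) (acc : P) (x : Fin 4060) :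
    ((gs.foldl (fun acc g => g * acc) acc) x).val = evalT w (acc x).val := by
  induction h generalizing acc with
  | nil => rfl
  | cons hTg _ ih =>
    rw [List.foldl_cons, ih]
    simp only [evalT, List.foldl_cons, Equiv.Perm.coe_mul, Function.comp_apply]
    rw [hTg (acc x)]

theorem evalT_rep {w : List Nat} {gs : List P} (h : List.Forall₂ Rep w gs) (x : Fin 4060) :
    ((prodP gs) x).val = evalT w x.val :=
  evalT_rep_aux h 1 x

theorem eq_prodP_of_wordCheck {T : Nat} {w : List Nat} {g : P} {gs : List P} (hw : wordCheck T w = true)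
    (hg : Rep T g) (hgs : List.Forall₂ Rep w gs) : g = prodP gs := by
  apply Equiv.ext
  intro x
  apply Fin.ext
  have h := Nat.eq_of_beq_eq_true (allBelow_spec hw x.val x.isLt)
  rw [hg x, h, evalT_rep hgs x]

theorem levelCheckRange_add (D0 : List Nat) (L : Lvl) (Ls : List Lvl) (lo k k' : Nat)
    (h : levelCheckRange D0 L Ls lo k = true) (h' : levelCheckRange D0 L Ls (lo + k) k' = true) :
    levelCheckRange D0 L Ls lo (k + k') = true := by
  induction k' with
  | zero => simpa using h
  | succ k' ih =>
    rw [levelCheckRange, Bool.and_eq_true] at h'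
    have h2 := ih h'.2
    rw [← Nat.add_assoc k k' 1, levelCheckRange, Bool.and_eq_true]
    refine ⟨?_, h2⟩
    rw [← Nat.add_assoc lo k k']
    exact h'.1

end Cfsg.Agent.Lib.Helper62.RuKey
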