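import Mathlib
import Cfsg.Prelude.Def_GeometricClasses
import Cfsg.Agent.Lib.Helper87.SU3Defs
import Cfsg.Agent.Lib.Helper51.FieldAutU1

/-!
# Keystone 577803 (K-SU3-C3): matrix identities over `F25` for the `3.A_7`-elements `x5m`, `n5m`, ...

Method: all identities are decided in the concrete field `R25 = (ZMod 5)[ω]/(ω² + ω + 1)` (Mathlib's `QuadraticAlgebra`) and
transported along the ring homomorphism `R25 → F`, `ω ↦ ω`.
-/

set_option autoImplicit false

namespace Cfsg.Agent.Lib.Helper62.SU3K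

open Cfsg Cfsg.Geo Matrix Cfsg.Agent.Lib.Helper87.SU3

theorem fact_prime_five : Fact (Nat.Prime 5) := ⟨by norm_num⟩

attribute [local instance] fact_prime_five

/-- The concrete field with 25 elements, `ω² = -1 - ω`. -/
abbrev R25 := QuadraticAlgebra (ZMod 5) (-1) (-1)

theorem fact_R25 : Fact (∀ r : ZMod 5, r ^ 2 ≠ -1 + -1 * r) := ⟨by decide⟩

attribute [local instance] fact_R25

/-- the primitive cube root of unity of `R25`. -/
def w0 : R25 := ⟨0, 1⟩

/-! ### matrices commute with ring homomorphisms -/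

section maps

variable {K F : Type*} [Field K] [Field F] (φ : K →+* F)

theorem map_r5m : (r5m : Matrix (Fin 3) (Fin 3) K).map φ = r5m := by
  ext i j; fin_cases i <;> fin_cases j <;> simp [r5m, map_ofNat]

theorem map_mC5 : (mC5 : Matrix (Fin 3) (Fin 3) K).map φ = mC5 := by
  ext i j; fin_cases i <;> fin_cases j <;> simp [mC5]

theorem map_mA5 (w : K) : (mA5 w).map φ = mA5 (φ w) := by
  ext i j; fin_cases i <;> fin_cases j <;> simp [mA5]

theorem map_mB5 (w : K) : (mB5 w).map φ = mB5 (φ w) := by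
  ext i j; fin_cases i <;> fin_cases j <;> simp [mB5]

theorem map_dg5 (w : K) : (dg5 w).map φ = dg5 (φ w) := by
  ext i j; fin_cases i <;> fin_cases j <;> simp [dg5]

theorem map_x5m (w : K) : (x5m w).map φ = x5m (φ w) := by
  simp only [x5m, Matrix.map_mul, map_r5m, map_mA5]

theorem map_n5m (w : K) : (n5m w).map φ = n5m (φ w) := by
  simp only [n5m, Matrix.map_mul, map_r5m, map_mB5, map_mC5]

theorem map_pow' (A : Matrix (Fin 3) (Fin 3) K) (k : ℕ) : (A ^ k).map φ = A.map φ ^ k :=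
  map_pow φ.mapMatrix A k

theorem map_injective' (hφ : Function.Injective φ) :
    Function.Injective (fun A : Matrix (Fin 3) (Fin 3) K => A.map φ) :=
  Matrix.map_injective hφ

end maps

/-! ### decided facts in `R25` -/

set_option maxRecDepth 100000 in
theorem D1 : x5m w0 ^ 7 = 1 := by decide +kernel

set_option maxRecDepth 100000 in
theorem D3 : n5m w0 * x5m w0 = x5m w0 ^ 2 * n5m w0 := by decide +kernel

set_option maxRecDepth 100000 in
theorem D4 : ∀ j : Fin 7, (x5m w0 ^ (j : ℕ)).trace = (x5m w0).trace → (j : ℕ) = 1 ∨ (j : ℕ) = 2 ∨ (j : ℕ) = 4 := by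
  decide +kernel

set_option maxRecDepth 100000 in
theorem D5 : (r5m * x5m w0 * r5m) * x5m w0 ≠ x5m w0 * (r5m * x5m w0 * r5m) := by decide +kernel

set_option maxRecDepth 100000 in
theorem D7 : (r5m : Matrix (Fin 3) (Fin 3) R25) * r5m = 1 := by decide +kernel

/-- unitary of determinant one, in matrix form. -/
def IsSU5 {K : Type*} [Field K] (A : Matrix (Fin 3) (Fin 3) K) : Prop :=
  Aᵀ * A.map (fun x => x ^ 5) = 1 ∧ A.det = 1

instance {K : Type*} [Field K] [DecidableEq K] (A : Matrix (Fin 3) (Fin 3) K) : Decidable (IsSU5 A) := by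
  unfold IsSU5; infer_instance

set_option maxRecDepth 100000 in
theorem D6 : IsSU5 (r5m : Matrix (Fin 3) (Fin 3) R25) ∧ IsSU5 (mA5 w0) ∧ IsSU5 (mB5 w0) ∧
    IsSU5 (mC5 : Matrix (Fin 3) (Fin 3) R25) ∧ IsSU5 (dg5 w0) := by
  decide +kernel

/-! ### transport -/

section transport

variable {F : Type*} [Field F] [Fintype F]

theorem charP_five' (hF : Fintype.card F = 25) : CharP F 5 :=
  charP_of_card_eq_prime_pow (f := 2) (by rw [hF]; norm_num)

/-- the homomorphism `R25 → F`, `ω ↦ ω`. -/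
theorem exists_hom (hF : Fintype.card F = 25) (ω : F) (hω : ω ^ 2 + ω + 1 = 0) :
    ∃ φ : R25 →+* F, φ w0 = ω ∧ Function.Injective φ := by
  have : CharP F 5 := charP_five' hF
  let _ : Algebra (ZMod 5) F := ZMod.algebra F 5
  have hω' : ω * ω = (-1 : ZMod 5) • (1 : F) + (-1 : ZMod 5) • ω := by
    simp only [neg_smul, one_smul]
    linear_combination hω
  let φA : R25 →ₐ[ZMod 5] F := QuadraticAlgebra.lift ⟨ω, hω'⟩
  refine ⟨φA.toRingHom, ?_, φA.toRingHom.injective⟩
  show φA w0 = ω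
  simp [φA, w0]

omit [Fintype F] in
theorem isSU5_map {K : Type*} [Field K] (φ : K →+* F) {A : Matrix (Fin 3) (Fin 3) K} (h : IsSU5 A) :
    IsSU5 (A.map φ) := by
  obtain ⟨h1, h2⟩ := h
  constructor
  · have := congrArg (fun M : Matrix (Fin 3) (Fin 3) K => M.map φ) h1
    simp only [Matrix.map_mul, Matrix.map_one _ φ.map_zero φ.map_one] at this
    rw [← this, Matrix.transpose_map]
    congr 1
    ext i j
    simp [Matrix.map_apply]
  · rw [← RingHom.mapMatrix_apply, ← RingHom.map_det, h2, map_one]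

theorem exists_mem_SU3 (hF : Fintype.card F = 25) {A : Matrix (Fin 3) (Fin 3) F} (h : IsSU5 A) :
    ∃ g : GL (Fin 3) F, (g : Matrix (Fin 3) (Fin 3) F) = A ∧ g ∈ SU3 F 5 := by
  have : CharP F 5 := charP_five' hF
  obtain ⟨h1, h2⟩ := h
  have hdet : A.det ≠ 0 := by rw [h2]; exact one_ne_zero
  refine ⟨Matrix.GeneralLinearGroup.mkOfDetNeZero A hdet, rfl, ?_⟩
  rw [Subgroup.mem_inf]
  constructor
  · rw [Cfsg.Agent.Lib.Helper51.mem_GU_iff_mul (frobenius F 5) (fun x => frobenius_def 5 x)]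
    show Aᵀ * A.map (frobenius F 5) = 1
    rw [← h1]
    congr 1
  · show Matrix.GeneralLinearGroup.det (Matrix.GeneralLinearGroup.mkOfDetNeZero A hdet) = 1
    apply Units.ext
    rw [Matrix.GeneralLinearGroup.val_det_apply]
    exact h2

/-- KEYSTONE 577803  K-SU3-C3. -/
theorem x5_n5_facts (hF : Fintype.card F = 25) (ω : F) (hω : ω ^ 2 + ω + 1 = 0) :
    x5m ω ^ 7 = 1 ∧ x5m ω ≠ 1 ∧ n5m ω * x5m ω = x5m ω ^ 2 * n5m ω ∧
    (∀ i : ℕ, (x5m ω ^ i).trace = (x5m ω).trace → i % 7 = 1 ∨ i % 7 = 2 ∨ i % 7 = 4) ∧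
    (r5m * x5m ω * r5m) * x5m ω ≠ x5m ω * (r5m * x5m ω * r5m) ∧
    (∀ A : Matrix (Fin 3) (Fin 3) F, (A = r5m ∨ A = mA5 ω ∨ A = mB5 ω ∨ A = mC5 ∨ A = dg5 ω) →
      ∃ g : GL (Fin 3) F, (g : Matrix (Fin 3) (Fin 3) F) = A ∧ g ∈ SU3 F 5) ∧
    r5m * r5m = (1 : Matrix (Fin 3) (Fin 3) F) := by
  obtain ⟨φ, hφw, hinj⟩ := exists_hom hF ω hω
  have hx : x5m ω = (x5m w0).map φ := by rw [map_x5m, hφw]
  have hn : n5m ω = (n5m w0).map φ := by rw [map_n5m, hφw]
  have hr : (r5m : Matrix (Fin 3) (Fin 3) F) = (r5m : Matrix (Fin 3) (Fin 3) R25).map φ := by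
    rw [map_r5m]
  have hone : (1 : Matrix (Fin 3) (Fin 3) F) = (1 : Matrix (Fin 3) (Fin 3) R25).map φ :=
    (Matrix.map_one _ φ.map_zero φ.map_one).symm
  have hMinj := map_injective' φ hinj
  have h7 : x5m ω ^ 7 = 1 := by
    rw [hx, ← map_pow', D1, ← hone]
  refine ⟨h7, ?_, ?_, ?_, ?_, ?_, ?_⟩
  · intro h1
    rw [hx, hone] at h1
    have h2 : x5m w0 = 1 := hMinj h1
    have h3 : x5m w0 ^ 2 = 1 := by rw [h2, one_pow]
    have h4 := D4 ⟨0, by norm_num⟩ (by rw [h2]; simp)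
    simp at h4
  · rw [hx, hn, ← map_pow', ← Matrix.map_mul, ← Matrix.map_mul, D3]
  · intro i hi
    have hmod : x5m ω ^ i = x5m ω ^ (i % 7) := pow_eq_pow_mod i h7
    rw [hmod, hx, ← map_pow'] at hi
    have htr : ∀ M : Matrix (Fin 3) (Fin 3) R25, (M.map φ).trace = φ M.trace := by
      intro M
      simp [Matrix.trace, map_sum]
    rw [htr, htr] at hi
    have hi' := hinj hi
    exact D4 ⟨i % 7, Nat.mod_lt _ (by norm_num)⟩ hi'
  · intro h
    apply D5
    apply hMinj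
    show (r5m * x5m w0 * r5m * x5m w0).map φ = (x5m w0 * (r5m * x5m w0 * r5m)).map φ
    simp only [Matrix.map_mul, ← hx, ← hr]
    exact h
  · obtain ⟨d1, d2, d3, d4, d5⟩ := D6
    rintro A (rfl | rfl | rfl | rfl | rfl)
    · apply exists_mem_SU3 hF
      rw [hr]
      exact isSU5_map φ d1
    · apply exists_mem_SU3 hF
      rw [← hφw, ← map_mA5]
      exact isSU5_map φ d2
    · apply exists_mem_SU3 hF
      rw [← hφw, ← map_mB5]
      exact isSU5_map φ d3
    · apply exists_mem_SU3 hF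
      rw [← map_mC5 φ]
      exact isSU5_map φ d4
    · apply exists_mem_SU3 hF
      rw [← hφw, ← map_dg5]
      exact isSU5_map φ d5
  · rw [hr, ← Matrix.map_mul, D7, ← hone]

end transport

end Cfsg.Agent.Lib.Helper62.SU3K
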