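import Mathlib
import Cfsg.Prelude.Def_GeometricClasses
import Cfsg.Agent.Lib.Helper61.AschDefs
import Cfsg.Agent.Lib.Helper43.SpAschDefs
import Cfsg.Agent.Lib.Helper43.SpAschDefs2
import Cfsg.Agent.Lib.Helper14.AschOT1

/-!
K-SpAsch-T5 (keystone 566235): transport of the `subfield` constructor of `SGeom` along a bijection of index
types (on top of helper14's pull lemmas `Helper14.AschO.subfield_pull`, `symm_mulVec`).
-/

set_option autoImplicit false

namespace Cfsg.Agent.Lib.Helper62.SpAsch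

open Cfsg Cfsg.Geo Cfsg.Agent.Lib.Helper61.Asch Cfsg.Agent.Lib.Helper43.SpAsch
open scoped Matrix Kronecker MatrixGroups

variable {ι κ : Type} [Fintype ι] [DecidableEq ι] [Fintype κ] [DecidableEq κ] {F : Type*} [Field F] [Fintype F]

/-- **K-SpAsch-T5** -/
theorem sgeom_transport_subfield (e : ι ≃ κ) (f : (ι → F) → (ι → F) → F) (K : Subgroup (GL ι F))
    (F₀ : Subfield F) (r : ℕ) (P : GL κ F) (ζ : F) (hr : r.Prime)
    (hc : Fintype.card F = Nat.card F₀ ^ r) (hζ : ζ ≠ 0) (hrat : IsFormRationalStructure (formMap e f) F₀ ζ P)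
    (hK : K.map (glMap e).toMonoidHom ≤ subfieldSubgroup F₀ P) : SGeom f K := by
  refine SGeom.subfield F₀ r ((glReindex (F := F) e).symm P) ζ hr hc hζ ?_ ?_
  · intro u v hu hv
    have h1 := hrat (u ∘ e.symm) (v ∘ e.symm) (fun i => hu _) (fun i => hv _)
    unfold formMap at h1
    rw [Cfsg.Agent.Lib.Helper14.AschO.symm_mulVec, Cfsg.Agent.Lib.Helper14.AschO.symm_mulVec,
      Cfsg.Agent.Lib.Helper14.AschO.comp_symm_comp, Cfsg.Agent.Lib.Helper14.AschO.comp_symm_comp] at h1
    exact h1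
  · rw [← Cfsg.Agent.Lib.Helper14.AschO.subfield_pull]
    intro g hg
    exact hK (Subgroup.mem_map_of_mem _ hg)

end Cfsg.Agent.Lib.Helper62.SpAsch
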