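/-
K-SpT-M (keystone 598012, S5980): Kronecker products of isometries of `f₁`, `f₂` are symplectic for the form
`f₁ ⊗ f₂` transported along `tHom e P`.
-/
import Mathlib
import Cfsg.Prelude.Def_GeometricClasses
import Cfsg.Prelude.Def_ClassicalGeometry
import Cfsg.Agent.Lib.Helper86.SpMaxY3Core

set_option autoImplicit false

namespace Cfsg.Agent.Lib.Helper62.SpT

open Matrix Cfsg Cfsg.Geo Cfsg.Agent.Lib.Helper11.TensorPlumb Cfsg.Agent.Lib.Helper86.SpMax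
open scoped Kronecker

variable {F : Type*} [Field F]

theorem formOfGram_id_eq {κ : Type} [Fintype κ] (G : Matrix κ κ F) (x y : κ → F) :
    Cfsg.Geo.formOfGram id G x y = x ⬝ᵥ (G *ᵥ y) := by
  simp only [Cfsg.Geo.formOfGram, dotProduct, Matrix.mulVec, id, Finset.mul_sum, mul_assoc]

theorem formOfGram_mulVec {κ : Type} [Fintype κ] (G k : Matrix κ κ F) (hk : kᵀ * G * k = G)
    (x y : κ → F) :
    Cfsg.Geo.formOfGram id G (k *ᵥ x) (k *ᵥ y) = Cfsg.Geo.formOfGram id G x y := by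
  rw [formOfGram_id_eq, formOfGram_id_eq]
  calc (k *ᵥ x) ⬝ᵥ (G *ᵥ (k *ᵥ y)) = (x ᵥ* kᵀ) ⬝ᵥ (G *ᵥ (k *ᵥ y)) := by
        rw [Matrix.vecMul_transpose]
    _ = x ⬝ᵥ (kᵀ *ᵥ (G *ᵥ (k *ᵥ y))) := by rw [← Matrix.dotProduct_mulVec]
    _ = x ⬝ᵥ ((kᵀ * G * k) *ᵥ y) := by rw [Matrix.mulVec_mulVec, Matrix.mulVec_mulVec]
    _ = x ⬝ᵥ (G *ᵥ y) := by rw [hk]

theorem kron_gram {a b : ℕ} (A G₁ : Matrix (Fin a) (Fin a) F) (B G₂ : Matrix (Fin b) (Fin b) F)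
    (hA : Aᵀ * G₁ * A = G₁) (hB : Bᵀ * G₂ * B = G₂) :
    (A ⊗ₖ B)ᵀ * (G₁ ⊗ₖ G₂) * (A ⊗ₖ B) = G₁ ⊗ₖ G₂ := by
  have h1 : (A ⊗ₖ B)ᵀ = Aᵀ ⊗ₖ Bᵀ := (Matrix.kroneckerMap_transpose _ A B).symm
  rw [h1, ← Matrix.mul_kronecker_mul, ← Matrix.mul_kronecker_mul, hA, hB]

/-- KEYSTONE 598012  K-SpT-M. -/
theorem tHom_kron_mem_spGL {d a b : ℕ} (e : (Fin d ⊕ Fin d) ≃ Fin a × Fin b) (P : GL (Fin d ⊕ Fin d) F)
    (f₁ : (Fin a → F) → (Fin a → F) → F) (f₂ : (Fin b → F) → (Fin b → F) → F)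
    (hS : Cfsg.Geo.IsTensorFormStructure id (Cfsg.sympForm d F) f₁ f₂ e P)
    (A : GL (Fin a) F) (B : GL (Fin b) F)
    (hA : (A : Matrix (Fin a) (Fin a) F)ᵀ * Cfsg.Geo.gramMatrix f₁ * (A : Matrix (Fin a) (Fin a) F) = Cfsg.Geo.gramMatrix f₁)
    (hB : (B : Matrix (Fin b) (Fin b) F)ᵀ * Cfsg.Geo.gramMatrix f₂ * (B : Matrix (Fin b) (Fin b) F) = Cfsg.Geo.gramMatrix f₂)
    (k : GL (Fin a × Fin b) F)
    (hk : (k : Matrix (Fin a × Fin b) (Fin a × Fin b) F) = (A : Matrix (Fin a) (Fin a) F) ⊗ₖ (B : Matrix (Fin b) (Fin b) F)) :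
    Cfsg.Agent.Lib.Helper86.SpMax.tHom e P k ∈ Cfsg.spGL d F := by
  obtain ⟨c, hc0, hform⟩ := hS
  have hform' : ∀ X Y : Fin a × Fin b → F, sympForm d F (tau e P X) (tau e P Y) =
      c * Cfsg.Geo.formOfGram id (Cfsg.Geo.gramMatrix f₁ ⊗ₖ Cfsg.Geo.gramMatrix f₂) X Y :=
    fun X Y => hform X Y
  have hkG : (k : Matrix (Fin a × Fin b) (Fin a × Fin b) F)ᵀ *
      (Cfsg.Geo.gramMatrix f₁ ⊗ₖ Cfsg.Geo.gramMatrix f₂) *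
      (k : Matrix (Fin a × Fin b) (Fin a × Fin b) F) =
      Cfsg.Geo.gramMatrix f₁ ⊗ₖ Cfsg.Geo.gramMatrix f₂ := by
    rw [hk]
    exact kron_gram _ _ _ _ hA hB
  intro u v
  obtain ⟨X, rfl⟩ := tau_surj e P u
  obtain ⟨Y, rfl⟩ := tau_surj e P v
  change sympForm d F (((tHom e P k : GL _ F) : Matrix _ _ F) *ᵥ tau e P X)
    (((tHom e P k : GL _ F) : Matrix _ _ F) *ᵥ tau e P Y) = _
  rw [tHom_mulVec_tau, tHom_mulVec_tau, hform', hform', formOfGram_mulVec _ _ hkG]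

end Cfsg.Agent.Lib.Helper62.SpT
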