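import Mathlib
import Cfsg.Agent.Lib.Helper62.SD16L33

/-!
# Helper62: the spectrum of `L₃(3)`

`spectrum_SL33 : Set.range (orderOf : SL(3, ZMod 3) → ℕ) = {1, 2, 3, 4, 6, 8, 13}` (brute force over
the 3⁹ matrices, in a natural-number encoding `M3` checked by kernel evaluation), and
`spectrum_PSL33` for `PSL(3, F)`, `F` a field with three elements.
-/

set_option autoImplicit false

namespace Cfsg.Agent.Lib.Helper62.SpecL33

open Matrix Cfsg.Agent.Lib.Helper62 Cfsg.Agent.Lib.Helper62.SD16L33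

/-- `3 × 3` matrices with natural number entries (meant modulo 3). -/
structure M3 where
  (a b c d e f g h i : ℕ)
deriving DecidableEq

namespace M3

def mul (x y : M3) : M3 :=
  ⟨(x.a * y.a + x.b * y.d + x.c * y.g) % 3, (x.a * y.b + x.b * y.e + x.c * y.h) % 3,
    (x.a * y.c + x.b * y.f + x.c * y.i) % 3,
    (x.d * y.a + x.e * y.d + x.f * y.g) % 3, (x.d * y.b + x.e * y.e + x.f * y.h) % 3,
    (x.d * y.c + x.e * y.f + x.f * y.i) % 3,
    (x.g * y.a + x.h * y.d + x.i * y.g) % 3, (x.g * y.b + x.h * y.e + x.i * y.h) % 3,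
    (x.g * y.c + x.h * y.f + x.i * y.i) % 3⟩

def det (x : M3) : ℕ :=
  (x.a * (x.e * x.i + 2 * (x.f * x.h)) + x.b * (x.f * x.g + 2 * (x.d * x.i)) +
    x.c * (x.d * x.h + 2 * (x.e * x.g))) % 3

def one : M3 := ⟨1, 0, 0, 0, 1, 0, 0, 0, 1⟩

def p2 (x : M3) : M3 := x.mul x
def p4 (x : M3) : M3 := x.p2.p2
def p8 (x : M3) : M3 := x.p4.p2
def p6 (x : M3) : M3 := x.p4.mul x.p2
def p13 (x : M3) : M3 := (x.p8.mul x.p4).mul x

def chk (x : M3) : Bool :=
  x.det != 1 || x.p8 == one || x.p6 == one || x.p13 == one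

/-- the matrix over `ZMod 3`. -/
def toMat (x : M3) : Matrix (Fin 3) (Fin 3) (ZMod 3) :=
  !![(x.a : ZMod 3), x.b, x.c; x.d, x.e, x.f; x.g, x.h, x.i]

theorem toMat_mul (x y : M3) : toMat (x.mul y) = toMat x * toMat y := by
  ext i j
  fin_cases i <;> fin_cases j <;>
    simp [toMat, mul, Matrix.mul_apply, Fin.sum_univ_three, ZMod.natCast_mod]

theorem toMat_one : toMat one = 1 := by
  ext i j
  fin_cases i <;> fin_cases j <;> simp [toMat, one]

theorem det_toMat (x : M3) : (toMat x).det = (x.det : ZMod 3) := by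
  rw [Matrix.det_fin_three]
  simp only [toMat, det, ZMod.natCast_mod]
  simp
  have h2 : (2 : ZMod 3) = -1 := by decide
  rw [h2]
  ring

theorem toMat_p2 (x : M3) : toMat x.p2 = toMat x ^ 2 := by rw [p2, toMat_mul, sq]
theorem toMat_p4 (x : M3) : toMat x.p4 = toMat x ^ 4 := by
  rw [p4, toMat_p2, toMat_p2, ← pow_mul]
theorem toMat_p8 (x : M3) : toMat x.p8 = toMat x ^ 8 := by
  rw [p8, toMat_p2, toMat_p4, ← pow_mul]
theorem toMat_p6 (x : M3) : toMat x.p6 = toMat x ^ 6 := by
  rw [p6, toMat_mul, toMat_p4, toMat_p2, ← pow_add]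
theorem toMat_p13 (x : M3) : toMat x.p13 = toMat x ^ 13 := by
  rw [p13, toMat_mul, toMat_mul, toMat_p8, toMat_p4, ← pow_add, ← pow_succ]

/-- the encoding of a matrix. -/
def ofMat (M : Matrix (Fin 3) (Fin 3) (ZMod 3)) : M3 :=
  ⟨(M 0 0).val, (M 0 1).val, (M 0 2).val, (M 1 0).val, (M 1 1).val, (M 1 2).val,
    (M 2 0).val, (M 2 1).val, (M 2 2).val⟩

theorem toMat_ofMat (M : Matrix (Fin 3) (Fin 3) (ZMod 3)) : toMat (ofMat M) = M := by
  ext i j
  fin_cases i <;> fin_cases j <;> simp [toMat, ofMat]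

end M3

open M3

def allChk : Bool :=
  (List.range 3).all fun a => (List.range 3).all fun b => (List.range 3).all fun c =>
  (List.range 3).all fun d => (List.range 3).all fun e => (List.range 3).all fun f =>
  (List.range 3).all fun g => (List.range 3).all fun h => (List.range 3).all fun i =>
    chk ⟨a, b, c, d, e, f, g, h, i⟩

set_option maxRecDepth 100000 in
theorem allChk_true : allChk = true := by decide +kernel

theorem chk_all : ∀ a < 3, ∀ b < 3, ∀ c < 3, ∀ d < 3, ∀ e < 3, ∀ f < 3, ∀ g < 3, ∀ h < 3, ∀ i < 3,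
    chk ⟨a, b, c, d, e, f, g, h, i⟩ = true := by
  have h := allChk_true
  simp only [allChk, List.all_eq_true, List.mem_range] at h
  exact h

theorem pow_cases (M : Matrix (Fin 3) (Fin 3) (ZMod 3)) (hM : M.det = 1) :
    M ^ 8 = 1 ∨ M ^ 6 = 1 ∨ M ^ 13 = 1 := by
  have hlt : ∀ x : ZMod 3, x.val < 3 := fun x => ZMod.val_lt x
  have h := chk_all _ (hlt (M 0 0)) _ (hlt (M 0 1)) _ (hlt (M 0 2)) _ (hlt (M 1 0)) _ (hlt (M 1 1))
    _ (hlt (M 1 2)) _ (hlt (M 2 0)) _ (hlt (M 2 1)) _ (hlt (M 2 2))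
  change chk (ofMat M) = true at h
  have hdet : (ofMat M).det = 1 := by
    have h1 := det_toMat (ofMat M)
    rw [toMat_ofMat, hM] at h1
    have h2 : (ofMat M).det < 3 := Nat.mod_lt _ (by norm_num)
    have h3 : (((ofMat M).det : ℕ) : ZMod 3) = ((1 : ℕ) : ZMod 3) := by rw [← h1]; simp
    rw [ZMod.natCast_eq_natCast_iff'] at h3
    omega
  simp only [chk, hdet, bne_self_eq_false, Bool.false_or, Bool.or_eq_true, beq_iff_eq] at h
  rcases h with (h | h) | h
  · left
    rw [← toMat_ofMat M, ← toMat_p8, h, toMat_one]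
  · right; left
    rw [← toMat_ofMat M, ← toMat_p6, h, toMat_one]
  · right; right
    rw [← toMat_ofMat M, ← toMat_p13, h, toMat_one]

/-! ### the spectrum -/

theorem orderOf_mem_of_dvd {n : ℕ} (h : n ∣ 8 ∨ n ∣ 6 ∨ n ∣ 13) :
    n ∈ ({1, 2, 3, 4, 6, 8, 13} : Set ℕ) := by
  simp only [Set.mem_insert_iff, Set.mem_singleton_iff]
  rcases h with h | h | h
  · have := Nat.le_of_dvd (by norm_num) h
    interval_cases n <;> simp_all <;> omega
  · have := Nat.le_of_dvd (by norm_num) h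
    interval_cases n <;> simp_all <;> omega
  · have := Nat.le_of_dvd (by norm_num) h
    interval_cases n <;> simp_all <;> omega

theorem orderOf_mem (g : S3) : orderOf g ∈ ({1, 2, 3, 4, 6, 8, 13} : Set ℕ) := by
  apply orderOf_mem_of_dvd
  have hp : ∀ n : ℕ, g.val ^ n = 1 → g ^ n = 1 := by
    intro n hn
    have h1 : (g ^ n).val = g.val ^ n := Matrix.SpecialLinearGroup.coe_pow g n
    have h2 : (g ^ n).val = (1 : S3).val := by rw [h1, hn]; rfl
    exact Subtype.ext h2
  rcases pow_cases g.val g.property with h | h | h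
  · exact Or.inl (orderOf_dvd_of_pow_eq_one (hp _ h))
  · exact Or.inr (Or.inl (orderOf_dvd_of_pow_eq_one (hp _ h)))
  · exact Or.inr (Or.inr (orderOf_dvd_of_pow_eq_one (hp _ h)))

def cM : Matrix (Fin 3) (Fin 3) (ZMod 3) := !![0, 0, 1; 1, 0, 1; 0, 1, 0]
def c3 : S3 := ⟨cM, by rw [Matrix.det_fin_three]; decide⟩

theorem order_z : orderOf (a3 ^ 4 : S3) = 2 := by
  have : Fact (Nat.Prime 2) := ⟨by norm_num⟩
  apply orderOf_eq_prime
  · apply Subtype.ext; decide
  · intro h
    have := congrArg Subtype.val h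
    revert this; decide

theorem order_w : orderOf (w3 : S3) = 3 := by
  have : Fact (Nat.Prime 3) := ⟨by norm_num⟩
  apply orderOf_eq_prime
  · apply Subtype.ext; decide
  · intro h
    have := congrArg Subtype.val h
    revert this; decide

theorem order_a2 : orderOf (a3 ^ 2 : S3) = 4 := by
  have : Fact (Nat.Prime 2) := ⟨by norm_num⟩
  have := orderOf_eq_prime_pow (x := (a3 ^ 2 : S3)) (p := 2) (n := 1) ?_ ?_
  · simpa using this
  · intro h
    have := congrArg Subtype.val h
    revert this; decide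
  · apply Subtype.ext; decide

theorem order_a : orderOf (a3 : S3) = 8 := by
  have : Fact (Nat.Prime 2) := ⟨by norm_num⟩
  have := orderOf_eq_prime_pow (x := (a3 : S3)) (p := 2) (n := 2) ?_ ?_
  · simpa using this
  · intro h
    have := congrArg Subtype.val h
    revert this; decide
  · apply Subtype.ext; decide

theorem order_c : orderOf (c3 : S3) = 13 := by
  have : Fact (Nat.Prime 13) := ⟨by norm_num⟩
  apply orderOf_eq_prime
  · apply Subtype.ext; decide
  · intro h
    have := congrArg Subtype.val h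
    revert this; decide

theorem order_zw : orderOf (a3 ^ 4 * w3 : S3) = 6 := by
  have hc : Commute (a3 ^ 4 : S3) w3 := by
    apply Subtype.ext; decide
  have := hc.orderOf_mul_eq_mul_orderOf_of_coprime (by rw [order_z, order_w]; norm_num)
  rw [this, order_z, order_w]

theorem spectrum_SL33 : Set.range (orderOf : S3 → ℕ) = {1, 2, 3, 4, 6, 8, 13} := by
  apply Set.Subset.antisymm
  · rintro _ ⟨g, rfl⟩
    exact orderOf_mem g
  · intro n hn
    simp only [Set.mem_insert_iff, Set.mem_singleton_iff] at hn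
    rcases hn with rfl | rfl | rfl | rfl | rfl | rfl | rfl
    · exact ⟨1, orderOf_one⟩
    · exact ⟨_, order_z⟩
    · exact ⟨_, order_w⟩
    · exact ⟨_, order_a2⟩
    · exact ⟨_, order_zw⟩
    · exact ⟨_, order_a⟩
    · exact ⟨_, order_c⟩

theorem spectrum_PSL33 {F : Type*} [Field F] [Fintype F] (hF : Fintype.card F = 3) :
    Set.range (orderOf : Matrix.ProjectiveSpecialLinearGroup (Fin 3) F → ℕ) =
      {1, 2, 3, 4, 6, 8, 13} := by
  rw [← spectrum_SL33]
  apply Set.Subset.antisymm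
  · rintro _ ⟨g, rfl⟩
    exact ⟨(equivPSL hF).symm g, MulEquiv.orderOf_eq _ _⟩
  · rintro _ ⟨g, rfl⟩
    exact ⟨(equivPSL hF) g, MulEquiv.orderOf_eq _ _⟩

end Cfsg.Agent.Lib.Helper62.SpecL33
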