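import Mathlib
import Cfsg.Agent.Lib.Helper62.PresGen
import Cfsg.Agent.Lib.Helper03.PGroupNormal

/-!
# Helper62: the Sylow 2-subgroups of `S₈` and `A₈` as presented (polycyclic) groups

`P128` (7 involutions, pc-relations) is isomorphic to the Sylow 2-subgroup `D₈ ≀ C₂` of `S₈`, and
`P64` (its subpresentation on the last six generators) to that of `A₈`.  Main results:
`card_P128`, `card_P64`, the injectivity criteria `injective_of_ne_one128/64` (a homomorphism that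
does not kill the central involution `gen 6`, resp. `gen 5`, is injective), and
`nonempty_equiv_sylow` (an injective image of full 2-power order is isomorphic to every Sylow
2-subgroup).
-/

set_option autoImplicit false

namespace Cfsg.Agent.Lib.Helper62.Syl2PC

open Cfsg.Agent.Lib.Helper62

/-! ### generic lemmas -/

section Generic

variable {Γ : Type*} [Group Γ]

open scoped Pointwise in
/-- every element is the value of a normal form word. -/
theorem exists_nf (g : ℕ → Γ) (fuel n : ℕ) (R₀ : Rules) (cs : List Cert) (NF : List Word)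
    (hR₀ : Valid g R₀) (h : checkAll fuel n R₀ cs NF = true)
    (hgen : Subgroup.closure (g '' {i | i < n}) = ⊤) (γ : Γ) : ∃ w ∈ NF, γ = ev g w := by
  classical
  obtain ⟨hnil, hclosed⟩ := checkAll_sound g fuel n R₀ cs NF hR₀ h
  let T : Finset Γ := (NF.map (ev g)).toFinset
  have hT1 : (1 : Γ) ∈ T := by
    simp only [T, List.mem_toFinset, List.mem_map]
    exact ⟨[], hnil, rfl⟩
  have hstab : ∀ i < n, g i ∈ MulAction.stabilizer Γ T := by
    intro i hi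
    rw [MulAction.mem_stabilizer_finset']
    intro b hb
    simp only [T, List.mem_toFinset, List.mem_map] at hb ⊢
    obtain ⟨w, hw, rfl⟩ := hb
    obtain ⟨w', hw', he⟩ := hclosed w hw i hi
    exact ⟨w', hw', by rw [smul_eq_mul, he]⟩
  have htop : MulAction.stabilizer Γ T = ⊤ := by
    rw [eq_top_iff, ← hgen, Subgroup.closure_le]
    rintro _ ⟨i, hi, rfl⟩
    exact hstab i hi
  have hγ : γ ∈ MulAction.stabilizer Γ T := by rw [htop]; exact Subgroup.mem_top γ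
  rw [MulAction.mem_stabilizer_finset'] at hγ
  have := hγ hT1
  simp only [smul_eq_mul, mul_one, T, List.mem_toFinset, List.mem_map] at this
  obtain ⟨w, hw, rfl⟩ := this
  exact ⟨w, hw, rfl⟩

theorem ev_mem_closure (g : ℕ → Γ) (n : ℕ) (w : Word) (hw : ∀ i ∈ w, i < n) :
    ev g w ∈ Subgroup.closure (g '' {i | i < n}) := by
  induction w with
  | nil => simp
  | cons a w ih =>
    rw [ev_cons]
    apply Subgroup.mul_mem
    · exact Subgroup.subset_closure ⟨a, hw a (by simp), rfl⟩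
    · exact ih (fun i hi => hw i (by simp [hi]))

/-- distinct values of the normal forms bound the generated subgroup from below. -/
theorem card_closure_ge [Finite Γ] (g : ℕ → Γ) (n : ℕ) (NF : List Word)
    (hlt : ∀ w ∈ NF, ∀ i ∈ w, i < n) (hnd : (NF.map (ev g)).Nodup) :
    NF.length ≤ Nat.card (Subgroup.closure (g '' {i | i < n})) := by
  classical
  let T : Finset Γ := (NF.map (ev g)).toFinset
  have hT : T.card = NF.length := by
    rw [List.toFinset_card_of_nodup hnd, List.length_map]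
  have hsub : (T : Set Γ) ⊆ (Subgroup.closure (g '' {i | i < n}) : Set Γ) := by
    intro x hx
    simp only [T, List.coe_toFinset, List.mem_map, Set.mem_ofPred_eq] at hx
    obtain ⟨w, hw, rfl⟩ := hx
    exact ev_mem_closure g n w (hlt w hw)
  have h1 : Nat.card (T : Set Γ) ≤ Nat.card (Subgroup.closure (g '' {i | i < n}) : Set Γ) :=
    Nat.card_mono (Set.toFinite _) hsub
  have h2 : Nat.card (T : Set Γ) = T.card := by
    rw [Nat.card_coe_set_eq, Set.ncard_coe_finset]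
  rw [h2, hT] at h1
  exact h1

theorem ev_map {Δ : Type*} [Group Δ] (f : Γ →* Δ) (g : ℕ → Γ) (w : Word) :
    ev (fun i => f (g i)) w = f (ev g w) := by
  induction w with
  | nil => simp
  | cons a w ih => simp [ih]

theorem Valid.map' {Δ : Type*} [Group Δ] (f : Γ →* Δ) {g : ℕ → Γ} {R : Rules} (h : Valid g R) :
    Valid (fun i => f (g i)) R := by
  intro p hp
  rw [ev_map, ev_map, h p hp]

/-- an injective image of full `2`-power order is isomorphic to every Sylow `2`-subgroup. -/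
theorem nonempty_equiv_sylow {P G : Type*} [Group P] [Group G] [Finite G] (f : P →* G)
    (hf : Function.Injective f) (k m : ℕ) (hP : Nat.card P = 2 ^ k) (hG : Nat.card G = 2 ^ k * m)
    (hm : ¬ 2 ∣ m) (S : Sylow 2 G) : Nonempty (P ≃* (S : Subgroup G)) := by
  have : Fact (Nat.Prime 2) := ⟨Nat.prime_two⟩
  have hm0 : m ≠ 0 := by rintro rfl; simp at hm
  have hfac : (Nat.card G).factorization 2 = k := by
    rw [hG, Nat.factorization_mul (by positivity) hm0, Nat.Prime.factorization_pow Nat.prime_two]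
    simp [Nat.factorization_eq_zero_of_not_dvd hm]
  have hcard : Nat.card f.range = 2 ^ (Nat.card G).factorization 2 := by
    rw [hfac, ← hP]
    exact (Nat.card_congr (MonoidHom.ofInjective hf).toEquiv).symm
  let S' : Sylow 2 G := Sylow.ofCard f.range hcard
  obtain ⟨g, hg⟩ := MulAction.exists_smul_eq G S' S
  have e1 : P ≃* f.range := MonoidHom.ofInjective hf
  have e2 : (S' : Subgroup G) ≃* ((g • S' : Sylow 2 G) : Subgroup G) := Sylow.equivSMul S' g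
  have e3 : ((g • S' : Sylow 2 G) : Subgroup G) ≃* (S : Subgroup G) :=
    MulEquiv.subgroupCongr (by rw [hg])
  exact ⟨e1.trans (e2.trans e3)⟩

/-- a homomorphism from a finite `2`-group whose centre is `{1, z}` is injective as soon as it
does not kill `z`. -/
theorem injective_of_center {P H : Type*} [Group P] [Finite P] [Group H] (hP : IsPGroup 2 P)
    (z : P) (hz : ∀ x ∈ Subgroup.center P, x = 1 ∨ x = z) (f : P →* H) (hfz : f z ≠ 1) :
    Function.Injective f := by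
  have : Fact (Nat.Prime 2) := ⟨Nat.prime_two⟩
  rw [← MonoidHom.ker_eq_bot_iff]
  by_contra hne
  obtain ⟨c, hc, hcz, hc1⟩ :=
    Cfsg.Agent.Lib.Helper03.exists_mem_center_of_normal_ne_bot hP f.ker hne
  rcases hz c hcz with h | h
  · exact hc1 h
  · rw [h] at hc
    exact hfz hc

end Generic

/-! ### the data -/

def R128 : Rules := [([0, 0], []), ([1, 1], []), ([2, 2], []), ([3, 3], []), ([4, 4], []), ([5, 5], []), ([6, 6], []), ([1, 0], [0, 1, 4, 6]), ([2, 0], [0, 2]), ([3, 0], [0, 3, 5, 6]), ([4, 0], [0, 4]), ([5, 0], [0, 5]), ([6, 0], [0, 6]), ([2, 1], [1, 2, 3]), ([3, 1], [1, 3]), ([4, 1], [1, 4]), ([5, 1], [1, 5, 6]), ([6, 1], [1, 6]), ([3, 2], [2, 3]), ([4, 2], [2, 4, 5]), ([5, 2], [2, 5]), ([6, 2], [2, 6]), ([4, 3], [3, 4, 6]), ([5, 3], [3, 5]), ([6, 3], [3, 6]), ([5, 4], [4, 5]), ([6, 4], [4, 6]), ([6, 5], [5, 6])]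
def R64 : Rules := [([0, 0], []), ([1, 1], []), ([2, 2], []), ([3, 3], []), ([4, 4], []), ([5, 5], []), ([1, 0], [0, 1, 2]), ([2, 0], [0, 2]), ([3, 0], [0, 3]), ([4, 0], [0, 4, 5]), ([5, 0], [0, 5]), ([2, 1], [1, 2]), ([3, 1], [1, 3, 4]), ([4, 1], [1, 4]), ([5, 1], [1, 5]), ([3, 2], [2, 3, 5]), ([4, 2], [2, 4]), ([5, 2], [2, 5]), ([4, 3], [3, 4]), ([5, 3], [3, 5]), ([5, 4], [4, 5])]
def NF128 : List Word := [[], [6], [5], [5, 6], [4], [4, 6], [4, 5], [4, 5, 6], [3], [3, 6], [3, 5], [3, 5, 6], [3, 4], [3, 4, 6], [3, 4, 5], [3, 4, 5, 6], [2], [2, 6], [2, 5], [2, 5, 6], [2, 4], [2, 4, 6], [2, 4, 5], [2, 4, 5, 6], [2, 3], [2, 3, 6], [2, 3, 5], [2, 3, 5, 6], [2, 3, 4], [2, 3, 4, 6], [2, 3, 4, 5], [2, 3, 4, 5, 6], [1], [1, 6], [1, 5], [1, 5, 6], [1, 4], [1, 4, 6], [1, 4, 5], [1, 4, 5, 6], [1, 3], [1, 3, 6], [1, 3, 5], [1, 3, 5, 6], [1, 3, 4], [1, 3, 4, 6], [1, 3, 4, 5], [1, 3, 4, 5, 6], [1, 2], [1, 2,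 6], [1, 2, 5], [1, 2, 5, 6], [1, 2, 4], [1, 2, 4, 6], [1, 2, 4, 5], [1, 2, 4, 5, 6], [1, 2, 3], [1, 2, 3, 6], [1, 2, 3, 5], [1, 2, 3, 5, 6], [1, 2, 3, 4], [1, 2, 3, 4, 6], [1, 2, 3, 4, 5], [1, 2, 3, 4, 5, 6], [0], [0, 6], [0, 5], [0, 5, 6], [0, 4], [0, 4, 6], [0, 4, 5], [0, 4, 5, 6], [0, 3], [0, 3, 6], [0, 3, 5], [0, 3, 5, 6], [0, 3, 4], [0, 3, 4, 6], [0, 3, 4, 5], [0, 3, 4, 5, 6], [0, 2], [0, 2, 6], [0, 2, 5], [0, 2, 5, 6], [0, 2, 4], [0, 2, 4, 6], [0, 2, 4, 5], [0, 2, 4, 5, 6], [0, 2, 3], [0, 2, 3, 6], [0, 2, 3, 5], [0, 2, 3, 5, 6], [0, 2, 3, 4], [0, 2, 3, 4, 6], [0, 2, 3, 4, 5], [0, 2, 3, 4, 5, 6], [0, 1], [0, 1, 6], [0, 1, 5], [0, 1, 5, 6], [0, 1, 4], [0, 1, 4, 6], [0, 1, 4, 5], [0, 1, 4, 5, 6], [0, 1, 3], [0, 1, 3, 6], [0, 1, 3, 5], [0, 1, 3, 5, 6], [0, 1, 3, 4], [0, 1, 3, 4, 6], [0, 1, 3, 4, 5], [0, 1, 3, 4, 5, 6], [0, 1, 2], [0, 1, 2, 6], [0, 1, 2, 5], [0, 1, 2, 5, 6], [0, 1, 2, 4], [0,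 1, 2, 4, 6], [0, 1, 2, 4, 5], [0, 1, 2, 4, 5, 6], [0, 1, 2, 3], [0, 1, 2, 3, 6], [0, 1, 2, 3, 5], [0, 1, 2, 3, 5, 6], [0, 1, 2, 3, 4], [0, 1, 2, 3, 4, 6], [0, 1, 2, 3, 4, 5], [0, 1, 2, 3, 4, 5, 6]]
def NF64 : List Word := [[], [5], [4], [4, 5], [3], [3, 5], [3, 4], [3, 4, 5], [2], [2, 5], [2, 4], [2, 4, 5], [2, 3], [2, 3, 5], [2, 3, 4], [2, 3, 4, 5], [1], [1, 5], [1, 4], [1, 4, 5], [1, 3], [1, 3, 5], [1, 3, 4], [1, 3, 4, 5], [1, 2], [1, 2, 5], [1, 2, 4], [1, 2, 4, 5], [1, 2, 3], [1, 2, 3, 5], [1, 2, 3, 4], [1, 2, 3, 4, 5], [0], [0, 5], [0, 4], [0, 4, 5], [0, 3], [0, 3, 5], [0, 3, 4], [0, 3, 4, 5], [0, 2], [0, 2, 5], [0, 2, 4], [0, 2, 4, 5], [0, 2, 3], [0, 2, 3, 5], [0, 2, 3, 4], [0, 2, 3, 4, 5], [0, 1], [0, 1, 5], [0, 1, 4], [0, 1, 4, 5], [0, 1, 3], [0, 1, 3, 5], [0, 1, 3, 4], [0, 1, 3, 4, 5], [0, 1, 2], [0, 1, 2, 5], [0, 1, 2, 4], [0, 1, 2, 4, 5], [0, 1, 2, 3], [0, 1, 2, 3, 5], [0, 1, 2, 3, 4],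 [0, 1, 2, 3, 4, 5]]

abbrev P128 := PresGen.P 7 R128
abbrev P64 := PresGen.P 6 R64

set_option maxRecDepth 100000 in
theorem check128 : checkAll 20 7 R128 [] NF128 = true := by decide +kernel

set_option maxRecDepth 100000 in
theorem check64 : checkAll 20 6 R64 [] NF64 = true := by decide +kernel

/-- the seven involutions of `S₈`. -/
def gp : ℕ → Equiv.Perm (Fin 8)
  | 0 => Equiv.swap 0 1
  | 1 => Equiv.swap 0 4 * Equiv.swap 1 5 * Equiv.swap 2 6 * Equiv.swap 3 7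
  | 2 => Equiv.swap 4 6 * Equiv.swap 5 7
  | 3 => Equiv.swap 0 2 * Equiv.swap 1 3 * Equiv.swap 4 6 * Equiv.swap 5 7
  | 4 => Equiv.swap 2 3 * Equiv.swap 6 7
  | 5 => Equiv.swap 4 5 * Equiv.swap 6 7
  | 6 => Equiv.swap 0 1 * Equiv.swap 2 3 * Equiv.swap 4 5 * Equiv.swap 6 7
  | _ => 1

/-- the six even ones. -/
def gq (i : ℕ) : Equiv.Perm (Fin 8) := if i < 6 then gp (i + 1) else 1

end Cfsg.Agent.Lib.Helper62.Syl2PC
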