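import Mathlib
import Cfsg.Agent.Lib.Helper62.Syl2PC

/-!
# Helper62: `P128 ≅ Syl₂(S₈)`, `P64 ≅ Syl₂(A₈)`

The lifts `toPerm128 : P128 →* Perm (Fin 8)` and `toPerm64 : P64 →* Perm (Fin 8)` are injective,
`card_P128`, `card_P64`, the centres are `{1, gen 6}` and `{1, gen 5}`, hence the injectivity
criteria `injective128`, `injective64`; `toAlt64 : P64 →* A₈`.
-/

set_option autoImplicit false

namespace Cfsg.Agent.Lib.Helper62.Syl2PC

open Cfsg.Agent.Lib.Helper62

theorem gp_ge (i : ℕ) (h : 7 ≤ i) : gp i = 1 := by
  match i, h with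
  | (n + 7), _ => rfl

theorem gq_ge (i : ℕ) (h : 6 ≤ i) : gq i = 1 := by
  unfold gq
  rw [if_neg (by omega)]

set_option maxRecDepth 100000 in
theorem valid_gp : Valid gp R128 := by
  unfold Valid
  decide +kernel

set_option maxRecDepth 100000 in
theorem valid_gq : Valid gq R64 := by
  unfold Valid
  decide +kernel

set_option maxRecDepth 100000 in
theorem nodup128 : (NF128.map (ev gp)).Nodup := by decide +kernel

set_option maxRecDepth 100000 in
theorem nodup64 : (NF64.map (ev gq)).Nodup := by decide +kernel

theorem nf128_lt : ∀ w ∈ NF128, ∀ i ∈ w, i < 7 := by decide +kernel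
theorem nf64_lt : ∀ w ∈ NF64, ∀ i ∈ w, i < 6 := by decide +kernel

def toPerm128 : P128 →* Equiv.Perm (Fin 8) := PresGen.lift gp gp_ge valid_gp
def toPerm64 : P64 →* Equiv.Perm (Fin 8) := PresGen.lift gq gq_ge valid_gq

theorem toPerm128_gen (i : ℕ) : toPerm128 (PresGen.gen 7 R128 i) = gp i :=
  PresGen.lift_gen gp gp_ge valid_gp i

theorem toPerm64_gen (i : ℕ) : toPerm64 (PresGen.gen 6 R64 i) = gq i :=
  PresGen.lift_gen gq gq_ge valid_gq i

theorem toPerm128_injective : Function.Injective toPerm128 :=
  PresGen.lift_injective_of_card_le gp gp_ge valid_gp 20 [] NF128 check128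
    (card_closure_ge gp 7 NF128 nf128_lt nodup128)

theorem toPerm64_injective : Function.Injective toPerm64 :=
  PresGen.lift_injective_of_card_le gq gq_ge valid_gq 20 [] NF64 check64
    (card_closure_ge gq 6 NF64 nf64_lt nodup64)

instance finite_P128 : Finite P128 := (PresGen.card_le 7 R128 20 [] NF128 check128).1
instance finite_P64 : Finite P64 := (PresGen.card_le 6 R64 20 [] NF64 check64).1

set_option maxRecDepth 100000 in
theorem nf128_length : NF128.length = 128 := by decide +kernel

set_option maxRecDepth 100000 in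
theorem nf64_length : NF64.length = 64 := by decide +kernel

theorem card_P128 : Nat.card P128 = 2 ^ 7 := by
  apply le_antisymm
  · have := (PresGen.card_le 7 R128 20 [] NF128 check128).2
    rw [nf128_length] at this
    exact this
  · rw [show 2 ^ 7 = NF128.length from nf128_length.symm]
    have h1 : NF128.length ≤ Nat.card (Subgroup.closure (gp '' {i | i < 7})) :=
      card_closure_ge gp 7 NF128 nf128_lt nodup128
    have h2 : Nat.card toPerm128.range = Nat.card P128 :=
      (Nat.card_congr (MonoidHom.ofInjective toPerm128_injective).toEquiv).symm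
    have h3 : toPerm128.range = Subgroup.closure (gp '' {i | i < 7}) :=
      PresGen.range_lift gp gp_ge valid_gp
    rw [← h2, h3]
    exact h1

theorem card_P64 : Nat.card P64 = 2 ^ 6 := by
  apply le_antisymm
  · have := (PresGen.card_le 6 R64 20 [] NF64 check64).2
    rw [nf64_length] at this
    exact this
  · rw [show 2 ^ 6 = NF64.length from nf64_length.symm]
    have h1 : NF64.length ≤ Nat.card (Subgroup.closure (gq '' {i | i < 6})) :=
      card_closure_ge gq 6 NF64 nf64_lt nodup64
    have h2 : Nat.card toPerm64.range = Nat.card P64 :=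
      (Nat.card_congr (MonoidHom.ofInjective toPerm64_injective).toEquiv).symm
    have h3 : toPerm64.range = Subgroup.closure (gq '' {i | i < 6}) :=
      PresGen.range_lift gq gq_ge valid_gq
    rw [← h2, h3]
    exact h1

theorem isPGroup_P128 : IsPGroup 2 P128 := IsPGroup.of_card card_P128
theorem isPGroup_P64 : IsPGroup 2 P64 := IsPGroup.of_card card_P64

/-! ### the centres -/

set_option maxRecDepth 100000 in
theorem center_check128 : ∀ w ∈ NF128, (∀ i < 7, ev gp w * gp i = gp i * ev gp w) →
    w = [] ∨ w = [6] := by decide +kernel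

set_option maxRecDepth 100000 in
theorem center_check64 : ∀ w ∈ NF64, (∀ i < 6, ev gq w * gq i = gq i * ev gq w) →
    w = [] ∨ w = [5] := by decide +kernel

theorem center_P128 (x : P128) (hx : x ∈ Subgroup.center P128) :
    x = 1 ∨ x = PresGen.gen 7 R128 6 := by
  obtain ⟨w, hw, rfl⟩ := exists_nf (PresGen.gen 7 R128) 20 7 R128 [] NF128 (PresGen.valid 7 R128)
    check128 (PresGen.closure_gen 7 R128) x
  have hc : ∀ i < 7, ev gp w * gp i = gp i * ev gp w := by
    intro i _
    have h1 := Subgroup.mem_center_iff.1 hx (PresGen.gen 7 R128 i)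
    have h2 := congrArg toPerm128 h1
    rw [map_mul, map_mul, toPerm128_gen, ← ev_map, ] at h2
    have h3 : (fun i => toPerm128 (PresGen.gen 7 R128 i)) = gp := funext toPerm128_gen
    rw [h3] at h2
    exact h2.symm
  rcases center_check128 w hw hc with rfl | rfl
  · left; simp
  · right; simp

theorem center_P64 (x : P64) (hx : x ∈ Subgroup.center P64) :
    x = 1 ∨ x = PresGen.gen 6 R64 5 := by
  obtain ⟨w, hw, rfl⟩ := exists_nf (PresGen.gen 6 R64) 20 6 R64 [] NF64 (PresGen.valid 6 R64)
    check64 (PresGen.closure_gen 6 R64) x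
  have hc : ∀ i < 6, ev gq w * gq i = gq i * ev gq w := by
    intro i _
    have h1 := Subgroup.mem_center_iff.1 hx (PresGen.gen 6 R64 i)
    have h2 := congrArg toPerm64 h1
    rw [map_mul, map_mul, toPerm64_gen, ← ev_map, ] at h2
    have h3 : (fun i => toPerm64 (PresGen.gen 6 R64 i)) = gq := funext toPerm64_gen
    rw [h3] at h2
    exact h2.symm
  rcases center_check64 w hw hc with rfl | rfl
  · left; simp
  · right; simp

/-- a homomorphism from `P128` not killing the central involution is injective. -/
theorem injective128 {H : Type*} [Group H] (f : P128 →* H) (h : f (PresGen.gen 7 R128 6) ≠ 1) :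
    Function.Injective f :=
  injective_of_center isPGroup_P128 _ center_P128 f h

/-- a homomorphism from `P64` not killing the central involution is injective. -/
theorem injective64 {H : Type*} [Group H] (f : P64 →* H) (h : f (PresGen.gen 6 R64 5) ≠ 1) :
    Function.Injective f :=
  injective_of_center isPGroup_P64 _ center_P64 f h

/-! ### into the alternating group -/

set_option maxRecDepth 100000 in
theorem gq_sign : ∀ i < 6, Equiv.Perm.sign (gq i) = 1 := by decide +kernel

theorem toPerm64_mem (x : P64) : toPerm64 x ∈ alternatingGroup (Fin 8) := by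
  have h : toPerm64.range ≤ alternatingGroup (Fin 8) := by
    have h3 : toPerm64.range = Subgroup.closure (gq '' {i | i < 6}) :=
      PresGen.range_lift gq gq_ge valid_gq
    rw [h3, Subgroup.closure_le]
    rintro _ ⟨i, hi, rfl⟩
    exact Equiv.Perm.mem_alternatingGroup.2 (gq_sign i hi)
  exact h ⟨x, rfl⟩

def toAlt64 : P64 →* alternatingGroup (Fin 8) :=
  toPerm64.codRestrict (alternatingGroup (Fin 8)) toPerm64_mem

theorem toAlt64_injective : Function.Injective toAlt64 := by
  intro x y hxy
  apply toPerm64_injective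
  exact congrArg Subtype.val hxy

theorem card_perm8 : Nat.card (Equiv.Perm (Fin 8)) = 2 ^ 7 * 315 := by
  rw [Nat.card_eq_fintype_card, Fintype.card_perm, Fintype.card_fin]
  decide

theorem card_alt8 : Nat.card (alternatingGroup (Fin 8)) = 2 ^ 6 * 315 := by
  have h := two_mul_card_alternatingGroup (α := Fin 8)
  rw [Fintype.card_perm, Fintype.card_fin] at h
  rw [Nat.card_eq_fintype_card]
  have : Nat.factorial 8 = 40320 := by decide
  omega

theorem equiv_sylow_perm8 (S : Sylow 2 (Equiv.Perm (Fin 8))) :
    Nonempty (P128 ≃* (S : Subgroup (Equiv.Perm (Fin 8)))) :=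
  nonempty_equiv_sylow toPerm128 toPerm128_injective 7 315 card_P128 card_perm8 (by decide) S

theorem equiv_sylow_alt8 (S : Sylow 2 (alternatingGroup (Fin 8))) :
    Nonempty (P64 ≃* (S : Subgroup (alternatingGroup (Fin 8)))) :=
  nonempty_equiv_sylow toAlt64 toAlt64_injective 6 315 card_P64 card_alt8 (by decide) S

end Cfsg.Agent.Lib.Helper62.Syl2PC
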