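import Mathlib
import Cfsg.Prelude.Def_Classical
import Cfsg.Agent.Lib.Helper62.Syl2Perm
import Cfsg.Agent.Lib.Helper08.GOMinus

/-!
# Helper62: the Sylow 2-subgroups of `GO₆⁻(2)` are isomorphic to `P128 ≅ Syl₂(S₈)`

`equiv_sylow_go hK a b hab S : Nonempty (P128 ≃* S)` for every Sylow 2-subgroup `S` of the isometry
group of `quadFormMinus 2 K a b`, `|K| = 2`.
-/

set_option autoImplicit false

namespace Cfsg.Agent.Lib.Helper62.Syl2GO

open Matrix Cfsg.Agent.Lib.Helper62 Cfsg.Agent.Lib.Helper62.Syl2PC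

abbrev ι := (Fin 2 ⊕ Fin 2) ⊕ Fin 2
abbrev M6 := Matrix ι ι (ZMod 2)

def idx : ι → Fin 6
  | .inl (.inl i) => ⟨i.val, by omega⟩
  | .inl (.inr i) => ⟨2 + i.val, by omega⟩
  | .inr i => ⟨4 + i.val, by omega⟩

def mk6 (M : Matrix (Fin 6) (Fin 6) (ZMod 2)) : M6 := M.submatrix idx idx

def n0 : M6 := mk6 !![1, 0, 1, 0, 0, 1; 0, 1, 0, 0, 0, 0; 0, 0, 1, 0, 0, 0; 0, 0, 0, 1, 0, 0; 0, 0, 1, 0, 1, 1; 0, 0, 0, 0, 0, 1]
def n1 : M6 := mk6 !![1, 1, 0, 1, 0, 1; 1, 0, 1, 1, 0, 1; 0, 1, 1, 1, 0, 1; 1, 1, 1, 0, 0, 1; 1, 1, 1, 1, 1, 1; 0, 0, 0, 0, 0, 1]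
def n2 : M6 := mk6 !![0, 1, 1, 1, 1, 0; 1, 0, 1, 0, 1, 1; 1, 1, 0, 1, 1, 0; 1, 1, 1, 0, 1, 0; 0, 0, 0, 1, 1, 1; 1, 1, 1, 1, 1, 1]
def n3 : M6 := mk6 !![0, 1, 1, 1, 0, 1; 1, 0, 1, 0, 1, 1; 1, 1, 0, 1, 0, 1; 1, 1, 1, 0, 0, 1; 1, 1, 1, 1, 1, 1; 0, 0, 0, 1, 1, 1]
def n4 : M6 := mk6 !![1, 0, 0, 0, 0, 0; 1, 1, 0, 1, 1, 1; 0, 1, 1, 1, 0, 1; 1, 1, 0, 1, 1, 0; 1, 0, 0, 1, 0, 1; 0, 1, 0, 1, 0, 0]
def n5 : M6 := mk6 !![1, 1, 1, 1, 0, 0; 1, 0, 1, 0, 1, 1; 1, 0, 1, 1, 1, 1; 0, 1, 1, 0, 0, 0; 1, 0, 0, 1, 0, 1; 1, 0, 0, 1, 1, 0]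
def n6 : M6 := mk6 !![1, 1, 0, 1, 0, 1; 1, 0, 1, 0, 1, 1; 0, 1, 1, 1, 0, 1; 1, 0, 1, 0, 1, 0; 1, 0, 1, 1, 0, 0; 0, 1, 0, 1, 0, 0]

def nn : ℕ → M6
  | 0 => n0
  | 1 => n1
  | 2 => n2
  | 3 => n3
  | 4 => n4
  | 5 => n5
  | 6 => n6
  | _ => 1

set_option maxRecDepth 100000 in
theorem nn_sq : ∀ i < 7, nn i * nn i = 1 := by decide +kernel

theorem nn_sq' (i : ℕ) : nn i * nn i = 1 := by
  by_cases h : i < 7
  · exact nn_sq i h
  · match i, h with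
    | (n + 7), _ => exact one_mul 1

def u (i : ℕ) : M6ˣ := ⟨nn i, nn i, nn_sq' i, nn_sq' i⟩

theorem u_ge (i : ℕ) (h : 7 ≤ i) : u i = 1 := by
  apply Units.ext
  match i, h with
  | (n + 7), _ => rfl

/-- matrix product of the values. -/
def evm (w : Word) : M6 := (w.map nn).prod

theorem ev_val (w : Word) : (ev u w).val = evm w := by
  induction w with
  | nil => rfl
  | cons a w ih =>
    rw [ev_cons, Units.val_mul, ih]
    simp [evm, u]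

set_option maxRecDepth 100000 in
theorem rel_check : ∀ p ∈ R128, evm p.1 = evm p.2 := by
  decide +kernel

theorem valid_u : Valid u R128 := by
  intro p hp
  apply Units.ext
  rw [ev_val, ev_val, rel_check p hp]

theorem u6_ne : u 6 ≠ 1 := by
  intro h
  have h1 : n6 = 1 := congrArg Units.val h
  revert h1
  decide +kernel

abbrev Q2 : (ι → ZMod 2) → ZMod 2 := Cfsg.quadFormMinus 2 (ZMod 2) 1 1

set_option maxRecDepth 100000 in
theorem iso_check : ∀ i < 7, ∀ v : ι → ZMod 2, Q2 (nn i *ᵥ v) = Q2 v := by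
  unfold Q2 Cfsg.quadFormMinus
  decide +kernel

section Transfer

variable {K : Type} [Field K] [Fintype K]
set_option linter.unusedSectionVars false

theorem zero_or_one (e : ZMod 2 ≃+* K) (x : K) : x = 0 ∨ x = 1 := by
  have h : ∀ y : ZMod 2, y = 0 ∨ y = 1 := by decide
  rcases h (e.symm x) with h | h
  · left
    have := congrArg e h
    simpa using this
  · right
    have := congrArg e h
    simpa using this

theorem one_add_one (e : ZMod 2 ≃+* K) : (1 : K) + 1 = 0 := by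
  have := congrArg e (show (1 : ZMod 2) + 1 = 0 by decide)
  simpa using this

theorem ab_eq_one (e : ZMod 2 ≃+* K) (a b : K)
    (hab : ∀ z₁ z₂ : K, z₁ ^ 2 + a * z₁ * z₂ + b * z₂ ^ 2 = 0 → z₁ = 0 ∧ z₂ = 0) :
    a = 1 ∧ b = 1 := by
  have hb : b = 1 := by
    rcases zero_or_one e b with h | h
    · exfalso
      have := (hab 0 1 (by rw [h]; ring)).2
      exact one_ne_zero this
    · exact h
  refine ⟨?_, hb⟩
  rcases zero_or_one e a with h | h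
  · exfalso
    have := (hab 1 1 (by rw [h, hb]; ring_nf; have := one_add_one e; linear_combination this)).2
    exact one_ne_zero this
  · exact h

theorem quad_map (e : ZMod 2 ≃+* K) (w : ι → ZMod 2) :
    Cfsg.quadFormMinus 2 K 1 1 (fun j => e (w j)) = e (Q2 w) := by
  simp only [Q2, Cfsg.quadFormMinus, map_sum, map_add, map_mul, map_pow, map_one]

/-- transfer of invertible matrices. -/
noncomputable def Φ (e : ZMod 2 ≃+* K) : M6ˣ ≃* (Matrix ι ι K)ˣ :=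
  Units.mapEquiv (RingEquiv.mapMatrix e).toMulEquiv

theorem Φ_val (e : ZMod 2 ≃+* K) (x : M6ˣ) : (Φ e x).val = x.val.map e := rfl

noncomputable def gK (e : ZMod 2 ≃+* K) (i : ℕ) : (Matrix ι ι K)ˣ := Φ e (u i)

theorem gK_ge (e : ZMod 2 ≃+* K) (i : ℕ) (h : 7 ≤ i) : gK e i = 1 := by
  unfold gK
  rw [u_ge i h, map_one]

theorem valid_gK (e : ZMod 2 ≃+* K) : Valid (gK e) R128 :=
  Valid.map' (Φ e).toMonoidHom valid_u

noncomputable def toGL (e : ZMod 2 ≃+* K) : P128 →* (Matrix ι ι K)ˣ :=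
  PresGen.lift (gK e) (gK_ge e) (valid_gK e)

theorem toGL_injective (e : ZMod 2 ≃+* K) : Function.Injective (toGL e) := by
  apply injective128
  unfold toGL
  rw [PresGen.lift_gen]
  unfold gK
  intro h
  apply u6_ne
  apply (Φ e).injective
  rw [h, map_one]

theorem gK_mem (e : ZMod 2 ≃+* K) (i : ℕ) (hi : i < 7) :
    gK e i ∈ Cfsg.isometryGroup K (Cfsg.quadFormMinus 2 K 1 1) := by
  intro v _
  show Cfsg.quadFormMinus 2 K 1 1 (((gK e i : (Matrix ι ι K)ˣ) : Matrix ι ι K) *ᵥ v) =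
    Cfsg.quadFormMinus 2 K 1 1 v
  obtain ⟨w, rfl⟩ : ∃ w : ι → ZMod 2, v = fun j => e (w j) :=
    ⟨fun j => e.symm (v j), by funext j; simp⟩
  have h1 : ((gK e i : (Matrix ι ι K)ˣ) : Matrix ι ι K) = (nn i).map (e : ZMod 2 →+* K) := rfl
  have h2 : (nn i).map (e : ZMod 2 →+* K) *ᵥ (fun j => e (w j)) =
      fun j => e ((nn i *ᵥ w) j) := by
    funext j
    exact (RingHom.map_mulVec (e : ZMod 2 →+* K) (nn i) w j).symm
  rw [h1, h2, quad_map, quad_map, iso_check i hi]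

theorem toGL_mem (e : ZMod 2 ≃+* K) (x : P128) :
    toGL e x ∈ Cfsg.isometryGroup K (Cfsg.quadFormMinus 2 K 1 1) := by
  have h : (toGL e).range ≤ Cfsg.isometryGroup K (Cfsg.quadFormMinus 2 K 1 1) := by
    have h3 : (toGL e).range = Subgroup.closure (gK e '' {i | i < 7}) :=
      PresGen.range_lift (gK e) (gK_ge e) (valid_gK e)
    rw [h3, Subgroup.closure_le]
    rintro _ ⟨i, hi, rfl⟩
    exact gK_mem e i hi
  exact h ⟨x, rfl⟩

noncomputable def toGO (e : ZMod 2 ≃+* K) :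
    P128 →* Cfsg.isometryGroup K (Cfsg.quadFormMinus 2 K 1 1) :=
  (toGL e).codRestrict _ (toGL_mem e)

theorem toGO_injective (e : ZMod 2 ≃+* K) : Function.Injective (toGO e) := by
  intro x y hxy
  apply toGL_injective e
  exact congrArg Subtype.val hxy

theorem card_go (hK : Fintype.card K = 2) (a b : K)
    (hab : ∀ z₁ z₂ : K, z₁ ^ 2 + a * z₁ * z₂ + b * z₂ ^ 2 = 0 → z₁ = 0 ∧ z₂ = 0) :
    Nat.card (Cfsg.isometryGroup K (Cfsg.quadFormMinus 2 K a b)) = 2 ^ 7 * 405 := by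
  rw [Cfsg.Agent.Lib.Helper08.card_GOminus' hK 2 a b hab]
  simp [Finset.prod_range_succ]

theorem equiv_sylow_go (hK : Fintype.card K = 2) (a b : K)
    (hab : ∀ z₁ z₂ : K, z₁ ^ 2 + a * z₁ * z₂ + b * z₂ ^ 2 = 0 → z₁ = 0 ∧ z₂ = 0)
    (S : Sylow 2 (Cfsg.isometryGroup K (Cfsg.quadFormMinus 2 K a b))) :
    Nonempty (P128 ≃* (S : Subgroup (Cfsg.isometryGroup K (Cfsg.quadFormMinus 2 K a b)))) := by
  have hp : Nat.Prime 2 := by norm_num
  let e : ZMod 2 ≃+* K := ZMod.ringEquivOfPrime K hp hK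
  obtain ⟨rfl, rfl⟩ := ab_eq_one e a b hab
  have : Finite (Cfsg.isometryGroup K (Cfsg.quadFormMinus 2 K 1 1)) := inferInstance
  exact nonempty_equiv_sylow (toGO e) (toGO_injective e) 7 405 card_P128
    (card_go hK 1 1 hab) (by decide) S

end Transfer

end Cfsg.Agent.Lib.Helper62.Syl2GO
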