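import Mathlib
import Cfsg.Prelude.Def_Classical
import Cfsg.Agent.Lib.Helper62.Syl2Perm
import Cfsg.Agent.Lib.Helper07.Sp4S6
import Cfsg.Agent.Lib.Helper07.SpCenter

/-!
# Helper62: the Sylow 2-subgroups of `PSp₄(3)` are isomorphic to `P64 ≅ Syl₂(A₈)`

`equiv_sylow_psp hF S : Nonempty (P64 ≃* S)` for every Sylow 2-subgroup `S` of `PSp 2 F`, `|F| = 3`.
-/

set_option autoImplicit false

namespace Cfsg.Agent.Lib.Helper62.Syl2Sp

open Matrix Cfsg.Agent.Lib.Helper62 Cfsg.Agent.Lib.Helper62.Syl2PC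

abbrev M4 := Matrix (Fin 2 ⊕ Fin 2) (Fin 2 ⊕ Fin 2) (ZMod 3)

def m0 : M4 := Matrix.fromBlocks !![0, 1; 1, 1] !![2, 1; 1, 0] !![2, 0; 0, 2] !![0, 2; 2, 2]
def m1 : M4 := Matrix.fromBlocks !![1, 1; 1, 1] !![2, 0; 0, 2] !![0, 2; 2, 0] !![2, 2; 2, 2]
def m2 : M4 := Matrix.fromBlocks !![1, 2; 2, 1] !![0, 2; 2, 0] !![1, 0; 0, 1] !![2, 1; 1, 2]
def m3 : M4 := Matrix.fromBlocks !![1, 2; 1, 1] !![1, 2; 2, 2] !![2, 0; 0, 1] !![2, 2; 1, 2]
def m4 : M4 := Matrix.fromBlocks !![0, 1; 1, 0] !![2, 0; 0, 2] !![2, 0; 0, 2] !![0, 2; 2, 0]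
def m5 : M4 := Matrix.fromBlocks !![1, 0; 0, 2] !![0, 2; 1, 0] !![0, 0; 0, 0] !![1, 0; 0, 2]

abbrev Sp3 := Matrix.symplecticGroup (Fin 2) (ZMod 3)

theorem mem0 : m0 ∈ Matrix.symplecticGroup (Fin 2) (ZMod 3) := by
  rw [SymplecticGroup.mem_iff]; decide +kernel
theorem mem1 : m1 ∈ Matrix.symplecticGroup (Fin 2) (ZMod 3) := by
  rw [SymplecticGroup.mem_iff]; decide +kernel
theorem mem2 : m2 ∈ Matrix.symplecticGroup (Fin 2) (ZMod 3) := by
  rw [SymplecticGroup.mem_iff]; decide +kernel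
theorem mem3 : m3 ∈ Matrix.symplecticGroup (Fin 2) (ZMod 3) := by
  rw [SymplecticGroup.mem_iff]; decide +kernel
theorem mem4 : m4 ∈ Matrix.symplecticGroup (Fin 2) (ZMod 3) := by
  rw [SymplecticGroup.mem_iff]; decide +kernel
theorem mem5 : m5 ∈ Matrix.symplecticGroup (Fin 2) (ZMod 3) := by
  rw [SymplecticGroup.mem_iff]; decide +kernel
theorem memNeg : (-1 : M4) ∈ Matrix.symplecticGroup (Fin 2) (ZMod 3) := by
  rw [SymplecticGroup.mem_iff]; decide +kernel

def s : ℕ → Sp3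
  | 0 => ⟨m0, mem0⟩
  | 1 => ⟨m1, mem1⟩
  | 2 => ⟨m2, mem2⟩
  | 3 => ⟨m3, mem3⟩
  | 4 => ⟨m4, mem4⟩
  | 5 => ⟨m5, mem5⟩
  | _ => 1

def negOne : Sp3 := ⟨-1, memNeg⟩

theorem s_ge (i : ℕ) (h : 6 ≤ i) : s i = 1 := by
  match i, h with
  | (n + 6), _ => rfl

theorem negOne_comm (A : Sp3) : negOne * A = A * negOne := by
  apply Subtype.ext
  show (-1 : M4) * A.val = A.val * (-1 : M4)
  simp

/-- matrix product of the values. -/
def evm (w : Word) : M4 := (w.map fun i => (s i).val).prod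

theorem ev_val (w : Word) : (ev s w).val = evm w := by
  induction w with
  | nil => rfl
  | cons a w ih =>
    rw [ev_cons]
    show (s a).val * (ev s w).val = _
    rw [ih]
    simp [evm]

set_option maxRecDepth 100000 in
theorem rel_check : ∀ p ∈ R64, evm p.1 = evm p.2 ∨ evm p.1 = -evm p.2 := by
  decide +kernel

theorem rel_s : ∀ p ∈ R64, ev s p.1 = ev s p.2 ∨ ev s p.1 = negOne * ev s p.2 := by
  intro p hp
  rcases rel_check p hp with h | h
  · left
    apply Subtype.ext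
    rw [ev_val, ev_val, h]
  · right
    apply Subtype.ext
    show (ev s p.1).val = (-1 : M4) * (ev s p.2).val
    rw [ev_val, ev_val, h]
    simp

theorem s5_s1 : s 5 * s 1 ≠ s 1 * s 5 := by
  intro h
  have h1 : m5 * m1 = m1 * m5 := congrArg Subtype.val h
  revert h1
  decide +kernel

section Transfer

variable {F : Type} [Field F] [Fintype F]
set_option linter.unusedSectionVars false

/-- the composite `Sp₄(ZMod 3) → Sp₄(F) → PSp₄(F)`. -/
noncomputable def toPSpHom (e : ZMod 3 ≃+* F) : Sp3 →* Cfsg.PSp 2 F :=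
  (QuotientGroup.mk' (Subgroup.center (Matrix.symplecticGroup (Fin 2) F))).comp
    (Cfsg.Agent.Lib.Helper07.spCongr e).toMonoidHom

theorem toPSpHom_eq_one_iff (e : ZMod 3 ≃+* F) (A : Sp3) :
    toPSpHom e A = 1 ↔ ∀ B : Sp3, A * B = B * A := by
  unfold toPSpHom
  rw [MonoidHom.comp_apply, QuotientGroup.mk'_apply, QuotientGroup.eq_one_iff,
    Subgroup.mem_center_iff]
  constructor
  · intro h B
    have := h (Cfsg.Agent.Lib.Helper07.spCongr e B)
    apply (Cfsg.Agent.Lib.Helper07.spCongr e).injective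
    rw [map_mul, map_mul]
    exact this.symm
  · intro h B
    obtain ⟨B', rfl⟩ := (Cfsg.Agent.Lib.Helper07.spCongr e).surjective B
    have := congrArg (Cfsg.Agent.Lib.Helper07.spCongr e) (h B')
    rw [map_mul, map_mul] at this
    exact this.symm

theorem toPSpHom_negOne (e : ZMod 3 ≃+* F) : toPSpHom e negOne = 1 := by
  rw [toPSpHom_eq_one_iff]
  exact negOne_comm

/-- the images of the generators in `PSp₄(F)`. -/
noncomputable def gbar (e : ZMod 3 ≃+* F) (i : ℕ) : Cfsg.PSp 2 F := toPSpHom e (s i)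

theorem gbar_ge (e : ZMod 3 ≃+* F) (i : ℕ) (h : 6 ≤ i) : gbar e i = 1 := by
  unfold gbar
  rw [s_ge i h, map_one]

theorem valid_gbar (e : ZMod 3 ≃+* F) : Valid (gbar e) R64 := by
  intro p hp
  have h1 : ∀ w, ev (gbar e) w = toPSpHom e (ev s w) := fun w => ev_map (toPSpHom e) s w
  rw [h1, h1]
  rcases rel_s p hp with h | h
  · rw [h]
  · rw [h, map_mul, toPSpHom_negOne, one_mul]

noncomputable def toPSp (e : ZMod 3 ≃+* F) : P64 →* Cfsg.PSp 2 F :=
  PresGen.lift (gbar e) (gbar_ge e) (valid_gbar e)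

theorem toPSp_injective (e : ZMod 3 ≃+* F) : Function.Injective (toPSp e) := by
  apply injective64
  unfold toPSp
  rw [PresGen.lift_gen]
  unfold gbar
  rw [Ne, toPSpHom_eq_one_iff]
  intro h
  exact s5_s1 (h (s 1))

theorem card_psp (hF : Fintype.card F = 3) : Nat.card (Cfsg.PSp 2 F) = 2 ^ 6 * 405 := by
  have h1 := Cfsg.Agent.Lib.Helper07.card_symplecticGroup hF 2
  have h2 := Cfsg.Agent.Lib.Helper07.card_center_symplectic (F := F) 2 (by norm_num)
  rw [hF] at h2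
  have h3 := Subgroup.card_eq_card_quotient_mul_card_subgroup
    (Subgroup.center (Matrix.symplecticGroup (Fin 2) F))
  rw [h1, h2] at h3
  simp [Finset.prod_range_succ] at h3
  show Nat.card (Matrix.symplecticGroup (Fin 2) F ⧸
    Subgroup.center (Matrix.symplecticGroup (Fin 2) F)) = _
  omega

theorem equiv_sylow_psp (hF : Fintype.card F = 3) (S : Sylow 2 (Cfsg.PSp 2 F)) :
    Nonempty (P64 ≃* (S : Subgroup (Cfsg.PSp 2 F))) := by
  have hp : Nat.Prime 3 := by norm_num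
  let e : ZMod 3 ≃+* F := ZMod.ringEquivOfPrime F hp hF
  have : Finite (Cfsg.PSp 2 F) := inferInstance
  exact nonempty_equiv_sylow (toPSp e) (toPSp_injective e) 6 405 card_P64 (card_psp hF)
    (by decide) S

end Transfer

end Cfsg.Agent.Lib.Helper62.Syl2Sp
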