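import Mathlib
import Cfsg.Agent.Lib.Helper94.THDefs

/-!
# K-TH-C3 (keystone 163213, pack K-TH / S1632, architect helper94): the theta series is holomorphic on the upper half plane

Hypothesis form: `hC2` is the statement of THC2 (`summable_thetaC`).
-/

set_option autoImplicit false

namespace Cfsg.Agent.Lib.Helper62.TH

open Matrix Complex
open scoped Real
open Cfsg.Agent.Lib.Helper94.TH

theorem c3_re_term (w : ℂ) (q : ℤ) : ((π : ℂ) * I * w * (q : ℂ)).re = -(π * w.im * q) := by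
  simp [Complex.mul_re, Complex.mul_im]

theorem c3_norm_term (w : ℂ) (q : ℤ) :
    ‖cexp ((π : ℂ) * I * w * (q : ℂ))‖ = Real.exp (-(π * w.im * q)) := by
  rw [Complex.norm_exp, c3_re_term]

theorem c3_qf_nonneg {B : Matrix (Fin 24) (Fin 24) ℤ} (h : Hyp B) (x : Fin 24 → ℤ) : 0 ≤ qf B x := by
  by_cases hx : x = 0
  · subst hx
    simp [qf]
  · exact (h.pos x hx).le

/-- THC3, with THC2 as a hypothesis. -/
theorem thetaC_differentiableOn_of {B : Matrix (Fin 24) (Fin 24) ℤ} (h : Hyp B)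
    (hC2 : ∀ τ : ℂ, 0 < τ.im →
      Summable (fun x : Fin 24 → ℤ => ‖cexp (π * I * τ * (qf B x : ℂ))‖)) :
    DifferentiableOn ℂ (thetaC B) {τ : ℂ | 0 < τ.im} := by
  intro τ₀ hτ₀
  have hτ₀' : 0 < τ₀.im := hτ₀
  apply DifferentiableAt.differentiableWithinAt
  -- the open half plane `Im τ > δ`, `δ = Im τ₀ / 2`
  have hδ : 0 < τ₀.im / 2 := by positivity
  have hopen : IsOpen {w : ℂ | τ₀.im / 2 < w.im} := isOpen_lt continuous_const Complex.continuous_im
  have hmem : τ₀ ∈ {w : ℂ | τ₀.im / 2 < w.im} := by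
    show τ₀.im / 2 < τ₀.im
    linarith
  have hsum := hC2 (((τ₀.im / 2 : ℝ) : ℂ) * I) (by simpa using hδ)
  have hdiff : DifferentiableOn ℂ
      (fun w : ℂ => ∑' x : Fin 24 → ℤ, cexp ((π : ℂ) * I * w * (qf B x : ℂ)))
      {w : ℂ | τ₀.im / 2 < w.im} := by
    apply differentiableOn_tsum_of_summable_norm hsum
    · intro x
      apply Differentiable.differentiableOn
      fun_prop
    · exact hopen
    · intro x w hw
      have hw' : τ₀.im / 2 < w.im := hw
      rw [c3_norm_term, c3_norm_term]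
      apply Real.exp_le_exp.mpr
      have hq : (0 : ℝ) ≤ (qf B x : ℝ) := by exact_mod_cast c3_qf_nonneg h x
      have him : ((((τ₀.im / 2 : ℝ) : ℂ) * I).im) = τ₀.im / 2 := by simp
      rw [him]
      have hπ : 0 < π := Real.pi_pos
      nlinarith [mul_nonneg hπ.le hq, mul_nonneg (mul_nonneg hπ.le hq) (sub_nonneg.mpr hw'.le)]
  exact (hdiff τ₀ hmem).differentiableAt (hopen.mem_nhds hmem)

end Cfsg.Agent.Lib.Helper62.TH
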