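import Mathlib
import Cfsg.Agent.Lib.Helper94.THDefs
import Cfsg.Agent.Lib.Helper62.THC3of
import Cfsg.Agent.Lib.Helper96.THC2

/-!
# K-TH-C3 (keystone 163213, pack K-TH / S1632, architect helper94): exact-signature wrapper
-/

set_option autoImplicit false

namespace Cfsg.Agent.Lib.Helper62.TH

open Matrix Complex ModularForm
open UpperHalfPlane hiding I
open scoped Real MatrixGroups
open Cfsg.Agent.Lib.Helper94.TH

/-- THC3 -/
theorem thetaC_differentiableOn {B : Matrix (Fin 24) (Fin 24) ℤ} (h : Hyp B) :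
    DifferentiableOn ℂ (thetaC B) {τ : ℂ | 0 < τ.im} :=
  thetaC_differentiableOn_of h (fun _ hτ => Cfsg.Agent.Lib.Helper96.TH.summable_thetaC h hτ)

end Cfsg.Agent.Lib.Helper62.TH
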