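import Mathlib
import Cfsg.Agent.Lib.Helper97.UniqueOrderP

set_option autoImplicit false

namespace Cfsg.Agent.Lib.Helper62.TransLin

section
variable {q : ℕ} [Fact q.Prime] {V : Type*} [AddCommGroup V] [Module (ZMod q) V]
    {G : Type*} [Group G] (ρ : G →* (V ≃ₗ[ZMod q] V))

/-- stabilizer of a vector -/
def stabS (v : V) : Subgroup G where
  carrier := {g | ρ g v = v}
  mul_mem' := by
    intro a b ha hb
    simp only [Set.mem_ofPred_eq, map_mul, LinearEquiv.mul_apply] at *
    rw [hb, ha]
  one_mem' := by simp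
  inv_mem' := by
    intro a ha
    simp only [Set.mem_ofPred_eq, map_inv] at *
    have : (ρ a)⁻¹ ((ρ a) v) = v := by
      change (ρ a).symm ((ρ a) v) = v
      simp
    rw [ha] at this
    exact this

theorem mem_stabS (v : V) (g : G) : g ∈ stabS ρ v ↔ ρ g v = v := Iff.rfl

theorem card_eq_mul_stab [Finite V] [Finite G]
    (htrans : ∀ v w : V, v ≠ 0 → w ≠ 0 → ∃ g : G, ρ g v = w) (v : V) (hv : v ≠ 0) :
    Nat.card G = (Nat.card V - 1) * Nat.card (stabS ρ v) := by
  let _ : MulAction G V := MulAction.compHom V ρ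
  have hsm : ∀ (g : G) (w : V), g • w = ρ g w := fun g w => rfl
  have hst : MulAction.stabilizer G v = stabS ρ v := by
    ext g
    rw [MulAction.mem_stabilizer_iff, mem_stabS, hsm]
  have horb : MulAction.orbit G v = ({0} : Set V)ᶜ := by
    ext w
    simp only [MulAction.mem_orbit_iff, Set.mem_compl_iff, Set.mem_singleton_iff]
    constructor
    · rintro ⟨g, rfl⟩
      rw [hsm]
      intro h0
      exact hv ((ρ g).map_eq_zero_iff.mp h0)
    · intro hw
      obtain ⟨g, hg⟩ := htrans v w hv hw
      exact ⟨g, hg⟩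
  have h1 := MulAction.index_stabilizer G v
  have h2 := (MulAction.stabilizer G v).card_mul_index
  rw [h1, horb, Set.ncard_compl, Set.ncard_singleton, hst] at h2
  rw [← h2, mul_comm]

theorem eq_one_of_forall_fix (hρ : Function.Injective ρ) (g : G) (h : ∀ w : V, ρ g w = w) : g = 1 := by
  apply hρ
  rw [map_one]
  ext w
  exact h w

/-- If `|V| ≤ p + 1` then the stabiliser of a nonzero vector in a `p`-group is trivial. -/
theorem stab_eq_bot_of_card_le [Finite V] [Finite G] (hρ : Function.Injective ρ) (p : ℕ)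
    [Fact p.Prime] (hG : IsPGroup p G) (hcard : Nat.card V ≤ p + 1) (v : V) (hv : v ≠ 0) :
    stabS ρ v = ⊥ := by
  set K := stabS ρ v with hKdef
  let _ : MulAction K V := MulAction.compHom V (ρ.comp K.subtype)
  have hsm : ∀ (g : K) (w : V), g • w = ρ (g : G) w := fun g w => rfl
  have hK : IsPGroup p K := hG.to_subgroup K
  have hmod := hK.card_modEq_card_fixedPoints V
  set F := MulAction.fixedPoints K V with hF
  have h0F : (0 : V) ∈ F := by
    intro g
    rw [hsm]; simp
  have hvF : v ∈ F := by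
    intro g
    rw [hsm]; exact g.2
  have hpair : ({0, v} : Set V) ⊆ F := by
    intro w hw
    rcases hw with rfl | rfl
    · exact h0F
    · exact hvF
  have h2 : 2 ≤ F.ncard := by
    have := Set.ncard_le_ncard hpair (Set.toFinite F)
    rwa [Set.ncard_pair (Ne.symm hv)] at this
  have hle : F.ncard ≤ Nat.card V := by
    rw [← Set.ncard_univ]; exact Set.ncard_le_ncard (Set.subset_univ _) (Set.toFinite _)
  rw [Nat.card_coe_set_eq] at hmod
  have hFall : F = Set.univ := by
    rw [Set.eq_univ_iff_ncard]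
    by_contra hne
    have hlt : F.ncard < Nat.card V := lt_of_le_of_ne hle hne
    have hdvd : p ∣ Nat.card V - F.ncard := (Nat.modEq_iff_dvd' hle).mp hmod.symm
    have : p ≤ Nat.card V - F.ncard := Nat.le_of_dvd (by omega) hdvd
    omega
  rw [eq_bot_iff]
  intro g hg
  rw [Subgroup.mem_bot]
  apply eq_one_of_forall_fix ρ hρ
  intro w
  have hw : w ∈ F := by rw [hFall]; trivial
  have := hw ⟨g, hg⟩
  rwa [hsm] at this

/-- In dimension one every vector is a multiple of a given nonzero vector. -/
theorem exists_smul_eq_of_card [Finite V] (hcard : Nat.card V = q) (v : V) (hv : v ≠ 0) (w : V) :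
    ∃ c : ZMod q, c • v = w := by
  have hinj : Function.Injective (fun c : ZMod q => c • v) := smul_left_injective (ZMod q) hv
  have hbij : Function.Bijective (fun c : ZMod q => c • v) := by
    apply hinj.bijective_of_nat_card_le
    rw [hcard, Nat.card_zmod]
  exact hbij.2 w

theorem stab_eq_bot_of_dim_one [Finite V] (hρ : Function.Injective ρ) (hcard : Nat.card V = q)
    (v : V) (hv : v ≠ 0) : stabS ρ v = ⊥ := by
  rw [eq_bot_iff]
  intro g hg
  rw [Subgroup.mem_bot]
  apply eq_one_of_forall_fix ρ hρ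
  intro w
  obtain ⟨c, rfl⟩ := exists_smul_eq_of_card hcard v hv w
  rw [map_smul, (mem_stabS ρ v g).mp hg]

theorem isCyclic_of_dim_one [Finite V] [Finite G] [Nontrivial V] (hρ : Function.Injective ρ)
    (hcard : Nat.card V = q) : IsCyclic G := by
  obtain ⟨v, hv⟩ := exists_ne (0 : V)
  have hinj : Function.Injective (fun c : ZMod q => c • v) := smul_left_injective (ZMod q) hv
  choose f hf using fun g : G => exists_smul_eq_of_card hcard v hv (ρ g v)
  let F : G →* ZMod q :=
    { toFun := f
      map_one' := by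
        apply hinj
        change f 1 • v = (1 : ZMod q) • v
        rw [hf, map_one, one_smul]; rfl
      map_mul' := by
        intro g h
        apply hinj
        change f (g * h) • v = (f g * f h) • v
        rw [hf, map_mul, LinearEquiv.mul_apply, ← hf h, map_smul, ← hf g, smul_smul, mul_comm] }
  have hFinj : Function.Injective F := by
    intro g h hgh
    have h1 : ρ g v = ρ h v := by
      rw [← hf g, ← hf h]
      change F g • v = F h • v
      rw [hgh]
    have h2 : h⁻¹ * g ∈ stabS ρ v := by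
      rw [mem_stabS, map_mul, LinearEquiv.mul_apply, h1, ← LinearEquiv.mul_apply, ← map_mul,
        inv_mul_cancel, map_one]
      rfl
    rw [stab_eq_bot_of_dim_one ρ hρ hcard v hv, Subgroup.mem_bot] at h2
    exact (inv_mul_eq_one.mp h2).symm
  exact isCyclic_of_injective_ringHom F hFinj

theorem neg_of_involution (hfree : ∀ v : V, v ≠ 0 → stabS ρ v = ⊥) (t : G) (ht1 : t ≠ 1)
    (ht2 : t * t = 1) (v : V) : ρ t v = -v := by
  by_cases hv : v = 0
  · subst hv; simp
  · have hw : ρ t (ρ t v + v) = ρ t v + v := by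
      rw [map_add, ← LinearEquiv.mul_apply, ← map_mul, ht2, map_one]
      change v + ρ t v = _
      rw [add_comm]
    by_cases hw0 : ρ t v + v = 0
    · exact eq_neg_of_add_eq_zero_left hw0
    · exfalso
      have : t ∈ stabS ρ (ρ t v + v) := hw
      rw [hfree _ hw0, Subgroup.mem_bot] at this
      exact ht1 this

theorem cyclic_or_quat_of_free [Finite G] (hρ : Function.Injective ρ) (hG : IsPGroup 2 G)
    (hfree : ∀ v : V, v ≠ 0 → stabS ρ v = ⊥) (hcard : Nat.card G = 8) :
    IsCyclic G ∨ Nonempty (G ≃* QuaternionGroup 2) := by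
  have : Fact (Nat.Prime 2) := ⟨Nat.prime_two⟩
  -- every subgroup of order 2 is generated by an involution
  have key : ∀ H : Subgroup G, Nat.card H = 2 → ∃ h : G, h ≠ 1 ∧ h * h = 1 ∧ H = Subgroup.zpowers h := by
    intro H hH
    have hne : H ≠ ⊥ := by
      intro hb
      rw [hb, Subgroup.card_bot] at hH
      omega
    obtain ⟨⟨h, hhH⟩, hh1⟩ := (Subgroup.ne_bot_iff_exists_ne_one.mp hne)
    have hh1' : h ≠ 1 := fun e => hh1 (Subtype.ext e)
    have hord : orderOf h = 2 := by
      have hd : orderOf h ∣ 2 := by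
        rw [← hH, ← Subgroup.orderOf_mk h hhH]
        exact orderOf_dvd_natCard _
      rcases (Nat.dvd_prime Nat.prime_two).mp hd with h1 | h2
      · exfalso; exact hh1' (orderOf_eq_one_iff.mp h1)
      · exact h2
    refine ⟨h, hh1', ?_, ?_⟩
    · rw [← pow_two, ← hord]; exact pow_orderOf_eq_one h
    · symm
      apply Subgroup.eq_of_le_of_card_ge
      · rw [Subgroup.zpowers_le]; exact hhH
      · rw [Nat.card_zpowers, hord, hH]
  have huniq : ∀ H K : Subgroup G, Nat.card H = 2 → Nat.card K = 2 → H = K := by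
    intro H K hH hK
    obtain ⟨h, hh1, hh2, rfl⟩ := key H hH
    obtain ⟨k, hk1, hk2, rfl⟩ := key K hK
    have : h = k := by
      apply hρ
      ext v
      rw [neg_of_involution ρ hfree h hh1 hh2, neg_of_involution ρ hfree k hk1 hk2]
    rw [this]
  rcases Cfsg.Agent.Lib.Helper97.cyclic_or_quaternion_of_unique 2 hG huniq with hc | ⟨-, n, ⟨e⟩⟩
  · exact Or.inl hc
  · right
    have hc := Nat.card_congr e.toEquiv
    have hn0 : NeZero (2 ^ n) := ⟨by positivity⟩
    rw [hcard, Nat.card_eq_fintype_card, QuaternionGroup.card] at hc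
    have h2 : 2 ^ n = 2 := by omega
    rw [h2] at e
    exact ⟨e⟩


end

open Matrix

theorem exists_hom_GL23 {V : Type*} [AddCommGroup V] [Module (ZMod 3) V] [Finite V]
    (hcard : Nat.card V = 9) :
    ∃ Φ : (V ≃ₗ[ZMod 3] V) →* GL (Fin 2) (ZMod 3), Function.Injective Φ := by
  have hfr : Module.finrank (ZMod 3) V = 2 := by
    have h := Module.natCard_eq_pow_finrank (K := ZMod 3) (V := V)
    rw [hcard, Nat.card_zmod] at h
    have h3 : (3 : ℕ) ^ 2 = 3 ^ Module.finrank (ZMod 3) V := by rw [← h]; norm_num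
    exact (Nat.pow_right_injective (a := 3) (by norm_num) h3).symm
  let b : Module.Basis (Fin 2) (ZMod 3) V := Module.finBasisOfFinrankEq _ _ hfr
  let e : V ≃ₗ[ZMod 3] (Fin 2 → ZMod 3) := b.equivFun
  let Φ0 : (V ≃ₗ[ZMod 3] V) →* ((Fin 2 → ZMod 3) ≃ₗ[ZMod 3] (Fin 2 → ZMod 3)) :=
    { toFun := fun T => (e.symm.trans T).trans e
      map_one' := by ext w; simp
      map_mul' := by intro S T; ext w; simp }
  have hΦ0 : Function.Injective Φ0 := by
    intro S T hST
    ext w
    have := congrArg (fun U : (Fin 2 → ZMod 3) ≃ₗ[ZMod 3] (Fin 2 → ZMod 3) => e.symm (U (e w))) hST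
    simpa [Φ0] using this
  let Ψ := (Matrix.GeneralLinearGroup.toLin.trans
    (LinearMap.GeneralLinearGroup.generalLinearEquiv (ZMod 3) (Fin 2 → ZMod 3)))
  exact ⟨Ψ.symm.toMonoidHom.comp Φ0, Ψ.symm.injective.comp hΦ0⟩


end Cfsg.Agent.Lib.Helper62.TransLin
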