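import Mathlib

/-!
# Data for `PSU₄(2) ≅ PSp₄(3)` (helper62)

Generated by `scratch/s0822/emit.py`: twelve pairs of matrices generating the graph of
`Sp₄(3) → SU₄(2)`, their permutation tables on the 80 nonzero vectors of `F₃⁴` and on the 120
unit vectors of `F₄⁴`, the invariant relation and the transversal words.
-/

set_option autoImplicit false

namespace Cfsg.Agent.Lib.Helper62.U42Data

/-- the twelve symplectic matrices over `ZMod 3` (rows) -/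
def LA : List (List (List ℕ)) :=
  [[[0, 0, 0, 1], [1, 0, 1, 1], [1, 2, 0, 2], [2, 0, 0, 0]], [[0, 1, 1, 2], [1, 1, 1, 0], [1, 0, 2, 2], [1, 2, 0, 2]], [[1, 0, 1, 2], [0, 2, 1, 0], [0, 0, 1, 0], [0, 1, 2, 2]], [[1, 2, 0, 2], [0, 1, 0, 1], [0, 0, 1, 0], [0, 2, 1, 0]], [[1, 0, 0, 0], [0, 2, 0, 0], [0, 0, 1, 0], [0, 2, 0, 2]], [[1, 0, 0, 0], [0, 1, 0, 1], [0, 0, 1, 0], [0, 2, 0, 0]], [[1, 0, 0, 0], [0, 1, 0, 1], [0, 0, 1, 0], [0, 0, 0, 1]], [[2, 1, 1, 0], [0, 1, 0, 0], [1, 1, 1, 0], [1, 1, 0, 1]], [[1, 1, 0, 2], [0, 1, 0, 2], [1, 2, 1, 1], [1, 0, 2, 1]], [[0, 1, 1, 0], [1, 1, 0, 1], [2, 2, 2, 0], [1, 0, 0, 1]], [[2, 0, 1, 0], [0, 1, 0, 2], [0, 0, 2, 0], [0, 1, 0, 0]], [[0, 2, 0, 1], [1, 0, 2, 0], [0, 1, 0, 1], [2, 0, 2, 0]]]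

/-- the twelve unitary matrices over `F₄` (rows; `2 = ω`, `3 = ω²`) -/
def LB : List (List (List ℕ)) :=
  [[[0, 1, 1, 2], [1, 0, 1, 2], [1, 1, 1, 0], [3, 3, 0, 1]], [[2, 1, 1, 0], [2, 1, 0, 1], [0, 3, 3, 3], [2, 0, 1, 1]], [[3, 3, 0, 1], [1, 2, 0, 1], [0, 0, 2, 0], [3, 2, 0, 2]], [[3, 2, 0, 2], [3, 1, 0, 3], [0, 0, 3, 0], [3, 3, 0, 1]], [[2, 3, 0, 3], [2, 2, 0, 1], [0, 0, 3, 0], [1, 3, 0, 1]], [[2, 3, 0, 2], [2, 2, 0, 3], [0, 0, 3, 0], [2, 1, 0, 1]], [[1, 2, 0, 2], [1, 1, 0, 3], [0, 0, 2, 0], [1, 3, 0, 1]], [[1, 0, 0, 0], [0, 2, 2, 2], [0, 3, 1, 2], [0, 1, 3, 2]], [[1, 0, 0, 0], [0, 3, 2, 3], [0, 1, 2, 2], [0, 3, 3, 2]], [[1, 0, 0, 0], [0, 2, 2, 2], [0, 2, 3, 1], [0, 2, 1, 3]], [[1, 0, 0, 0], [0, 1, 0, 0], [0, 0, 2, 0], [0, 0, 0, 3]], [[1, 0, 0, 0], [0, 1, 0, 0], [0, 0, 0, 3], [0, 0, 2, 0]]]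

/-- codes of the 80 nonzero vectors of `F₃⁴` -/
def codesA : List ℕ :=
  [1, 2, 3, 4, 5, 6, 7, 8, 9, 10, 11, 12, 13, 14, 15, 16, 17, 18, 19, 20, 21, 22, 23, 24, 25, 26, 27, 28, 29, 30, 31, 32, 33, 34, 35, 36, 37, 38, 39, 40, 41, 42, 43, 44, 45, 46, 47, 48, 49, 50, 51, 52, 53, 54, 55, 56, 57, 58, 59, 60, 61, 62, 63, 64, 65, 66, 67, 68, 69, 70, 71, 72, 73, 74, 75, 76, 77, 78, 79, 80]

/-- codes of the 120 unit vectors of `F₄⁴` -/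
def codesB : List ℕ :=
  [1, 2, 3, 4, 8, 12, 16, 21, 22, 23, 25, 26, 27, 29, 30, 31, 32, 37, 38, 39, 41, 42, 43, 45, 46, 47, 48, 53, 54, 55, 57, 58, 59, 61, 62, 63, 64, 69, 70, 71, 73, 74, 75, 77, 78, 79, 81, 82, 83, 84, 88, 92, 97, 98, 99, 100, 104, 108, 113, 114, 115, 116, 120, 124, 128, 133, 134, 135, 137, 138, 139, 141, 142, 143, 145, 146, 147, 148, 152, 156, 161, 162, 163, 164, 168, 172, 177, 178, 179, 180, 184, 188, 192, 197, 198, 199, 201, 202, 203, 205, 206, 207, 209, 210, 211, 212, 216, 220, 225, 226, 227, 228, 232, 236, 241, 242, 243, 244, 248, 252]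

/-- tables of the twelve generators on the 80 vectors -/
def permA : List (List ℕ) :=
  [
   [65, 50, 17, 56, 41, 8, 74, 32, 2, 68, 44, 20, 59, 35, 11, 77, 26, 5, 62, 47, 23, 53, 38, 14, 71, 29, 21, 60, 36, 12, 78, 27, 3, 69, 45, 24, 54, 39, 15, 72, 30, 6, 63, 48, 18, 57, 42, 9, 75, 33, 0, 66, 51, 16, 73, 31, 7, 64, 49, 25, 55, 40, 10, 76, 34, 1, 67, 52, 19, 58, 43, 13, 79, 28, 4, 70, 46, 22, 61, 37],
   [38, 77, 57, 15, 45, 34, 64, 22, 21, 33, 63, 79, 1, 40, 44, 56, 14, 16, 46, 58, 62, 20, 32, 39, 78, 0, 73, 4, 43, 47, 59, 8, 24, 27, 66, 65, 23, 26, 42, 72, 3, 10, 49, 61, 60, 9, 48, 28, 67, 25, 2, 41, 71, 36, 75, 6, 13, 52, 55, 68, 17, 29, 31, 70, 19, 5, 35, 74, 54, 12, 51, 50, 53, 11, 18, 30, 69, 76, 7, 37],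
   [0, 1, 32, 33, 34, 56, 57, 58, 66, 67, 65, 9, 10, 8, 42, 43, 41, 52, 50, 51, 76, 74, 75, 19, 17, 18, 55, 53, 54, 7, 5, 6, 31, 29, 30, 38, 39, 40, 62, 63, 64, 14, 15, 16, 24, 25, 23, 48, 49, 47, 72, 73, 71, 27, 28, 26, 60, 61, 59, 3, 4, 2, 13, 11, 12, 37, 35, 36, 70, 68, 69, 77, 78, 79, 20, 21, 22, 44, 45, 46],
   [0, 1, 58, 56, 57, 33, 34, 32, 35, 36, 37, 13, 11, 12, 69, 70, 68, 71, 72, 73, 49, 47, 48, 24, 25, 23, 4, 2, 3, 60, 61, 59, 26, 27, 28, 40, 38, 39, 15, 16, 14, 62, 63, 64, 76, 74, 75, 51, 52, 50, 17, 18, 19, 6, 7, 5, 53, 54, 55, 31, 29, 30, 42, 43, 41, 8, 9, 10, 67, 65, 66, 78, 79, 77, 44, 45, 46, 22, 20, 21],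
   [0, 1, 59, 60, 61, 29, 30, 31, 8, 9, 10, 68, 69, 70, 38, 39, 40, 17, 18, 19, 77, 78, 79, 47, 48, 49, 53, 54, 55, 32, 33, 34, 2, 3, 4, 62, 63, 64, 41, 42, 43, 11, 12, 13, 71, 72, 73, 50, 51, 52, 20, 21, 22, 26, 27, 28, 5, 6, 7, 56, 57, 58, 35, 36, 37, 14, 15, 16, 65, 66, 67, 44, 45, 46, 23, 24, 25, 74, 75, 76],
   [0, 1, 56, 57, 58, 32, 33, 34, 8, 9, 10, 65, 66, 67, 41, 42, 43, 17, 18, 19, 74, 75, 76, 50, 51, 52, 2, 3, 4, 59, 60, 61, 26, 27, 28, 11, 12, 13, 68, 69, 70, 35, 36, 37, 20, 21, 22, 77, 78, 79, 44, 45, 46, 5, 6, 7, 53, 54, 55, 29, 30, 31, 14, 15, 16, 62, 63, 64, 38, 39, 40, 23, 24, 25, 71, 72, 73, 47, 48, 49],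
   [0, 1, 2, 3, 4, 5, 6, 7, 8, 9, 10, 11, 12, 13, 14, 15, 16, 17, 18, 19, 20, 21, 22, 23, 24, 25, 29, 30, 31, 32, 33, 34, 26, 27, 28, 38, 39, 40, 41, 42, 43, 35, 36, 37, 47, 48, 49, 50, 51, 52, 44, 45, 46, 59, 60, 61, 53, 54, 55, 56, 57, 58, 68, 69, 70, 62, 63, 64, 65, 66, 67, 77, 78, 79, 71, 72, 73, 74, 75, 76],
   [37, 72, 39, 74, 4, 79, 6, 41, 9, 44, 55, 49, 57, 11, 59, 16, 51, 19, 27, 62, 29, 67, 21, 69, 23, 34, 26, 64, 18, 66, 20, 31, 25, 33, 68, 36, 71, 1, 76, 3, 38, 5, 43, 78, 46, 54, 8, 56, 13, 48, 15, 50, 61, 53, 10, 45, 12, 47, 58, 52, 60, 14, 63, 17, 28, 22, 30, 65, 32, 70, 24, 73, 0, 35, 2, 40, 75, 42, 77, 7],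
   [36, 73, 21, 31, 65, 16, 50, 60, 62, 18, 28, 57, 13, 47, 79, 5, 42, 44, 54, 10, 39, 76, 2, 34, 68, 24, 43, 77, 6, 26, 63, 19, 48, 58, 11, 25, 32, 69, 8, 45, 55, 3, 40, 74, 61, 14, 51, 71, 0, 37, 66, 22, 29, 75, 4, 38, 70, 23, 33, 53, 9, 46, 30, 67, 20, 52, 59, 15, 35, 72, 1, 12, 49, 56, 7, 41, 78, 17, 27, 64],
   [47, 68, 21, 42, 54, 16, 28, 76, 18, 39, 60, 13, 34, 73, 5, 44, 65, 10, 31, 79, 2, 50, 62, 24, 36, 57, 29, 77, 8, 51, 63, 3, 37, 58, 25, 48, 69, 0, 43, 55, 22, 26, 74, 14, 40, 61, 19, 32, 71, 11, 45, 66, 6, 59, 17, 38, 72, 12, 33, 67, 7, 46, 78, 9, 30, 64, 4, 52, 56, 23, 35, 70, 1, 49, 53, 20, 41, 75, 15, 27],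
   [1, 0, 29, 31, 30, 59, 61, 60, 18, 17, 19, 48, 47, 49, 78, 77, 79, 10, 9, 8, 40, 39, 38, 70, 69, 68, 5, 7, 6, 26, 28, 27, 56, 58, 57, 24, 23, 25, 45, 44, 46, 75, 74, 76, 16, 15, 14, 37, 36, 35, 67, 66, 65, 2, 4, 3, 32, 34, 33, 53, 55, 54, 21, 20, 22, 51, 50, 52, 72, 71, 73, 13, 12, 11, 43, 42, 41, 64, 63, 62],
   [56, 32, 10, 67, 43, 18, 75, 51, 59, 26, 2, 70, 37, 13, 78, 45, 21, 29, 5, 53, 40, 16, 64, 48, 24, 72, 9, 66, 42, 17, 74, 50, 1, 58, 34, 69, 36, 12, 77, 44, 20, 61, 28, 4, 39, 15, 63, 47, 23, 71, 31, 7, 55, 19, 76, 52, 0, 57, 33, 8, 65, 41, 79, 46, 22, 60, 27, 3, 68, 35, 11, 49, 25, 73, 30, 6, 54, 38, 14, 62]]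

/-- tables of the twelve generators on the 120 unit vectors -/
def permB : List (List ℕ) :=
  [
   [105, 56, 91, 102, 53, 88, 7, 6, 85, 62, 82, 15, 98, 59, 100, 11, 21, 25, 76, 39, 79, 16, 117, 43, 114, 17, 35, 31, 66, 47, 68, 27, 108, 50, 111, 26, 41, 45, 116, 19, 119, 36, 77, 23, 74, 37, 70, 29, 110, 72, 33, 113, 89, 4, 107, 86, 1, 104, 80, 13, 96, 83, 9, 94, 73, 69, 28, 109, 30, 65, 46, 112, 49, 64, 44, 115, 18, 42, 118, 20, 58, 99, 10, 61, 95, 8, 55, 106, 5, 52, 103, 2, 93, 92, 63, 84, 60, 101, 12, 81, 14, 97, 3, 90, 57, 0, 87, 54, 32, 67, 48, 34, 71, 51, 24, 75, 38, 22, 78, 40],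
   [69, 101, 37, 27, 11, 25, 58, 100, 70, 0, 108, 83, 24, 105, 74, 12, 75, 23, 56, 109, 1, 39, 99, 29, 59, 118, 110, 51, 10, 76, 60, 28, 91, 38, 2, 68, 61, 98, 72, 3, 111, 80, 22, 102, 77, 14, 73, 97, 36, 26, 15, 21, 57, 20, 82, 104, 119, 96, 13, 50, 103, 81, 71, 90, 78, 19, 53, 112, 4, 43, 95, 33, 62, 115, 54, 18, 85, 107, 116, 94, 64, 93, 45, 35, 6, 17, 114, 89, 34, 44, 52, 49, 113, 48, 8, 79, 63, 30, 88, 40, 5, 66, 9, 47, 106, 84, 67, 87, 117, 86, 32, 42, 55, 46, 65, 92, 41, 31, 7, 16],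
   [95, 40, 72, 70, 99, 38, 16, 57, 109, 17, 21, 83, 54, 80, 25, 112, 26, 63, 115, 27, 31, 89, 60, 86, 35, 118, 6, 51, 103, 7, 11, 77, 48, 74, 15, 106, 65, 96, 39, 64, 73, 0, 94, 3, 69, 43, 53, 113, 22, 24, 56, 110, 59, 119, 32, 34, 62, 116, 47, 107, 12, 14, 50, 104, 97, 66, 4, 101, 92, 44, 68, 42, 93, 1, 23, 82, 55, 52, 19, 85, 33, 88, 61, 58, 29, 91, 13, 76, 49, 46, 9, 79, 45, 2, 71, 41, 37, 98, 5, 100, 36, 67, 84, 18, 108, 111, 81, 20, 90, 28, 114, 117, 87, 30, 78, 8, 102, 105, 75, 10],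
   [101, 37, 69, 94, 42, 71, 26, 30, 88, 63, 89, 34, 114, 59, 118, 29, 6, 10, 76, 51, 77, 14, 102, 47, 106, 9, 16, 20, 82, 57, 83, 24, 108, 53, 112, 19, 44, 39, 99, 1, 97, 36, 73, 5, 66, 40, 86, 32, 117, 90, 27, 116, 74, 12, 105, 78, 7, 104, 80, 22, 111, 84, 17, 110, 67, 72, 3, 98, 2, 68, 38, 93, 45, 64, 62, 115, 33, 58, 119, 31, 50, 103, 13, 46, 107, 11, 56, 109, 23, 52, 113, 21, 96, 92, 41, 65, 43, 95, 4, 70, 0, 100, 28, 91, 60, 35, 87, 61, 8, 79, 48, 15, 75, 49, 18, 85, 54, 25, 81, 55],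
   [41, 73, 93, 98, 43, 66, 26, 86, 61, 34, 29, 115, 90, 119, 30, 60, 6, 74, 49, 14, 9, 103, 78, 107, 10, 48, 16, 80, 55, 24, 19, 109, 84, 113, 20, 54, 39, 94, 2, 40, 36, 65, 101, 70, 44, 3, 33, 118, 87, 91, 31, 114, 13, 106, 75, 79, 11, 102, 23, 112, 81, 85, 21, 108, 68, 4, 99, 67, 72, 42, 0, 37, 64, 97, 116, 28, 63, 59, 117, 35, 104, 8, 51, 47, 105, 15, 110, 18, 57, 53, 111, 25, 100, 45, 69, 92, 96, 5, 38, 1, 95, 71, 89, 58, 32, 27, 88, 62, 77, 46, 12, 7, 76, 50, 83, 52, 22, 17, 82, 56],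
   [69, 101, 37, 42, 71, 94, 26, 114, 89, 34, 29, 59, 118, 63, 30, 88, 6, 102, 77, 14, 9, 47, 106, 51, 10, 76, 16, 108, 83, 24, 19, 53, 112, 57, 20, 82, 44, 73, 97, 36, 40, 5, 66, 1, 39, 99, 117, 86, 32, 27, 116, 90, 105, 74, 12, 7, 104, 78, 111, 80, 22, 17, 110, 84, 67, 38, 2, 68, 64, 93, 45, 98, 72, 3, 33, 62, 115, 119, 31, 58, 13, 50, 103, 107, 11, 46, 23, 56, 109, 113, 21, 52, 96, 4, 43, 95, 100, 70, 0, 65, 92, 41, 60, 28, 91, 87, 61, 35, 48, 8, 79, 75, 49, 15, 54, 18, 85, 81, 55, 25],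
   [37, 69, 101, 94, 42, 71, 16, 82, 57, 20, 24, 108, 83, 112, 19, 53, 26, 88, 63, 30, 34, 114, 89, 118, 29, 59, 6, 76, 51, 10, 14, 102, 77, 106, 9, 47, 44, 99, 1, 39, 36, 73, 97, 66, 40, 5, 22, 111, 80, 84, 17, 110, 32, 117, 86, 90, 27, 116, 12, 105, 74, 78, 7, 104, 67, 3, 98, 72, 68, 38, 2, 45, 64, 93, 109, 23, 56, 52, 113, 21, 115, 33, 62, 58, 119, 31, 103, 13, 50, 46, 107, 11, 96, 41, 65, 92, 95, 4, 43, 0, 100, 70, 85, 54, 18, 25, 81, 55, 91, 60, 28, 35, 87, 61, 79, 48, 8, 15, 75, 49],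
   [0, 1, 2, 62, 79, 111, 106, 80, 81, 82, 37, 38, 39, 33, 34, 35, 57, 7, 8, 9, 114, 115, 116, 68, 69, 70, 89, 99, 100, 101, 20, 21, 22, 46, 47, 48, 84, 102, 103, 104, 27, 28, 29, 43, 44, 45, 58, 59, 60, 4, 113, 77, 93, 94, 95, 91, 50, 16, 13, 14, 15, 55, 64, 118, 119, 65, 66, 67, 52, 53, 54, 10, 11, 12, 17, 18, 19, 51, 90, 92, 74, 75, 76, 112, 5, 61, 40, 41, 42, 26, 105, 85, 49, 23, 24, 25, 96, 97, 98, 86, 87, 88, 71, 72, 73, 117, 6, 56, 30, 31, 32, 36, 83, 107, 108, 109, 110, 78, 63, 3],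
   [0, 1, 2, 107, 55, 90, 112, 27, 28, 29, 71, 72, 73, 46, 47, 48, 63, 80, 81, 82, 10, 11, 12, 93, 94, 95, 77, 40, 41, 42, 114, 115, 116, 23, 24, 25, 85, 58, 59, 60, 96, 97, 98, 7, 8, 9, 37, 38, 39, 78, 16, 119, 102, 103, 104, 5, 89, 56, 30, 31, 32, 111, 51, 64, 117, 20, 21, 22, 74, 75, 76, 43, 44, 45, 13, 14, 15, 92, 62, 83, 68, 69, 70, 49, 113, 26, 52, 53, 54, 91, 3, 106, 50, 65, 66, 67, 33, 34, 35, 108, 109, 110, 86, 87, 88, 57, 105, 4, 17, 18, 19, 118, 36, 79, 99, 100, 101, 6, 84, 61],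
   [0, 1, 2, 84, 119, 49, 62, 102, 103, 104, 65, 66, 67, 23, 24, 25, 79, 27, 28, 29, 52, 53, 54, 96, 97, 98, 111, 43, 44, 45, 10, 11, 12, 86, 87, 88, 106, 58, 59, 60, 17, 18, 19, 71, 72, 73, 80, 81, 82, 4, 51, 117, 37, 38, 39, 113, 90, 6, 33, 34, 35, 77, 92, 56, 57, 93, 94, 95, 74, 75, 76, 30, 31, 32, 7, 8, 9, 91, 112, 36, 114, 115, 116, 50, 5, 83, 68, 69, 70, 16, 61, 107, 89, 13, 14, 15, 40, 41, 42, 108, 109, 110, 99, 100, 101, 55, 26, 78, 20, 21, 22, 64, 105, 63, 46, 47, 48, 118, 85, 3],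
   [0, 1, 2, 3, 4, 5, 16, 17, 18, 19, 20, 21, 22, 23, 24, 25, 26, 27, 28, 29, 30, 31, 32, 33, 34, 35, 6, 7, 8, 9, 10, 11, 12, 13, 14, 15, 92, 93, 94, 95, 96, 97, 98, 99, 100, 101, 108, 109, 110, 111, 112, 113, 114, 115, 116, 117, 118, 119, 102, 103, 104, 105, 106, 107, 36, 37, 38, 39, 40, 41, 42, 43, 44, 45, 52, 53, 54, 55, 56, 57, 58, 59, 60, 61, 62, 63, 46, 47, 48, 49, 50, 51, 64, 65, 66, 67, 68, 69, 70, 71, 72, 73, 80, 81, 82, 83, 84, 85, 86, 87, 88, 89, 90, 91, 74, 75, 76, 77, 78, 79],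
   [0, 1, 2, 3, 4, 5, 64, 65, 66, 67, 68, 69, 70, 71, 72, 73, 92, 93, 94, 95, 96, 97, 98, 99, 100, 101, 36, 37, 38, 39, 40, 41, 42, 43, 44, 45, 26, 27, 28, 29, 30, 31, 32, 33, 34, 35, 86, 87, 88, 89, 90, 91, 114, 115, 116, 117, 118, 119, 58, 59, 60, 61, 62, 63, 6, 7, 8, 9, 10, 11, 12, 13, 14, 15, 74, 75, 76, 77, 78, 79, 102, 103, 104, 105, 106, 107, 46, 47, 48, 49, 50, 51, 16, 17, 18, 19, 20, 21, 22, 23, 24, 25, 80, 81, 82, 83, 84, 85, 108, 109, 110, 111, 112, 113, 52, 53, 54, 55, 56, 57]]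

/-- the three unit vectors related to each of the 80 vectors -/
def relL : List (List ℕ) :=
  [[6, 16, 26], [6, 16, 26], [39, 68, 100], [41, 73, 93], [43, 66, 98], [39, 68, 100], [43, 66, 98], [41, 73, 93], [14, 19, 30], [9, 20, 34], [10, 24, 29], [55, 90, 107], [49, 84, 119], [61, 78, 113], [54, 86, 103], [48, 80, 115], [60, 74, 109], [14, 19, 30], [10, 24, 29], [9, 20, 34], [54, 86, 103], [60, 74, 109], [48, 80, 115], [55, 90, 107], [61, 78, 113], [49, 84, 119], [44, 67, 96], [37, 69, 101], [42, 71, 94], [40, 72, 95], [38, 70, 99], [45, 65, 97], [36, 64, 92], [0, 1, 2], [3, 4, 5], [51, 83, 118], [63, 77, 112], [57, 89, 106], [58, 75, 110], [52, 87, 104], [46, 81, 116], [12, 23, 28], [13, 18, 32], [8, 22, 33], [47, 82, 114], [53, 88, 102], [59, 76, 108], [62, 79, 111], [50, 85, 117], [56, 91, 105], [7, 21, 35], [15, 17, 31], [11,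 25, 27], [44, 67, 96], [42, 71, 94], [37, 69, 101], [36, 64, 92], [3, 4, 5], [0, 1, 2], [40, 72, 95], [45, 65, 97], [38, 70, 99], [47, 82, 114], [59, 76, 108], [53, 88, 102], [7, 21, 35], [11, 25, 27], [15, 17, 31], [62, 79, 111], [56, 91, 105], [50, 85, 117], [51, 83, 118], [57, 89, 106], [63, 77, 112], [12, 23, 28], [8, 22, 33], [13, 18, 32], [58, 75, 110], [46, 81, 116], [52, 87, 104]]

/-- generators of level 0 of the symplectic chain -/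
def idxA0 : List ℕ :=
  [0, 1, 2, 3, 4, 5, 6, 7, 8, 9, 10, 11]

/-- transversal words of level 0 of the symplectic chain -/
def wordsA0 : List (List ℕ) :=
  [[], [0], [1], [7], [8], [9], [10], [11], [1, 0], [3, 0], [4, 0], [5, 0], [7, 0], [8, 0], [9, 0], [10, 0], [11, 0], [0, 1], [1, 1], [4, 1], [5, 1], [7, 1], [9, 1], [10, 1], [11, 1], [0, 7], [1, 7], [2, 7], [5, 7], [8, 7], [10, 7], [11, 7], [0, 8], [1, 8], [4, 8], [7, 8], [8, 8], [0, 9], [1, 9], [2, 9], [4, 9], [7, 10], [8, 10], [0, 11], [3, 11], [8, 11], [1, 1, 0], [3, 1, 0], [4, 1, 0], [7, 1, 0], [8, 1, 0], [10, 1, 0], [11, 1, 0], [0, 3, 0], [1, 3, 0], [2, 3, 0], [3, 3, 0], [0, 4, 0], [1, 4, 0], [10, 4, 0], [0, 5, 0], [1, 5, 0], [8, 5, 0], [2, 7, 0], [3, 8, 0], [5, 8, 0], [7, 8, 0], [9, 8, 0], [11, 8, 0], [8, 9, 0], [1, 11, 0], [2, 11, 0], [4, 11, 0], [1, 1, 1], [9, 1, 1], [8,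 4, 1], [3, 5, 1], [0, 8, 7], [8, 10, 7], [4, 0, 8]]

/-- generators of level 1 of the symplectic chain -/
def idxA1 : List ℕ :=
  [2, 3, 4, 5, 6]

/-- transversal words of level 1 of the symplectic chain -/
def wordsA1 : List (List ℕ) :=
  [[], [2], [3], [3, 2], [4, 2], [5, 2], [2, 3], [3, 3], [4, 3], [5, 3], [2, 3, 2], [3, 3, 2], [2, 4, 2], [3, 4, 2], [4, 4, 2], [5, 4, 2], [6, 5, 2], [4, 2, 3], [5, 2, 3], [2, 3, 3], [3, 3, 3], [2, 4, 3], [5, 5, 3], [3, 2, 3, 2], [4, 2, 3, 2], [5, 3, 3, 2], [5, 2, 4, 2]]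

/-- generators of level 2 of the symplectic chain -/
def idxA2 : List ℕ :=
  [4, 5, 6]

/-- transversal words of level 2 of the symplectic chain -/
def wordsA2 : List (List ℕ) :=
  [[], [4], [5], [5, 4], [4, 5], [5, 5], [4, 5, 4], [4, 5, 5]]

/-- generators of level 3 of the symplectic chain -/
def idxA3 : List ℕ :=
  [6]

/-- transversal words of level 3 of the symplectic chain -/
def wordsA3 : List (List ℕ) :=
  [[], [6], [6, 6]]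

/-- bottom of the symplectic chain -/
def idxA4 : List ℕ :=
  []

/-- generators of level 0 of the unitary chain -/
def idxB0 : List ℕ :=
  [0, 1, 2, 3, 4, 5, 6, 7, 8, 9, 10, 11]

/-- transversal words of level 0 of the unitary chain -/
def wordsB0 : List (List ℕ) :=
  [[], [0], [1], [2], [3], [4], [6], [1, 0], [2, 0], [3, 0], [4, 0], [5, 0], [6, 0], [7, 0], [8, 0], [9, 0], [10, 0], [0, 1], [1, 1], [2, 1], [3, 1], [4, 1], [5, 1], [6, 1], [7, 1], [8, 1], [11, 1], [1, 2], [4, 2], [8, 2], [9, 2], [11, 2], [0, 3], [1, 3], [3, 3], [4, 3], [6, 3], [7, 3], [8, 3], [10, 3], [0, 4], [1, 4], [5, 4], [7, 4], [9, 4], [11, 4], [0, 6], [1, 6], [2, 6], [3, 6], [4, 6], [6, 6], [7, 6], [8, 6], [1, 1, 0], [2, 1, 0], [3, 1, 0], [6, 1, 0], [8, 1, 0], [10, 1, 0], [11, 1, 0], [0, 2, 0], [4, 2, 0], [8, 2, 0], [9, 2, 0], [10, 2, 0], [0, 3, 0], [4, 3, 0],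 [5, 3, 0], [6, 3, 0], [7, 3, 0], [1, 4, 0], [3, 4, 0], [5, 4, 0], [6, 4, 0], [8, 4, 0], [3, 5, 0], [5, 5, 0], [6, 5, 0], [0, 6, 0], [3, 6, 0], [6, 6, 0], [0, 7, 0], [5, 7, 0], [7, 7, 0], [10, 7, 0], [0, 8, 0], [2, 8, 0], [7, 8, 0], [0, 9, 0], [6, 9, 0], [7, 9, 0], [0, 10, 0], [3, 10, 0], [7, 10, 0], [8, 10, 0], [9, 10, 0], [3, 0, 1], [4, 0, 1], [6, 0, 1], [0, 1, 1], [5, 1, 1], [11, 1, 1], [0, 2, 1], [8, 2, 1], [0, 3, 1], [3, 3, 1], [7, 3, 1], [11, 3, 1], [11, 4, 1], [7, 6, 1], [3, 7, 1], [10, 7, 1], [8, 8, 1], [10, 11, 1], [2, 1, 2], [4, 9, 2], [11, 3, 3], [2, 8, 3], [6, 9, 4]]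

/-- generators of level 1 of the unitary chain -/
def idxB1 : List ℕ :=
  [7, 8, 9, 10, 11]

/-- transversal words of level 1 of the unitary chain -/
def wordsB1 : List (List ℕ) :=
  [[], [7], [8], [9], [7, 7], [8, 7], [9, 7], [10, 7], [7, 8], [8, 8], [9, 8], [10, 8], [7, 9], [8, 9], [7, 7, 7], [8, 7, 7], [9, 7, 7], [10, 7, 7], [11, 7, 7], [7, 8, 7], [11, 8, 7], [7, 9, 7], [8, 9, 7], [9, 9, 7], [11, 9, 7], [8, 10, 7], [9, 10, 7], [9, 7, 8], [10, 7, 8], [7, 8, 8], [8, 8, 8], [9, 9, 8], [7, 10, 8], [9, 10, 8], [10, 10, 8], [7, 7, 9]]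

/-- generators of level 2 of the unitary chain -/
def idxB2 : List ℕ :=
  [10, 11]

/-- transversal words of level 2 of the unitary chain -/
def wordsB2 : List (List ℕ) :=
  [[], [10], [11], [10, 10], [11, 10], [10, 11]]

/-- bottom of the unitary chain -/
def idxB3 : List ℕ :=
  []

/-- indices of the base points of the symplectic chain -/
def baseA : List ℕ :=
  [0, 8, 2, 26]

/-- indices of the base points of the unitary chain -/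
def baseB : List ℕ :=
  [0, 3, 6]

/-- indices `(j, i)` of the six special unit vectors and of a vector related to each -/
def spec : List (ℕ × ℕ) :=
  [(0, 33), (3, 34), (6, 0), (36, 32), (7, 50), (37, 27)]

end Cfsg.Agent.Lib.Helper62.U42Data
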