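import Mathlib
import Cfsg.Prelude.Def_Classical
import Cfsg.Agent.Lib.Helper36.F4
import Cfsg.Agent.Lib.Helper62.GraphIso
import Cfsg.Agent.Lib.Helper62.U42Data

/-!
# `Sp₄(3)` and `SU₄(2)`: the graph subgroup (helper62)

Twelve explicit pairs `(x, y)` with `x ∈ Sp₄(ZMod 3)`, `y ∈ SU₄(F4)`, their tables, the two
orbit-chain lower bounds and the invariant relation.
-/

set_option autoImplicit false

namespace Cfsg.Agent.Lib.Helper62.U42

open Matrix Cfsg.Agent.Lib.Helper36 Cfsg.Agent.Lib.Helper62 Cfsg.Agent.Lib.Helper62.GraphIso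
  Cfsg.Agent.Lib.Helper62.U42Data

/-- `Sp₄(3)` -/
abbrev SpA : Type := ↥(Matrix.symplecticGroup (Fin 2) (ZMod 3))
/-- `SU₄(2)` over the concrete field `F4` -/
abbrev SUB : Type := ↥(Cfsg.SU 4 F4 2)
/-- vectors of `F₃⁴` -/
abbrev VA : Type := Fin 2 ⊕ Fin 2 → ZMod 3
/-- vectors of `F₄⁴` -/
abbrev VB : Type := Fin 4 → F4

instance f4_charP : CharP F4 2 :=
  charP_of_card_eq_prime_pow (p := 2) (f := 2) (by rw [F4.card_eq]; norm_num)

/-- a matrix `A` of determinant one with `Aᵀ * A^(2) = 1` is unitary. -/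
theorem mem_SU_of_transpose_mul' (A : SpecialLinearGroup (Fin 4) F4)
    (h : A.valᵀ * A.val.map (fun x => x ^ 2) = 1) : A ∈ Cfsg.SU 4 F4 2 := by
  intro u v
  have hA : Cfsg.slToMat 4 F4 A = A.val := rfl
  have hf : ∀ u v : Fin 4 → F4, Cfsg.hermForm 4 F4 2 u v = u ⬝ᵥ (fun i => frobenius F4 2 (v i)) := by
    intro u v
    simp [Cfsg.hermForm, dotProduct, frobenius_def]
  have h' : A.valᵀ * A.val.map (frobenius F4 2) = 1 := by
    rw [← h]; congr 1
  rw [hA, hf, hf]
  have h1 : (fun i => frobenius F4 2 ((A.val *ᵥ v) i)) =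
      (A.val.map (frobenius F4 2)) *ᵥ (fun i => frobenius F4 2 (v i)) := by
    ext i
    exact RingHom.map_mulVec (frobenius F4 2) A.val v i
  rw [h1, ← Matrix.vecMul_transpose, ← Matrix.dotProduct_mulVec, Matrix.mulVec_mulVec, h',
    Matrix.one_mulVec]

/-- digits to `F4` -/
def c4 : ℕ → F4
  | 0 => F4.z | 1 => F4.o | 2 => F4.w | _ => F4.v

/-- position of an index of `Fin 2 ⊕ Fin 2` -/
def ix : Fin 2 ⊕ Fin 2 → ℕ := Sum.elim (fun a => a.val) (fun a => 2 + a.val)

/-- matrix over `ZMod 3` from its rows -/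
def mA (L : List (List ℕ)) : Matrix (Fin 2 ⊕ Fin 2) (Fin 2 ⊕ Fin 2) (ZMod 3) :=
  fun i j => ((nthD (nthD L (ix i) []) (ix j) 0 : ℕ) : ZMod 3)

/-- matrix over `F4` from its rows -/
def mB (L : List (List ℕ)) : Matrix (Fin 4) (Fin 4) F4 :=
  fun i j => c4 (nthD (nthD L i.val []) j.val 0)

set_option maxRecDepth 100000 in
theorem spOK : ∀ s < 12, mA (nthD LA s []) * J (Fin 2) (ZMod 3) * (mA (nthD LA s []))ᵀ
    = J (Fin 2) (ZMod 3) := by
  decide +kernel

set_option maxRecDepth 100000 in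
theorem detOK : ∀ s < 12, (mB (nthD LB s [])).det = 1 := by
  decide +kernel

set_option maxRecDepth 100000 in
theorem unitOK : ∀ s < 12, (mB (nthD LB s []))ᵀ * (mB (nthD LB s [])).map (fun x => x ^ 2) = 1 := by
  decide +kernel

/-- the symplectic generators -/
def gA (s : Fin 12) : SpA :=
  ⟨mA (nthD LA s.val []), SymplecticGroup.mem_iff.mpr (spOK s.val s.2)⟩

/-- the unitary generators -/
def gB (s : Fin 12) : SUB :=
  ⟨⟨mB (nthD LB s.val []), detOK s.val s.2⟩, mem_SU_of_transpose_mul' _ (unitOK s.val s.2)⟩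

/-- the generating pairs -/
def gensD : List (SpA × SUB) := (List.finRange 12).map (fun s => (gA s, gB s))

/-- `Sp₄(3)` acts on `F₃⁴` -/
instance actA : MulAction SpA VA where
  smul x v := x.val *ᵥ v
  one_smul v := Matrix.one_mulVec v
  mul_smul x y v := (Matrix.mulVec_mulVec v x.val y.val).symm

/-- `SU₄(2)` acts on `F₄⁴` -/
instance actB : MulAction SUB VB where
  smul y v := y.val.val *ᵥ v
  one_smul v := Matrix.one_mulVec v
  mul_smul x y v := (Matrix.mulVec_mulVec v x.val.val y.val.val).symm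

theorem smulA_def (x : SpA) (v : VA) : x • v = x.val *ᵥ v := rfl
theorem smulB_def (y : SUB) (v : VB) : y • v = y.val.val *ᵥ v := rfl

/-- vector of `F₃⁴` from its code -/
def vA (c : ℕ) : VA := fun k => (((c / 3 ^ ix k) % 3 : ℕ) : ZMod 3)

/-- vector of `F₄⁴` from its code -/
def vB (c : ℕ) : VB := fun k => c4 ((c / 4 ^ k.val) % 4)

/-- the 80 vectors -/
def ptA (i : ℕ) : VA := vA (nthD codesA i 0)

/-- the 120 unit vectors -/
def ptB (j : ℕ) : VB := vB (nthD codesB j 0)

/-- code of a vector of `F₃⁴` -/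
def encA (v : VA) : ℕ :=
  (v (Sum.inl 0)).val + 3 * (v (Sum.inl 1)).val + 9 * (v (Sum.inr 0)).val + 27 * (v (Sum.inr 1)).val

/-- digit of an element of `F4` -/
def d4 : F4 → ℕ
  | F4.z => 0 | F4.o => 1 | F4.w => 2 | F4.v => 3

/-- code of a vector of `F₄⁴` -/
def encB (v : VB) : ℕ := d4 (v 0) + 4 * d4 (v 1) + 16 * d4 (v 2) + 64 * d4 (v 3)

/-! ### The tables -/

set_option maxRecDepth 100000 in
theorem tblA_ok : ∀ s < 12, ∀ i < 80,
    mA (nthD LA s []) *ᵥ ptA i = ptA (tbl permA s i) ∧ tbl permA s i < 80 := by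
  decide +kernel

set_option maxRecDepth 100000 in
theorem tblB_ok : ∀ s < 12, ∀ j < 120,
    mB (nthD LB s []) *ᵥ ptB j = ptB (tbl permB s j) ∧ tbl permB s j < 120 := by
  decide +kernel

theorem gensD_length : gensD.length = 12 := by simp [gensD]

theorem nthD_gensD (s : ℕ) (hs : s < 12) : nthD gensD s 1 = (gA ⟨s, hs⟩, gB ⟨s, hs⟩) := by
  interval_cases s <;> rfl

/-- the symplectic components -/
def gensA : List SpA := gensD.map Prod.fst

/-- the unitary components -/
def gensB : List SUB := gensD.map Prod.snd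

theorem gensA_length : gensA.length = 12 := by simp [gensA, gensD]
theorem gensB_length : gensB.length = 12 := by simp [gensB, gensD]

theorem tableA : TableOK gensA ptA 80 permA := by
  intro s hs i hi
  have hs' : s < 12 := by rwa [gensA_length] at hs
  have h1 : nthD gensA s 1 = (nthD gensD s 1).1 := nthD_map Prod.fst gensD s 1
  rw [h1, nthD_gensD s hs']
  exact tblA_ok s hs' i hi

theorem tableB : TableOK gensB ptB 120 permB := by
  intro s hs i hi
  have hs' : s < 12 := by rwa [gensB_length] at hs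
  have h1 : nthD gensB s 1 = (nthD gensD s 1).2 := nthD_map Prod.snd gensD s 1
  rw [h1, nthD_gensD s hs']
  exact tblB_ok s hs' i hi

set_option maxRecDepth 100000 in
theorem encA_ok : ∀ i < 80, encA (ptA i) = nthD codesA i 0 := by decide +kernel

set_option maxRecDepth 100000 in
theorem encB_ok : ∀ j < 120, encB (ptB j) = nthD codesB j 0 := by decide +kernel

set_option maxRecDepth 100000 in
theorem codesA_nodup : codesA.Nodup := by decide +kernel

set_option maxRecDepth 100000 in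
theorem codesB_nodup : codesB.Nodup := by decide +kernel

theorem ptA_inj : ∀ i < 80, ∀ j < 80, ptA i = ptA j → i = j :=
  pt_inj_of_codes ptA encA codesA 80 rfl codesA_nodup encA_ok

theorem ptB_inj : ∀ i < 120, ∀ j < 120, ptB i = ptB j → i = j :=
  pt_inj_of_codes ptB encB codesB 120 rfl codesB_nodup encB_ok

end Cfsg.Agent.Lib.Helper62.U42
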