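import Mathlib
import Cfsg.Agent.Lib.Helper62.U42

/-!
# `Sp₄(3)` and `SU₄(2)`: orbit chains, the invariant relation, the kernel (helper62)
-/

set_option autoImplicit false

namespace Cfsg.Agent.Lib.Helper62.U42

open Matrix Cfsg.Agent.Lib.Helper36 Cfsg.Agent.Lib.Helper62 Cfsg.Agent.Lib.Helper62.GraphIso
  Cfsg.Agent.Lib.Helper62.U42Data

/-! ### Lower bounds for the two projections -/

set_option maxRecDepth 100000 in
theorem levelA0 : 80 * Nat.card (genGroup (sub gensA idxA1)) ≤ Nat.card (genGroup (sub gensA idxA0)) :=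
  card_ge_level tableA ptA_inj idxA0 idxA1 0 (by norm_num) wordsA0
    (by rw [gensA_length]; decide) (by decide) (by decide +kernel) (by decide +kernel)
    (by decide +kernel)

set_option maxRecDepth 100000 in
theorem levelA1 : 27 * Nat.card (genGroup (sub gensA idxA2)) ≤ Nat.card (genGroup (sub gensA idxA1)) :=
  card_ge_level tableA ptA_inj idxA1 idxA2 8 (by norm_num) wordsA1
    (by rw [gensA_length]; decide) (by decide) (by decide +kernel) (by decide +kernel)
    (by decide +kernel)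

set_option maxRecDepth 100000 in
theorem levelA2 : 8 * Nat.card (genGroup (sub gensA idxA3)) ≤ Nat.card (genGroup (sub gensA idxA2)) :=
  card_ge_level tableA ptA_inj idxA2 idxA3 2 (by norm_num) wordsA2
    (by rw [gensA_length]; decide) (by decide) (by decide +kernel) (by decide +kernel)
    (by decide +kernel)

set_option maxRecDepth 100000 in
theorem levelA3 : 3 * Nat.card (genGroup (sub gensA idxA4)) ≤ Nat.card (genGroup (sub gensA idxA3)) :=
  card_ge_level tableA ptA_inj idxA3 idxA4 26 (by norm_num) wordsA3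
    (by rw [gensA_length]; decide) (by decide) (by decide +kernel) (by decide +kernel)
    (by decide +kernel)

theorem card_genA : 51840 ≤ Nat.card (genGroup gensA) := by
  have h0 := levelA0
  have h1 := levelA1
  have h2 := levelA2
  have h3 := levelA3
  have h4 : Nat.card (genGroup (sub gensA idxA4)) = 1 := card_genGroup_sub_nil gensA
  have h5 := Subgroup.card_le_of_le (genGroup_sub_le gensA idxA0)
  omega

set_option maxRecDepth 100000 in
theorem levelB0 : 120 * Nat.card (genGroup (sub gensB idxB1)) ≤ Nat.card (genGroup (sub gensB idxB0)) :=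
  card_ge_level tableB ptB_inj idxB0 idxB1 0 (by norm_num) wordsB0
    (by rw [gensB_length]; decide) (by decide) (by decide +kernel) (by decide +kernel)
    (by decide +kernel)

set_option maxRecDepth 100000 in
theorem levelB1 : 36 * Nat.card (genGroup (sub gensB idxB2)) ≤ Nat.card (genGroup (sub gensB idxB1)) :=
  card_ge_level tableB ptB_inj idxB1 idxB2 3 (by norm_num) wordsB1
    (by rw [gensB_length]; decide) (by decide) (by decide +kernel) (by decide +kernel)
    (by decide +kernel)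

set_option maxRecDepth 100000 in
theorem levelB2 : 6 * Nat.card (genGroup (sub gensB idxB3)) ≤ Nat.card (genGroup (sub gensB idxB2)) :=
  card_ge_level tableB ptB_inj idxB2 idxB3 6 (by norm_num) wordsB2
    (by rw [gensB_length]; decide) (by decide) (by decide +kernel) (by decide +kernel)
    (by decide +kernel)

theorem card_genB : 25920 ≤ Nat.card (genGroup gensB) := by
  have h0 := levelB0
  have h1 := levelB1
  have h2 := levelB2
  have h4 : Nat.card (genGroup (sub gensB idxB3)) = 1 := card_genGroup_sub_nil gensB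
  have h5 := Subgroup.card_le_of_le (genGroup_sub_le gensB idxB0)
  omega

/-! ### The invariant relation -/

set_option maxRecDepth 100000 in
theorem rel_lt : ∀ i < 80, ∀ j ∈ nthD relL i [], j < 120 := by decide +kernel

set_option maxRecDepth 100000 in
theorem rel_chk : ∀ s < 12, ∀ i < 80, ∀ j ∈ nthD relL i [],
    tbl permB s j ∈ nthD relL (tbl permA s i) [] := by decide +kernel

theorem relInv_D : ∀ d ∈ genGroup gensD, RelInv ptA ptB 80 relL d :=
  relInv_of_mem gensD ptA ptB 80 120 permA permB tableA tableB relL rel_lt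
    (by rw [gensD_length]; exact rel_chk)

/-! ### The kernel on the unitary side is trivial -/

set_option maxRecDepth 100000 in
theorem spec_ok : ∀ p ∈ spec, p.2 < 80 ∧ p.1 ∈ nthD relL p.2 [] ∧
    ∀ j' ∈ nthD relL p.2 [], ∃ l : F4, ptB j' = l • ptB p.1 := by decide +kernel

set_option maxRecDepth 100000 in
theorem ptB_spec : ptB 0 = ![1, 0, 0, 0] ∧ ptB 3 = ![0, 1, 0, 0] ∧ ptB 6 = ![0, 0, 1, 0] ∧
    ptB 36 = ![0, 0, 0, 1] ∧ ptB 7 = ![1, 1, 1, 0] ∧ ptB 37 = ![1, 1, 0, 1] := by decide +kernel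

theorem scalar_on_spec (y : SUB) (hy : ((1 : SpA), y) ∈ genGroup gensD) (p : ℕ × ℕ)
    (hp : p ∈ spec) : ∃ l : F4, y.val.val *ᵥ ptB p.1 = l • ptB p.1 := by
  obtain ⟨h1, h2, h3⟩ := spec_ok p hp
  obtain ⟨j', hj', e⟩ := snd_smul_of_fst_eq_one (relInv_D _ hy) rfl ptA_inj p.2 h1 p.1 h2
  obtain ⟨l, hl⟩ := h3 j' hj'
  exact ⟨l, by rw [← hl]; exact e⟩

theorem f4_pow_four : ∀ l : F4, l ^ 4 = 1 → l = 1 := by decide

theorem eq_one_of_special (M : Matrix (Fin 4) (Fin 4) F4) (hdet : M.det = 1)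
    (h0 : ∃ l : F4, M *ᵥ ![1, 0, 0, 0] = l • ![1, 0, 0, 0])
    (h1 : ∃ l : F4, M *ᵥ ![0, 1, 0, 0] = l • ![0, 1, 0, 0])
    (h2 : ∃ l : F4, M *ᵥ ![0, 0, 1, 0] = l • ![0, 0, 1, 0])
    (h3 : ∃ l : F4, M *ᵥ ![0, 0, 0, 1] = l • ![0, 0, 0, 1])
    (h4 : ∃ l : F4, M *ᵥ ![1, 1, 1, 0] = l • ![1, 1, 1, 0])
    (h5 : ∃ l : F4, M *ᵥ ![1, 1, 0, 1] = l • ![1, 1, 0, 1]) : M = 1 := by
  obtain ⟨l0, h0⟩ := h0
  obtain ⟨l1, h1⟩ := h1
  obtain ⟨l2, h2⟩ := h2
  obtain ⟨l3, h3⟩ := h3
  obtain ⟨l4, h4⟩ := h4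
  obtain ⟨l5, h5⟩ := h5
  have c0 : ∀ i, M i 0 = (l0 • ![1, 0, 0, 0]) i := fun i => by
    rw [← h0]; simp [mulVec, dotProduct, Fin.sum_univ_four]
  have c1 : ∀ i, M i 1 = (l1 • ![0, 1, 0, 0]) i := fun i => by
    rw [← h1]; simp [mulVec, dotProduct, Fin.sum_univ_four]
  have c2 : ∀ i, M i 2 = (l2 • ![0, 0, 1, 0]) i := fun i => by
    rw [← h2]; simp [mulVec, dotProduct, Fin.sum_univ_four]
  have c3 : ∀ i, M i 3 = (l3 • ![0, 0, 0, 1]) i := fun i => by
    rw [← h3]; simp [mulVec, dotProduct, Fin.sum_univ_four]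
  have c4 : ∀ i, M i 0 + M i 1 + M i 2 = (l4 • ![1, 1, 1, 0]) i := fun i => by
    rw [← h4]; simp [mulVec, dotProduct, Fin.sum_univ_four]
  have c5 : ∀ i, M i 0 + M i 1 + M i 3 = (l5 • ![1, 1, 0, 1]) i := fun i => by
    rw [← h5]; simp [mulVec, dotProduct, Fin.sum_univ_four]
  have e00 := c0 0; have e10 := c0 1; have e20 := c0 2; have e30 := c0 3
  have e01 := c1 0; have e11 := c1 1; have e21 := c1 2; have e31 := c1 3
  have e02 := c2 0; have e12 := c2 1; have e22 := c2 2; have e32 := c2 3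
  have e03 := c3 0; have e13 := c3 1; have e23 := c3 2; have e33 := c3 3
  have f0 := c4 0; have f1 := c4 1; have f2 := c4 2
  have g0 := c5 0; have g3 := c5 3
  simp at e00 e10 e20 e30 e01 e11 e21 e31 e02 e12 e22 e32 e03 e13 e23 e33
  rw [e00, e01, e02] at f0
  rw [e10, e11, e12] at f1
  rw [e20, e21, e22] at f2
  rw [e00, e01, e03] at g0
  rw [e30, e31, e33] at g3
  simp at f0 f1 f2 g0 g3
  have hl1 : l1 = l0 := by rw [f1, f0]
  have hl2 : l2 = l0 := by rw [f2, f0]
  have hl3 : l3 = l0 := by rw [g3, g0]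
  rw [hl1] at e11
  rw [hl2] at e22
  rw [hl3] at e33
  have hM : M = l0 • (1 : Matrix (Fin 4) (Fin 4) F4) := by
    ext i j
    fin_cases i <;> fin_cases j <;>
      simp [e00, e10, e20, e30, e01, e11, e21, e31, e02, e12, e22, e32, e03, e13, e23, e33]
  have hd : M.det = l0 ^ 4 := by
    rw [hM, Matrix.det_smul, Matrix.det_one]; simp
  have : l0 = 1 := f4_pow_four l0 (by rw [← hd, hdet])
  rw [hM, this, one_smul]

theorem ker_trivial (y : SUB) (hy : ((1 : SpA), y) ∈ genGroup gensD) : y = 1 := by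
  obtain ⟨p0, p1, p2, p3, p4, p5⟩ := ptB_spec
  have s0 := scalar_on_spec y hy (0, 33) (by decide)
  have s1 := scalar_on_spec y hy (3, 34) (by decide)
  have s2 := scalar_on_spec y hy (6, 0) (by decide)
  have s3 := scalar_on_spec y hy (36, 32) (by decide)
  have s4 := scalar_on_spec y hy (7, 50) (by decide)
  have s5 := scalar_on_spec y hy (37, 27) (by decide)
  simp only [p0, p1, p2, p3, p4, p5] at s0 s1 s2 s3 s4 s5
  have h := eq_one_of_special y.val.val y.val.2 s0 s1 s2 s3 s4 s5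
  apply Subtype.ext
  apply Subtype.ext
  exact h

end Cfsg.Agent.Lib.Helper62.U42
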