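import Mathlib
import Cfsg.Agent.Lib.Helper62.U42Chain
import Cfsg.Agent.Lib.Helper07.SpCardD
import Cfsg.Agent.Lib.Helper07.SpCenter
import Cfsg.Agent.Lib.Helper08.SUCenter
import Cfsg.Agent.S0278

/-!
# `PSU₄(2) ≅ PSp₄(3)` over the concrete fields (helper62)
-/

set_option autoImplicit false

namespace Cfsg.Agent.Lib.Helper62.U42

open Matrix Cfsg.Agent.Lib.Helper36 Cfsg.Agent.Lib.Helper62 Cfsg.Agent.Lib.Helper62.GraphIso
  Cfsg.Agent.Lib.Helper62.U42Data

theorem card_SpA : Nat.card SpA = 51840 := by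
  have h := Cfsg.Agent.Lib.Helper07.card_symplecticGroup (F := ZMod 3) (q := 3) (ZMod.card 3) 2
  rw [h]
  simp [Finset.prod_range_succ]

theorem card_SUB : Nat.card SUB = 25920 := by
  have h := Cfsg.Agent.S0278.result (F := F4) (q := 2) (by rw [F4.card_eq]; norm_num) 4 (by norm_num)
  simp [Finset.prod_range_succ] at h
  have h' : (3 : ℕ) * Nat.card (Cfsg.SU 4 F4 2) = 3 * 25920 := by
    rw [h]
    decide
  exact Nat.eq_of_mul_eq_mul_left (by norm_num) h'

theorem card_center_SpA : Nat.card (Subgroup.center SpA) = 2 := by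
  have h := Cfsg.Agent.Lib.Helper07.card_center_symplectic (F := ZMod 3) 2 (by norm_num)
  rw [h, ZMod.card 3]
  rfl

theorem card_center_SUB : Nat.card (Subgroup.center SUB) = 1 := by
  have h := Cfsg.Agent.Lib.Helper08.card_center_SU (F := F4) (q := 2) (n := 4)
    (by rw [F4.card_eq]; norm_num) (by norm_num)
  rw [h]
  rfl

/-- `PSU₄(F4) ≅ PSp₄(ZMod 3)` -/
theorem exists_iso_concrete :
    Nonempty (Cfsg.PSU 4 F4 2 ≃* Cfsg.PSp 2 (ZMod 3)) := by
  apply exists_quot_equiv (A := SpA) (B := SUB) (genGroup gensD)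
  · rw [map_genGroup, card_SpA]
    exact card_genA
  · rw [map_genGroup, card_SUB]
    exact card_genB
  · exact ker_trivial
  · rw [card_SpA, card_SUB]
  · exact card_center_SpA
  · exact card_center_SUB

end Cfsg.Agent.Lib.Helper62.U42
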