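import Mathlib
import Cfsg.Prelude.Def_JordanBlocks
import Cfsg.Prelude.Def_LieClassical
import Cfsg.Agent.Lib.Helper73.UCDefs

/-!
# K-UC-C1 (keystone 264612, pack S2646, architect helper73): the top matrix of a hermitian coefficient system is
block diagonal hermitian
-/

set_option autoImplicit false

namespace Cfsg.Agent.Lib.Helper62.UC

open Matrix Cfsg.Agent.Lib.Helper73.UC

variable {K : Type*} [Field K]

/-- LEAF C1. -/
theorem topC_mem_BDH {t : ℕ} (d : Fin t → ℕ) (hd : ∀ k, 1 ≤ d k) (φ : K →+* K)
    (c : CIdx d → K) (hc : c ∈ HC d φ) : topC d hd c ∈ BDH d φ := by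
  refine ⟨?_, ?_⟩
  · ext l k
    show φ (topC d hd c k l) = topC d hd c l k
    unfold topC
    simp only [Matrix.of_apply]
    by_cases h : d l = d k
    · rw [dif_pos h, dif_pos h.symm, ← hc]
      apply congrArg c
      unfold cswap
      refine Sigma.ext rfl (heq_of_eq (Sigma.ext rfl (heq_of_eq (Fin.ext ?_))))
      simp [h]
    · rw [dif_neg h, dif_neg (fun h' => h h'.symm), map_zero]
  · intro l k h
    unfold topC
    simp only [Matrix.of_apply]
    rw [dif_neg h]

end Cfsg.Agent.Lib.Helper62.UC
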