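import Mathlib

/-!
# Helper62: tools for S3376 (the group of order 162 which is the centralizer in Sym(9) of (012)(345)(678))

* `exists_invariant_compl`: an involutory automorphism of an elementary abelian 3-group fixing `z ≠ 1`
  has an invariant complement to `⟨z⟩`.
* `iso_of_coreFree`: a group of order 162 with a core-free subgroup of index 9 not containing a central
  element of order 3 is isomorphic to `C_{S_9}((012)(345)(678))`.
-/

set_option autoImplicit false

namespace Cfsg.Agent.Lib.Helper62.Wr162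


open Subgroup

/-- complement of `⟨z⟩` in a commutative group of exponent 3 -/
theorem exists_compl_of_exp_three {C : Type*} [CommGroup C] [Finite C] (h3 : ∀ x : C, x ^ 3 = 1)
    (z : C) (hz : z ≠ 1) : ∃ C₁ : Subgroup C, z ∉ C₁ ∧ C₁ ⊔ zpowers z = ⊤ := by
  have hfin : {D : Subgroup C | z ∉ D}.Finite := Set.toFinite _
  have hne : {D : Subgroup C | z ∉ D}.Nonempty := ⟨⊥, by
    change z ∉ (⊥ : Subgroup C)
    rw [mem_bot]; exact hz⟩
  obtain ⟨C₁, hC₁, hmax⟩ := hfin.exists_maximal hne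
  refine ⟨C₁, hC₁, ?_⟩
  rw [eq_top_iff]
  intro x _
  by_contra hx
  have hx1 : x ∉ C₁ := fun h => hx (mem_sup_left h)
  have hlt : C₁ < C₁ ⊔ zpowers x := by
    refine lt_of_le_of_ne le_sup_left ?_
    intro h
    apply hx1
    rw [h]
    exact mem_sup_right (mem_zpowers x)
  have hzin : z ∈ C₁ ⊔ zpowers x := by
    by_contra hzn
    have := hmax hzn hlt.le
    exact absurd (lt_of_lt_of_le hlt this) (lt_irrefl _)
  obtain ⟨c, hc, y, hy, hcy⟩ := mem_sup.mp hzin
  obtain ⟨k, rfl⟩ := mem_zpowers_iff.mp hy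
  -- x^k = c⁻¹ z
  have hxk : x ^ k = c⁻¹ * z := by rw [← hcy]; group
  have hmem : x ^ k ∈ C₁ ⊔ zpowers z :=
    hxk ▸ mul_mem (mem_sup_left (inv_mem hc)) (mem_sup_right (mem_zpowers z))
  -- reduce k mod 3
  have hx3 : x ^ (3 : ℤ) = 1 := by exact_mod_cast h3 x
  have hmod : x ^ k = x ^ (k % 3) := by
    conv_lhs => rw [← Int.mul_ediv_add_emod k 3]
    rw [zpow_add, zpow_mul, hx3, one_zpow, one_mul]
  have hk3 : k % 3 = 0 ∨ k % 3 = 1 ∨ k % 3 = 2 := by omega
  rcases hk3 with h0 | h1 | h2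
  · rw [hmod, h0, zpow_zero] at hxk
    apply hC₁
    have : z = c := by
      have := hxk
      calc z = c * (c⁻¹ * z) := by group
        _ = c := by rw [← this, mul_one]
    rw [this]; exact hc
  · rw [hmod, h1, zpow_one] at hmem
    exact hx hmem
  · rw [hmod, h2] at hmem
    have : x = (x ^ (2 : ℤ)) ^ (2 : ℤ) := by
      rw [← zpow_mul]
      have : x ^ ((2 : ℤ) * 2) = x ^ (3 : ℤ) * x := by
        rw [show (2 : ℤ) * 2 = 3 + 1 by norm_num, zpow_add, zpow_one]
      rw [this, hx3, one_mul]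
    apply hx
    rw [this]
    exact zpow_mem hmem 2

section Invol
variable {J : Type*} [CommGroup J] [Finite J] (h3 : ∀ x : J, x ^ 3 = 1) (τ : J ≃* J)
  (hτ : ∀ x, τ (τ x) = x)

/-- fixed points of τ -/
def fixSub : Subgroup J where
  carrier := {x | τ x = x}
  one_mem' := map_one τ
  mul_mem' := by
    intro a b ha hb
    change τ (a * b) = a * b
    rw [map_mul, ha, hb]
  inv_mem' := by
    intro a ha
    change τ a⁻¹ = a⁻¹
    rw [map_inv, ha]

/-- elements inverted by τ -/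
def invSub : Subgroup J where
  carrier := {x | τ x = x⁻¹}
  one_mem' := by simp
  mul_mem' := by
    intro a b ha hb
    change τ (a * b) = (a * b)⁻¹
    rw [map_mul, ha, hb, mul_inv]
  inv_mem' := by
    intro a ha
    change τ a⁻¹ = a⁻¹⁻¹
    rw [map_inv, ha]

omit [Finite J] in
include h3 in
theorem fix_inf_inv_eq_bot : ∀ x, x ∈ fixSub τ → x ∈ invSub τ → x = 1 := by
  intro x h1 h2
  have e1 : τ x = x := h1
  have e2 : τ x = x⁻¹ := h2
  have : x = x⁻¹ := e1.symm.trans e2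
  have hx2 : x ^ 2 = 1 := by
    rw [pow_two]
    nth_rewrite 2 [this]
    exact mul_inv_cancel x
  have := h3 x
  calc x = x ^ 3 * (x ^ 2)⁻¹ := by group
    _ = 1 := by rw [this, hx2]; simp

omit [Finite J] in
include h3 hτ in
theorem exists_fix_mul_inv (x : J) : ∃ c ∈ fixSub τ, ∃ i ∈ invSub τ, x = c * i := by
  refine ⟨(x * τ x) ^ 2, ?_, (x * (τ x)⁻¹) ^ 2, ?_, ?_⟩
  · change τ ((x * τ x) ^ 2) = (x * τ x) ^ 2
    rw [map_pow, map_mul, hτ, mul_comm]
  · change τ ((x * (τ x)⁻¹) ^ 2) = ((x * (τ x)⁻¹) ^ 2)⁻¹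
    rw [map_pow, map_mul, map_inv, hτ, ← inv_pow]
    congr 1
    rw [mul_inv, inv_inv, mul_comm]
  · have hx := h3 x
    have : (x * τ x) ^ 2 * (x * (τ x)⁻¹) ^ 2 = x ^ 4 := by
      rw [mul_pow, mul_pow, inv_pow]
      have : x ^ 2 * τ x ^ 2 * (x ^ 2 * (τ x ^ 2)⁻¹) = x ^ 2 * x ^ 2 * (τ x ^ 2 * (τ x ^ 2)⁻¹) := by
        rw [mul_mul_mul_comm]
      rw [this, mul_inv_cancel, mul_one, ← pow_add]
    rw [this]
    calc x = x ^ 3 * x := by rw [hx, one_mul]
      _ = x ^ 4 := by rw [← pow_succ]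

include h3 hτ in
/-- a τ-invariant complement to `⟨z⟩` for a τ-fixed element `z ≠ 1` -/
theorem exists_invariant_compl (z : J) (hz : z ≠ 1) (hzτ : τ z = z) :
    ∃ J₁ : Subgroup J, (∀ x ∈ J₁, τ x ∈ J₁) ∧ z ∉ J₁ ∧ J₁ ⊔ zpowers z = ⊤ := by
  -- complement inside the fixed subgroup
  have h3' : ∀ x : fixSub τ, x ^ 3 = 1 := fun x => Subtype.ext (by simpa using h3 x.1)
  have hz' : (⟨z, hzτ⟩ : fixSub τ) ≠ 1 := fun h => hz (congrArg Subtype.val h)
  obtain ⟨C₁, hC₁, hsup⟩ := exists_compl_of_exp_three h3' ⟨z, hzτ⟩ hz'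
  refine ⟨C₁.map (fixSub τ).subtype ⊔ invSub τ, ?_, ?_, ?_⟩
  · intro x hx
    obtain ⟨c, hc, i, hi, rfl⟩ := mem_sup.mp hx
    obtain ⟨c', hc', rfl⟩ := mem_map.mp hc
    rw [map_mul]
    have e1 : τ ((fixSub τ).subtype c') = (fixSub τ).subtype c' := c'.2
    have e2 : τ i = i⁻¹ := hi
    rw [e1, e2]
    exact mul_mem (mem_sup_left (mem_map.mpr ⟨c', hc', rfl⟩)) (mem_sup_right (inv_mem hi))
  · intro hzin
    obtain ⟨c, hc, i, hi, hci⟩ := mem_sup.mp hzin
    obtain ⟨c', hc', rfl⟩ := mem_map.mp hc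
    have hi1 : i = 1 := by
      apply fix_inf_inv_eq_bot h3 τ i _ hi
      have : i = ((fixSub τ).subtype c')⁻¹ * z := by rw [← hci]; group
      rw [this]
      exact mul_mem (inv_mem c'.2) hzτ
    rw [hi1, mul_one] at hci
    apply hC₁
    have : c' = ⟨z, hzτ⟩ := Subtype.ext hci
    rw [← this]; exact hc'
  · rw [eq_top_iff]
    intro x _
    obtain ⟨c, hc, i, hi, rfl⟩ := exists_fix_mul_inv h3 τ hτ x
    have hcin : (⟨c, hc⟩ : fixSub τ) ∈ C₁ ⊔ zpowers (⟨z, hzτ⟩ : fixSub τ) := by rw [hsup]; trivial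
    obtain ⟨c1, hc1, y, hy, hcy⟩ := mem_sup.mp hcin
    obtain ⟨k, rfl⟩ := mem_zpowers_iff.mp hy
    have hc' : c = (c1 : J) * z ^ k := by
      have := congrArg Subtype.val hcy
      simpa using this.symm
    rw [hc']
    have : (c1 : J) * z ^ k * i = ((c1 : J) * i) * z ^ k := by
      rw [mul_assoc, mul_comm (z ^ k) i, ← mul_assoc]
    rw [this]
    exact mul_mem (mem_sup_left (mul_mem (mem_sup_left (mem_map.mpr ⟨c1, hc1, rfl⟩)) (mem_sup_right hi)))
      (mem_sup_right (zpow_mem (mem_zpowers z) k))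

end Invol


section Tools



theorem mem_of_zpow_mem {C : Type*} [Group C] {z : C} (hz3 : z ^ 3 = 1) (D : Subgroup C) (k : ℤ)
    (hk : z ^ k ∈ D) : z ^ k = 1 ∨ z ∈ D := by
  have hz3' : z ^ (3 : ℤ) = 1 := by exact_mod_cast hz3
  have hmod : z ^ k = z ^ (k % 3) := by
    conv_lhs => rw [← Int.mul_ediv_add_emod k 3]
    rw [zpow_add, zpow_mul, hz3', one_zpow, one_mul]
  have hk3 : k % 3 = 0 ∨ k % 3 = 1 ∨ k % 3 = 2 := by omega
  rcases hk3 with h0 | h1 | h2
  · left; rw [hmod, h0, zpow_zero]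
  · right; rw [hmod, h1, zpow_one] at hk; exact hk
  · right
    rw [hmod, h2] at hk
    have : z = (z ^ (2 : ℤ)) ^ (2 : ℤ) := by
      rw [← zpow_mul, show (2 : ℤ) * 2 = 3 + 1 by norm_num, zpow_add, zpow_one, hz3', one_mul]
    rw [this]; exact zpow_mem hk 2

open scoped Pointwise in
theorem card_compl_three {C : Type*} [CommGroup C] [Finite C] {z : C} (hz : z ≠ 1) (hz3 : z ^ 3 = 1)
    (D : Subgroup C) (hzD : z ∉ D) (hsup : D ⊔ zpowers z = ⊤) : Nat.card D * 3 = Nat.card C := by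
  have hdisj : Disjoint D (zpowers z) := by
    rw [Subgroup.disjoint_def]
    intro x hxD hxz
    obtain ⟨k, rfl⟩ := mem_zpowers_iff.mp hxz
    rcases mem_of_zpow_mem hz3 D k hxD with h | h
    · exact h
    · exact absurd h hzD
  have hmul : (D : Set C) * (zpowers z : Set C) = Set.univ := by
    rw [← Subgroup.mul_normal, hsup]; rfl
  have := (isComplement'_of_disjoint_and_mul_eq_univ hdisj hmul).card_mul_card
  rw [← this, Nat.card_zpowers, orderOf_eq_prime hz3 hz]

/-- A nontrivial normal subgroup of a finite `p`-group meets the centre nontrivially.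
(as in Helper33.PGroupBasic) -/
theorem normal_meets_center {G : Type*} [Group G] {p : ℕ} [Fact p.Prime] [Finite G] (hG : IsPGroup p G)
    (N : Subgroup G) [N.Normal] (hN : N ≠ ⊥) :
    ∃ z : G, z ∈ N ∧ z ∈ Subgroup.center G ∧ z ≠ 1 := by
  have hNp : IsPGroup p N := hG.to_subgroup N
  have hNnt : Nontrivial N := (Subgroup.nontrivial_iff_ne_bot N).mpr hN
  have dvd : p ∣ Nat.card N := by
    obtain ⟨n, hn0, hn⟩ := hNp.nontrivial_iff_card.mp hNnt
    exact hn.symm ▸ dvd_pow_self _ (ne_of_gt hn0)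
  have h1 : (1 : N) ∈ MulAction.fixedPoints (ConjAct G) N := by
    intro g
    exact smul_one g
  obtain ⟨b, hb, hb1⟩ :=
    (hG.of_equiv ConjAct.toConjAct).exists_fixed_point_of_prime_dvd_card_of_fixed_point N dvd h1
  refine ⟨b, b.2, ?_, ?_⟩
  · rw [Subgroup.mem_center_iff]
    intro g
    have := hb (ConjAct.toConjAct g)
    have h2 := congrArg Subtype.val this
    rw [ConjAct.Subgroup.val_conj_smul, ConjAct.toConjAct_smul] at h2
    calc g * b = g * b * g⁻¹ * g := by group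
      _ = b * g := by rw [h2]
  · intro h
    apply hb1
    ext
    simpa using h.symm

theorem exists_mem_inf_centralizer {G : Type*} [Group G] [Finite G] {p : ℕ} [Fact p.Prime]
    (S : Subgroup G) (hS : IsPGroup p S) (N : Subgroup G) [N.Normal] (hNS : N ≤ S) (hN : N ≠ ⊥) :
    ∃ x ∈ N, x ≠ 1 ∧ x ∈ S ⊓ centralizer (S : Set G) := by
  have hN' : N.subgroupOf S ≠ ⊥ := by
    intro h
    apply hN
    rw [Subgroup.subgroupOf_eq_bot] at h
    exact h.eq_bot_of_le hNS
  obtain ⟨x, hxN, hxc, hx1⟩ := normal_meets_center hS (N.subgroupOf S) hN'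
  refine ⟨x.1, mem_subgroupOf.mp hxN, fun h => hx1 (Subtype.ext h), mem_inf.mpr ⟨x.2, ?_⟩⟩
  rw [mem_centralizer_iff]
  intro s hs
  have := mem_center_iff.mp hxc ⟨s, hs⟩
  exact congrArg Subtype.val this

open scoped Pointwise in
/-- Product formula when `H` normalizes `P` and `P ∩ H = 1` (as in Helper32.Supplement). -/
theorem card_sup_of_normalizes {G : Type*} [Group G] (H P : Subgroup G)
    (hn : H ≤ Subgroup.normalizer (P : Set G)) (hdisj : P ⊓ H = ⊥) :
    Nat.card (H ⊔ P : Subgroup G) = Nat.card P * Nat.card H := by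
  have h1 : ((H ⊔ P : Subgroup G) : Set G) = (H : Set G) * (P : Set G) :=
    Subgroup.coe_mul_of_left_le_normalizer_right H P hn
  have h2 : Nat.card (H ⊔ P : Subgroup G) = Nat.card ((H : Set G) * (P : Set G) : Set G) := by
    rw [← h1]; rfl
  rw [h2, Subgroup.card_mul_eq_card_subgroup_mul_card_quotient]
  congr 1
  apply Nat.card_image_of_injOn
  intro a ha b hb hab
  have ha' : a ∈ H := ha
  have hb' : b ∈ H := hb
  have h4 : a⁻¹ * b ∈ P := QuotientGroup.eq.1 hab
  have h5 : a⁻¹ * b ∈ H := H.mul_mem (H.inv_mem ha') hb'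
  have h3 : a⁻¹ * b ∈ P ⊓ H := Subgroup.mem_inf.2 ⟨h4, h5⟩
  rw [hdisj, Subgroup.mem_bot] at h3
  exact inv_mul_eq_one.1 h3


end Tools

section Embedding


open Equiv Equiv.Perm

/-- the permutation (012)(345)(678) -/
abbrev sig9 : Perm (Fin 9) :=
  swap (0 : Fin 9) 1 * swap 1 2 * swap 3 4 * swap 4 5 * swap 6 7 * swap 7 8

theorem sig9_cycleType : sig9.cycleType = {3, 3, 3} := by
  have h1 : (swap (0 : Fin 9) 1 * swap 1 2).IsThreeCycle := by
    rw [Equiv.swap_comm (0 : Fin 9) 1]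
    exact isThreeCycle_swap_mul_swap_same (by decide) (by decide) (by decide)
  have h2 : (swap (3 : Fin 9) 4 * swap 4 5).IsThreeCycle := by
    rw [Equiv.swap_comm (3 : Fin 9) 4]
    exact isThreeCycle_swap_mul_swap_same (by decide) (by decide) (by decide)
  have h3 : (swap (6 : Fin 9) 7 * swap 7 8).IsThreeCycle := by
    rw [Equiv.swap_comm (6 : Fin 9) 7]
    exact isThreeCycle_swap_mul_swap_same (by decide) (by decide) (by decide)
  have e : sig9 = (swap (0 : Fin 9) 1 * swap 1 2) *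
      ((swap 3 4 * swap 4 5) * (swap 6 7 * swap 7 8)) := by
    simp only [sig9, mul_assoc]
  have d23 : Perm.Disjoint (swap (3 : Fin 9) 4 * swap 4 5) (swap 6 7 * swap 7 8) := by
    intro x; fin_cases x <;> decide
  have d1 : Perm.Disjoint (swap (0 : Fin 9) 1 * swap 1 2)
      ((swap 3 4 * swap 4 5) * (swap 6 7 * swap 7 8)) := by
    intro x; fin_cases x <;> decide
  rw [e, d1.cycleType_mul, d23.cycleType_mul, h1.cycleType, h2.cycleType, h3.cycleType]
  rfl

theorem iso_of_coreFree {G : Type*} [Group G] [Finite G] (hG : Nat.card G = 162)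
    (H : Subgroup G) (hidx : H.index = 9) (hcore : H.normalCore = ⊥)
    (z : G) (hzc : ∀ g : G, g * z = z * g) (hz1 : z ≠ 1) (hz3 : z ^ 3 = 1) (hzH : z ∉ H) :
    Nonempty (G ≃* Subgroup.centralizer ({sig9} : Set (Equiv.Perm (Fin 9)))) := by
  classical
  have e : G ⧸ H ≃ Fin 9 := Finite.equivFinOfCardEq (by rw [← hidx]; rfl)
  let φ : G →* Perm (Fin 9) := (e.permCongrHom.toMonoidHom).comp (MulAction.toPermHom G (G ⧸ H))
  have hφ_apply : ∀ g (i : Fin 9), φ g i = e (g • e.symm i) := by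
    intro g i; rfl
  have hφinj : Function.Injective φ := by
    rw [← MonoidHom.ker_eq_bot_iff, eq_bot_iff]
    intro g hg
    rw [MonoidHom.mem_ker] at hg
    have : (MulAction.toPermHom G (G ⧸ H)) g = 1 := by
      apply e.permCongrHom.injective
      rw [map_one]; exact hg
    have hk : g ∈ (MulAction.toPermHom G (G ⧸ H)).ker := this
    rw [← Subgroup.normalCore_eq_ker, hcore] at hk
    exact hk
  set ζ := φ z with hζ
  have hζ3 : ζ ^ 3 = 1 := by rw [hζ, ← map_pow, hz3, map_one]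
  have hζ1 : ζ ≠ 1 := fun h => hz1 (hφinj (h.trans (map_one φ).symm))
  have hord : orderOf ζ = 3 := orderOf_eq_prime hζ3 hζ1
  have hfix : ∀ i, ζ i ≠ i := by
    intro i hi
    rw [hζ, hφ_apply] at hi
    have h2 : z • e.symm i = e.symm i := by
      apply e.injective
      rw [hi, Equiv.apply_symm_apply]
    obtain ⟨g, hg⟩ := QuotientGroup.mk_surjective (e.symm i)
    rw [← hg] at h2
    have h3 : ((z * g : G) : G ⧸ H) = (g : G ⧸ H) := h2
    rw [QuotientGroup.eq] at h3
    apply hzH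
    have : (z * g)⁻¹ * g = z⁻¹ := by
      rw [← hzc g]; group
    rw [this] at h3
    simpa using H.inv_mem h3
  have hsupp : ζ.support = Finset.univ := by
    ext i; simp [hfix i]
  obtain ⟨n, hn⟩ := cycleType_prime_order (hord ▸ Nat.prime_three)
  rw [hord] at hn
  have hsum : ζ.cycleType.sum = 9 := by rw [sum_cycleType, hsupp]; simp
  have hn2 : n = 2 := by
    rw [hn] at hsum; simp at hsum; omega
  have hct : ζ.cycleType = sig9.cycleType := by rw [hn, hn2, sig9_cycleType]; rfl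
  obtain ⟨c, hc⟩ := isConj_iff.mp ((isConj_iff_cycleType_eq).mpr hct)
  let ψ : G →* Perm (Fin 9) := (MulAut.conj c).toMonoidHom.comp φ
  have hψinj : Function.Injective ψ := (MulAut.conj c).injective.comp hφinj
  have hψz : ψ z = sig9 := hc
  have hψmem : ∀ g, ψ g ∈ Subgroup.centralizer ({sig9} : Set (Perm (Fin 9))) := by
    intro g
    rw [Subgroup.mem_centralizer_singleton_iff]
    rw [← hψz, ← map_mul, ← map_mul, hzc]
  let Ψ : G →* Subgroup.centralizer ({sig9} : Set (Perm (Fin 9))) := ψ.codRestrict _ hψmem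
  have hΨinj : Function.Injective Ψ := fun a b h => hψinj (congrArg Subtype.val h)
  have hcard : Nat.card (Subgroup.centralizer ({sig9} : Set (Perm (Fin 9)))) = 162 := by
    rw [nat_card_centralizer, sig9_cycleType]
    decide
  have hbij : Function.Bijective Ψ := by
    rw [Nat.bijective_iff_injective_and_card]
    exact ⟨hΨinj, by rw [hG, hcard]⟩
  exact ⟨MulEquiv.ofBijective Ψ hbij⟩


end Embedding

end Cfsg.Agent.Lib.Helper62.Wr162
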